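import Mathlib

/-! General lemmas on subgroups acting on sets: orbit counting, generation along a stabiliser
chain, multiple transitivity on a subset, and two simplicity criteria. -/

set_option autoImplicit false

namespace H9

open MulAction

section General

variable {Γ X : Type*} [Group Γ] [MulAction Γ X]

/-- orbit-stabiliser for a subgroup, in ambient form. -/
theorem card_eq_orbit_mul (G : Subgroup Γ) (x : X) :
    Nat.card G = {y | ∃ g ∈ G, g • x = y}.ncard * Nat.card ↥(G ⊓ stabilizer Γ x) := by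
  have h1 : {y | ∃ g ∈ G, g • x = y} = orbit G x := by
    ext y
    simp only [Set.mem_ofPred_eq, mem_orbit_iff]
    exact ⟨fun ⟨g, hg, h⟩ => ⟨⟨g, hg⟩, h⟩, fun ⟨g, h⟩ => ⟨g, g.2, h⟩⟩
  have h2 : Nat.card ↥(G ⊓ stabilizer Γ x) = Nat.card (stabilizer G x) := by
    have : stabilizer G x = (G ⊓ stabilizer Γ x).subgroupOf G := by
      ext g
      simp only [mem_stabilizer_iff, Subgroup.mem_subgroupOf, Subgroup.mem_inf, SetLike.coe_mem,
        true_and]
      rfl
    rw [this]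
    exact (Nat.card_congr (Subgroup.subgroupOfEquivOfLe inf_le_left).toEquiv).symm
  rw [h1, h2, ← index_stabilizer, Subgroup.index_mul_card]

/-- A subgroup containing a point stabiliser and with the same orbit is everything. -/
theorem le_of_orbit_of_stab {G K : Subgroup Γ} (hKG : K ≤ G) (x : X)
    (horb : ∀ g ∈ G, ∃ k ∈ K, k • x = g • x) (hst : G ⊓ stabilizer Γ x ≤ K) : G ≤ K := by
  intro g hg
  obtain ⟨k, hk, h⟩ := horb g hg
  have : k⁻¹ * g ∈ K := by
    apply hst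
    refine ⟨G.mul_mem (G.inv_mem (hKG hk)) hg, ?_⟩
    change (k⁻¹ * g) • x = x
    rw [mul_smul, ← h, inv_smul_smul]
  simpa using K.mul_mem hk this

/-- A subgroup `H` of `M` that is, read in the ambient group, a conjugate of `K`. -/
theorem nonempty_equiv_of_conj {M : Subgroup Γ} (H : Subgroup M) (K : Subgroup Γ) (hK : K ≤ M)
    (g : Γ) (hg : g ∈ M) (h : ∀ x : M, x ∈ H ↔ g⁻¹ * x * g ∈ K) : Nonempty (H ≃* K) := by
  refine ⟨{ toFun := fun x => ⟨g⁻¹ * x * g, (h x).1 x.2⟩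
            invFun := fun y => ⟨⟨g * y * g⁻¹, M.mul_mem (M.mul_mem hg (hK y.2)) (M.inv_mem hg)⟩,
              (h _).2 (by simp [mul_assoc])⟩
            left_inv := fun x => by ext; simp [mul_assoc]
            right_inv := fun y => by ext; simp [mul_assoc]
            map_mul' := fun x y => by ext; simp [mul_assoc] }⟩

/-- Two ambient subgroups that are conjugate are isomorphic. -/
theorem nonempty_equiv_of_conj' (H K : Subgroup Γ)
    (g : Γ) (h : ∀ x : Γ, x ∈ H ↔ g⁻¹ * x * g ∈ K) : Nonempty (H ≃* K) := by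
  refine ⟨{ toFun := fun x => ⟨g⁻¹ * x * g, (h x).1 x.2⟩
            invFun := fun y => ⟨g * y * g⁻¹, (h _).2 (by simp [mul_assoc])⟩
            left_inv := fun x => by ext; simp [mul_assoc]
            right_inv := fun y => by ext; simp [mul_assoc]
            map_mul' := fun x y => by ext; simp [mul_assoc] }⟩

theorem conj_smul_eq_iff (g x : Γ) (a : X) : (g⁻¹ * x * g) • a = a ↔ x • (g • a) = g • a := by
  rw [mul_smul, mul_smul, inv_smul_eq_iff]

/-- `G` carries the list `bs` to every duplicate-free list of the same length in `Ω`. -/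
def TransL (G : Subgroup Γ) (Ω : Set X) (bs : List X) : Prop :=
  ∀ xs : List X, xs.Nodup → xs.length = bs.length → (∀ x ∈ xs, x ∈ Ω) →
    ∃ g ∈ G, bs.map (g • ·) = xs

theorem transL_nil (G : Subgroup Γ) (Ω : Set X) : TransL G Ω [] := by
  intro xs _ h _
  exact ⟨1, G.one_mem, by simpa using (List.length_eq_zero_iff.1 h).symm⟩

theorem transL_cons {G : Subgroup Γ} {Ω : Set X} {b : X} {bs : List X}
    (hΩ : ∀ g ∈ G, ∀ x ∈ Ω, g • x ∈ Ω) (h1 : ∀ x ∈ Ω, ∃ g ∈ G, g • b = x)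
    (h2 : TransL (G ⊓ stabilizer Γ b) (Ω \ {b}) bs) : TransL G Ω (b :: bs) := by
  intro xs hnd hl hx
  cases xs with
  | nil => simp at hl
  | cons x xs =>
    obtain ⟨g, hg, hgb⟩ := h1 x (hx x List.mem_cons_self)
    rw [List.nodup_cons] at hnd
    obtain ⟨h, hh, hmap⟩ := h2 (xs.map (g⁻¹ • ·)) (hnd.2.map (MulAction.injective _))
      (by simpa using hl) (by
        intro y hy
        obtain ⟨z, hz, rfl⟩ := List.mem_map.1 hy
        refine ⟨hΩ _ (G.inv_mem hg) _ (hx z (List.mem_cons_of_mem _ hz)), ?_⟩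
        intro h
        rw [Set.mem_singleton_iff, inv_smul_eq_iff, hgb] at h
        exact hnd.1 (h ▸ hz))
    refine ⟨g * h, G.mul_mem hg hh.1, ?_⟩
    rw [List.map_cons, mul_smul, show h • b = b from hh.2, hgb]
    congr 1
    have := congrArg (List.map (g • ·)) hmap
    simpa [List.map_map, Function.comp_def, mul_smul] using this

theorem TransL.mono {G K : Subgroup Γ} {Ω : Set X} {bs : List X} (h : TransL G Ω bs)
    (hGK : G ≤ K) : TransL K Ω bs := by
  intro xs h1 h2 h3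
  obtain ⟨g, hg, h⟩ := h xs h1 h2 h3
  exact ⟨g, hGK hg, h⟩

theorem TransL.tuple {G : Subgroup Γ} {Ω : Set X} {bs : List X} (h : TransL G Ω bs) {n : ℕ}
    (hn : bs.length = n) (x y : Fin n → X) (hx : Function.Injective x)
    (hy : Function.Injective y) (hxΩ : ∀ i, x i ∈ Ω) (hyΩ : ∀ i, y i ∈ Ω) :
    ∃ g ∈ G, ∀ i, g • x i = y i := by
  obtain ⟨g, hg, h1⟩ := h (List.ofFn x) (List.nodup_ofFn.2 hx) (by simp [hn])
    (by simpa [List.mem_ofFn] using hxΩ)
  obtain ⟨k, hk, h2⟩ := h (List.ofFn y) (List.nodup_ofFn.2 hy) (by simp [hn])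
    (by simpa [List.mem_ofFn] using hyΩ)
  refine ⟨k * g⁻¹, G.mul_mem hk (G.inv_mem hg), fun i => ?_⟩
  have : (List.ofFn x).map ((k * g⁻¹) • ·) = List.ofFn y := by
    rw [← h1, ← h2, List.map_map]
    congr 1
    ext a
    simp [mul_smul]
  rw [List.map_ofFn] at this
  exact congrFun (List.ofFn_injective this) i

theorem TransL.list {G : Subgroup Γ} {Ω : Set X} {bs : List X} (h : TransL G Ω bs)
    (xs ys : List X) (hx : xs.Nodup) (hy : ys.Nodup) (hxl : xs.length = bs.length)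
    (hyl : ys.length = bs.length) (hxΩ : ∀ x ∈ xs, x ∈ Ω) (hyΩ : ∀ y ∈ ys, y ∈ Ω) :
    ∃ g ∈ G, xs.map (g • ·) = ys := by
  obtain ⟨g, hg, h1⟩ := h xs hx hxl hxΩ
  obtain ⟨k, hk, h2⟩ := h ys hy hyl hyΩ
  refine ⟨k * g⁻¹, G.mul_mem hk (G.inv_mem hg), ?_⟩
  rw [← h1, ← h2, List.map_map]
  congr 1
  ext a
  simp [mul_smul]

/-- elementary two-transitivity on a subset. -/
def TwoTrans (G : Subgroup Γ) (Ω : Set X) : Prop :=
  ∀ x ∈ Ω, ∀ y ∈ Ω, ∀ x' ∈ Ω, ∀ y' ∈ Ω, x ≠ y → x' ≠ y' → ∃ g ∈ G, g • x = x' ∧ g • y = y'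

theorem TransL.twoTrans {G : Subgroup Γ} {Ω : Set X} {a b : X} (h : TransL G Ω [a, b]) :
    TwoTrans G Ω := by
  intro x hx y hy x' hx' y' hy' hne hne'
  obtain ⟨g, hg, h⟩ := h.list [x, y] [x', y'] (by simpa) (by simpa) rfl rfl (by simp [hx, hy])
    (by simp [hx', hy'])
  simp only [List.map_cons, List.map_nil, List.cons.injEq, and_true] at h
  exact ⟨g, hg, h⟩

/-- A non-trivial normal subgroup of a faithful two-transitive group is transitive. -/
theorem normal_trans {G : Subgroup Γ} {Ω : Set X} (hΩ : ∀ g ∈ G, ∀ x ∈ Ω, g • x ∈ Ω)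
    (hf : ∀ g ∈ G, (∀ x ∈ Ω, g • x = x) → g = 1) (h2 : TwoTrans G Ω) (N : Subgroup G)
    [hN : N.Normal] (hne : N ≠ ⊥) : ∀ x ∈ Ω, ∀ y ∈ Ω, ∃ n ∈ N, (n : Γ) • x = y := by
  obtain ⟨⟨n, hn⟩, hn1⟩ := Subgroup.ne_bot_iff_exists_ne_one.1 hne
  have : ∃ z ∈ Ω, (n : Γ) • z ≠ z := by
    by_contra h
    push Not at h
    exact hn1 (Subtype.ext (Subtype.ext (hf n n.2 h)))
  obtain ⟨z, hz, hnz⟩ := this
  intro x hx y hy
  by_cases hxy : x = y
  · exact ⟨1, N.one_mem, by simp [hxy]⟩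
  obtain ⟨g, hg, h1, h3⟩ := h2 z hz _ (hΩ n n.2 z hz) x hx y hy hnz.symm hxy
  refine ⟨⟨g, hg⟩ * n * ⟨g, hg⟩⁻¹, hN.conj_mem n hn _, ?_⟩
  simp only [Subgroup.coe_mul, InvMemClass.coe_inv, mul_smul]
  rw [← h1, inv_smul_smul, h3]

theorem ncard_dvd_of_trans {G : Subgroup Γ} {Ω : Set X} (hΩ : ∀ g ∈ G, ∀ x ∈ Ω, g • x ∈ Ω)
    (N : Subgroup G) {x : X} (hx : x ∈ Ω) (h : ∀ y ∈ Ω, ∃ n ∈ N, (n : Γ) • x = y) :
    Nat.card N = Ω.ncard * Nat.card ↥(N ⊓ stabilizer G x) := by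
  rw [card_eq_orbit_mul N x]
  congr 2
  ext y
  exact ⟨fun ⟨n, _, h⟩ => h ▸ hΩ n n.2 x hx, fun hy => h y hy⟩

/-- A normal subgroup whose order takes up the `p`-part of the group order contains the
elements of order `p`. -/
theorem mem_normal_of_pow_prime {H : Type*} [Group H] [Finite H] (N : Subgroup H) [N.Normal]
    {p : ℕ} (hp : p.Prime) (hpN : p ∣ Nat.card N) (hp2 : ¬ p ^ 2 ∣ Nat.card H) (s : H)
    (hs : s ^ p = 1) : s ∈ N := by
  by_contra hsN
  have h1 : orderOf (QuotientGroup.mk s : H ⧸ N) = p := by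
    have := Fact.mk hp
    apply orderOf_eq_prime
    · rw [← QuotientGroup.mk_pow, hs, QuotientGroup.mk_one]
    · rwa [Ne, QuotientGroup.eq_one_iff]
  have h2 : p ∣ Nat.card (H ⧸ N) := h1 ▸ orderOf_dvd_natCard _
  apply hp2
  rw [Subgroup.card_eq_card_quotient_mul_card_subgroup N, pow_two]
  exact Nat.mul_dvd_mul h2 hpN

/-- Simplicity criterion A: faithful, two-transitive of degree divisible by a prime `p` whose
square does not divide the order, generated by elements of order `p`. -/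
theorem simple_of_prime {G : Subgroup Γ} [Finite G] {Ω : Set X}
    (hΩ : ∀ g ∈ G, ∀ x ∈ Ω, g • x ∈ Ω)
    (hf : ∀ g ∈ G, (∀ x ∈ Ω, g • x = x) → g = 1) (h2 : TwoTrans G Ω) (hne : Ω.Nonempty)
    {p : ℕ} (hp : p.Prime) (hpΩ : p ∣ Ω.ncard) (hp2 : ¬ p ^ 2 ∣ Nat.card G) (hG : G ≠ ⊥)
    (S : Set Γ) (hS : Subgroup.closure S = G) (hSp : ∀ s ∈ S, s ^ p = 1) : IsSimpleGroup G := by
  have : Nontrivial G := (Subgroup.nontrivial_iff_ne_bot G).2 hG
  refine ⟨fun N hN => ?_⟩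
  by_cases hN1 : N = ⊥
  · exact Or.inl hN1
  right
  obtain ⟨x, hx⟩ := hne
  have h1 := ncard_dvd_of_trans hΩ N hx (normal_trans hΩ hf h2 N hN1 x hx)
  have hpN : p ∣ Nat.card N := h1 ▸ Dvd.dvd.mul_right hpΩ _
  have : G ≤ N.map G.subtype := by
    conv_lhs => rw [← hS]
    rw [Subgroup.closure_le]
    intro s hs
    have hsG : s ∈ G := hS ▸ Subgroup.subset_closure hs
    exact ⟨⟨s, hsG⟩, mem_normal_of_pow_prime N hp hpN hp2 _ (Subtype.ext (hSp s hs)), rfl⟩
  rw [eq_top_iff]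
  intro g _
  obtain ⟨n, hn, h⟩ := this g.2
  exact (Subtype.ext h : n = g) ▸ hn

/-- Simplicity criterion B: faithful, two-transitive of degree divisible by two primes, with a
simple point stabiliser. -/
theorem simple_of_stab {G : Subgroup Γ} [Finite G] {Ω : Set X}
    (hΩ : ∀ g ∈ G, ∀ x ∈ Ω, g • x ∈ Ω)
    (hf : ∀ g ∈ G, (∀ x ∈ Ω, g • x = x) → g = 1) (h2 : TwoTrans G Ω) {x : X} (hx : x ∈ Ω)
    {p q : ℕ} (hp : p.Prime) (hq : q.Prime) (hpq : p ≠ q) (hpΩ : p ∣ Ω.ncard)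
    (hqΩ : q ∣ Ω.ncard) (hs : IsSimpleGroup ↥(G ⊓ stabilizer Γ x)) : IsSimpleGroup G := by
  have hs' : IsSimpleGroup (stabilizer G x) := by
    obtain ⟨e⟩ := nonempty_equiv_of_conj (stabilizer G x) (G ⊓ stabilizer Γ x) inf_le_left 1
      G.one_mem (by intro y; simp [mem_stabilizer_iff]; rfl)
    exact e.isSimpleGroup
  have : Nontrivial G := by
    have : Nontrivial (stabilizer G x) := inferInstance
    exact (stabilizer G x).subtype_injective.nontrivial
  refine ⟨fun N hN => ?_⟩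
  by_cases hN1 : N = ⊥
  · exact Or.inl hN1
  right
  have ht := normal_trans hΩ hf h2 N hN1
  rcases hs'.eq_bot_or_eq_top_of_normal (N.subgroupOf (stabilizer G x)) inferInstance with h | h
  · exfalso
    have hb : N ⊓ stabilizer G x = ⊥ := disjoint_iff.1 (Subgroup.subgroupOf_eq_bot.1 h)
    have h1 := ncard_dvd_of_trans hΩ N hx (ht x hx)
    have := Fact.mk hp
    have := Fact.mk hq
    obtain ⟨a, ha⟩ := exists_prime_orderOf_dvd_card' (G := N) p (h1 ▸ Dvd.dvd.mul_right hpΩ _)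
    obtain ⟨b, hb'⟩ := exists_prime_orderOf_dvd_card' (G := N) q (h1 ▸ Dvd.dvd.mul_right hqΩ _)
    have hmove : ∀ c : N, orderOf c ≠ 1 → x ≠ ((c : G) : Γ) • x := by
      intro c hc hcx
      apply hc
      have : (c : G) ∈ N ⊓ stabilizer G x := ⟨c.2, hcx.symm⟩
      rw [hb, Subgroup.mem_bot] at this
      rw [orderOf_eq_one_iff]
      exact Subtype.ext this
    obtain ⟨g, hg, hg1, hg2⟩ := h2 x hx _ (hΩ _ (a : G).2 x hx) x hx _ (hΩ _ (b : G).2 x hx)
      (hmove a (ha ▸ hp.ne_one)) (hmove b (hb' ▸ hq.ne_one))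
    have hc : (b : G)⁻¹ * (⟨g, hg⟩ * a * ⟨g, hg⟩⁻¹) ∈ N ⊓ stabilizer G x := by
      refine ⟨N.mul_mem (N.inv_mem b.2) (hN.conj_mem _ a.2 _), ?_⟩
      change (((b : G) : Γ)⁻¹ * (g * ((a : G) : Γ) * g⁻¹)) • x = x
      rw [mul_smul, inv_smul_eq_iff, mul_smul, mul_smul, ← hg2]
      congr 2
      rw [inv_smul_eq_iff, hg1]
    rw [hb, Subgroup.mem_bot, inv_mul_eq_one] at hc
    apply hpq
    rw [← ha, ← hb', ← Subgroup.orderOf_coe a, ← Subgroup.orderOf_coe b, hc]
    exact ((MulAut.conj (⟨g, hg⟩ : G)).orderOf_eq a).symm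
  · rw [Subgroup.subgroupOf_eq_top] at h
    rw [eq_top_iff]
    apply le_of_orbit_of_stab le_top x
    · intro g _
      exact ht x hx _ (hΩ g g.2 x hx)
    · exact inf_le_right.trans h

theorem sq_eq_one_of_closure (S : Set Γ) (hc : ∀ x ∈ S, ∀ y ∈ S, x * y = y * x)
    (h2 : ∀ x ∈ S, x * x = 1) : ∀ g ∈ Subgroup.closure S, g * g = 1 := by
  intro g hg
  have hcomm := Subgroup.isMulCommutative_closure hc
  induction hg using Subgroup.closure_induction with
  | mem x hx => exact h2 x hx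
  | one => simp
  | mul x y hx hy ihx ihy =>
    have : x * y = y * x := setLike_mul_comm hx hy
    calc x * y * (x * y) = x * (y * x) * y := by simp only [mul_assoc]
      _ = x * x * (y * y) := by rw [← this]; simp only [mul_assoc]
      _ = 1 := by rw [ihx, ihy, one_mul]
  | inv x _ ih => rw [← mul_inv_rev, ih, inv_one]

end General

end H9
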