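import Mathlib

/-! Kernel-friendly loops over natural numbers and bit masks. -/

set_option autoImplicit false

namespace H9

open Finset

/-- `f i` for all `i < n` (linear loop; use for small `n`). -/
def allLt (n : ℕ) (f : ℕ → Bool) : Bool := Nat.rec true (fun i r => f i && r) n

/-- `f i` for some `i < n` (linear loop; use for small `n`). -/
def anyLt (n : ℕ) (f : ℕ → Bool) : Bool := Nat.rec false (fun i r => f i || r) n

/-- `∑ i < n, f i` (linear loop of depth `n`). -/
def sumLt (n : ℕ) (f : ℕ → ℕ) : ℕ := Nat.rec 0 (fun i r => Nat.add (f i) r) n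

/-- bitwise or of `f i`, `i < n`. -/
def orLt (n : ℕ) (f : ℕ → ℕ) : ℕ := Nat.rec 0 (fun i r => Nat.lor (f i) r) n

theorem allLt_iff (n : ℕ) (f : ℕ → Bool) : allLt n f = true ↔ ∀ i < n, f i = true := by
  induction n with
  | zero => simp [allLt]
  | succ n ih =>
    have : allLt (n + 1) f = (f n && allLt n f) := rfl
    rw [this, Bool.and_eq_true, ih]
    constructor
    · rintro ⟨h1, h2⟩ i hi
      rcases Nat.lt_succ_iff_lt_or_eq.1 hi with h | h
      · exact h2 i h
      · exact h ▸ h1
    · intro h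
      exact ⟨h n (Nat.lt_succ_self n), fun i hi => h i (Nat.lt_succ_of_lt hi)⟩

theorem anyLt_iff (n : ℕ) (f : ℕ → Bool) : anyLt n f = true ↔ ∃ i < n, f i = true := by
  induction n with
  | zero => simp [anyLt]
  | succ n ih =>
    have : anyLt (n + 1) f = (f n || anyLt n f) := rfl
    rw [this, Bool.or_eq_true, ih]
    constructor
    · rintro (h | ⟨i, hi, h⟩)
      · exact ⟨n, Nat.lt_succ_self n, h⟩
      · exact ⟨i, Nat.lt_succ_of_lt hi, h⟩
    · rintro ⟨i, hi, h⟩
      rcases Nat.lt_succ_iff_lt_or_eq.1 hi with h' | h'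
      · exact Or.inr ⟨i, h', h⟩
      · exact Or.inl (h' ▸ h)

theorem sumLt_eq (n : ℕ) (f : ℕ → ℕ) : sumLt n f = ∑ i ∈ range n, f i := by
  induction n with
  | zero => simp [sumLt]
  | succ n ih =>
    have : sumLt (n + 1) f = f n + sumLt n f := rfl
    rw [this, ih, Finset.sum_range_succ, add_comm]

theorem testBit_orLt (n : ℕ) (f : ℕ → ℕ) (j : ℕ) :
    (orLt n f).testBit j = true ↔ ∃ i < n, (f i).testBit j = true := by
  induction n with
  | zero => simp [orLt]
  | succ n ih =>
    have : orLt (n + 1) f = f n ||| orLt n f := rfl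
    rw [this, Nat.testBit_or, Bool.or_eq_true, ih]
    constructor
    · rintro (h | ⟨i, hi, h⟩)
      · exact ⟨n, Nat.lt_succ_self n, h⟩
      · exact ⟨i, Nat.lt_succ_of_lt hi, h⟩
    · rintro ⟨i, hi, h⟩
      rcases Nat.lt_succ_iff_lt_or_eq.1 hi with h' | h'
      · exact Or.inr ⟨i, h', h⟩
      · exact Or.inl (h' ▸ h)

/-- `f` on all of `[b * 2^k, (b+1) * 2^k)`, by binary splitting (depth `k`). -/
def treeAll (f : ℕ → Bool) (k : ℕ) : ℕ → Bool :=
  Nat.rec (fun b => f b) (fun _ r b => r (Nat.mul 2 b) && r (Nat.succ (Nat.mul 2 b))) k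

/-- sum of `f` over `[b * 2^k, (b+1) * 2^k)`, by binary splitting (depth `k`). -/
def treeSum (f : ℕ → ℕ) (k : ℕ) : ℕ → ℕ :=
  Nat.rec (fun b => f b) (fun _ r b => Nat.add (r (Nat.mul 2 b)) (r (Nat.succ (Nat.mul 2 b)))) k

theorem treeSum_eq' (f : ℕ → ℕ) (k b : ℕ) :
    treeSum f k b = ∑ j ∈ range (2 ^ k), f (b * 2 ^ k + j) := by
  induction k generalizing b with
  | zero => simp [treeSum]
  | succ k ih =>
    have : treeSum f (k + 1) b = treeSum f k (2 * b) + treeSum f k (2 * b + 1) := rfl
    rw [this, ih, ih, pow_succ, mul_two, Finset.sum_range_add]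
    congr 1
    · apply Finset.sum_congr rfl
      intro j _
      congr 1
      ring
    · apply Finset.sum_congr rfl
      intro j _
      congr 1
      ring

theorem treeSum_eq (f : ℕ → ℕ) (k : ℕ) : treeSum f k 0 = ∑ j ∈ range (2 ^ k), f j := by
  simp [treeSum_eq']

theorem treeAll_iff' (f : ℕ → Bool) (k b : ℕ) :
    treeAll f k b = true ↔ ∀ j < 2 ^ k, f (b * 2 ^ k + j) = true := by
  induction k generalizing b with
  | zero => simp [treeAll]
  | succ k ih =>
    have : treeAll f (k + 1) b = (treeAll f k (2 * b) && treeAll f k (2 * b + 1)) := rfl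
    rw [this, Bool.and_eq_true, ih, ih]
    constructor
    · rintro ⟨h1, h2⟩ j hj
      by_cases h : j < 2 ^ k
      · have := h1 j h
        rwa [show 2 * b * 2 ^ k + j = b * 2 ^ (k + 1) + j by ring] at this
      · have := h2 (j - 2 ^ k) (by rw [pow_succ] at hj; omega)
        rwa [show (2 * b + 1) * 2 ^ k + (j - 2 ^ k) = b * 2 ^ (k + 1) + j by
          have : (2 * b + 1) * 2 ^ k = b * 2 ^ (k + 1) + 2 ^ k := by ring
          omega] at this
    · intro h
      constructor
      · intro j hj
        have := h j (by rw [pow_succ]; omega)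
        rwa [show 2 * b * 2 ^ k + j = b * 2 ^ (k + 1) + j by ring]
      · intro j hj
        have := h (2 ^ k + j) (by rw [pow_succ]; omega)
        rwa [show (2 * b + 1) * 2 ^ k + j = b * 2 ^ (k + 1) + (2 ^ k + j) by ring]

theorem treeAll_iff (f : ℕ → Bool) (k : ℕ) :
    treeAll f k 0 = true ↔ ∀ j < 2 ^ k, f j = true := by
  simp [treeAll_iff']

/-- number of `j < 2^k` with `f j`. -/
def treeCnt (f : ℕ → Bool) (k : ℕ) : ℕ := treeSum (fun j => cond (f j) 1 0) k 0

theorem treeCnt_eq (f : ℕ → Bool) (k : ℕ) :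
    treeCnt f k = ((range (2 ^ k)).filter fun j => f j = true).card := by
  rw [treeCnt, treeSum_eq, Finset.card_filter]
  apply Finset.sum_congr rfl
  intro j _
  cases f j <;> simp

/-- bit `i` of `n` as a number. -/
def bit (n i : ℕ) : ℕ := Nat.mod (Nat.shiftRight n i) 2

theorem bit_eq (n i : ℕ) : bit n i = if n.testBit i then 1 else 0 := by
  have : bit n i = (n >>> i) % 2 := rfl
  rw [this, Nat.testBit_eq_decide_div_mod_eq, Nat.shiftRight_eq_div_pow]
  by_cases h : n / 2 ^ i % 2 = 1
  · simp [h]
  · simp [h]; omega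

/-- bit `i` of `n` as a Boolean, in kernel-accelerated form. -/
def tb (n i : ℕ) : Bool := Nat.beq (bit n i) 1

theorem tb_eq (n i : ℕ) : tb n i = n.testBit i := by
  unfold tb
  rw [bit_eq]
  cases n.testBit i <;> rfl

/-- number of set bits among the lowest `k`. -/
def pcN (k n : ℕ) : ℕ := sumLt k (bit n)

theorem pcN_eq (k n : ℕ) : pcN k n = ((range k).filter fun i => n.testBit i = true).card := by
  rw [pcN, sumLt_eq, Finset.card_filter]
  apply Finset.sum_congr rfl
  intro j _
  rw [bit_eq]

/-- the xor of the members of `bs` selected by the bits of `m`. -/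
def lin (bs : List ℕ) : ℕ → ℕ :=
  List.rec (fun _ => 0) (fun b _ r m => Nat.xor (Nat.mul (Nat.mod m 2) b) (r (Nat.div m 2))) bs

theorem lin_nil (m : ℕ) : lin [] m = 0 := rfl

theorem lin_cons (b : ℕ) (bs : List ℕ) (m : ℕ) :
    lin (b :: bs) m = ((m % 2) * b) ^^^ lin bs (m / 2) := rfl

theorem lin_xor (bs : List ℕ) (m n : ℕ) : lin bs (m ^^^ n) = lin bs m ^^^ lin bs n := by
  induction bs generalizing m n with
  | nil => simp [lin_nil]
  | cons b bs ih =>
    rw [lin_cons, lin_cons, lin_cons, Nat.xor_div_two, ih]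
    have hx : (m ^^^ n) % 2 = (m % 2) ^^^ (n % 2) := Nat.xor_mod_two_pow (n := 1)
    rw [hx]
    rcases Nat.mod_two_eq_zero_or_one m with h | h <;>
      rcases Nat.mod_two_eq_zero_or_one n with h' | h' <;> rw [h, h'] <;> simp
    · rw [← Nat.xor_assoc, ← Nat.xor_assoc, Nat.xor_comm b]
    · rw [Nat.xor_assoc]
    · rw [Nat.xor_assoc, ← Nat.xor_assoc (lin bs (m / 2)) b, Nat.xor_comm (lin bs (m / 2)) b,
        Nat.xor_assoc, ← Nat.xor_assoc b b, Nat.xor_self, Nat.zero_xor]

/-- A predicate closed under xor and holding at `0` and on `bs` holds on every `lin bs m`. -/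
theorem lin_induction (P : ℕ → Prop) (h0 : P 0) (hx : ∀ a b, P a → P b → P (a ^^^ b))
    (bs : List ℕ) (hb : ∀ b ∈ bs, P b) (m : ℕ) : P (lin bs m) := by
  induction bs generalizing m with
  | nil => exact h0
  | cons b bs ih =>
    rw [lin_cons]
    apply hx _ _ _ (ih (fun c hc => hb c (List.mem_cons_of_mem _ hc)) _)
    rcases Nat.mod_two_eq_zero_or_one m with h | h <;> rw [h]
    · simpa using h0
    · simpa using hb b List.mem_cons_self

/-- `f` holds on every member of the list. -/
def allL (l : List ℕ) (f : ℕ → Bool) : Bool := List.rec true (fun a _ r => f a && r) l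

theorem allL_iff (l : List ℕ) (f : ℕ → Bool) : allL l f = true ↔ ∀ a ∈ l, f a = true := by
  induction l with
  | nil => simp [allL]
  | cons a l ih =>
    have : allL (a :: l) f = (f a && allL l f) := rfl
    rw [this, Bool.and_eq_true, ih]
    simp

/-- `f` holds on some member of the list. -/
def anyL (l : List ℕ) (f : ℕ → Bool) : Bool := List.rec false (fun a _ r => f a || r) l

theorem anyL_iff (l : List ℕ) (f : ℕ → Bool) : anyL l f = true ↔ ∃ a ∈ l, f a = true := by
  induction l with
  | nil => simp [anyL]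
  | cons a l ih =>
    have : anyL (a :: l) f = (f a || anyL l f) := rfl
    rw [this, Bool.or_eq_true, ih]
    simp

/-! ### In-kernel orbit search -/

/-- forces `x` to a numeral before continuing. -/
def force {β : Type} (x : ℕ) (k : ℕ → β) : β := Nat.rec (k 0) (fun n _ => k (Nat.succ n)) x

theorem force_eq {β : Type} (x : ℕ) (k : ℕ → β) : force x k = k x := by
  cases x <;> rfl

/-- One round of the depth-first search: push the unseen images of `x` under `gens`. -/
def orbPush (act : ℕ → ℕ → ℕ) (idx : ℕ → ℕ) (x : ℕ) (gens : List ℕ)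
    (k : List ℕ → ℕ → ℕ) : List ℕ → ℕ → ℕ :=
  List.rec k (fun g _ r st seen =>
    force (act g x) fun y => force (idx y) fun i =>
      cond (tb seen i) (r st seen)
        (force (Nat.lor seen (Nat.shiftLeft 1 i)) fun seen' => r (y :: st) seen')) gens

/-- Depth-first search with fuel; returns the bit set of the indices of the points reached. -/
def orbGo (act : ℕ → ℕ → ℕ) (idx : ℕ → ℕ) (gens : List ℕ) (fuel : ℕ) : List ℕ → ℕ → ℕ :=
  Nat.rec (fun _ seen => seen) (fun _ r st seen =>
    List.rec seen (fun x st' _ => orbPush act idx x gens r st' seen) st) fuel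

/-- The bit set of indices of (part of) the orbit of `x0` under `gens`. -/
def orbSet (act : ℕ → ℕ → ℕ) (idx : ℕ → ℕ) (gens : List ℕ) (fuel x0 : ℕ) : ℕ :=
  orbGo act idx gens fuel [x0] (Nat.shiftLeft 1 (idx x0))

theorem orbPush_sound (act : ℕ → ℕ → ℕ) (idx : ℕ → ℕ) (Q : ℕ → Prop) (x : ℕ) (gens : List ℕ)
    (hg : ∀ g ∈ gens, Q (act g x)) (k : List ℕ → ℕ → ℕ)
    (hk : ∀ st seen, (∀ y ∈ st, Q y) → (∀ i, seen.testBit i = true → ∃ y, Q y ∧ idx y = i) →
      ∀ i, (k st seen).testBit i = true → ∃ y, Q y ∧ idx y = i) (st : List ℕ) (seen : ℕ)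
    (hst : ∀ y ∈ st, Q y) (hseen : ∀ i, seen.testBit i = true → ∃ y, Q y ∧ idx y = i) :
    ∀ i, (orbPush act idx x gens k st seen).testBit i = true → ∃ y, Q y ∧ idx y = i := by
  induction gens generalizing st seen with
  | nil => exact hk st seen hst hseen
  | cons g gens ih =>
    have e : orbPush act idx x (g :: gens) k st seen =
        force (act g x) fun y => force (idx y) fun i =>
          cond (tb seen i) (orbPush act idx x gens k st seen)
            (force (seen ||| (1 <<< i)) fun seen' => orbPush act idx x gens k (y :: st) seen') := rfl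
    rw [e, force_eq, force_eq]
    have ih' := ih (fun g' hg' => hg g' (List.mem_cons_of_mem _ hg'))
    have hq := hg g List.mem_cons_self
    cases tb seen (idx (act g x))
    · simp only [cond_false, force_eq]
      apply ih'
      · intro y hy
        rcases List.mem_cons.1 hy with rfl | hy
        · exact hq
        · exact hst y hy
      · intro i hi
        rw [Nat.testBit_or, Bool.or_eq_true] at hi
        rcases hi with hi | hi
        · exact hseen i hi
        · refine ⟨_, hq, ?_⟩
          rw [Nat.one_shiftLeft, Nat.testBit_two_pow] at hi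
          simpa using hi
    · simp only [cond_true]
      exact ih' st seen hst hseen

theorem orbGo_sound (act : ℕ → ℕ → ℕ) (idx : ℕ → ℕ) (gens : List ℕ) (Q : ℕ → Prop)
    (hQ : ∀ g ∈ gens, ∀ y, Q y → Q (act g y)) (fuel : ℕ) (st : List ℕ) (seen : ℕ)
    (hst : ∀ y ∈ st, Q y) (hseen : ∀ i, seen.testBit i = true → ∃ y, Q y ∧ idx y = i) :
    ∀ i, (orbGo act idx gens fuel st seen).testBit i = true → ∃ y, Q y ∧ idx y = i := by
  induction fuel generalizing st seen with
  | zero => exact hseen
  | succ n ih =>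
    cases st with
    | nil => exact hseen
    | cons x st =>
      have e : orbGo act idx gens (n + 1) (x :: st) seen =
          orbPush act idx x gens (orbGo act idx gens n) st seen := rfl
      rw [e]
      exact orbPush_sound act idx Q x gens
        (fun g hg => hQ g hg x (hst x List.mem_cons_self)) _ ih st seen
        (fun y hy => hst y (List.mem_cons_of_mem _ hy)) hseen

/-- Soundness of the orbit search: every index marked is the index of a point satisfying any
predicate that holds at the start and is preserved by the generators. -/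
theorem orbSet_sound (act : ℕ → ℕ → ℕ) (idx : ℕ → ℕ) (gens : List ℕ) (fuel x0 : ℕ)
    (Q : ℕ → Prop) (h0 : Q x0) (hQ : ∀ g ∈ gens, ∀ y, Q y → Q (act g y)) (i : ℕ)
    (hi : (orbSet act idx gens fuel x0).testBit i = true) : ∃ y, Q y ∧ idx y = i := by
  refine orbGo_sound act idx gens Q hQ fuel [x0] _ (by simpa using h0) ?_ i hi
  intro j hj
  have : Nat.shiftLeft 1 (idx x0) = 1 <<< idx x0 := rfl
  rw [this, Nat.one_shiftLeft, Nat.testBit_two_pow] at hj
  exact ⟨x0, h0, by simpa using hj⟩

theorem beq_iff (a b : ℕ) : Nat.beq a b = true ↔ a = b :=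
  ⟨Nat.eq_of_beq_eq_true, fun h => h ▸ Nat.beq_refl a⟩

theorem ble_iff (a b : ℕ) : Nat.ble a b = true ↔ a ≤ b :=
  ⟨Nat.le_of_ble_eq_true, Nat.ble_eq_true_of_le⟩

end H9
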