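import Mathlib
import Cfsg.Prelude.Def_Sporadic_a
import Cfsg.Agent.H9.Bits

/-! A bit-mask model of the binary Golay code `Cfsg.golayCode`. -/

set_option autoImplicit false

namespace H9

open Cfsg Finset
open scoped symmDiff

/-- index of a point: the residue, or 23 for the extra point. -/
def ix : GolayPt → ℕ
  | none => 23
  | some x => x.val

/-- the point with index `i`. -/
def pt (i : ℕ) : GolayPt := if i < 23 then some (i : ZMod 23) else none

theorem ix_lt (p : GolayPt) : ix p < 24 := by revert p; decide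

@[simp] theorem pt_ix (p : GolayPt) : pt (ix p) = p := by revert p; decide

theorem ix_pt {i : ℕ} (h : i < 24) : ix (pt i) = i := by
  revert i; decide

theorem ix_inj {p q : GolayPt} (h : ix p = ix q) : p = q := by
  rw [← pt_ix p, h, pt_ix]

theorem pt_inj {i j : ℕ} (hi : i < 24) (hj : j < 24) (h : pt i = pt j) : i = j := by
  rw [← ix_pt hi, h, ix_pt hj]

theorem pt_23 : pt 23 = none := rfl

theorem pt_0 : pt 0 = some 0 := rfl

theorem card_golayPt : Fintype.card GolayPt = 24 := by decide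

/-- The points as `Fin 24`. -/
def ptEquiv : GolayPt ≃ Fin 24 where
  toFun p := ⟨ix p, ix_lt p⟩
  invFun i := pt i
  left_inv p := pt_ix p
  right_inv i := Fin.ext (ix_pt i.2)

theorem forall_pt (P : GolayPt → Prop) : (∀ p, P p) ↔ ∀ i < 24, P (pt i) :=
  ⟨fun h i _ => h _, fun h p => by simpa using h (ix p) (ix_lt p)⟩

theorem exists_pt (P : GolayPt → Prop) : (∃ p, P p) ↔ ∃ i < 24, P (pt i) :=
  ⟨fun ⟨p, h⟩ => ⟨ix p, ix_lt p, by simpa using h⟩, fun ⟨_, _, h⟩ => ⟨_, h⟩⟩

/-- the set of points whose index is a set bit of `n`. -/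
def ofMask (n : ℕ) : Finset GolayPt := univ.filter fun p => n.testBit (ix p) = true

@[simp] theorem mem_ofMask {n : ℕ} {p : GolayPt} : p ∈ ofMask n ↔ n.testBit (ix p) = true := by
  simp [ofMask]

theorem pt_mem_ofMask {n i : ℕ} (hi : i < 24) : pt i ∈ ofMask n ↔ n.testBit i = true := by
  rw [mem_ofMask, ix_pt hi]

/-- the mask of a set of points. -/
def toMask (s : Finset GolayPt) : ℕ := orLt 24 fun i => if pt i ∈ s then 2 ^ i else 0

theorem testBit_toMask (s : Finset GolayPt) (j : ℕ) :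
    (toMask s).testBit j = true ↔ j < 24 ∧ pt j ∈ s := by
  rw [toMask, testBit_orLt]
  constructor
  · rintro ⟨i, hi, h⟩
    split_ifs at h with h'
    · rw [Nat.testBit_two_pow] at h
      have : i = j := by simpa using h
      subst this
      exact ⟨hi, h'⟩
    · simp at h
  · rintro ⟨hj, h⟩
    exact ⟨j, hj, by simp [h]⟩

@[simp] theorem ofMask_toMask (s : Finset GolayPt) : ofMask (toMask s) = s := by
  ext p
  rw [mem_ofMask, testBit_toMask]
  simp [ix_lt]

theorem toMask_lt (s : Finset GolayPt) : toMask s < 2 ^ 24 := by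
  apply Nat.lt_pow_two_of_testBit
  intro i hi
  by_contra h
  have := (testBit_toMask s i).1 (by simpa using h)
  omega

theorem exists_mask (s : Finset GolayPt) : ∃ n < 2 ^ 24, s = ofMask n :=
  ⟨toMask s, toMask_lt s, (ofMask_toMask s).symm⟩

theorem ofMask_inj {a b : ℕ} (ha : a < 2 ^ 24) (hb : b < 2 ^ 24) (h : ofMask a = ofMask b) :
    a = b := by
  apply Nat.eq_of_testBit_eq
  intro i
  by_cases hi : i < 24
  · have h1 := pt_mem_ofMask (n := a) hi
    have h2 := pt_mem_ofMask (n := b) hi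
    rw [h, h2] at h1
    exact (Bool.eq_iff_iff.2 h1).symm
  · rw [Nat.testBit_lt_two_pow (lt_of_lt_of_le ha (Nat.pow_le_pow_right (by norm_num) (by omega))),
      Nat.testBit_lt_two_pow (lt_of_lt_of_le hb (Nat.pow_le_pow_right (by norm_num) (by omega)))]

theorem toMask_ofMask {a : ℕ} (ha : a < 2 ^ 24) : toMask (ofMask a) = a :=
  ofMask_inj (toMask_lt _) ha (ofMask_toMask _)

theorem ofMask_xor (a b : ℕ) : ofMask (a ^^^ b) = ofMask a ∆ ofMask b := by
  ext p
  simp only [mem_ofMask, Nat.testBit_xor, Finset.mem_symmDiff]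
  cases a.testBit (ix p) <;> cases b.testBit (ix p) <;> simp

theorem ofMask_and (a b : ℕ) : ofMask (a &&& b) = ofMask a ∩ ofMask b := by
  ext p
  simp [Nat.testBit_and]

theorem ofMask_or (a b : ℕ) : ofMask (a ||| b) = ofMask a ∪ ofMask b := by
  ext p
  simp [Nat.testBit_or]

theorem ofMask_zero : ofMask 0 = ∅ := by
  ext p
  simp

theorem ofMask_full : ofMask 16777215 = univ := by
  ext p
  simp only [mem_ofMask, mem_univ, iff_true]
  revert p; decide

theorem ofMask_compl (a : ℕ) : ofMask (a ^^^ 16777215) = (ofMask a)ᶜ := by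
  rw [ofMask_xor, ofMask_full]
  ext p
  simp [Finset.mem_symmDiff]

theorem ofMask_two_pow {i : ℕ} (hi : i < 24) : ofMask (2 ^ i) = {pt i} := by
  ext p
  simp only [mem_ofMask, Nat.testBit_two_pow, decide_eq_true_eq, mem_singleton]
  constructor
  · rintro rfl; simp
  · rintro rfl; rw [ix_pt hi]

theorem ofMask_subset_iff {a b : ℕ} (ha : a < 2 ^ 24) : ofMask a ⊆ ofMask b ↔ a &&& b = a := by
  rw [← Finset.inter_eq_left, ← ofMask_and]
  exact ⟨fun h => ofMask_inj (lt_of_le_of_lt Nat.and_le_left ha) ha h, fun h => by rw [h]⟩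

theorem ofMask_mod (a : ℕ) : ofMask (a % 2 ^ 24) = ofMask a := by
  ext p
  rw [mem_ofMask, mem_ofMask, Nat.testBit_mod_two_pow]
  simp [ix_lt]

/-- number of set bits among the lowest 24. -/
def pc (n : ℕ) : ℕ := pcN 24 n

theorem card_ofMask (n : ℕ) : (ofMask n).card = pc n := by
  rw [pc, pcN_eq]
  apply Finset.card_bij (fun p _ => ix p)
  · intro p hp
    simpa [ix_lt] using hp
  · intro p _ q _ h
    exact ix_inj h
  · intro i hi
    simp only [mem_filter, mem_range] at hi
    exact ⟨pt i, (pt_mem_ofMask hi.1).2 hi.2, ix_pt hi.1⟩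

theorem disjoint_ofMask_iff {a b : ℕ} : Disjoint (ofMask a) (ofMask b) ↔ pc (a &&& b) = 0 := by
  rw [← card_ofMask, ofMask_and, Finset.card_eq_zero, Finset.disjoint_iff_inter_eq_empty]

/-! ### Words and supports -/

/-- the indicator word of a set of points. -/
def ind (s : Finset GolayPt) : GolayPt → ZMod 2 := fun p => if p ∈ s then 1 else 0

theorem zmod2_cases (x : ZMod 2) : x = 0 ∨ x = 1 := by revert x; decide

@[simp] theorem support_ind (s : Finset GolayPt) : support₂ (ind s) = s := by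
  ext p
  by_cases h : p ∈ s <;> simp [support₂, ind, h]

@[simp] theorem ind_support (w : GolayPt → ZMod 2) : ind (support₂ w) = w := by
  ext p
  rcases zmod2_cases (w p) with h | h <;> simp [support₂, ind, h]

theorem mem_support {w : GolayPt → ZMod 2} {p : GolayPt} : p ∈ support₂ w ↔ w p = 1 := by
  rcases zmod2_cases (w p) with h | h <;> simp [support₂, h]

theorem ind_symmDiff (s t : Finset GolayPt) : ind (s ∆ t) = ind s + ind t := by
  ext p
  by_cases h : p ∈ s <;> by_cases h' : p ∈ t <;> simp [ind, Finset.mem_symmDiff, h, h']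
  rfl

theorem support_add (v w : GolayPt → ZMod 2) : support₂ (v + w) = support₂ v ∆ support₂ w := by
  conv_lhs => rw [← ind_support v, ← ind_support w, ← ind_symmDiff, support_ind]

theorem ind_empty : ind ∅ = 0 := by
  ext p; simp [ind]

theorem ind_univ : ind univ = 1 := by
  ext p; simp [ind]

theorem hammingNorm_eq (w : GolayPt → ZMod 2) : hammingNorm w = (support₂ w).card := rfl

theorem sum_ind_mul (s t : Finset GolayPt) :
    ∑ i, ind s i * ind t i = ((s ∩ t).card : ZMod 2) := by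
  have : ∀ i, ind s i * ind t i = if i ∈ s ∩ t then 1 else 0 := by
    intro i
    by_cases h : i ∈ s <;> by_cases h' : i ∈ t <;> simp [ind, h, h']
  simp only [this]
  rw [Finset.sum_boole]
  congr 2
  ext p; simp

/-- The Golay code as a family of subsets of the 24 points. -/
abbrev GC : Set (Finset GolayPt) := supports (golayCode : Set (GolayPt → ZMod 2))

theorem mem_GC_iff_ind {s : Finset GolayPt} : s ∈ GC ↔ ind s ∈ golayCode := by
  constructor
  · rintro ⟨w, hw, rfl⟩
    simpa using hw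
  · intro h
    exact ⟨ind s, h, support_ind s⟩

theorem support_mem_GC {w : GolayPt → ZMod 2} : support₂ w ∈ GC ↔ w ∈ golayCode := by
  rw [mem_GC_iff_ind, ind_support]

theorem empty_mem_GC : (∅ : Finset GolayPt) ∈ GC := by
  rw [mem_GC_iff_ind, ind_empty]; exact Submodule.zero_mem _

theorem univ_mem_GC : (univ : Finset GolayPt) ∈ GC := by
  rw [mem_GC_iff_ind, ind_univ]
  exact Submodule.subset_span (Set.mem_union_right _ rfl)

theorem symmDiff_mem_GC {s t : Finset GolayPt} (hs : s ∈ GC) (ht : t ∈ GC) : s ∆ t ∈ GC := by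
  rw [mem_GC_iff_ind] at *
  rw [ind_symmDiff]
  exact Submodule.add_mem _ hs ht

theorem compl_mem_GC {s : Finset GolayPt} (hs : s ∈ GC) : sᶜ ∈ GC := by
  have := symmDiff_mem_GC hs univ_mem_GC
  convert this using 1
  ext p; simp [Finset.mem_symmDiff]

theorem mem_octads {s : Finset GolayPt} : s ∈ octads ↔ s ∈ GC ∧ s.card = 8 := Iff.rfl

theorem mem_dodecads {s : Finset GolayPt} : s ∈ dodecads ↔ s ∈ GC ∧ s.card = 12 := Iff.rfl

/-! ### Enumeration of the code words -/

/-- masks of the 24 generating words. -/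
def qmL : List ℕ := [340831, 681662, 1363324, 2726648, 5453296, 2517985, 5035970, 1683333,
  3366666, 6733332, 5078057, 1767507, 3535014, 7070028, 5751449, 3114291, 6228582, 4068557,
  8137114, 7885621, 7382635, 6376663, 4364719, 16777215]

/-- a systematic basis: `basL[i]` has low 12 bits `2 ^ i`. -/
def basL : List ℕ := [13062145, 4845570, 13938692, 7221256, 10170384, 11952160, 15515712,
  2019456, 4038912, 8077824, 11654144, 14919680]

def selL : List ℕ := [8390313, 280, 8389785, 1400, 8390330, 8390551, 8390093, 2000, 1347, 101,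
  8390243, 8390181]

def cwT1 : ℕ := 0x19703fde203e50803d97d03ccdc03b0a903a843039436038774037b010363eb035f9e034a3f03364a032ea00312d503082402f45102ecbb02d0ce02c56f02b91a02a1f0029d85028ec70272b2026a5802562d02438c023ff9022713021b66020af101f68401ee6e01d21b01c7ba01bbcf01a325019f50018c1201706701688d0154f8014159013d2c0125c60119b301034200ff3700e7dd00dba800ce0900b27c00aa960096e30085a10079d400613e005d4b0048ea00349f002c75001000000

def cwT2 : ℕ := 0xe68fc00a4f80f85f40149f00db2ec037ee80c5fe40293e009dcdc0710d80831d406fdd00a06cc04cac80bebc40527c00575bc0bb9b80498b40a54b006afac0863a80742a4098ea002c19c0c0d98032c940de090011b8c0fd78800f6840e3a8000527c0e9e7801bf740f737003886c0d44680265640ca96007e65c092a58060b5408c750043c4c0af04805d1440b1d400b4f3c0583380aa234046e3008952c06592809782407b4200cfb1c0237180d161403da100f210c01ed080ecc040000000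

/-- the code word whose low 12 bits agree with those of `m`. -/
def cw (m : ℕ) : ℕ :=
  Nat.xor (Nat.mod (Nat.shiftRight cwT1 (Nat.mul 24 (Nat.mod m 64))) 16777216)
    (Nat.mod (Nat.shiftRight cwT2 (Nat.mul 24 (Nat.mod (Nat.div m 64) 64))) 16777216)

theorem cw_mod (m : ℕ) : cw (m % 4096) = cw m := by
  have h1 : Nat.mod (m % 4096) 64 = Nat.mod m 64 := by
    change m % 4096 % 64 = m % 64; omega
  have h2 : Nat.mod (Nat.div (m % 4096) 64) 64 = Nat.mod (Nat.div m 64) 64 := by
    change m % 4096 / 64 % 64 = m / 64 % 64; omega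
  unfold cw
  rw [h1, h2]

attribute [irreducible] cw cwT1 cwT2

theorem cw_check : treeAll (fun m => Nat.beq (cw m) (lin basL m) &&
    Nat.beq (Nat.mod (cw m) 4096) m && Nat.ble (cw m) 16777215 &&
    force (pc (cw m)) fun w => Nat.beq w 0 || Nat.beq w 8 || Nat.beq w 12 || Nat.beq w 16 ||
      Nat.beq w 24) 12 0 = true := by
  decide +kernel

theorem cw_facts {m : ℕ} (hm : m < 4096) : cw m = lin basL m ∧ cw m % 4096 = m ∧ cw m < 2 ^ 24 ∧
    (pc (cw m) = 0 ∨ pc (cw m) = 8 ∨ pc (cw m) = 12 ∨ pc (cw m) = 16 ∨ pc (cw m) = 24) := by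
  have := (treeAll_iff _ _).1 cw_check m hm
  simp only [force_eq, Bool.and_eq_true, Bool.or_eq_true, beq_iff, ble_iff] at this
  obtain ⟨⟨⟨h1, h2⟩, h3⟩, h4⟩ := this
  refine ⟨h1, h2, Nat.lt_succ_of_le h3, ?_⟩
  generalize pc (cw m) = w at h4
  omega

theorem cw_lt (m : ℕ) : cw m < 2 ^ 24 := by
  rw [← cw_mod]; exact (cw_facts (Nat.mod_lt _ (by norm_num))).2.2.1

theorem cw_mod_self (m : ℕ) : cw m % 4096 = m % 4096 := by
  rw [← cw_mod]; exact (cw_facts (Nat.mod_lt _ (by norm_num))).2.1

theorem cw_cw (m : ℕ) : cw (cw m) = cw m := by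
  rw [← cw_mod (cw m), cw_mod_self, cw_mod]

theorem cw_inj {a b : ℕ} (ha : a < 4096) (hb : b < 4096) (h : cw a = cw b) : a = b := by
  rw [← (cw_facts ha).2.1, h, (cw_facts hb).2.1]

theorem cw_xor (a b : ℕ) : cw (a ^^^ b) = cw a ^^^ cw b := by
  have ha : a % 4096 < 4096 := Nat.mod_lt _ (by norm_num)
  have hb : b % 4096 < 4096 := Nat.mod_lt _ (by norm_num)
  have hab : (a ^^^ b) % 4096 < 4096 := Nat.mod_lt _ (by norm_num)
  rw [← cw_mod, ← cw_mod a, ← cw_mod b, (cw_facts ha).1, (cw_facts hb).1, (cw_facts hab).1,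
    ← lin_xor]
  congr 1
  exact Nat.xor_mod_two_pow (n := 12)

theorem cw_zero : cw 0 = 0 := by decide +kernel

theorem qr_support : ∀ t : ZMod 23, ∀ p : GolayPt,
    (qrWord t p ≠ 0) ↔ (qmL.getD t.val 0).testBit (ix p) = true := by
  decide +kernel

theorem support_qrWord (t : ZMod 23) : support₂ (qrWord t) = ofMask (qmL.getD t.val 0) := by
  ext p
  simp only [support₂, mem_filter, mem_univ, true_and, mem_ofMask]
  exact qr_support t p

theorem qmL_mem : ∀ b ∈ qmL, ofMask b ∈ GC := by
  have : ∀ b ∈ qmL, b = 16777215 ∨ ∃ t : ZMod 23, b = qmL.getD t.val 0 := by decide +kernel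
  intro b hb
  rcases this b hb with rfl | ⟨t, rfl⟩
  · rw [ofMask_full]; exact univ_mem_GC
  · rw [← support_qrWord, support_mem_GC]
    exact Submodule.subset_span (Set.mem_union_left _ ⟨t, rfl⟩)

theorem lin_mem_GC (bs : List ℕ) (hb : ∀ b ∈ bs, ofMask b ∈ GC) (m : ℕ) :
    ofMask (lin bs m) ∈ GC :=
  lin_induction (fun n => ofMask n ∈ GC) (by rw [ofMask_zero]; exact empty_mem_GC)
    (fun a b ha hb => by rw [ofMask_xor]; exact symmDiff_mem_GC ha hb) bs hb m

theorem basL_mem : ∀ b ∈ basL, ofMask b ∈ GC := by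
  have : ∀ b ∈ basL, ∃ s ∈ selL, b = lin qmL s := by decide +kernel
  intro b hb
  obtain ⟨s, _, rfl⟩ := this b hb
  exact lin_mem_GC qmL qmL_mem s

theorem cw_mem_GC (m : ℕ) : ofMask (cw m) ∈ GC := by
  rw [← cw_mod, (cw_facts (Nat.mod_lt _ (by norm_num))).1]
  exact lin_mem_GC basL basL_mem _

theorem exists_cw_of_mem {s : Finset GolayPt} (hs : s ∈ GC) : ∃ m < 4096, s = ofMask (cw m) := by
  obtain ⟨w, hw, rfl⟩ := hs
  suffices h : ∃ m, support₂ w = ofMask (cw m) by
    obtain ⟨m, hm⟩ := h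
    exact ⟨m % 4096, Nat.mod_lt _ (by norm_num), by rw [cw_mod, hm]⟩
  induction hw using Submodule.span_induction with
  | mem x hx =>
    have h1 : ∀ b ∈ qmL, cw b = b := by decide +kernel
    rcases hx with ⟨t, rfl⟩ | hx
    · refine ⟨qmL.getD t.val 0, ?_⟩
      rw [support_qrWord, h1]
      revert t; decide +kernel
    · rw [Set.mem_singleton_iff.1 hx]
      refine ⟨16777215, ?_⟩
      rw [h1 _ (by decide), ofMask_full, ← ind_univ, support_ind]
  | zero => exact ⟨0, by rw [cw_zero, ofMask_zero, ← ind_empty, support_ind]⟩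
  | add x y _ _ hx hy =>
    obtain ⟨a, ha⟩ := hx
    obtain ⟨b, hb⟩ := hy
    exact ⟨a ^^^ b, by rw [support_add, ha, hb, cw_xor, ofMask_xor]⟩
  | smul c x _ hx =>
    rcases zmod2_cases c with rfl | rfl
    · exact ⟨0, by rw [zero_smul, cw_zero, ofMask_zero, ← ind_empty, support_ind]⟩
    · simpa using hx

theorem mem_GC_iff {s : Finset GolayPt} : s ∈ GC ↔ ∃ m < 4096, s = ofMask (cw m) :=
  ⟨exists_cw_of_mem, fun ⟨m, _, h⟩ => h ▸ cw_mem_GC m⟩

/-- Boolean membership test for masks below `2 ^ 24`. -/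
def isCw (n : ℕ) : Bool := Nat.beq (cw n) n

theorem isCw_iff_eq {n : ℕ} : isCw n = true ↔ cw n = n := beq_iff _ _

theorem mem_GC_of_isCw {n : ℕ} (h : isCw n = true) : ofMask n ∈ GC := by
  rw [← isCw_iff_eq.1 h]; exact cw_mem_GC n

theorem lt_of_isCw {n : ℕ} (h : isCw n = true) : n < 2 ^ 24 := by
  rw [← isCw_iff_eq.1 h]; exact cw_lt n

theorem ofMask_mem_GC_iff {n : ℕ} (hn : n < 2 ^ 24) : ofMask n ∈ GC ↔ isCw n = true := by
  refine ⟨fun h => ?_, mem_GC_of_isCw⟩
  obtain ⟨m, _, hm⟩ := exists_cw_of_mem h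
  rw [ofMask_inj hn (cw_lt m) hm, isCw_iff_eq, cw_cw]

theorem isCw_cw (m : ℕ) : isCw (cw m) = true := isCw_iff_eq.2 (cw_cw m)

theorem ofMask_cw_inj {a b : ℕ} (ha : a < 4096) (hb : b < 4096)
    (h : ofMask (cw a) = ofMask (cw b)) : a = b :=
  cw_inj ha hb (ofMask_inj (cw_lt a) (cw_lt b) h)

/-- weights of code words. -/
theorem card_of_mem_GC {s : Finset GolayPt} (hs : s ∈ GC) :
    s.card = 0 ∨ s.card = 8 ∨ s.card = 12 ∨ s.card = 16 ∨ s.card = 24 := by
  obtain ⟨m, hm, rfl⟩ := exists_cw_of_mem hs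
  rw [card_ofMask]
  exact (cw_facts hm).2.2.2

theorem card_symmDiff_add {α : Type*} [DecidableEq α] (s t : Finset α) :
    (s ∆ t).card + 2 * (s ∩ t).card = s.card + t.card := by
  have h1 : (s ∆ t).card = (s \ t).card + (t \ s).card := by
    rw [symmDiff_def, Finset.sup_eq_union, Finset.card_union_of_disjoint]
    exact disjoint_sdiff_sdiff
  have h2 := Finset.card_sdiff_add_card_inter s t
  have h3 := Finset.card_sdiff_add_card_inter t s
  rw [Finset.inter_comm t s] at h3
  omega

/-- two code words meet in an even number of points. -/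
theorem even_inter_of_mem_GC {s t : Finset GolayPt} (hs : s ∈ GC) (ht : t ∈ GC) :
    (s ∩ t).card % 2 = 0 := by
  have h := card_symmDiff_add s t
  have h1 := card_of_mem_GC hs
  have h2 := card_of_mem_GC ht
  have h3 := card_of_mem_GC (symmDiff_mem_GC hs ht)
  omega

/-- Counting code words with a decidable property. -/
theorem ncard_GC (P : Finset GolayPt → Prop) (f : ℕ → Bool)
    (h : ∀ m < 4096, P (ofMask (cw m)) ↔ f (cw m) = true) :
    {s | s ∈ GC ∧ P s}.ncard = treeCnt (fun m => f (cw m)) 12 := by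
  rw [treeCnt_eq]
  have : {s | s ∈ GC ∧ P s} = (fun m => ofMask (cw m)) ''
      ((range (2 ^ 12)).filter fun m => f (cw m) = true : Finset ℕ) := by
    ext s
    simp only [Set.mem_ofPred_eq, coe_filter, mem_range, Set.mem_image]
    constructor
    · rintro ⟨hs, hP⟩
      obtain ⟨m, hm, rfl⟩ := exists_cw_of_mem hs
      exact ⟨m, ⟨hm, (h m hm).1 hP⟩, rfl⟩
    · rintro ⟨m, ⟨hm, hf⟩, rfl⟩
      exact ⟨cw_mem_GC m, (h m hm).2 hf⟩
  rw [this, Set.InjOn.ncard_image, Set.ncard_coe_finset]
  intro a ha b hb hab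
  simp only [coe_filter, mem_range, Set.mem_ofPred_eq] at ha hb
  exact ofMask_cw_inj ha.1 hb.1 hab

/-- Checking a decidable property on all code words. -/
theorem forall_GC (P : Finset GolayPt → Prop) (f : ℕ → Bool)
    (h : ∀ m < 4096, f (cw m) = true → P (ofMask (cw m)))
    (hf : treeAll (fun m => f (cw m)) 12 0 = true) : ∀ s ∈ GC, P s := by
  intro s hs
  obtain ⟨m, hm, rfl⟩ := exists_cw_of_mem hs
  exact h m hm ((treeAll_iff _ _).1 hf m hm)

theorem ncard_GC_all : GC.ncard = 4096 := by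
  have := ncard_GC (fun _ => True) (fun _ => true) (by simp)
  simp only [and_true, Set.ofPred_mem_eq] at this
  rw [this]
  decide +kernel

theorem ncard_octads : octads.ncard = 759 := by
  have := ncard_GC (fun s => s.card = 8) (fun n => Nat.beq (pc n) 8)
    (fun m _ => by rw [card_ofMask, beq_iff])
  refine this.trans ?_
  decide +kernel

theorem ncard_dodecads : dodecads.ncard = 2576 := by
  have := ncard_GC (fun s => s.card = 12) (fun n => Nat.beq (pc n) 12)
    (fun m _ => by rw [card_ofMask, beq_iff])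
  refine this.trans ?_
  decide +kernel

theorem card_golayCode : Nat.card golayCode = 4096 := by
  rw [← ncard_GC_all]
  change _ = (support₂ '' (golayCode : Set (GolayPt → ZMod 2))).ncard
  rw [Set.InjOn.ncard_image]
  · rfl
  · intro v _ w _ h
    rw [← ind_support v, h, ind_support]

theorem finrank_golayCode : Module.finrank (ZMod 2) golayCode = 12 := by
  have h := Module.natCard_eq_pow_finrank (K := ZMod 2) (V := golayCode)
  rw [card_golayCode, Nat.card_zmod] at h
  exact (Nat.pow_right_injective (le_refl 2) (show 2 ^ 12 = 2 ^ _ from h)).symm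

theorem golay_self_orth (v w : GolayPt → ZMod 2) (hv : v ∈ golayCode) (hw : w ∈ golayCode) :
    ∑ i, v i * w i = 0 := by
  rw [← ind_support v, ← ind_support w, sum_ind_mul, ZMod.natCast_eq_zero_iff]
  exact Nat.dvd_of_mod_eq_zero
    (even_inter_of_mem_GC (support_mem_GC.2 hv) (support_mem_GC.2 hw))

/-- two distinct octads meet in 0, 2 or 4 points. -/
theorem octad_inter {s t : Finset GolayPt} (hs : s ∈ octads) (ht : t ∈ octads) (h : s ≠ t) :
    (s ∩ t).card = 0 ∨ (s ∩ t).card = 2 ∨ (s ∩ t).card = 4 := by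
  have h0 := card_symmDiff_add s t
  have h3 := card_of_mem_GC (symmDiff_mem_GC hs.1 ht.1)
  have h4 : (s ∆ t).card ≠ 0 := by
    rw [Ne, Finset.card_eq_zero]
    exact fun h' => h (symmDiff_eq_bot.1 h')
  rw [hs.2, ht.2] at h0
  omega

theorem octad_eq_of_five {s t : Finset GolayPt} (hs : s ∈ octads) (ht : t ∈ octads)
    (h : 5 ≤ (s ∩ t).card) : s = t := by
  by_contra hne
  have := octad_inter hs ht hne
  omega

end H9
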