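import Mathlib
import Cfsg.Agent.H9.Golay
import Cfsg.Agent.H9.PermLemmas

/-! Permutations of the 24 points coded by natural numbers (base-32 digits), membership in
`M24`, stabilisers of points and sets, in-kernel orbit computations. -/

set_option autoImplicit false

namespace H9

open Cfsg Finset MulAction
open scoped symmDiff Pointwise

/-- digit `i` of `c` in base 32. -/
def dig (c i : ℕ) : ℕ := Nat.mod (Nat.shiftRight c (Nat.mul 5 i)) 32

/-- the number with base-32 digits `f 0, …, f 23`. -/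
def mkP (f : ℕ → ℕ) : ℕ := orLt 24 fun i => Nat.shiftLeft (f i) (Nat.mul 5 i)

theorem testBit_dig (c i j : ℕ) : (dig c i).testBit j = (decide (j < 5) && c.testBit (5 * i + j)) := by
  have : dig c i = (c >>> (5 * i)) % 2 ^ 5 := rfl
  rw [this, Nat.testBit_mod_two_pow, Nat.testBit_shiftRight]

theorem dig_lt32 (c i : ℕ) : dig c i < 32 := Nat.mod_lt _ (by norm_num)

theorem dig_mkP (f : ℕ → ℕ) (hf : ∀ i < 24, f i < 32) {i : ℕ} (hi : i < 24) :
    dig (mkP f) i = f i := by
  apply Nat.eq_of_testBit_eq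
  intro j
  rw [testBit_dig, Bool.eq_iff_iff, Bool.and_eq_true, mkP, testBit_orLt]
  have e : ∀ k, Nat.shiftLeft (f k) (Nat.mul 5 k) = f k <<< (5 * k) := fun _ => rfl
  simp only [e, Nat.testBit_shiftLeft, Bool.and_eq_true, decide_eq_true_eq]
  have hb : ∀ k < 24, ∀ m, (f k).testBit m = true → m < 5 := by
    intro k hk m hm
    by_contra h
    rw [Nat.testBit_lt_two_pow (lt_of_lt_of_le (hf k hk)
      (Nat.pow_le_pow_right (n := 2) (by norm_num) (show 5 ≤ m by omega)))] at hm
    exact absurd hm (by simp)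
  constructor
  · rintro ⟨hj, k, hk, h1, h2⟩
    have := hb k hk _ h2
    have hki : k = i := by omega
    subst hki
    simpa using h2
  · intro h
    exact ⟨hb i hi j h, i, hi, by omega, by simpa using h⟩

/-- image of a mask under the map coded by `c`. -/
def actM (c n : ℕ) : ℕ := orLt 24 fun i => Nat.shiftLeft (bit n i) (dig c i)

theorem testBit_actM (c n j : ℕ) :
    (actM c n).testBit j = true ↔ ∃ i < 24, n.testBit i = true ∧ dig c i = j := by
  rw [actM, testBit_orLt]
  apply exists_congr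
  intro i
  apply and_congr_right
  intro _
  have e : Nat.shiftLeft (bit n i) (dig c i) = bit n i <<< dig c i := rfl
  rw [e, bit_eq]
  cases n.testBit i
  · simp
  · simp [Nat.one_shiftLeft, Nat.testBit_two_pow]

/-- `c` codes a permutation of `0, …, 23`. -/
def validP (c : ℕ) : Bool := Nat.beq (actM c 16777215) 16777215

theorem testBit_full (j : ℕ) : (16777215 : ℕ).testBit j = true ↔ j < 24 := by
  rw [show (16777215 : ℕ) = 2 ^ 24 - 1 by norm_num, Nat.testBit_two_pow_sub_one]
  simp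

theorem validP_iff {c : ℕ} :
    validP c = true ↔ (∀ i < 24, dig c i < 24) ∧ ∀ j < 24, ∃ i < 24, dig c i = j := by
  rw [validP, beq_iff]
  constructor
  · intro h
    constructor
    · intro i hi
      rw [← testBit_full, ← h, testBit_actM]
      exact ⟨i, hi, (testBit_full i).2 hi, rfl⟩
    · intro j hj
      rw [← testBit_full, ← h, testBit_actM] at hj
      obtain ⟨i, hi, -, h⟩ := hj
      exact ⟨i, hi, h⟩
  · rintro ⟨h1, h2⟩
    apply Nat.eq_of_testBit_eq
    intro j
    rw [Bool.eq_iff_iff, testBit_actM, testBit_full]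
    constructor
    · rintro ⟨i, hi, -, rfl⟩
      exact h1 i hi
    · intro hj
      obtain ⟨i, hi, h⟩ := h2 j hj
      exact ⟨i, hi, (testBit_full i).2 hi, h⟩

theorem dig_lt {c : ℕ} (h : validP c = true) {i : ℕ} (hi : i < 24) : dig c i < 24 :=
  (validP_iff.1 h).1 i hi

theorem bij_of_validP {c : ℕ} (h : validP c = true) :
    Function.Bijective fun p => pt (dig c (ix p)) := by
  rw [← Finite.surjective_iff_bijective]
  intro q
  obtain ⟨i, hi, h⟩ := (validP_iff.1 h).2 (ix q) (ix_lt q)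
  exact ⟨pt i, by simp only [ix_pt hi, h, pt_ix]⟩

/-- the permutation coded by `c` (the identity if `c` is not a valid code). -/
noncomputable def pm (c : ℕ) : Equiv.Perm GolayPt :=
  if h : validP c = true then Equiv.ofBijective _ (bij_of_validP h) else 1

theorem pm_apply {c : ℕ} (h : validP c = true) (p : GolayPt) : pm c p = pt (dig c (ix p)) := by
  simp [pm, h]

theorem pm_pt {c : ℕ} (h : validP c = true) {i : ℕ} (hi : i < 24) :
    pm c (pt i) = pt (dig c i) := by
  rw [pm_apply h, ix_pt hi]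

theorem pm_eq {c : ℕ} (h : validP c = true) (σ : Equiv.Perm GolayPt)
    (hσ : ∀ p, σ p = pt (dig c (ix p))) : pm c = σ := by
  ext1 p
  rw [pm_apply h, hσ]

/-- every permutation has a valid code. -/
theorem exists_code (σ : Equiv.Perm GolayPt) : ∃ c, validP c = true ∧ pm c = σ := by
  have hd : ∀ i < 24, dig (mkP fun i => ix (σ (pt i))) i = ix (σ (pt i)) := fun i hi =>
    dig_mkP _ (fun i _ => (ix_lt _).trans (by norm_num)) hi
  have hv : validP (mkP fun i => ix (σ (pt i))) = true := by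
    rw [validP_iff]
    refine ⟨fun i hi => by rw [hd i hi]; exact ix_lt _, fun j hj => ⟨ix (σ.symm (pt j)), ix_lt _, ?_⟩⟩
    rw [hd _ (ix_lt _)]
    simp [ix_pt hj]
  exact ⟨_, hv, pm_eq hv σ fun p => by rw [hd _ (ix_lt p)]; simp⟩

theorem actM_lt {c : ℕ} (h : validP c = true) (n : ℕ) : actM c n < 2 ^ 24 := by
  apply Nat.lt_pow_two_of_testBit
  intro j hj
  by_contra h'
  obtain ⟨i, hi, -, rfl⟩ := (testBit_actM c n j).1 (by simpa using h')
  have := dig_lt h hi
  omega

theorem pm_smul_ofMask {c : ℕ} (h : validP c = true) (n : ℕ) :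
    pm c • ofMask n = ofMask (actM c n) := by
  ext q
  simp only [Finset.mem_smul_finset, mem_ofMask, testBit_actM, Equiv.Perm.smul_def]
  constructor
  · rintro ⟨p, hp, rfl⟩
    exact ⟨ix p, ix_lt p, hp, by rw [pm_apply h, ix_pt (dig_lt h (ix_lt p))]⟩
  · rintro ⟨i, hi, hn, hd⟩
    exact ⟨pt i, by rwa [ix_pt hi], by rw [pm_pt h hi, hd, pt_ix]⟩

/-- code of the identity. -/
def idP : ℕ := 984818244535754528103549039458486304

theorem validP_idP : validP idP = true := by decide +kernel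

theorem pm_idP : pm idP = 1 := pm_eq validP_idP 1 (by decide +kernel)

/-- code of the product. -/
def mulP (c d : ℕ) : ℕ := mkP fun i => dig c (dig d i)

theorem dig_mulP (c d : ℕ) {i : ℕ} (hi : i < 24) : dig (mulP c d) i = dig c (dig d i) :=
  dig_mkP _ (fun _ _ => dig_lt32 _ _) hi

theorem validP_mulP {c d : ℕ} (hc : validP c = true) (hd : validP d = true) :
    validP (mulP c d) = true := by
  rw [validP_iff]
  refine ⟨fun i hi => by rw [dig_mulP c d hi]; exact dig_lt hc (dig_lt hd hi), fun j hj => ?_⟩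
  obtain ⟨k, hk, rfl⟩ := (validP_iff.1 hc).2 j hj
  obtain ⟨i, hi, rfl⟩ := (validP_iff.1 hd).2 k hk
  exact ⟨i, hi, dig_mulP c d hi⟩

theorem pm_mulP {c d : ℕ} (hc : validP c = true) (hd : validP d = true) :
    pm (mulP c d) = pm c * pm d := by
  apply pm_eq (validP_mulP hc hd)
  intro p
  rw [Equiv.Perm.mul_apply, pm_apply hd, pm_pt hc (dig_lt hd (ix_lt p)), dig_mulP c d (ix_lt p)]

/-- code of a power. -/
def powP (c : ℕ) (n : ℕ) : ℕ := Nat.rec idP (fun _ r => force r fun r => mulP c r) n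

theorem powP_spec {c : ℕ} (hc : validP c = true) (n : ℕ) :
    validP (powP c n) = true ∧ pm (powP c n) = pm c ^ n := by
  induction n with
  | zero => exact ⟨validP_idP, by rw [pow_zero]; exact pm_idP⟩
  | succ n ih =>
    have : powP c (n + 1) = mulP c (powP c n) := force_eq _ _
    rw [this, pm_mulP hc ih.1, ih.2, pow_succ']
    exact ⟨validP_mulP hc ih.1, rfl⟩

theorem pm_pow_eq_one {c n : ℕ} (hc : validP c = true) (h : powP c n = idP) : pm c ^ n = 1 := by
  rw [← (powP_spec hc n).2, h, pm_idP]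

theorem pm_inj {c d : ℕ} (hc : validP c = true) (hd : validP d = true) (h : pm c = pm d)
    {i : ℕ} (hi : i < 24) : dig c i = dig d i := by
  apply pt_inj (dig_lt hc hi) (dig_lt hd hi)
  rw [← pm_pt hc hi, h, pm_pt hd hi]

/-! ### Membership in `M24` -/

theorem smul_symmDiff' (g : Equiv.Perm GolayPt) (s t : Finset GolayPt) :
    g • (s ∆ t) = (g • s) ∆ (g • t) := by
  ext x
  simp only [← Finset.inv_smul_mem_iff, Finset.mem_symmDiff]

theorem mem_M24_iff {g : Equiv.Perm GolayPt} : g ∈ M24 ↔ ∀ s ∈ GC, g • s ∈ GC := by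
  rw [mem_stabilizer_iff]
  constructor
  · intro h s hs
    have : g • s ∈ g • GC := Set.smul_mem_smul_set hs
    rwa [h] at this
  · intro h
    refine Set.eq_of_subset_of_ncard_le ?_ ?_ (Set.toFinite _)
    · rintro _ ⟨s, hs, rfl⟩
      exact h s hs
    · rw [Set.ncard_smul_set]

theorem smul_mem_GC {g : Equiv.Perm GolayPt} (hg : g ∈ M24) {s : Finset GolayPt} (hs : s ∈ GC) :
    g • s ∈ GC := mem_M24_iff.1 hg s hs

theorem smul_mem_GC_iff {g : Equiv.Perm GolayPt} (hg : g ∈ M24) {s : Finset GolayPt} :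
    g • s ∈ GC ↔ s ∈ GC :=
  ⟨fun h => by simpa using smul_mem_GC (M24.inv_mem hg) h, smul_mem_GC hg⟩

theorem smul_mem_octads_iff {g : Equiv.Perm GolayPt} (hg : g ∈ M24) {s : Finset GolayPt} :
    g • s ∈ octads ↔ s ∈ octads := by
  rw [mem_octads, mem_octads, smul_mem_GC_iff hg, Finset.card_smul_finset]

theorem smul_mem_dodecads_iff {g : Equiv.Perm GolayPt} (hg : g ∈ M24) {s : Finset GolayPt} :
    g • s ∈ dodecads ↔ s ∈ dodecads := by
  rw [mem_dodecads, mem_dodecads, smul_mem_GC_iff hg, Finset.card_smul_finset]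

theorem mem_M24_of_basis {g : Equiv.Perm GolayPt} (h : ∀ b ∈ basL, g • ofMask b ∈ GC) :
    g ∈ M24 := by
  rw [mem_M24_iff]
  intro s hs
  obtain ⟨m, hm, rfl⟩ := exists_cw_of_mem hs
  rw [(cw_facts hm).1]
  exact lin_induction (fun n => g • ofMask n ∈ GC)
    (by rw [ofMask_zero, Finset.smul_finset_empty]; exact empty_mem_GC)
    (fun a b ha hb => by rw [ofMask_xor, smul_symmDiff']; exact symmDiff_mem_GC ha hb) basL h m

/-- Boolean test: `c` is a valid code of a member of `M24`. -/
def isM24 (c : ℕ) : Bool := validP c && allL basL fun b => force (actM c b) isCw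

theorem validP_of_isM24 {c : ℕ} (h : isM24 c = true) : validP c = true :=
  (Bool.and_eq_true_iff.1 h).1

theorem mem_M24_of_isM24 {c : ℕ} (h : isM24 c = true) : pm c ∈ M24 := by
  obtain ⟨h1, h2⟩ := Bool.and_eq_true_iff.1 h
  rw [allL_iff] at h2
  apply mem_M24_of_basis
  intro b hb
  rw [pm_smul_ofMask h1]
  exact mem_GC_of_isCw (by simpa [force_eq] using h2 b hb)

theorem basL_octads : ∀ b ∈ basL, ofMask b ∈ octads := by
  intro b hb
  refine ⟨basL_mem b hb, ?_⟩
  rw [card_ofMask]
  revert b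
  decide +kernel

theorem M24_eq_aut_octads : M24 = setSystemAut octads := by
  ext g
  constructor
  · intro hg
    rw [mem_stabilizer_iff]
    ext s
    rw [Set.mem_smul_set_iff_inv_smul_mem, smul_mem_octads_iff (M24.inv_mem hg)]
  · intro hg
    apply mem_M24_of_basis
    intro b hb
    have : g • ofMask b ∈ g • octads := Set.smul_mem_smul_set (basL_octads b hb)
    rw [mem_stabilizer_iff.1 hg] at this
    exact this.1

theorem mem_M24_of_octads {g : Equiv.Perm GolayPt} (h : ∀ o ∈ octads, g • o ∈ octads) :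
    g ∈ M24 :=
  mem_M24_of_basis fun b hb => (h _ (basL_octads b hb)).1

/-! ### Stabilisers of points and sets in `M24` -/

/-- the elements of `M24` fixing the points with index in `pts` and the sets with mask in
`sets`. -/
def Stab (pts sets : List ℕ) : Subgroup (Equiv.Perm GolayPt) where
  carrier := {g | g ∈ M24 ∧ (∀ i ∈ pts, g (pt i) = pt i) ∧ ∀ s ∈ sets, g • ofMask s = ofMask s}
  one_mem' := ⟨M24.one_mem, fun _ _ => rfl, fun _ _ => one_smul _ _⟩
  mul_mem' := by
    rintro a b ⟨ha, ha1, ha2⟩ ⟨hb, hb1, hb2⟩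
    exact ⟨M24.mul_mem ha hb, fun i hi => by rw [Equiv.Perm.mul_apply, hb1 i hi, ha1 i hi],
      fun s hs => by rw [mul_smul, hb2 s hs, ha2 s hs]⟩
  inv_mem' := by
    rintro a ⟨ha, ha1, ha2⟩
    exact ⟨M24.inv_mem ha, fun i hi => by rw [Equiv.Perm.inv_eq_iff_eq, ha1 i hi],
      fun s hs => by rw [inv_smul_eq_iff, ha2 s hs]⟩

theorem mem_Stab {pts sets : List ℕ} {g : Equiv.Perm GolayPt} : g ∈ Stab pts sets ↔
    g ∈ M24 ∧ (∀ i ∈ pts, g (pt i) = pt i) ∧ ∀ s ∈ sets, g • ofMask s = ofMask s := Iff.rfl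

theorem Stab_le (pts sets : List ℕ) : Stab pts sets ≤ M24 := fun _ h => h.1

theorem Stab_nil : Stab [] [] = M24 := by
  ext g; simp [mem_Stab]

theorem Stab_cons_pt (b : ℕ) (pts sets : List ℕ) :
    Stab pts sets ⊓ stabilizer (Equiv.Perm GolayPt) (pt b) = Stab (b :: pts) sets := by
  ext g
  simp only [mem_Stab, Subgroup.mem_inf, mem_stabilizer_iff, List.forall_mem_cons,
    Equiv.Perm.smul_def]
  tauto

theorem Stab_cons_set (s : ℕ) (pts sets : List ℕ) :
    Stab pts sets ⊓ stabilizer (Equiv.Perm GolayPt) (ofMask s) = Stab pts (s :: sets) := by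
  ext g
  simp only [mem_Stab, Subgroup.mem_inf, mem_stabilizer_iff, List.forall_mem_cons]
  tauto

/-- Boolean test for membership in `Stab pts sets` (indices below 24). -/
def inStab (pts sets : List ℕ) (c : ℕ) : Bool :=
  isM24 c && allL pts (fun i => Nat.ble i 23 && Nat.beq (dig c i) i) &&
    allL sets fun s => Nat.beq (actM c s) s

theorem validP_of_inStab {pts sets : List ℕ} {c : ℕ} (h : inStab pts sets c = true) :
    validP c = true :=
  validP_of_isM24 (Bool.and_eq_true_iff.1 (Bool.and_eq_true_iff.1 h).1).1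

theorem mem_Stab_of_inStab {pts sets : List ℕ} {c : ℕ} (h : inStab pts sets c = true) :
    pm c ∈ Stab pts sets := by
  have hv := validP_of_inStab h
  simp only [inStab, Bool.and_eq_true, allL_iff, beq_iff, ble_iff] at h
  obtain ⟨⟨h1, h2⟩, h3⟩ := h
  refine ⟨mem_M24_of_isM24 h1, fun i hi => ?_, fun s hs => ?_⟩
  · rw [pm_pt hv (Nat.lt_succ_of_le (h2 i hi).1), (h2 i hi).2]
  · rw [pm_smul_ofMask hv, h3 s hs]

/-- all codes of the list are valid and lie in `G`. -/
def GensIn (gens : List ℕ) (G : Subgroup (Equiv.Perm GolayPt)) : Prop :=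
  ∀ c ∈ gens, validP c = true ∧ pm c ∈ G

theorem gensIn_Stab {pts sets gens : List ℕ} (h : allL gens (inStab pts sets) = true) :
    GensIn gens (Stab pts sets) := fun c hc =>
  ⟨validP_of_inStab ((allL_iff _ _).1 h c hc), mem_Stab_of_inStab ((allL_iff _ _).1 h c hc)⟩

theorem gensIn_M24 {gens : List ℕ} (h : allL gens isM24 = true) : GensIn gens M24 := fun c hc =>
  ⟨validP_of_isM24 ((allL_iff _ _).1 h c hc), mem_M24_of_isM24 ((allL_iff _ _).1 h c hc)⟩

theorem GensIn.mono {gens : List ℕ} {G K : Subgroup (Equiv.Perm GolayPt)} (h : GensIn gens G)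
    (hGK : G ≤ K) : GensIn gens K := fun c hc => ⟨(h c hc).1, hGK (h c hc).2⟩

/-- the subgroup generated by the permutations coded in the list. -/
def cl (gens : List ℕ) : Subgroup (Equiv.Perm GolayPt) :=
  Subgroup.closure {g | ∃ c ∈ gens, g = pm c}

theorem GensIn.cl_le {gens : List ℕ} {G : Subgroup (Equiv.Perm GolayPt)} (h : GensIn gens G) :
    cl gens ≤ G := by
  rw [cl, Subgroup.closure_le]
  rintro _ ⟨c, hc, rfl⟩
  exact (h c hc).2

theorem GensIn.self {gens : List ℕ} {G : Subgroup (Equiv.Perm GolayPt)} (h : GensIn gens G) :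
    GensIn gens (cl gens) := fun c hc => ⟨(h c hc).1, Subgroup.subset_closure ⟨c, hc, rfl⟩⟩

/-- value of a word (list of positions in `gens`). -/
def evalW (gens : List ℕ) (w : List ℕ) : ℕ :=
  List.rec idP (fun i _ r => force r fun r => mulP (gens.getD i idP) r) w

theorem GensIn.evalW {gens : List ℕ} {G : Subgroup (Equiv.Perm GolayPt)} (h : GensIn gens G)
    (w : List ℕ) : validP (evalW gens w) = true ∧ pm (evalW gens w) ∈ G := by
  induction w with
  | nil => exact ⟨validP_idP, by rw [show H9.evalW gens [] = idP from rfl, pm_idP]; exact G.one_mem⟩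
  | cons i w ih =>
    have e : H9.evalW gens (i :: w) = mulP (gens.getD i idP) (H9.evalW gens w) := force_eq _ _
    have h1 : validP (gens.getD i idP) = true ∧ pm (gens.getD i idP) ∈ G := by
      rw [List.getD_eq_getElem?_getD]
      cases hi : gens[i]? with
      | none => exact ⟨validP_idP, by simp [pm_idP]⟩
      | some c => exact h c (List.mem_of_getElem? hi)
    rw [e, pm_mulP h1.1 ih.1]
    exact ⟨validP_mulP h1.1 ih.1, G.mul_mem h1.2 ih.2⟩

theorem GensIn.of_words {gens gens' : List ℕ} {G : Subgroup (Equiv.Perm GolayPt)}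
    (h : GensIn gens G) (ws : List (List ℕ)) (hw : ws.map (H9.evalW gens) = gens') :
    GensIn gens' G := by
  intro c hc
  rw [← hw] at hc
  obtain ⟨w, -, rfl⟩ := List.mem_map.1 hc
  exact h.evalW w

/-! ### Orbits -/

/-- in-kernel orbit of a point, as a mask. -/
def orbPt (gens : List ℕ) (b : ℕ) : ℕ := orbSet dig (fun i => i) gens 25 b

theorem GensIn.orbPt {gens : List ℕ} {G : Subgroup (Equiv.Perm GolayPt)} (h : GensIn gens G)
    {b : ℕ} (hb : b < 24) : ∀ x ∈ ofMask (orbPt gens b), ∃ g ∈ G, g • pt b = x := by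
  intro x hx
  obtain ⟨y, ⟨-, g, hg, hy⟩, rfl⟩ := orbSet_sound dig (fun i => i) gens 25 b
    (fun y => y < 24 ∧ ∃ g ∈ G, g • pt b = pt y) ⟨hb, 1, G.one_mem, rfl⟩ (by
      rintro c hc y ⟨hy, g, hg, e⟩
      refine ⟨dig_lt (h c hc).1 hy, pm c * g, G.mul_mem (h c hc).2 hg, ?_⟩
      rw [mul_smul, e]
      exact pm_pt (h c hc).1 hy) (ix x) (mem_ofMask.1 hx)
  exact ⟨g, hg, by simpa using hy⟩

/-- in-kernel orbit for any action coded on numbers. -/
theorem GensIn.orb {X : Type*} [MulAction (Equiv.Perm GolayPt) X] {gens : List ℕ}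
    {G : Subgroup (Equiv.Perm GolayPt)} (h : GensIn gens G) (dec : ℕ → X) (OK : ℕ → Prop)
    (act : ℕ → ℕ → ℕ) (idx : ℕ → ℕ)
    (hact : ∀ c, validP c = true → pm c ∈ G → ∀ y, OK y →
      OK (act c y) ∧ pm c • dec y = dec (act c y))
    (fuel x0 : ℕ) (h0 : OK x0) (i : ℕ) (hi : (orbSet act idx gens fuel x0).testBit i = true) :
    ∃ y, OK y ∧ idx y = i ∧ ∃ g ∈ G, g • dec x0 = dec y := by
  obtain ⟨y, ⟨hy, g, hg, e⟩, rfl⟩ := orbSet_sound act idx gens fuel x0
    (fun y => OK y ∧ ∃ g ∈ G, g • dec x0 = dec y) ⟨h0, 1, G.one_mem, one_smul _ _⟩ (by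
      rintro c hc y ⟨hy, g, hg, e⟩
      obtain ⟨h1, h2⟩ := hact c (h c hc).1 (h c hc).2 y hy
      exact ⟨h1, pm c * g, G.mul_mem (h c hc).2 hg, by rw [mul_smul, e, h2]⟩) i hi
  exact ⟨y, hy, rfl, g, hg, e⟩

/-- in-kernel orbit of a code word; bit `m` of the result stands for the word `cw m`. -/
def orbCw (gens : List ℕ) (x0 : ℕ) : ℕ := orbSet actM (fun y => Nat.mod y 4096) gens 4096 x0

theorem GensIn.orbCw {gens : List ℕ} {G : Subgroup (Equiv.Perm GolayPt)} (h : GensIn gens G)
    (hG : G ≤ M24) {x0 : ℕ} (h0 : isCw x0 = true) (m : ℕ)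
    (hm : (orbCw gens x0).testBit m = true) : ∃ g ∈ G, g • ofMask x0 = ofMask (cw m) := by
  obtain ⟨y, hy, rfl, g, hg, e⟩ := h.orb ofMask (fun y => isCw y = true) actM
    (fun y => Nat.mod y 4096) (fun c hc hcG y hy => ⟨by
      rw [← ofMask_mem_GC_iff (actM_lt hc y), ← pm_smul_ofMask hc]
      exact smul_mem_GC (hG hcG) (mem_GC_of_isCw hy), pm_smul_ofMask hc y⟩) 4096 x0 h0 m hm
  refine ⟨g, hg, ?_⟩
  rw [e, show Nat.mod y 4096 = y % 4096 from rfl, cw_mod, isCw_iff_eq.1 hy]

/-- `G` is transitive on the code words with a decidable property `f`. -/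
theorem GensIn.trans_cw {gens : List ℕ} {G : Subgroup (Equiv.Perm GolayPt)} (h : GensIn gens G)
    (hG : G ≤ M24) {x0 : ℕ} (h0 : isCw x0 = true) (P : Finset GolayPt → Prop) (f : ℕ → Bool)
    (hf : ∀ m < 4096, P (ofMask (cw m)) → f (cw m) = true)
    (hc : force (H9.orbCw gens x0) (fun S => treeAll (fun m => !f (cw m) || tb S m) 12 0) = true) :
    ∀ s ∈ GC, P s → ∃ g ∈ G, g • ofMask x0 = s := by
  intro s hs hP
  obtain ⟨m, hm, rfl⟩ := exists_cw_of_mem hs
  rw [force_eq, treeAll_iff] at hc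
  have := hc m hm
  rw [hf m hm hP, tb_eq] at this
  exact h.orbCw hG h0 m (by simpa using this)

/-- one step of a stabiliser chain: the order. -/
theorem card_step {G : Subgroup (Equiv.Perm GolayPt)} {gens : List ℕ} (h : GensIn gens G)
    {b : ℕ} (hb : b < 24) (hup : ∀ g ∈ G, g (pt b) ∈ ofMask (orbPt gens b)) :
    Nat.card G = pc (orbPt gens b) * Nat.card ↥(G ⊓ stabilizer _ (pt b)) := by
  rw [card_eq_orbit_mul G (pt b), ← card_ofMask, ← Set.ncard_coe_finset]
  congr 2
  ext x
  exact ⟨fun ⟨g, hg, e⟩ => e ▸ hup g hg, fun hx => h.orbPt hb x hx⟩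

/-- one step of a stabiliser chain: generation. -/
theorem cl_step {G : Subgroup (Equiv.Perm GolayPt)} {gens : List ℕ} (h : GensIn gens G)
    {b : ℕ} (hb : b < 24) (hup : ∀ g ∈ G, g (pt b) ∈ ofMask (orbPt gens b))
    (hst : G ⊓ stabilizer _ (pt b) ≤ cl gens) : cl gens = G :=
  le_antisymm h.cl_le (le_of_orbit_of_stab h.cl_le (pt b)
    (fun g hg => h.self.orbPt hb _ (hup g hg)) hst)

/-- mask of a list of indices. -/
def maskL (l : List ℕ) : ℕ := List.rec 0 (fun i _ r => Nat.lor (Nat.shiftLeft 1 i) r) l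

theorem testBit_maskL (l : List ℕ) (j : ℕ) : (maskL l).testBit j = true ↔ j ∈ l := by
  induction l with
  | nil => simp [maskL]
  | cons i l ih =>
    have : maskL (i :: l) = 1 <<< i ||| maskL l := rfl
    rw [this, Nat.testBit_or, Bool.or_eq_true, ih, Nat.one_shiftLeft, Nat.testBit_two_pow]
    simp [eq_comm]

/-- upper bound for an orbit: the image of `b` lies in any invariant set `s` containing `b`,
outside the fixed points. -/
theorem orbit_up {pts sets : List ℕ} {b s m : ℕ} (hb : b < 24) (hbp : b ∉ pts)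
    (hs : ∀ g ∈ Stab pts sets, g • ofMask s = ofMask s) (hbs : s.testBit b = true)
    (hm : Nat.land s (Nat.xor (maskL pts) 16777215) = m) :
    ∀ g ∈ Stab pts sets, g (pt b) ∈ ofMask m := by
  intro g hg
  rw [← hm]
  change _ ∈ ofMask (s &&& (maskL pts ^^^ 16777215))
  rw [ofMask_and, ofMask_compl, mem_inter, mem_compl]
  constructor
  · rw [← hs g hg]
    exact Finset.smul_mem_smul_finset ((pt_mem_ofMask hb).2 hbs)
  · intro h
    rw [mem_ofMask, testBit_maskL] at h
    have := hg.2.1 _ h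
    rw [pt_ix] at this
    have h2 := g.injective this
    have h3 := congrArg ix h2
    rw [ix_pt hb] at h3
    exact hbp (h3 ▸ h)

theorem smul_full (g : Equiv.Perm GolayPt) : g • ofMask 16777215 = ofMask 16777215 := by
  rw [ofMask_full, Finset.smul_finset_univ]

theorem smul_compl' (g : Equiv.Perm GolayPt) (s : Finset GolayPt) : g • sᶜ = (g • s)ᶜ := by
  ext x
  simp only [← Finset.inv_smul_mem_iff, mem_compl]

/-- an element of `M24` fixing five points of an octad fixes the octad. -/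
theorem smul_octad_of_fix {g : Equiv.Perm GolayPt} (hg : g ∈ M24) {o F : Finset GolayPt}
    (ho : o ∈ octads) (hF : ∀ x ∈ F, g x = x) (h5 : 5 ≤ (o ∩ F).card) : g • o = o := by
  apply octad_eq_of_five ((smul_mem_octads_iff hg).2 ho) ho
  refine h5.trans (card_le_card ?_)
  intro x hx
  rw [mem_inter] at hx ⊢
  refine ⟨?_, hx.1⟩
  rw [← hF x hx.2]
  exact Finset.smul_mem_smul_finset hx.1

/-- Boolean octad test. -/
def isOct (o : ℕ) : Bool := isCw o && Nat.beq (pc o) 8

theorem mem_octads_of_isOct {o : ℕ} (h : isOct o = true) : ofMask o ∈ octads := by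
  simp only [isOct, Bool.and_eq_true, beq_iff] at h
  exact ⟨mem_GC_of_isCw h.1, by rw [card_ofMask, h.2]⟩

theorem ofMask_mem_octads_iff {o : ℕ} (ho : o < 2 ^ 24) : ofMask o ∈ octads ↔ isOct o = true := by
  rw [mem_octads, ofMask_mem_GC_iff ho, card_ofMask, isOct, Bool.and_eq_true, beq_iff]

/-- Boolean dodecad test. -/
def isDod (o : ℕ) : Bool := isCw o && Nat.beq (pc o) 12

theorem mem_dodecads_of_isDod {o : ℕ} (h : isDod o = true) : ofMask o ∈ dodecads := by
  simp only [isDod, Bool.and_eq_true, beq_iff] at h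
  exact ⟨mem_GC_of_isCw h.1, by rw [card_ofMask, h.2]⟩

/-- Propagation of fixed points: each step `(p, o1, o2)` names two octads with five points in the
current fixed set `F` whose intersection outside `F` is the point `p`. Returns the final set. -/
def fixRun (steps : List (ℕ × ℕ × ℕ)) : ℕ → ℕ :=
  List.rec (fun F => F) (fun st _ r F =>
    cond (isOct st.2.1 && isOct st.2.2 && Nat.ble 5 (pc (Nat.land st.2.1 F)) &&
        Nat.ble 5 (pc (Nat.land st.2.2 F)) && Nat.ble st.1 23 &&
        Nat.beq (Nat.land (Nat.land st.2.1 st.2.2) (Nat.xor F 16777215)) (Nat.shiftLeft 1 st.1))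
      (force (Nat.lor F (Nat.shiftLeft 1 st.1)) r) F) steps

theorem fixRun_sound {g : Equiv.Perm GolayPt} (hg : g ∈ M24) (steps : List (ℕ × ℕ × ℕ)) (F : ℕ)
    (hF : ∀ x ∈ ofMask F, g x = x) : ∀ x ∈ ofMask (fixRun steps F), g x = x := by
  induction steps generalizing F with
  | nil => exact hF
  | cons st steps ih =>
    obtain ⟨p, o1, o2⟩ := st
    have e : fixRun ((p, o1, o2) :: steps) F =
      cond (isOct o1 && isOct o2 && Nat.ble 5 (pc (o1 &&& F)) &&
        Nat.ble 5 (pc (o2 &&& F)) && Nat.ble p 23 &&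
        Nat.beq ((o1 &&& o2) &&& (F ^^^ 16777215)) (1 <<< p))
      (force (F ||| (1 <<< p)) (fixRun steps)) F := rfl
    rw [e]
    cases hc : (isOct o1 && isOct o2 && Nat.ble 5 (pc (o1 &&& F)) &&
        Nat.ble 5 (pc (o2 &&& F)) && Nat.ble p 23 &&
        Nat.beq ((o1 &&& o2) &&& (F ^^^ 16777215)) (1 <<< p))
    · exact hF
    · simp only [cond_true, force_eq]
      simp only [Bool.and_eq_true, ble_iff, beq_iff] at hc
      obtain ⟨⟨⟨⟨⟨h1, h2⟩, h3⟩, h4⟩, h5⟩, h6⟩ := hc
      apply ih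
      intro x hx
      rw [ofMask_or, mem_union, Nat.one_shiftLeft, ofMask_two_pow (Nat.lt_succ_of_le h5),
        mem_singleton] at hx
      rcases hx with hx | rfl
      · exact hF x hx
      have h7 := congrArg ofMask h6
      rw [ofMask_and, ofMask_and, ofMask_compl, Nat.one_shiftLeft,
        ofMask_two_pow (Nat.lt_succ_of_le h5)] at h7
      rw [← card_ofMask, ofMask_and] at h3 h4
      have k1 := smul_octad_of_fix hg (mem_octads_of_isOct h1) hF h3
      have k2 := smul_octad_of_fix hg (mem_octads_of_isOct h2) hF h4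
      have hp : pt p ∈ ofMask o1 ∩ ofMask o2 ∩ (ofMask F)ᶜ := h7 ▸ mem_singleton_self _
      rw [← mem_singleton, ← h7]
      simp only [mem_inter, mem_compl] at hp ⊢
      refine ⟨⟨k1 ▸ Finset.smul_mem_smul_finset hp.1.1, k2 ▸ Finset.smul_mem_smul_finset hp.1.2⟩,
        fun h => hp.2 ?_⟩
      have := g.injective (hF _ h)
      exact this ▸ h

theorem Stab_eq_bot {pts sets : List ℕ} (steps : List (ℕ × ℕ × ℕ))
    (h : fixRun steps (maskL pts) = 16777215) : Stab pts sets = ⊥ := by
  rw [eq_bot_iff]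
  intro g hg
  rw [Subgroup.mem_bot]
  ext1 x
  apply fixRun_sound hg.1 steps (maskL pts)
  · intro y hy
    rw [mem_ofMask, testBit_maskL] at hy
    simpa using hg.2.1 _ hy
  · rw [h, ofMask_full]; exact mem_univ x

end H9
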