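import Mathlib
import Cfsg.Prelude.Def_Sporadic_a

/-! Counting in Steiner systems. -/

set_option autoImplicit false
set_option linter.unusedSectionVars false

namespace H9

open Cfsg Finset
open scoped symmDiff

variable {α : Type*} [Fintype α] [DecidableEq α]

/-- the members of `B` with property `P`, as a finset. -/
noncomputable def blk (B : Set (Finset α)) (P : Finset α → Prop) : Finset (Finset α) := by
  classical exact univ.filter fun b => b ∈ B ∧ P b

theorem mem_blk {B : Set (Finset α)} {P : Finset α → Prop} {b : Finset α} :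
    b ∈ blk B P ↔ b ∈ B ∧ P b := by
  simp [blk]

theorem ncard_eq_blk (B : Set (Finset α)) (P : Finset α → Prop) :
    {b | b ∈ B ∧ P b}.ncard = (blk B P).card := by
  rw [← Set.ncard_coe_finset]
  congr 1
  ext b
  simp [mem_blk]

omit [Fintype α] in
theorem card_filter_powersetCard_superset (s b : Finset α) (hsb : s ⊆ b) (t : ℕ)
    (ht : s.card ≤ t) :
    ((powersetCard t b).filter fun u => s ⊆ u).card = (b.card - s.card).choose (t - s.card) := by
  rw [← Finset.card_sdiff_of_subset hsb, ← Finset.card_powersetCard]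
  apply Finset.card_bij (fun u _ => u \ s)
  · intro u hu
    simp only [mem_filter, mem_powersetCard] at hu ⊢
    exact ⟨sdiff_subset_sdiff hu.1.1 (Subset.refl _), by
      rw [Finset.card_sdiff_of_subset hu.2, hu.1.2]⟩
  · intro u hu v hv h
    simp only [mem_filter, mem_powersetCard] at hu hv
    rw [← Finset.sdiff_union_of_subset hu.2, h, Finset.sdiff_union_of_subset hv.2]
  · intro v hv
    simp only [mem_powersetCard] at hv
    have hd : Disjoint v s := Finset.disjoint_of_subset_left hv.1 sdiff_disjoint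
    refine ⟨v ∪ s, ?_, ?_⟩
    · simp only [mem_filter, mem_powersetCard]
      refine ⟨⟨union_subset (hv.1.trans sdiff_subset) hsb, ?_⟩, subset_union_right⟩
      rw [Finset.card_union_of_disjoint hd, hv.2]
      omega
    · rw [Finset.union_sdiff_right, Finset.sdiff_eq_self_of_disjoint hd]

/-- Double counting: the pairs (block through `s`, `t`-set between `s` and the block). -/
theorem sum_blk_superset {t k : ℕ} {B : Set (Finset α)} (hk : ∀ b ∈ B, b.card = k)
    (s : Finset α) (hs : s.card ≤ t) :
    (blk B fun b => s ⊆ b).card * (k - s.card).choose (t - s.card) =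
      ∑ u ∈ (powersetCard t univ).filter (fun u => s ⊆ u), (blk B fun b => u ⊆ b).card := by
  classical
  have h1 : (blk B fun b => s ⊆ b).card * (k - s.card).choose (t - s.card) =
      ∑ b ∈ blk B (fun b => s ⊆ b),
        (((powersetCard t univ).filter (fun u => s ⊆ u)).filter fun u => u ⊆ b).card := by
    rw [Finset.card_eq_sum_ones, Finset.sum_mul]
    apply Finset.sum_congr rfl
    intro b hb
    rw [mem_blk] at hb
    rw [one_mul, ← hk b hb.1, ← card_filter_powersetCard_superset s b hb.2 t hs]
    congr 1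
    ext u
    simp only [mem_filter, mem_powersetCard, subset_univ, true_and]
    tauto
  rw [h1]
  have := Finset.sum_card_bipartiteAbove_eq_sum_card_bipartiteBelow
    (s := blk B (fun b => s ⊆ b)) (t := (powersetCard t univ).filter (fun u => s ⊆ u))
    (fun b u => u ⊆ b)
  simp only [Finset.bipartiteAbove, Finset.bipartiteBelow] at this
  rw [this]
  apply Finset.sum_congr rfl
  intro u hu
  simp only [mem_filter] at hu
  congr 1
  ext b
  simp only [mem_filter, mem_blk]
  exact ⟨fun h => ⟨h.1.1, h.2⟩, fun h => ⟨⟨h.1, hu.2.trans h.2⟩, h.2⟩⟩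

theorem card_blk_eq_one {t k : ℕ} {B : Set (Finset α)} (hB : IsSteinerSystem t k B)
    (u : Finset α) (hu : u.card = t) : (blk B fun b => u ⊆ b).card = 1 := by
  obtain ⟨b, hb, hb'⟩ := hB.2 u hu
  rw [Finset.card_eq_one]
  refine ⟨b, ?_⟩
  ext c
  simp only [mem_blk, mem_singleton]
  exact ⟨fun h => hb' c h, fun h => h ▸ hb⟩

/-- number of blocks through a set of at most `t` points. -/
theorem steiner_through {t k : ℕ} {B : Set (Finset α)} (hB : IsSteinerSystem t k B)
    (s : Finset α) (hs : s.card ≤ t) :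
    (blk B fun b => s ⊆ b).card * (k - s.card).choose (t - s.card) =
      (Fintype.card α - s.card).choose (t - s.card) := by
  rw [sum_blk_superset hB.1 s hs, ← Finset.card_univ,
    ← card_filter_powersetCard_superset s univ (subset_univ _) t hs, Finset.card_eq_sum_ones]
  apply Finset.sum_congr rfl
  intro u hu
  simp only [mem_filter, mem_powersetCard] at hu
  exact card_blk_eq_one hB u hu.1.2

theorem steiner_block_count {t k : ℕ} {B : Set (Finset α)} (hB : IsSteinerSystem t k B) :
    B.ncard * Nat.choose k t = Nat.choose (Fintype.card α) t := by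
  have := steiner_through hB ∅ (by simp)
  rw [← ncard_eq_blk] at this
  simpa using this

/-- A packing with the right number of blocks is a Steiner system. -/
theorem steiner_of_packing {t k : ℕ} {B : Set (Finset α)} (hk : ∀ b ∈ B, b.card = k)
    (hp : ∀ b ∈ B, ∀ c ∈ B, t ≤ (b ∩ c).card → b = c)
    (hn : B.ncard * Nat.choose k t = Nat.choose (Fintype.card α) t) : IsSteinerSystem t k B := by
  refine ⟨hk, fun s hs => ?_⟩
  have h := sum_blk_superset (t := t) hk ∅ (by simp)
  rw [← ncard_eq_blk] at h
  simp only [empty_subset, and_true, Set.ofPred_mem_eq, card_empty, tsub_zero, filter_true] at h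
  rw [hn, ← Finset.card_univ, ← Finset.card_powersetCard, Finset.card_eq_sum_ones] at h
  have hle : ∀ u ∈ powersetCard t (univ : Finset α), (blk B fun b => u ⊆ b).card ≤ 1 := by
    intro u hu
    rw [Finset.card_le_one]
    intro b hb c hc
    rw [mem_blk] at hb hc
    apply hp b hb.1 c hc.1
    rw [← (mem_powersetCard.1 hu).2]
    exact card_le_card (subset_inter hb.2 hc.2)
  have := (Finset.sum_eq_sum_iff_of_le hle).1 h.symm s (mem_powersetCard.2 ⟨subset_univ _, hs⟩)
  obtain ⟨b, hb⟩ := Finset.card_eq_one.1 this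
  refine ⟨b, mem_blk.1 (hb ▸ mem_singleton_self b), fun c hc => ?_⟩
  exact mem_singleton.1 (hb ▸ mem_blk.2 hc)

omit [Fintype α] in
theorem steiner_eq_of_le {t k : ℕ} {B : Set (Finset α)} (hB : IsSteinerSystem t k B)
    {b c : Finset α} (hb : b ∈ B) (hc : c ∈ B) (h : t ≤ (b ∩ c).card) : b = c := by
  obtain ⟨u, hu, hut⟩ := Finset.exists_subset_card_eq h
  obtain ⟨d, _, hd⟩ := hB.2 u hut
  rw [hd b ⟨hb, hu.trans inter_subset_left⟩, hd c ⟨hc, hu.trans inter_subset_right⟩]

/-- number of blocks through `i` points (of a block, when `i > t`). -/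
def lam (v t k i : ℕ) : ℕ := if i ≤ t then (v - i).choose (t - i) / (k - i).choose (t - i) else 1

theorem steiner_lam_le {t k : ℕ} {B : Set (Finset α)} (hB : IsSteinerSystem t k B) (htk : t ≤ k)
    (s : Finset α) (hs : s.card ≤ t) :
    (blk B fun b => s ⊆ b).card = lam (Fintype.card α) t k s.card := by
  rw [lam, if_pos hs, ← steiner_through hB s hs, Nat.mul_div_cancel]
  exact Nat.choose_pos (by omega)

theorem steiner_lam {t k : ℕ} {B : Set (Finset α)} (hB : IsSteinerSystem t k B) (htk : t ≤ k)
    {b : Finset α} (hb : b ∈ B) (s : Finset α) (hs : s ⊆ b) :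
    (blk B fun b => s ⊆ b).card = lam (Fintype.card α) t k s.card := by
  by_cases h : s.card ≤ t
  · exact steiner_lam_le hB htk s h
  · rw [lam, if_neg h, Finset.card_eq_one]
    refine ⟨b, ?_⟩
    ext c
    simp only [mem_blk, mem_singleton]
    refine ⟨fun hc => steiner_eq_of_le hB hc.1 hb ?_, fun hc => hc ▸ ⟨hb, hs⟩⟩
    have := card_le_card (subset_inter hc.2 hs)
    omega

/-- Inclusion-exclusion: members containing `s` and avoiding `r`. -/
theorem blk_avoid (B : Set (Finset α)) (s r : Finset α) :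
    ((blk B fun c => s ⊆ c ∧ Disjoint r c).card : ℤ) =
      ∑ u ∈ r.powerset, (-1 : ℤ) ^ u.card * (blk B fun c => s ∪ u ⊆ c).card := by
  classical
  have h1 : ∀ u : Finset α, ((blk B fun c => s ∪ u ⊆ c).card : ℤ) =
      ∑ c ∈ blk B (fun c => s ⊆ c), if u ⊆ c then 1 else 0 := by
    intro u
    rw [Finset.sum_boole]
    congr 2
    ext c
    simp only [mem_blk, mem_filter, union_subset_iff]
    tauto
  simp only [h1, Finset.mul_sum]
  rw [Finset.sum_comm]
  have h2 : ∀ c : Finset α, (∑ u ∈ r.powerset, (-1 : ℤ) ^ u.card * if u ⊆ c then 1 else 0) =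
      if Disjoint r c then 1 else 0 := by
    intro c
    have : (∑ u ∈ r.powerset, (-1 : ℤ) ^ u.card * if u ⊆ c then 1 else 0) =
        ∑ u ∈ (r ∩ c).powerset, (-1 : ℤ) ^ u.card := by
      simp only [mul_ite, mul_one, mul_zero]
      rw [← Finset.sum_filter]
      congr 1
      ext u
      simp only [mem_filter, mem_powerset, subset_inter_iff]
    rw [this, Finset.sum_powerset_neg_one_pow_card]
    simp only [Finset.disjoint_iff_inter_eq_empty]
  simp only [h2]
  rw [Finset.sum_boole]
  congr 2
  ext c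
  simp only [mem_blk, mem_filter]
  tauto

/-- number of blocks containing `i` given points and avoiding `j` others. -/
def avoidNum (v t k i j : ℕ) : ℤ :=
  ∑ m ∈ range (j + 1), (j.choose m : ℤ) * ((-1) ^ m * (lam v t k (i + m) : ℤ))

theorem avoid_aux {v t k : ℕ} {B : Set (Finset α)} (s r : Finset α) (hd : Disjoint s r)
    (h : ∀ u ⊆ r, (blk B fun c => s ∪ u ⊆ c).card = lam v t k (s ∪ u).card) :
    ((blk B fun c => s ⊆ c ∧ Disjoint r c).card : ℤ) = avoidNum v t k s.card r.card := by
  rw [blk_avoid, avoidNum]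
  have := Finset.sum_powerset_apply_card
    (fun m => (-1 : ℤ) ^ m * (lam v t k (s.card + m) : ℤ)) (x := r)
  simp only [nsmul_eq_mul] at this
  rw [← this]
  apply Finset.sum_congr rfl
  intro u hu
  rw [mem_powerset] at hu
  rw [h u hu, Finset.card_union_of_disjoint (hd.mono_right hu)]

/-- blocks containing `s` and avoiding `r`, when `|s| + |r| ≤ t`. -/
theorem steiner_avoid_le {t k : ℕ} {B : Set (Finset α)} (hB : IsSteinerSystem t k B)
    (htk : t ≤ k) (s r : Finset α) (hd : Disjoint s r) (hsr : s.card + r.card ≤ t) :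
    ((blk B fun c => s ⊆ c ∧ Disjoint r c).card : ℤ) =
      avoidNum (Fintype.card α) t k s.card r.card := by
  apply avoid_aux s r hd
  intro u hu
  apply steiner_lam_le hB htk
  have := card_union_le s u
  have := card_le_card hu
  omega

/-- blocks containing `s` and avoiding `r`, when `s ∪ r` lies in a block. -/
theorem steiner_avoid {t k : ℕ} {B : Set (Finset α)} (hB : IsSteinerSystem t k B)
    (htk : t ≤ k) {b : Finset α} (hb : b ∈ B) (s r : Finset α) (hd : Disjoint s r)
    (hs : s ⊆ b) (hr : r ⊆ b) :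
    ((blk B fun c => s ⊆ c ∧ Disjoint r c).card : ℤ) =
      avoidNum (Fintype.card α) t k s.card r.card := by
  apply avoid_aux s r hd
  intro u hu
  exact steiner_lam hB htk hb _ (union_subset hs (hu.trans hr))

/-- blocks meeting the block `b` exactly in `s`. -/
theorem steiner_meet {t k : ℕ} {B : Set (Finset α)} (hB : IsSteinerSystem t k B)
    (htk : t ≤ k) {b : Finset α} (hb : b ∈ B) (s : Finset α) (hs : s ⊆ b) :
    ({c | c ∈ B ∧ b ∩ c = s}.ncard : ℤ) =
      avoidNum (Fintype.card α) t k s.card (k - s.card) := by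
  have := steiner_avoid hB htk hb s (b \ s) disjoint_sdiff hs sdiff_subset
  rw [Finset.card_sdiff_of_subset hs, hB.1 b hb] at this
  rw [← this, ncard_eq_blk]
  congr 2
  ext c
  simp only [mem_blk, and_congr_right_iff]
  intro _
  constructor
  · rintro rfl
    refine ⟨inter_subset_right, ?_⟩
    rw [Finset.disjoint_left]
    intro x hx hxc
    simp only [mem_sdiff, mem_inter] at hx
    tauto
  · rintro ⟨h1, h2⟩
    ext x
    rw [Finset.disjoint_left] at h2
    simp only [mem_inter]
    constructor
    · rintro ⟨hxb, hxc⟩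
      by_contra hxs
      exact h2 (mem_sdiff.2 ⟨hxb, hxs⟩) hxc
    · intro hx
      exact ⟨hs hx, h1 hx⟩

/-- two blocks meet in a number of points whose intersection number is not zero. -/
theorem steiner_meet_ne_zero {t k : ℕ} {B : Set (Finset α)} (hB : IsSteinerSystem t k B)
    (htk : t ≤ k) {b c : Finset α} (hb : b ∈ B) (hc : c ∈ B) :
    avoidNum (Fintype.card α) t k (b ∩ c).card (k - (b ∩ c).card) ≠ 0 := by
  rw [← steiner_meet hB htk hb _ inter_subset_left]
  have : {d | d ∈ B ∧ b ∩ d = b ∩ c}.ncard ≠ 0 :=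
    Set.ncard_ne_zero_of_mem (a := c) ⟨hc, rfl⟩
  exact_mod_cast this

theorem steiner_inter_lt {t k : ℕ} {B : Set (Finset α)} (hB : IsSteinerSystem t k B)
    {b c : Finset α} (hb : b ∈ B) (hc : c ∈ B) (hbc : b ≠ c) : (b ∩ c).card < t := by
  by_contra h
  exact hbc (steiner_eq_of_le hB hb hc (by omega))

theorem steiner_derived {t k : ℕ} {B : Set (Finset α)} (hB : IsSteinerSystem (t + 1) (k + 1) B)
    (p : α) : IsSteinerSystem t k {b' : Finset {a : α // a ≠ p} |
      ∃ b ∈ B, p ∈ b ∧ b' = Finset.subtype (fun a => a ≠ p) b} := by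
  constructor
  · rintro b' ⟨b, hb, hp, rfl⟩
    rw [Finset.card_subtype, Finset.filter_ne', Finset.card_erase_of_mem hp, hB.1 b hb]
    rfl
  · intro s hs
    have hps : p ∉ s.map (Function.Embedding.subtype _) := by
      simp
    obtain ⟨b, ⟨hb, hsb⟩, hu⟩ := hB.2 (insert p (s.map (Function.Embedding.subtype _)))
      (by rw [card_insert_of_notMem hps, card_map, hs])
    refine ⟨Finset.subtype (fun a => a ≠ p) b, ⟨⟨b, hb, hsb (mem_insert_self _ _), rfl⟩, ?_⟩, ?_⟩
    · intro x hx
      rw [Finset.mem_subtype]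
      exact hsb (mem_insert_of_mem (mem_map_of_mem _ hx))
    · rintro c' ⟨⟨c, hc, hpc, rfl⟩, hsc⟩
      rw [hu c ⟨hc, ?_⟩]
      intro x hx
      rcases mem_insert.1 hx with rfl | hx
      · exact hpc
      · obtain ⟨y, hy, rfl⟩ := mem_map.1 hx
        exact Finset.mem_subtype.1 (hsc hy)

theorem s5824_inter (hα : Fintype.card α = 24) {B : Set (Finset α)}
    (hB : IsSteinerSystem 5 8 B) {b c : Finset α} (hb : b ∈ B) (hc : c ∈ B) (hbc : b ≠ c) :
    (b ∩ c).card = 0 ∨ (b ∩ c).card = 2 ∨ (b ∩ c).card = 4 := by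
  have h1 := steiner_meet_ne_zero hB (by norm_num) hb hc
  have h2 := steiner_inter_lt hB hb hc hbc
  rw [hα] at h1
  generalize (b ∩ c).card = i at h1 h2
  revert h1
  revert i
  decide +kernel

theorem s4723_inter (hα : Fintype.card α = 23) {B : Set (Finset α)}
    (hB : IsSteinerSystem 4 7 B) {b c : Finset α} (hb : b ∈ B) (hc : c ∈ B) (hbc : b ≠ c) :
    (b ∩ c).card = 1 ∨ (b ∩ c).card = 3 := by
  have h1 := steiner_meet_ne_zero hB (by norm_num) hb hc
  have h2 := steiner_inter_lt hB hb hc hbc
  rw [hα] at h1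
  generalize (b ∩ c).card = i at h1 h2
  revert h1
  revert i
  decide +kernel

theorem s3622_inter (hα : Fintype.card α = 22) {B : Set (Finset α)}
    (hB : IsSteinerSystem 3 6 B) {b c : Finset α} (hb : b ∈ B) (hc : c ∈ B) (hbc : b ≠ c) :
    (b ∩ c).card = 0 ∨ (b ∩ c).card = 2 := by
  have h1 := steiner_meet_ne_zero hB (by norm_num) hb hc
  have h2 := steiner_inter_lt hB hb hc hbc
  rw [hα] at h1
  generalize (b ∩ c).card = i at h1 h2
  revert h1
  revert i
  decide +kernel

theorem s5824_disjoint (hα : Fintype.card α = 24) {B : Set (Finset α)}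
    (hB : IsSteinerSystem 5 8 B) {b : Finset α} (hb : b ∈ B) :
    {c : Finset α | c ∈ B ∧ Disjoint b c}.ncard = 30 := by
  have h := steiner_meet hB (by norm_num) hb ∅ (empty_subset _)
  rw [hα, show avoidNum 24 5 8 (∅ : Finset α).card (8 - (∅ : Finset α).card) = 30 from by
    rw [card_empty]; decide +kernel] at h
  simp only [Finset.disjoint_iff_inter_eq_empty]
  exact_mod_cast h

theorem s5612_compl (hα : Fintype.card α = 12) {B : Set (Finset α)}
    (hB : IsSteinerSystem 5 6 B) {b : Finset α} (hb : b ∈ B) : bᶜ ∈ B := by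
  have h := steiner_meet hB (by norm_num) hb ∅ (empty_subset _)
  rw [hα, show avoidNum 12 5 6 (∅ : Finset α).card (6 - (∅ : Finset α).card) = 1 from by
    rw [card_empty]; decide +kernel] at h
  have h' : {c | c ∈ B ∧ b ∩ c = ∅}.ncard ≠ 0 := by omega
  obtain ⟨c, hc, hbc⟩ := Set.nonempty_of_ncard_ne_zero h'
  have : c = bᶜ := by
    apply Finset.eq_of_subset_of_card_le
    · intro x hx
      rw [mem_compl]
      intro hxb
      have : x ∈ b ∩ c := mem_inter.2 ⟨hxb, hx⟩
      simp [hbc] at this
    · rw [card_compl, hα, hB.1 b hb, hB.1 c hc]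
  exact this ▸ hc

omit [Fintype α] in
theorem card_symmDiff_add' (s t : Finset α) :
    (s ∆ t).card + 2 * (s ∩ t).card = s.card + t.card := by
  have h1 : (s ∆ t).card = (s \ t).card + (t \ s).card := by
    rw [symmDiff_def, Finset.sup_eq_union, Finset.card_union_of_disjoint]
    exact disjoint_sdiff_sdiff
  have h2 := Finset.card_sdiff_add_card_inter s t
  have h3 := Finset.card_sdiff_add_card_inter t s
  rw [Finset.inter_comm t s] at h3
  omega

omit [Fintype α] in
theorem inter_symmDiff_parity (d s t : Finset α) :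
    (d ∩ (s ∆ t)).card % 2 = ((d ∩ s).card + (d ∩ t).card) % 2 := by
  have := card_symmDiff_add' (d ∩ s) (d ∩ t)
  have e : d ∩ (s ∆ t) = (d ∩ s) ∆ (d ∩ t) := inf_symmDiff_distrib_left d s t
  rw [e]
  omega

theorem s5824_even (hα : Fintype.card α = 24) {B : Set (Finset α)}
    (hB : IsSteinerSystem 5 8 B) {b c : Finset α} (hb : b ∈ B) (hc : c ∈ B) :
    (b ∩ c).card % 2 = 0 := by
  by_cases h : b = c
  · subst h; rw [inter_self, hB.1 b hb]
  · have := s5824_inter hα hB hb hc h
    omega

/-- In `S(5,8,24)` a non-empty set of at most five points meets some block in an odd number of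
points. -/
theorem s5824_odd_small (hα : Fintype.card α = 24) {B : Set (Finset α)}
    (hB : IsSteinerSystem 5 8 B) (w : Finset α) (h0 : 0 < w.card) (h5 : w.card ≤ 5) :
    ∃ d ∈ B, (d ∩ w).card % 2 = 1 := by
  obtain ⟨x, hx⟩ := Finset.card_pos.1 h0
  have h := steiner_avoid_le hB (by norm_num) {x} (w.erase x) (by simp)
    (by rw [card_singleton, card_erase_of_mem hx]; omega)
  rw [hα, card_singleton, card_erase_of_mem hx] at h
  have hne : avoidNum 24 5 8 1 (w.card - 1) ≠ 0 := by
    generalize w.card = n at h0 h5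
    revert h0
    revert n
    decide +kernel
  have : (blk B fun c => {x} ⊆ c ∧ Disjoint (w.erase x) c).card ≠ 0 := by omega
  obtain ⟨d, hd⟩ := Finset.card_ne_zero.1 this
  rw [mem_blk] at hd
  refine ⟨d, hd.1, ?_⟩
  have : d ∩ w = {x} := by
    ext y
    simp only [mem_inter, mem_singleton]
    constructor
    · rintro ⟨h1, h2⟩
      by_contra hne
      exact Finset.disjoint_left.1 hd.2.2 (mem_erase.2 ⟨hne, h2⟩) h1
    · rintro rfl
      exact ⟨hd.2.1 (mem_singleton_self _), hx⟩
  rw [this, card_singleton]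

/-- In `S(5,8,24)` a non-empty set meeting every block evenly has at least 8 points, and is a
block if it has exactly 8. -/
theorem s5824_even_set (hα : Fintype.card α = 24) {B : Set (Finset α)}
    (hB : IsSteinerSystem 5 8 B) (w : Finset α) (h0 : 0 < w.card) (h8 : w.card ≤ 8)
    (hw : ∀ d ∈ B, (d ∩ w).card % 2 = 0) : w ∈ B := by
  have h5 : 5 < w.card := by
    by_contra h
    obtain ⟨d, hd, h⟩ := s5824_odd_small hα hB w h0 (by omega)
    have := hw d hd
    omega
  obtain ⟨u, hu, hu5⟩ := Finset.exists_subset_card_eq h5.le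
  obtain ⟨d, ⟨hd, hud⟩, -⟩ := hB.2 u hu5
  have h1 := card_le_card (subset_inter hud hu)
  have h2 := hw d hd
  have h3 := card_symmDiff_add' d w
  have h4 := hB.1 d hd
  by_cases h : (d ∆ w).card = 0
  · rw [Finset.card_eq_zero] at h
    exact (symmDiff_eq_bot.1 h) ▸ hd
  · obtain ⟨e, he, h⟩ := s5824_odd_small hα hB (d ∆ w) (by omega) (by omega)
    rw [inter_symmDiff_parity] at h
    have := hw e he
    have := s5824_even hα hB he hd
    omega

theorem s5824_symmDiff (hα : Fintype.card α = 24) {B : Set (Finset α)}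
    (hB : IsSteinerSystem 5 8 B) {b c : Finset α} (hb : b ∈ B) (hc : c ∈ B)
    (h4 : (b ∩ c).card = 4) : symmDiff b c ∈ B := by
  have h3 := card_symmDiff_add' b c
  have := hB.1 b hb
  have := hB.1 c hc
  apply s5824_even_set hα hB _ (by omega) (by omega)
  intro d hd
  rw [inter_symmDiff_parity]
  have := s5824_even hα hB hd hb
  have := s5824_even hα hB hd hc
  omega

end H9
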