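import Mathlib
import Cfsg.Prelude.Def_Spor_Mathieu
import Cfsg.Agent.H9.Perm24
import Cfsg.Agent.H9.Steiner

/-! Stabiliser chains of `M24` and `M12`: orders, generators, transitivity, simplicity. -/

set_option autoImplicit false

namespace H9

open Cfsg Finset MulAction
open scoped symmDiff Pointwise

theorem octads_steiner : IsSteinerSystem 5 8 octads :=
  steiner_of_packing (fun _ hb => hb.2) (fun _ hb _ hc h => octad_eq_of_five hb hc h)
    (by rw [ncard_octads, card_golayPt]; decide +kernel)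

/-- self-duality: a set meeting every octad evenly is a code word. -/
theorem mem_GC_of_even (w : Finset GolayPt) (hw : ∀ o ∈ octads, (o ∩ w).card % 2 = 0) :
    w ∈ GC := by
  obtain ⟨n, hn, rfl⟩ := exists_mask w
  have hc : treeAll (fun m => Nat.beq m 0 ||
      anyL basL fun b => Nat.beq (Nat.mod (pc (Nat.land b (Nat.mul m 4096))) 2) 1) 12 0 = true := by
    decide +kernel
  rw [treeAll_iff] at hc
  have h1 : (n ^^^ cw n) % 4096 = 0 := by
    have := Nat.xor_mod_two_pow (a := n) (b := cw n) (n := 12)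
    norm_num at this
    rw [this, cw_mod_self, Nat.xor_self]
  have h2 : n ^^^ cw n < 2 ^ 24 := Nat.xor_lt_two_pow hn (cw_lt n)
  obtain ⟨m, hm⟩ : ∃ m, n ^^^ cw n = m * 4096 := ⟨(n ^^^ cw n) / 4096, by omega⟩
  have h3 := hc m (by omega)
  simp only [Bool.or_eq_true, beq_iff, anyL_iff] at h3
  rcases h3 with rfl | ⟨b, hb, h3⟩
  · rw [zero_mul, Nat.xor_eq_zero_iff] at hm
    rw [hm]; exact cw_mem_GC n
  · exfalso
    change pc (b &&& (m * 4096)) % 2 = 1 at h3
    rw [← hm, ← card_ofMask, ofMask_and, ofMask_xor, inter_symmDiff_parity] at h3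
    have := hw _ (basL_octads b hb)
    have := even_inter_of_mem_GC (basL_mem b hb) (cw_mem_GC n)
    omega

def g24 : List ℕ := [956302485175575353788796878166559809, 1795248432537898728475572672376535, 974380510768821363662145534143076928]

def g23 : List ℕ := [955837927910459063655794781286600258, 983478296959358443554250846857397270]

def g23W : List (List ℕ) := [[1, 2, 1, 2, 2, 0], [1, 0, 1, 2, 2, 2, 2, 2, 0, 1]]

def g22 : List ℕ := [968736395776853395790286046220409280, 974008873349282225487504487540640160]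

def g22W : List (List ℕ) := [[1, 0, 1, 0, 1, 1, 1, 0, 1, 0, 0, 0, 1, 1, 0, 1, 1], [1, 0, 1, 0, 1, 1, 0, 1, 1, 1, 0, 1]]

def g21 : List ℕ := [959734792278201199218389937128321056, 959743430993116082208874014000160800]

def g21W : List (List ℕ) := [[1, 0, 0, 0, 0, 0, 1, 0, 0, 0], [0, 0, 1, 1, 0, 0, 0, 0, 1, 0, 0, 0, 0, 0]]

def g20 : List ℕ := [975767893687618906148264699718141984, 963387251845851716769057140306020384]

def g20W : List (List ℕ) := [[1, 0, 1, 1, 1, 1, 0, 1, 1], [0, 0, 0, 0, 0, 0, 1, 0, 0, 1, 0, 1, 1, 1]]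

def g48 : List ℕ := [970452748381697609285226999098476576, 982125237077252311731715764534741024, 972606645568131968584696805283956768]

def g48W : List (List ℕ) := [[1, 1, 1, 1, 0, 0, 0, 0, 1, 1, 0, 0], [0, 1, 0, 0, 0, 0, 0, 1, 1, 0, 1, 1, 1, 1], [0, 1, 0, 1, 0, 0, 0, 1, 0, 1, 0, 1, 1]]

def g16 : List ℕ := [961365507626256404119956257276790816, 970499966350631336865513127433832480, 972512676110088067912772961567868960, 980224387687010295957922729495201824]

def g16W : List (List ℕ) := [[0, 0, 1, 0, 0], [1, 0, 0, 0, 1, 2], [0, 1, 2, 0, 0, 2, 0, 0, 2, 0, 1, 0, 0], [0, 2, 1, 0, 2, 0, 0, 0, 2, 2, 2, 0]]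

def fixCert : List (ℕ × ℕ × ℕ) := [(13, 12656663, 8663097), (20, 3416079, 9543722), (21, 3416079, 11538486), (19, 11100169, 12222476), (18, 9347075, 10305542), (15, 9347075, 13938692), (17, 9347075, 9347075), (12, 13938692, 10170384), (22, 13062145, 13938692), (16, 13062145, 10170384), (14, 13062145, 13062145), (6, 15515712, 15515712), (7, 2019456, 2019456), (8, 4038912, 4038912), (9, 8077824, 8077824), (10, 11654144, 11654144), (11, 14919680, 14919680)]

def g12 : List ℕ := [975557569908516886455945534043850898, 923564239524772953244823246140933640]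

def g11 : List ℕ := [928434565738081112014073086298429536, 804467830695168744823525685581717600]

def g11W : List (List ℕ) := [[0, 1, 0, 0, 1, 0, 1, 0, 0, 0], [0, 0, 0, 1, 0, 0, 1, 1, 0, 0, 1, 1, 1]]

def g10 : List ℕ := [233073175105403522818261856154816544, 609109567845504047295996569691893792]

def g10W : List (List ℕ) := [[0, 0, 0, 0, 1, 1, 0, 1, 1, 1, 1, 1, 1], [1, 1, 0, 1, 1, 1, 1, 1, 0, 0, 0, 1, 1]]

def g9 : List ℕ := [304382488815307602047787978285647904, 849862808090484735685470734032308256]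

def g9W : List (List ℕ) := [[1, 0, 0, 0, 0, 0, 0, 0, 1, 0], [0, 0, 1, 1, 1, 0, 1]]

def g8 : List ℕ := [609271311764373893382231684089481248, 719923664328491199848526586197411872]

def g8W : List (List ℕ) := [[0, 1, 1, 1, 1, 0, 1, 1, 1], [0, 1, 1, 0, 0, 1, 1]]

def g11a : List ℕ := [978042712644977497017376040487033216, 977909585426348894413409432920917120]

def g11b : List ℕ := [981652558413283068122039129386598464, 970283266291841422874497962259947584]

/-- the octad through the points `23, 0, 1, 2, 3`. -/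
def oct0 : ℕ := 8536111

/-- the dodecad of squares. -/
def dod0 : ℕ := 340831

theorem oct0_mem : ofMask oct0 ∈ octads := mem_octads_of_isOct (by decide +kernel)

theorem dod0_mem : ofMask dod0 ∈ dodecads := mem_dodecads_of_isDod (by decide +kernel)

theorem squareDodecad_eq : Spor.squareDodecad = ofMask dod0 := support_qrWord 0

theorem gi24 : GensIn g24 (Stab [] []) := gensIn_Stab (by decide +kernel)
theorem gi23 : GensIn g23 (Stab [23] []) := gensIn_Stab (by decide +kernel)
theorem gi22 : GensIn g22 (Stab [0, 23] []) := gensIn_Stab (by decide +kernel)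
theorem gi21 : GensIn g21 (Stab [1, 0, 23] []) := gensIn_Stab (by decide +kernel)
theorem gi20 : GensIn g20 (Stab [2, 1, 0, 23] []) := gensIn_Stab (by decide +kernel)
theorem gi48 : GensIn g48 (Stab [3, 2, 1, 0, 23] []) := gensIn_Stab (by decide +kernel)
theorem gi16 : GensIn g16 (Stab [5, 3, 2, 1, 0, 23] []) := gensIn_Stab (by decide +kernel)

theorem stab7_bot : Stab [4, 5, 3, 2, 1, 0, 23] [] = ⊥ := Stab_eq_bot fixCert (by decide +kernel)

theorem smul_oct0 {pts sets : List ℕ} (h : 5 ≤ pc (oct0 &&& maskL pts)) :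
    ∀ g ∈ Stab pts sets, g • ofMask oct0 = ofMask oct0 := by
  intro g hg
  apply smul_octad_of_fix hg.1 oct0_mem (F := ofMask (maskL pts))
  · intro y hy
    rw [mem_ofMask, testBit_maskL] at hy
    simpa using hg.2.1 _ hy
  · rwa [← ofMask_and, card_ofMask]

theorem up24 : ∀ g ∈ Stab [] [], g (pt 23) ∈ ofMask (orbPt g24 23) :=
  orbit_up (by decide) (by decide) (fun g _ => smul_full g) (by decide) (by decide +kernel)
theorem up23 : ∀ g ∈ Stab [23] [], g (pt 0) ∈ ofMask (orbPt g23 0) :=
  orbit_up (by decide) (by decide) (fun g _ => smul_full g) (by decide) (by decide +kernel)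
theorem up22 : ∀ g ∈ Stab [0, 23] [], g (pt 1) ∈ ofMask (orbPt g22 1) :=
  orbit_up (by decide) (by decide) (fun g _ => smul_full g) (by decide) (by decide +kernel)
theorem up21 : ∀ g ∈ Stab [1, 0, 23] [], g (pt 2) ∈ ofMask (orbPt g21 2) :=
  orbit_up (by decide) (by decide) (fun g _ => smul_full g) (by decide) (by decide +kernel)
theorem up20 : ∀ g ∈ Stab [2, 1, 0, 23] [], g (pt 3) ∈ ofMask (orbPt g20 3) :=
  orbit_up (by decide) (by decide) (fun g _ => smul_full g) (by decide) (by decide +kernel)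
theorem up48 : ∀ g ∈ Stab [3, 2, 1, 0, 23] [], g (pt 5) ∈ ofMask (orbPt g48 5) :=
  orbit_up (by decide) (by decide) (smul_oct0 (by decide +kernel)) (by decide)
    (by decide +kernel)
theorem up16 : ∀ g ∈ Stab [5, 3, 2, 1, 0, 23] [], g (pt 4) ∈ ofMask (orbPt g16 4) :=
  orbit_up (s := oct0 ^^^ 16777215) (by decide) (by decide)
    (fun g hg => by rw [ofMask_compl, smul_compl', smul_oct0 (by decide +kernel) g hg])
    (by decide) (by decide +kernel)

theorem card_level {pts sets gens : List ℕ} (h : GensIn gens (Stab pts sets)) {b : ℕ}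
    (hb : b < 24) (hup : ∀ g ∈ Stab pts sets, g (pt b) ∈ ofMask (orbPt gens b)) {n m : ℕ}
    (hn : Nat.card (Stab (b :: pts) sets) = n) (hm : pc (orbPt gens b) * n = m) :
    Nat.card (Stab pts sets) = m := by
  rw [card_step h hb hup, Stab_cons_pt, hn, hm]

theorem card_level' {pts sets gens : List ℕ} (h : GensIn gens (Stab pts sets)) {b : ℕ}
    (hb : b < 24) (hup : ∀ g ∈ Stab pts sets, g (pt b) ∈ ofMask (orbPt gens b)) {n m : ℕ}
    (hm : Nat.card (Stab pts sets) = m) (hn : pc (orbPt gens b) * n = m) (h0 : m ≠ 0) :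
    Nat.card (Stab (b :: pts) sets) = n := by
  rw [card_step h hb hup, Stab_cons_pt, ← hn] at hm
  refine Nat.eq_of_mul_eq_mul_left (Nat.pos_of_ne_zero ?_) hm
  rintro h
  rw [h, zero_mul] at hn
  exact h0 hn.symm

theorem cl_level {pts sets gens gens' : List ℕ} (h : GensIn gens (Stab pts sets)) {b : ℕ}
    (hb : b < 24) (hup : ∀ g ∈ Stab pts sets, g (pt b) ∈ ofMask (orbPt gens b))
    (h' : cl gens' = Stab (b :: pts) sets) (ws : List (List ℕ))
    (hw : ws.map (evalW gens) = gens') : cl gens = Stab pts sets :=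
  cl_step h hb hup (by rw [Stab_cons_pt, ← h']; exact (h.self.of_words ws hw).cl_le)

theorem cl_nil : cl [] = ⊥ := by simp [cl]

theorem card_s7 : Nat.card (Stab [4, 5, 3, 2, 1, 0, 23] []) = 1 := by
  rw [stab7_bot, Subgroup.card_bot]
theorem card_s6 : Nat.card (Stab [5, 3, 2, 1, 0, 23] []) = 16 :=
  card_level gi16 (by decide) up16 card_s7 (by decide +kernel)
theorem card_s5 : Nat.card (Stab [3, 2, 1, 0, 23] []) = 48 :=
  card_level gi48 (by decide) up48 card_s6 (by decide +kernel)
theorem card_s4 : Nat.card (Stab [2, 1, 0, 23] []) = 960 :=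
  card_level gi20 (by decide) up20 card_s5 (by decide +kernel)
theorem card_s3 : Nat.card (Stab [1, 0, 23] []) = 20160 :=
  card_level gi21 (by decide) up21 card_s4 (by decide +kernel)
theorem card_s2 : Nat.card (Stab [0, 23] []) = 443520 :=
  card_level gi22 (by decide) up22 card_s3 (by decide +kernel)
theorem card_s1 : Nat.card (Stab [23] []) = 10200960 :=
  card_level gi23 (by decide) up23 card_s2 (by decide +kernel)
theorem card_s0 : Nat.card (Stab [] []) = 244823040 :=
  card_level gi24 (by decide) up24 card_s1 (by decide +kernel)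

theorem card_M24 : Nat.card M24 = 244823040 := by rw [← Stab_nil]; exact card_s0

theorem cl_g16 : cl g16 = Stab [5, 3, 2, 1, 0, 23] [] :=
  cl_level gi16 (by decide) up16 (cl_nil.trans stab7_bot.symm) [] rfl
theorem cl_g48 : cl g48 = Stab [3, 2, 1, 0, 23] [] :=
  cl_level gi48 (by decide) up48 cl_g16 g16W (by decide +kernel)
theorem cl_g20 : cl g20 = Stab [2, 1, 0, 23] [] :=
  cl_level gi20 (by decide) up20 cl_g48 g48W (by decide +kernel)
theorem cl_g21 : cl g21 = Stab [1, 0, 23] [] :=
  cl_level gi21 (by decide) up21 cl_g20 g20W (by decide +kernel)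
theorem cl_g22 : cl g22 = Stab [0, 23] [] :=
  cl_level gi22 (by decide) up22 cl_g21 g21W (by decide +kernel)
theorem cl_g23 : cl g23 = Stab [23] [] :=
  cl_level gi23 (by decide) up23 cl_g22 g22W (by decide +kernel)
theorem cl_g24 : cl g24 = M24 :=
  (cl_level gi24 (by decide) up24 cl_g23 g23W (by decide +kernel)).trans Stab_nil

/-! ### Multiple transitivity -/

/-- one step of multiple transitivity on the set with mask `s`. -/
theorem transL_level {pts sets gens : List ℕ} (h : GensIn gens (Stab pts sets)) {b s : ℕ}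
    (hb : b < 24) (hs : ∀ g ∈ Stab pts sets, g • ofMask s = ofMask s)
    (horb : orbPt gens b = s) {bs : List GolayPt} {s' : ℕ}
    (h2 : TransL (Stab (b :: pts) sets) (ofMask s' : Set GolayPt) bs)
    (hbs : s.testBit b = true ∧ s ^^^ 2 ^ b = s') :
    TransL (Stab pts sets) (ofMask s : Set GolayPt) (pt b :: bs) := by
  obtain ⟨hbs, rfl⟩ := hbs
  apply transL_cons
  · intro g hg x hx
    rw [mem_coe, ← hs g hg]
    exact Finset.smul_mem_smul_finset hx
  · intro x hx
    exact h.orbPt hb x (horb ▸ hx)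
  · rw [Stab_cons_pt]
    convert h2 using 1
    rw [ofMask_xor, ofMask_two_pow hb]
    have := (pt_mem_ofMask hb).2 hbs
    ext x
    simp only [Set.mem_sdiff, mem_coe, Set.mem_singleton_iff, Finset.mem_symmDiff, mem_singleton]
    constructor
    · exact fun h => Or.inl h
    · rintro (h | ⟨rfl, h⟩)
      · exact h
      · exact absurd this h

/-- a set invariant under `Stab pts sets` stays invariant after removing a fixed point. -/
theorem smul_xor_pt {pts sets : List ℕ} {b s s' : ℕ} (hb : b < 24 ∧ s ^^^ 2 ^ b = s')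
    (hs : ∀ g ∈ Stab pts sets, g • ofMask s = ofMask s) :
    ∀ g ∈ Stab (b :: pts) sets, g • ofMask s' = ofMask s' := by
  obtain ⟨hb, rfl⟩ := hb
  intro g hg
  rw [← Stab_cons_pt] at hg
  rw [ofMask_xor, ofMask_two_pow hb, smul_symmDiff', hs g hg.1, Finset.smul_finset_singleton,
    hg.2]

theorem inv0 : ∀ g ∈ Stab [] [], g • ofMask 16777215 = ofMask 16777215 := fun g _ => smul_full g
theorem inv1 : ∀ g ∈ Stab [23] [], g • ofMask 8388607 = ofMask 8388607 :=
  smul_xor_pt (s := 16777215) (by decide) inv0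
theorem inv2 : ∀ g ∈ Stab [0, 23] [], g • ofMask 8388606 = ofMask 8388606 :=
  smul_xor_pt (s := 8388607) (by decide) inv1
theorem inv3 : ∀ g ∈ Stab [1, 0, 23] [], g • ofMask 8388604 = ofMask 8388604 :=
  smul_xor_pt (s := 8388606) (by decide) inv2
theorem inv4 : ∀ g ∈ Stab [2, 1, 0, 23] [], g • ofMask 8388600 = ofMask 8388600 :=
  smul_xor_pt (s := 8388604) (by decide) inv3

theorem tr4 : TransL (Stab [2, 1, 0, 23] []) (ofMask 8388600 : Set GolayPt) [pt 3] :=
  transL_level gi20 (by decide) inv4 (by decide +kernel) (s' := 8388592) (transL_nil _ _) (by decide)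
theorem tr3 : TransL (Stab [1, 0, 23] []) (ofMask 8388604 : Set GolayPt) [pt 2, pt 3] :=
  transL_level gi21 (by decide) inv3 (by decide +kernel) tr4 (by decide)
theorem tr2 : TransL (Stab [0, 23] []) (ofMask 8388606 : Set GolayPt) [pt 1, pt 2, pt 3] :=
  transL_level gi22 (by decide) inv2 (by decide +kernel) tr3 (by decide)
theorem tr1 : TransL (Stab [23] []) (ofMask 8388607 : Set GolayPt) [pt 0, pt 1, pt 2, pt 3] :=
  transL_level gi23 (by decide) inv1 (by decide +kernel) tr2 (by decide)
theorem tr0 : TransL (Stab [] []) (ofMask 16777215 : Set GolayPt)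
    [pt 23, pt 0, pt 1, pt 2, pt 3] :=
  transL_level gi24 (by decide) inv0 (by decide +kernel) tr1 (by decide)

/-- `M24` is 5-transitive (tuples). -/
theorem M24_five (x y : Fin 5 → GolayPt) (hx : Function.Injective x) (hy : Function.Injective y) :
    ∃ g ∈ M24, ∀ i, g (x i) = y i := by
  have := tr0.tuple rfl x y hx hy (by simp [ofMask_full]) (by simp [ofMask_full])
  rwa [Stab_nil] at this

/-- `M24` is 5-transitive (lists of length at most five). -/
theorem M24_trans_list (xs ys : List GolayPt) (hx : xs.Nodup) (hy : ys.Nodup)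
    (hl : xs.length = ys.length) (h5 : xs.length ≤ 5) : ∃ g ∈ M24, xs.map g = ys := by
  have ext : ∀ (k : ℕ) (zs : List GolayPt), zs.Nodup → zs.length + k ≤ 24 →
      ∃ ws : List GolayPt, (zs ++ ws).Nodup ∧ ws.length = k := by
    intro k zs hz hk
    obtain ⟨t, ht, htk⟩ := Finset.exists_subset_card_eq (s := zs.toFinsetᶜ) (n := k)
      (by rw [card_compl, card_golayPt, List.toFinset_card_of_nodup hz]; omega)
    refine ⟨t.toList, ?_, by simp [htk]⟩
    rw [List.nodup_append]
    refine ⟨hz, t.nodup_toList, fun a ha b hb hab => ?_⟩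
    have := ht (Finset.mem_toList.1 hb)
    simp [← hab, ha] at this
  obtain ⟨xs', h1, h2⟩ := ext (5 - xs.length) xs hx (by omega)
  obtain ⟨ys', h3, h4⟩ := ext (5 - xs.length) ys hy (by omega)
  obtain ⟨g, hg, h⟩ := tr0.list (xs ++ xs') (ys ++ ys') h1 h3 (by simp; omega) (by simp; omega)
    (by simp [ofMask_full]) (by simp [ofMask_full])
  rw [List.map_append] at h
  exact ⟨g, hg.1, (List.append_inj h (by simpa using hl)).1⟩

theorem M24_trans1 (p q : GolayPt) : ∃ g ∈ M24, g p = q := by
  simpa using M24_trans_list [p] [q] (by simp) (by simp) rfl (by simp)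

theorem M24_trans2 {p q p' q' : GolayPt} (h : p ≠ q) (h' : p' ≠ q') :
    ∃ g ∈ M24, g p = p' ∧ g q = q' := by
  simpa using M24_trans_list [p, q] [p', q'] (by simpa) (by simpa) rfl (by simp)

theorem M24_trans3 {p q r p' q' r' : GolayPt} (h1 : p ≠ q) (h2 : p ≠ r) (h3 : q ≠ r)
    (h1' : p' ≠ q') (h2' : p' ≠ r') (h3' : q' ≠ r') :
    ∃ g ∈ M24, g p = p' ∧ g q = q' ∧ g r = r' := by
  simpa using M24_trans_list [p, q, r] [p', q', r'] (by simp [*]) (by simp [*]) rfl (by simp)

/-- `M24` is transitive on the subsets of any size at most five. -/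
theorem M24_trans_finset {s t : Finset GolayPt} (h : s.card = t.card) (h5 : s.card ≤ 5) :
    ∃ g ∈ M24, g • s = t := by
  obtain ⟨g, hg, e⟩ := M24_trans_list s.toList t.toList s.nodup_toList t.nodup_toList
    (by simpa) (by simpa)
  refine ⟨g, hg, ?_⟩
  ext x
  rw [← Finset.mem_toList (s := t), ← e]
  simp [Finset.mem_smul_finset]

theorem M24_isMultiplyPretransitive : IsMultiplyPretransitive M24 GolayPt 5 := by
  rw [isMultiplyPretransitive_iff]
  intro x y
  obtain ⟨g, hg, h⟩ := M24_five x y x.injective y.injective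
  exact ⟨⟨g, hg⟩, by ext1 i; exact h i⟩

theorem gi24' : GensIn g24 M24 := Stab_nil ▸ gi24

theorem octad_from0 {o : Finset GolayPt} (ho : o ∈ octads) : ∃ g ∈ M24, g • ofMask oct0 = o :=
  gi24'.trans_cw le_rfl (by decide +kernel) (fun s => s.card = 8) (fun n => Nat.beq (pc n) 8)
    (fun m _ h => by rwa [card_ofMask, ← beq_iff] at h) (by decide +kernel) o ho.1 ho.2

theorem dodecad_from0 {d : Finset GolayPt} (hd : d ∈ dodecads) :
    ∃ g ∈ M24, g • ofMask dod0 = d :=
  gi24'.trans_cw le_rfl (by decide +kernel) (fun s => s.card = 12) (fun n => Nat.beq (pc n) 12)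
    (fun m _ h => by rwa [card_ofMask, ← beq_iff] at h) (by decide +kernel) d hd.1 hd.2

theorem M24_trans_octads {o o' : Finset GolayPt} (ho : o ∈ octads) (ho' : o' ∈ octads) :
    ∃ g ∈ M24, g • o = o' := by
  obtain ⟨g, hg, rfl⟩ := octad_from0 ho
  obtain ⟨k, hk, rfl⟩ := octad_from0 ho'
  exact ⟨k * g⁻¹, M24.mul_mem hk (M24.inv_mem hg), by simp [mul_smul]⟩

theorem M24_trans_dodecads {o o' : Finset GolayPt} (ho : o ∈ dodecads) (ho' : o' ∈ dodecads) :
    ∃ g ∈ M24, g • o = o' := by
  obtain ⟨g, hg, rfl⟩ := dodecad_from0 ho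
  obtain ⟨k, hk, rfl⟩ := dodecad_from0 ho'
  exact ⟨k * g⁻¹, M24.mul_mem hk (M24.inv_mem hg), by simp [mul_smul]⟩

/-! ### `M12` and `M11` -/

theorem gi12 : GensIn g12 (Stab [] [dod0]) := gensIn_Stab (by decide +kernel)
theorem gi11 : GensIn g11 (Stab [0] [dod0]) := gensIn_Stab (by decide +kernel)
theorem gi10 : GensIn g10 (Stab [1, 0] [dod0]) := gensIn_Stab (by decide +kernel)
theorem gi9 : GensIn g9 (Stab [2, 1, 0] [dod0]) := gensIn_Stab (by decide +kernel)
theorem gi8 : GensIn g8 (Stab [3, 2, 1, 0] [dod0]) := gensIn_Stab (by decide +kernel)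
theorem gi11a : GensIn g11a (Stab [23, 0] [dod0]) := gensIn_Stab (by decide +kernel)
theorem gi11b : GensIn g11b (Stab [5, 23, 0] [dod0]) := gensIn_Stab (by decide +kernel)

theorem smul_dod0 (pts : List ℕ) : ∀ g ∈ Stab pts [dod0], g • ofMask dod0 = ofMask dod0 :=
  fun _ hg => hg.2.2 _ List.mem_cons_self

theorem up12 : ∀ g ∈ Stab [] [dod0], g (pt 0) ∈ ofMask (orbPt g12 0) :=
  orbit_up (by decide) (by decide) (smul_dod0 _) (by decide) (by decide +kernel)
theorem up11 : ∀ g ∈ Stab [0] [dod0], g (pt 1) ∈ ofMask (orbPt g11 1) :=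
  orbit_up (by decide) (by decide) (smul_dod0 _) (by decide) (by decide +kernel)
theorem up10 : ∀ g ∈ Stab [1, 0] [dod0], g (pt 2) ∈ ofMask (orbPt g10 2) :=
  orbit_up (by decide) (by decide) (smul_dod0 _) (by decide) (by decide +kernel)
theorem up9 : ∀ g ∈ Stab [2, 1, 0] [dod0], g (pt 3) ∈ ofMask (orbPt g9 3) :=
  orbit_up (by decide) (by decide) (smul_dod0 _) (by decide) (by decide +kernel)
theorem up8 : ∀ g ∈ Stab [3, 2, 1, 0] [dod0], g (pt 4) ∈ ofMask (orbPt g8 4) :=
  orbit_up (by decide) (by decide) (smul_dod0 _) (by decide) (by decide +kernel)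

theorem card_d0 : Nat.card (Stab [] [dod0]) = 95040 := by
  have h := card_eq_orbit_mul M24 (ofMask dod0)
  have e : {y | ∃ g ∈ M24, g • ofMask dod0 = y} = dodecads := by
    ext y
    exact ⟨fun ⟨g, hg, h⟩ => h ▸ (smul_mem_dodecads_iff hg).2 dod0_mem, dodecad_from0⟩
  rw [e, ncard_dodecads, card_M24] at h
  rw [← Stab_cons_set, Stab_nil]
  omega
theorem card_d1 : Nat.card (Stab [0] [dod0]) = 7920 :=
  card_level' gi12 (by decide) up12 card_d0 (by decide +kernel) (by decide)
theorem card_d2 : Nat.card (Stab [1, 0] [dod0]) = 720 :=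
  card_level' gi11 (by decide) up11 card_d1 (by decide +kernel) (by decide)
theorem card_d3 : Nat.card (Stab [2, 1, 0] [dod0]) = 72 :=
  card_level' gi10 (by decide) up10 card_d2 (by decide +kernel) (by decide)
theorem card_d4 : Nat.card (Stab [3, 2, 1, 0] [dod0]) = 8 :=
  card_level' gi9 (by decide) up9 card_d3 (by decide +kernel) (by decide)
theorem card_d5 : Nat.card (Stab [4, 3, 2, 1, 0] [dod0]) = 1 :=
  card_level' gi8 (by decide) up8 card_d4 (by decide +kernel) (by decide)
theorem d5_bot : Stab [4, 3, 2, 1, 0] [dod0] = ⊥ := Subgroup.card_eq_one.1 card_d5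

theorem cl_g8 : cl g8 = Stab [3, 2, 1, 0] [dod0] :=
  cl_level gi8 (by decide) up8 (cl_nil.trans d5_bot.symm) [] rfl
theorem cl_g9 : cl g9 = Stab [2, 1, 0] [dod0] :=
  cl_level gi9 (by decide) up9 cl_g8 g8W (by decide +kernel)
theorem cl_g10 : cl g10 = Stab [1, 0] [dod0] :=
  cl_level gi10 (by decide) up10 cl_g9 g9W (by decide +kernel)
theorem cl_g11 : cl g11 = Stab [0] [dod0] :=
  cl_level gi11 (by decide) up11 cl_g10 g10W (by decide +kernel)
theorem cl_g12 : cl g12 = Stab [] [dod0] :=
  cl_level gi12 (by decide) up12 cl_g11 g11W (by decide +kernel)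

theorem dinv1 : ∀ g ∈ Stab [0] [dod0], g • ofMask 340830 = ofMask 340830 :=
  smul_xor_pt (s := dod0) (by decide) (smul_dod0 _)
theorem dinv2 : ∀ g ∈ Stab [1, 0] [dod0], g • ofMask 340828 = ofMask 340828 :=
  smul_xor_pt (s := 340830) (by decide) dinv1
theorem dinv3 : ∀ g ∈ Stab [2, 1, 0] [dod0], g • ofMask 340824 = ofMask 340824 :=
  smul_xor_pt (s := 340828) (by decide) dinv2
theorem dinv4 : ∀ g ∈ Stab [3, 2, 1, 0] [dod0], g • ofMask 340816 = ofMask 340816 :=
  smul_xor_pt (s := 340824) (by decide) dinv3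

theorem dtr4 : TransL (Stab [3, 2, 1, 0] [dod0]) (ofMask 340816 : Set GolayPt) [pt 4] :=
  transL_level gi8 (by decide) dinv4 (by decide +kernel) (s' := 340800) (transL_nil _ _) (by decide)
theorem dtr3 : TransL (Stab [2, 1, 0] [dod0]) (ofMask 340824 : Set GolayPt) [pt 3, pt 4] :=
  transL_level gi9 (by decide) dinv3 (by decide +kernel) dtr4 (by decide)
theorem dtr2 : TransL (Stab [1, 0] [dod0]) (ofMask 340828 : Set GolayPt) [pt 2, pt 3, pt 4] :=
  transL_level gi10 (by decide) dinv2 (by decide +kernel) dtr3 (by decide)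
theorem dtr1 : TransL (Stab [0] [dod0]) (ofMask 340830 : Set GolayPt) [pt 1, pt 2, pt 3, pt 4] :=
  transL_level gi11 (by decide) dinv1 (by decide +kernel) dtr2 (by decide)
theorem dtr0 : TransL (Stab [] [dod0]) (ofMask dod0 : Set GolayPt)
    [pt 0, pt 1, pt 2, pt 3, pt 4] :=
  transL_level gi12 (by decide) (smul_dod0 _) (by decide +kernel) dtr1 (by decide)

theorem cinv0 : ∀ g ∈ Stab [0] [dod0], g • ofMask 16436384 = ofMask 16436384 := by
  intro g hg
  rw [show 16436384 = dod0 ^^^ 16777215 by decide, ofMask_compl, smul_compl', smul_dod0 _ g hg]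
theorem cinv1 : ∀ g ∈ Stab [23, 0] [dod0], g • ofMask 8047776 = ofMask 8047776 :=
  smul_xor_pt (s := 16436384) (by decide) cinv0
theorem cinv2 : ∀ g ∈ Stab [5, 23, 0] [dod0], g • ofMask 8047744 = ofMask 8047744 :=
  smul_xor_pt (s := 8047776) (by decide) cinv1
theorem ctr2 : TransL (Stab [5, 23, 0] [dod0]) (ofMask 8047744 : Set GolayPt) [pt 7] :=
  transL_level gi11b (by decide) cinv2 (by decide +kernel) (s' := 8047616) (transL_nil _ _) (by decide)
theorem ctr1 : TransL (Stab [23, 0] [dod0]) (ofMask 8047776 : Set GolayPt) [pt 5, pt 7] :=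
  transL_level gi11a (by decide) cinv1 (by decide +kernel) ctr2 (by decide)
/-- `M11` is 3-transitive on the complementary dodecad. -/
theorem ctr0 : TransL (Stab [0] [dod0]) (ofMask 16436384 : Set GolayPt) [pt 23, pt 5, pt 7] :=
  transL_level gi11 (by decide) cinv0 (by decide +kernel) ctr1 (by decide)

/-! ### Simplicity -/

theorem TransL.twoTrans' {Γ X : Type*} [Group Γ] [MulAction Γ X] {G : Subgroup Γ} {Ω : Set X}
    {a b : X} {bs : List X} (h : TransL G Ω (a :: b :: bs))
    (hext : bs.length + 2 ≤ Ω.ncard) : TwoTrans G Ω := by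
  classical
  have hfin : Ω.Finite := Set.finite_of_ncard_pos (by omega)
  have ext : ∀ x ∈ Ω, ∀ y ∈ Ω, x ≠ y → ∃ ws : List X, (x :: y :: ws).Nodup ∧
      ws.length = bs.length ∧ ∀ w ∈ x :: y :: ws, w ∈ Ω := by
    intro x hx y hy hxy
    obtain ⟨t, ht, htk⟩ := Finset.exists_subset_card_eq (s := (hfin.toFinset.erase x).erase y)
      (n := bs.length) (by
        rw [card_erase_of_mem (by simp [hxy.symm, hy]), card_erase_of_mem (by simp [hx]),
          ← Set.ncard_eq_toFinset_card Ω hfin]
        omega)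
    have h1 : ∀ w ∈ t.toList, w ≠ y ∧ w ≠ x ∧ w ∈ Ω := by
      intro w hw
      simpa using ht (Finset.mem_toList.1 hw)
    refine ⟨t.toList, ?_, by simp [htk], ?_⟩
    · simp only [List.nodup_cons, List.mem_cons, not_or]
      exact ⟨⟨hxy, fun h => (h1 x h).2.1 rfl⟩, fun h => (h1 y h).1 rfl, t.nodup_toList⟩
    · intro w hw
      simp only [List.mem_cons] at hw
      rcases hw with rfl | rfl | hw
      · exact hx
      · exact hy
      · exact (h1 w hw).2.2
  intro x hx y hy x' hx' y' hy' hne hne'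
  obtain ⟨ws, h1, h2, h3⟩ := ext x hx y hy hne
  obtain ⟨ws', h1', h2', h3'⟩ := ext x' hx' y' hy' hne'
  obtain ⟨g, hg, e⟩ := h.list _ _ h1 h1' (by simp [h2]) (by simp [h2']) h3 h3'
  simp only [List.map_cons, List.cons.injEq] at e
  exact ⟨g, hg, e.1, e.2.1⟩

theorem ncard_ofMask (n : ℕ) : (ofMask n : Set GolayPt).ncard = pc n := by
  rw [Set.ncard_coe_finset, card_ofMask]

theorem inv_set {G : Subgroup (Equiv.Perm GolayPt)} {s : ℕ}
    (hs : ∀ g ∈ G, g • ofMask s = ofMask s) :
    ∀ g ∈ G, ∀ x ∈ (ofMask s : Set GolayPt), g • x ∈ (ofMask s : Set GolayPt) := by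
  intro g hg x hx
  rw [mem_coe, ← hs g hg]
  exact Finset.smul_mem_smul_finset hx

/-- an element of `Stab pts sets` fixing the points of `s` is trivial if `s` together with `pts`
contains a base. -/
theorem faithful_of {pts sets : List ℕ} {s : ℕ} (base : List ℕ) (hbase : Stab base sets = ⊥)
    (h : ∀ i ∈ base, i ∈ pts ∨ (i < 24 ∧ s.testBit i = true)) :
    ∀ g ∈ Stab pts sets, (∀ x ∈ (ofMask s : Set GolayPt), g • x = x) → g = 1 := by
  intro g hg hx
  rw [← Subgroup.mem_bot, ← hbase]
  refine ⟨hg.1, fun i hi => ?_, hg.2.2⟩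
  rcases h i hi with h | h
  · exact hg.2.1 i h
  · exact hx _ ((pt_mem_ofMask h.1).2 h.2)

theorem cl_pow {gens : List ℕ} {G : Subgroup (Equiv.Perm GolayPt)} (h : GensIn gens G) {p : ℕ}
    (hp : allL gens (fun c => Nat.beq (powP c p) idP) = true) :
    ∀ s ∈ {g | ∃ c ∈ gens, g = pm c}, s ^ p = 1 := by
  rintro _ ⟨c, hc, rfl⟩
  exact pm_pow_eq_one (h c hc).1 ((beq_iff _ _).1 ((allL_iff _ _).1 hp c hc))

theorem ne_bot_of_card {Γ : Type*} [Group Γ] {G : Subgroup Γ} {n : ℕ} (h : Nat.card G = n)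
    (hn : n ≠ 1) : G ≠ ⊥ := by
  rintro rfl
  rw [Subgroup.card_bot] at h
  exact hn h.symm

theorem simple_s2 : IsSimpleGroup (Stab [0, 23] []) :=
  simple_of_prime (inv_set inv2) (faithful_of _ stab7_bot (by decide))
    (tr2.twoTrans' (by rw [ncard_ofMask]; decide +kernel)) ⟨pt 1, by decide⟩ (p := 11)
    (by norm_num) (by rw [ncard_ofMask]; decide +kernel) (by rw [card_s2]; decide)
    (ne_bot_of_card card_s2 (by decide)) _ cl_g22 (cl_pow gi22 (by decide +kernel))

theorem simple_s3 : IsSimpleGroup (Stab [1, 0, 23] []) :=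
  simple_of_prime (inv_set inv3) (faithful_of _ stab7_bot (by decide))
    (tr3.twoTrans' (by rw [ncard_ofMask]; decide +kernel)) ⟨pt 2, by decide⟩ (p := 7)
    (by norm_num) (by rw [ncard_ofMask]; decide +kernel) (by rw [card_s3]; decide)
    (ne_bot_of_card card_s3 (by decide)) _ cl_g21 (cl_pow gi21 (by decide +kernel))

theorem simple_s1 : IsSimpleGroup (Stab [23] []) :=
  simple_of_prime (inv_set inv1) (faithful_of _ stab7_bot (by decide))
    (tr1.twoTrans' (by rw [ncard_ofMask]; decide +kernel)) ⟨pt 1, by decide⟩ (p := 23)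
    (by norm_num) (by rw [ncard_ofMask]; decide +kernel) (by rw [card_s1]; decide)
    (ne_bot_of_card card_s1 (by decide)) _ cl_g23 (cl_pow gi23 (by decide +kernel))

theorem simple_s0 : IsSimpleGroup (Stab [] []) :=
  simple_of_stab (inv_set inv0) (faithful_of _ stab7_bot (by decide))
    (tr0.twoTrans' (by rw [ncard_ofMask]; decide +kernel)) (x := pt 23) (by decide) (p := 2)
    (q := 3) (by norm_num) (by norm_num) (by norm_num) (by rw [ncard_ofMask]; decide +kernel)
    (by rw [ncard_ofMask]; decide +kernel) (by rw [Stab_cons_pt]; exact simple_s1)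

theorem simple_M24 : IsSimpleGroup M24 := by rw [← Stab_nil]; exact simple_s0

theorem simple_d1 : IsSimpleGroup (Stab [0] [dod0]) :=
  simple_of_prime (inv_set dinv1) (faithful_of _ d5_bot (by decide))
    (dtr1.twoTrans' (by rw [ncard_ofMask]; decide +kernel)) ⟨pt 1, by decide⟩ (p := 11)
    (by norm_num) (by rw [ncard_ofMask]; decide +kernel) (by rw [card_d1]; decide)
    (ne_bot_of_card card_d1 (by decide)) _ cl_g11 (cl_pow gi11 (by decide +kernel))

theorem simple_d0 : IsSimpleGroup (Stab [] [dod0]) :=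
  simple_of_stab (inv_set (smul_dod0 _)) (faithful_of _ d5_bot (by decide))
    (dtr0.twoTrans' (by rw [ncard_ofMask]; decide +kernel)) (x := pt 0) (by decide) (p := 2)
    (q := 3) (by norm_num) (by norm_num) (by norm_num) (by rw [ncard_ofMask]; decide +kernel)
    (by rw [ncard_ofMask]; decide +kernel) (by rw [Stab_cons_pt]; exact simple_d1)

/-! ### The groups of `Cfsg.Spor` -/

theorem M23_eq : Spor.M23 = Stab [23] [] := by
  rw [← Stab_cons_pt, Stab_nil]; rfl
theorem M22_eq : Spor.M22 = Stab [0, 23] [] := by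
  rw [← Stab_cons_pt, ← M23_eq]; rfl
theorem M12_eq : Spor.M12 = Stab [] [dod0] := by
  rw [← Stab_cons_set, Stab_nil, ← squareDodecad_eq]; rfl
theorem M11_eq : Spor.M11 = Stab [0] [dod0] := by
  rw [← Stab_cons_pt, ← M12_eq]; rfl

theorem card_M23 : Nat.card Spor.M23 = 10200960 := by rw [M23_eq]; exact card_s1
theorem card_M22 : Nat.card Spor.M22 = 443520 := by rw [M22_eq]; exact card_s2
theorem card_M12 : Nat.card Spor.M12 = 95040 := by rw [M12_eq]; exact card_d0
theorem card_M11 : Nat.card Spor.M11 = 7920 := by rw [M11_eq]; exact card_d1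
theorem simple_M23 : IsSimpleGroup Spor.M23 := by rw [M23_eq]; exact simple_s1
theorem simple_M22 : IsSimpleGroup Spor.M22 := by rw [M22_eq]; exact simple_s2
theorem simple_M12 : IsSimpleGroup Spor.M12 := by rw [M12_eq]; exact simple_d0
theorem simple_M11 : IsSimpleGroup Spor.M11 := by rw [M11_eq]; exact simple_d1

end H9
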