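import Mathlib
import Cfsg.Agent.H29.Cover

/-! Classes of 3-transpositions from a primitive action on the cosets of the centraliser. -/

set_option autoImplicit false

namespace H9

open H29

variable {G : Type*} [Group G]

/-- Conjugate elements have isomorphic centralisers. -/
theorem centralizer_equiv_of_conj {a d : G} (h : IsConj a d) :
    Nonempty (Subgroup.centralizer ({a} : Set G) ≃* Subgroup.centralizer ({d} : Set G)) := by
  obtain ⟨g, rfl⟩ := isConj_iff.1 h
  refine ⟨((MulAut.conj g).subgroupMap _).trans (MulEquiv.subgroupCongr ?_)⟩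
  ext x
  refine (Subgroup.mem_map_equiv (f := MulAut.conj g)).trans ?_
  simp only [Subgroup.mem_centralizer_singleton_iff, MulAut.conj_symm_apply]
  constructor
  · intro h1
    calc x * (g * a * g⁻¹) = g * (g⁻¹ * x * g * a) * g⁻¹ := by group
      _ = g * a * g⁻¹ * x := by rw [h1]; group
  · intro h1
    calc g⁻¹ * x * g * a = g⁻¹ * (x * (g * a * g⁻¹)) * g := by group
      _ = a * (g⁻¹ * x * g) := by rw [h1]; group

theorem card_conjugatesOf (a : G) :
    Nat.card (conjugatesOf a) = (Subgroup.centralizer ({a} : Set G)).index := by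
  have h1 : conjugatesOf a = MulAction.orbit (ConjAct G) a := by
    ext x
    rw [ConjAct.mem_orbit_conjAct]
    exact isConj_comm
  rw [h1, Nat.card_coe_set_eq, ← MulAction.index_stabilizer, ConjAct.stabilizer_eq_centralizer]
  rfl

theorem nonsplit_congr {H H' K : Type*} [Group H] [Group H'] [Group K] (f : H ≃* H')
    (h : Cfsg.IsNonsplitDoubleCover H K) : Cfsg.IsNonsplitDoubleCover H' K := by
  obtain ⟨h1, ⟨g⟩, h3⟩ := h
  have hc : (Subgroup.center H).map f.toMonoidHom = Subgroup.center H' := by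
    ext x
    rw [Subgroup.mem_map_equiv, Subgroup.mem_center_iff, Subgroup.mem_center_iff]
    constructor
    · intro h4 y
      apply f.symm.injective
      rw [map_mul, map_mul, h4]
    · intro h4 y
      apply f.injective
      rw [map_mul, map_mul, f.apply_symm_apply, h4]
  refine ⟨?_, ⟨(QuotientGroup.congr _ _ f hc).symm.trans g⟩, fun L hL => h3 (L.map f.symm.toMonoidHom) ?_⟩
  · rw [← hc, ← h1]
    exact (Nat.card_congr (f.subgroupMap _).toEquiv).symm
  · have hc' : (Subgroup.center H').map f.symm.toMonoidHom = Subgroup.center H := by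
      rw [← hc, Subgroup.map_map]
      simp
    rw [← hc']
    refine Subgroup.isComplement'_of_disjoint_and_mul_eq_univ
      ((Subgroup.disjoint_map f.symm.injective hL.disjoint)) (Set.eq_univ_of_forall fun x => ?_)
    obtain ⟨⟨y, z⟩, h4⟩ := hL.2 (f x)
    exact ⟨f.symm y, ⟨y, y.2, rfl⟩, f.symm z, ⟨z, z.2, rfl⟩, by
      simp only at h4 ⊢; rw [← map_mul, h4, f.symm_apply_apply]⟩

theorem centralizer_eq_of_prim {e : ℕ → G} {ρ : G →* Equiv.Perm ℕ} {nets : ℕ → Net} {K N : ℕ}
    (hn : NetsOK K nets) {L xs : List ℕ} (hp : Prim nets N L xs) (cm : CosetModel ρ (gen e L) N)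
    (hρ : ∀ c, ρ (e c) = sg nets c) (hN : 1 < N) {a : G} (hz : a ∉ Subgroup.center G)
    (hc : ∀ c ∈ L, e c * a = a * e c) : Subgroup.centralizer ({a} : Set G) = gen e L := by
  have h1 : gen e L ≤ Subgroup.centralizer ({a} : Set G) :=
    gen_le.2 fun c h => Subgroup.mem_centralizer_singleton_iff.2 (hc c h)
  have h2 := hp.isCoatom hn cm.toTrans hρ hN
  rw [← cm.eq_stab] at h2
  by_contra h3
  have h4 := h2.2 _ (lt_of_le_of_ne h1 (Ne.symm h3))
  exact hz (Subgroup.mem_center_iff.2 fun g =>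
    Subgroup.mem_centralizer_singleton_iff.1 (h4 ▸ Subgroup.mem_top g))

theorem threeTransp_of_prim [IsSimpleGroup G] {e : ℕ → G} {ρ : G →* Equiv.Perm ℕ} {nets : ℕ → Net}
    {K N : ℕ} (hn : NetsOK K nets) {L xs : List ℕ} (hp : Prim nets N L xs)
    (cm : CosetModel ρ (gen e L) N) (hρ : ∀ c, ρ (e c) = sg nets c) {a : G}
    (hC : Subgroup.centralizer ({a} : Set G) = gen e L) (h1 : a ≠ 1) (h2 : a * a = 1)
    (hx : ∀ x ∈ xs, (a * ((e x)⁻¹ * a * e x)) ^ 2 = 1 ∨ (a * ((e x)⁻¹ * a * e x)) ^ 3 = 1) :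
    Cfsg.IsThreeTranspositionClass (conjugatesOf a) ∧ Nat.card (conjugatesOf a) = N := by
  refine ⟨⟨⟨fun d hd => ?_, fun d hd d' hd' => ?_⟩, ⟨a, IsConj.refl a, rfl⟩, ?_⟩, ?_⟩
  · obtain ⟨g, rfl⟩ := isConj_iff.1 hd
    rw [← MulAut.conj_apply, MulEquiv.orderOf_eq]
    exact orderOf_eq_prime (by rw [sq, h2]) h1
  · obtain ⟨g, rfl⟩ := isConj_iff.1 hd
    obtain ⟨h, rfl⟩ := isConj_iff.1 hd'
    obtain ⟨m, hm, s, a1, a2⟩ := hp.cover.exists_mem (e := e) (fun c _ => hρ c) (i := ρ (g⁻¹ * h) 0)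
      (by simp only [testBit_ones, decide_eq_true_eq]; exact cm.lt _ 0 cm.pos)
    have key : ∀ y : G, ρ y s = 0 →
        g * a * g⁻¹ * (h * a * h⁻¹) = (g * m) * (a * (y⁻¹ * a * y)) * (g * m)⁻¹ := fun y hy => by
      have b1 : y * m⁻¹ * (g⁻¹ * h) ∈ gen e L := by
        rw [cm.eq_stab, mem_stab, map_mul, Equiv.Perm.mul_apply, ← a2, map_mul, map_inv,
          Equiv.Perm.mul_apply]
        simpa using hy
      rw [← hC, Subgroup.mem_centralizer_singleton_iff] at b1 hm
      calc g * a * g⁻¹ * (h * a * h⁻¹)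
          = g * a * m * y⁻¹ * (y * m⁻¹ * (g⁻¹ * h) * a) * h⁻¹ := by group
        _ = g * (a * m) * y⁻¹ * a * y * m⁻¹ * g⁻¹ := by rw [b1]; group
        _ = _ := by rw [← hm]; group
    rcases testBit_primStart hn a1 with rfl | ⟨x, hx1, h3⟩
    · left
      rw [key 1 (by simp), conj_pow]; simp [h2]
    · rw [key (e x) (by rw [hρ, h3]), conj_pow, conj_pow]
      rcases hx x hx1 with h4 | h4 <;> simp [h4]
  · have : Subgroup.closure (conjugatesOf a) = Subgroup.normalClosure {a} := by
      simp [Subgroup.normalClosure, Group.conjugatesOfSet]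
    rw [this]
    refine (IsSimpleGroup.eq_bot_or_eq_top_of_normal _ inferInstance).resolve_left fun h3 => h1 ?_
    exact Subgroup.mem_bot.1 (h3 ▸ Subgroup.subset_normalClosure rfl)
  · rw [card_conjugatesOf, hC, cm.index_eq]

/-- The packaged form: the letter `a` is the 3-transposition; `ms` gives the exponent (2 or 3) for
each letter of `xs`. -/
theorem threeTransp_of_chk [IsSimpleGroup G] {e : ℕ → G} {ρ : G →* Equiv.Perm ℕ} {nets : ℕ → Net}
    {K N : ℕ} (hn : NetsOK K nets) {L xs : List ℕ} (hp : Prim nets N L xs)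
    (cm : CosetModel ρ (gen e L) N) (hρ : ∀ c, ρ (e c) = sg nets c) (hN : 1 < N) {iv : ℕ → ℕ}
    (hiv : IvOK e iv) (hG : ¬ (Nat.card G).Prime) {a : ℕ} (h1 : ev e [a] ≠ 1) (ms : ℕ → Bool)
    (hR : ∀ r ∈ [a, a] :: (L.map fun c => [c, a, iv c, a]) ++
      xs.map fun x => powW (cond (ms x) 2 3) [a, iv x, a, x], ev e r = 1) :
    Subgroup.centralizer ({e a} : Set G) = gen e L ∧
      Cfsg.IsThreeTranspositionClass (conjugatesOf (e a)) ∧ Nat.card (conjugatesOf (e a)) = N := by
  have h0 : e a ≠ 1 := by simpa using h1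
  have h2 : e a * e a = 1 := by simpa using hR [a, a] (by simp)
  have hC := centralizer_eq_of_prim hn hp cm hρ hN (a := e a)
    (by rw [center_eq_bot_of_simple hG]; exact h0) fun c hc => by
      have := hR [c, a, iv c, a] (List.mem_cons_of_mem _ (List.mem_append_left _
        (List.mem_map.2 ⟨c, hc, rfl⟩)))
      simp only [ev_cons, ev_nil, mul_one, hiv c] at this
      calc e c * e a = e c * (e a * ((e c)⁻¹ * e a)) * (e a)⁻¹ * e c := by group
        _ = e a * e c := by rw [this, one_mul, inv_eq_of_mul_eq_one_left h2]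
  refine ⟨hC, threeTransp_of_prim hn hp cm hρ hC h0 h2 fun x hx => ?_⟩
  have := hR _ (List.mem_cons_of_mem _ (List.mem_append_right _ (List.mem_map.2 ⟨x, hx, rfl⟩)))
  rw [ev_powW] at this
  simp only [ev_cons, ev_nil, mul_one, hiv x] at this
  rw [mul_assoc]
  cases h : ms x
  · right; rwa [h] at this
  · left; rwa [h] at this

end H9
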