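import Mathlib
import Cfsg.Agent.H29.Cert

/-!
# Packed matrices over small finite fields, for kernel evaluation

A square matrix with small entries is packed in one natural number (`s` bits per entry); a product
costs a number of big-number operations that is linear in the dimension.  A matrix over
`K = 𝔽_p(ω)` is a pair of such numbers.
-/

set_option autoImplicit false

namespace H9.MX

open H29 Finset

/-- Digit `j` in base `2 ^ s`. -/
def dig (s X j : ℕ) : ℕ := Nat.mod (Nat.shiftRight X (Nat.mul s j)) (Nat.pow 2 s)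

theorem dig_eq (s X j : ℕ) : dig s X j = X / 2 ^ (s * j) % 2 ^ s := by
  rw [dig, shr_eq, Nat.shiftRight_eq_div_pow]; rfl

theorem dig_lt (s X j : ℕ) : dig s X j < 2 ^ s := by
  rw [dig_eq]; exact Nat.mod_lt _ (by positivity)

/-- The number with the digits `f 0, …, f (M - 1)`. -/
def ofD (s M : ℕ) (f : ℕ → ℕ) : ℕ := ∑ j ∈ range M, f j * 2 ^ (s * j)

theorem ofD_succ' (s M : ℕ) (f : ℕ → ℕ) :
    ofD s (M + 1) f = f 0 + 2 ^ s * ofD s M fun j => f (j + 1) := by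
  rw [ofD, ofD, sum_range_succ', mul_sum, add_comm]
  congr 1
  · simp
  · exact sum_congr rfl fun j _ => by ring

theorem ofD_congr {s M : ℕ} {f g : ℕ → ℕ} (h : ∀ j < M, f j = g j) : ofD s M f = ofD s M g :=
  sum_congr rfl fun j hj => by rw [h j (mem_range.1 hj)]

theorem dig_zero' (s X : ℕ) : dig s X 0 = X % 2 ^ s := by simp [dig_eq]

theorem dig_succ (s X j : ℕ) : dig s X (j + 1) = dig s (X / 2 ^ s) j := by
  rw [dig_eq, dig_eq, Nat.div_div_eq_div_mul, ← pow_add]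
  congr 3; ring

theorem ofD_spec (s : ℕ) : ∀ (M : ℕ) (f : ℕ → ℕ), (∀ j < M, f j < 2 ^ s) →
    ofD s M f < 2 ^ (s * M) ∧ ∀ j, dig s (ofD s M f) j = if j < M then f j else 0
  | 0, f, _ => by simp [ofD, dig_eq]
  | M + 1, f, h => by
    obtain ⟨h1, h2⟩ := ofD_spec s M (fun j => f (j + 1)) fun j hj => h _ (by omega)
    have h0 := h 0 (by omega)
    have hp : 0 < 2 ^ s := by positivity
    rw [ofD_succ']
    refine ⟨?_, fun j => ?_⟩
    · rw [show s * (M + 1) = s + s * M by ring, pow_add]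
      nlinarith
    · cases j with
      | zero => simp [dig_zero', Nat.mod_eq_of_lt h0]
      | succ j =>
        rw [dig_succ, Nat.add_mul_div_left _ _ hp, Nat.div_eq_of_lt h0, zero_add, h2]
        simp

theorem ofD_dig (s : ℕ) : ∀ (M X : ℕ), ofD s M (dig s X) = X % 2 ^ (s * M)
  | 0, X => by simp [ofD, Nat.mod_one]
  | M + 1, X => by
    rw [ofD_succ', show s * (M + 1) = s + s * M by ring, pow_add, Nat.mod_mul, dig_zero']
    simp only [dig_succ]
    rw [ofD_dig s M]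

theorem dig_land (s X Y j : ℕ) : dig s (Nat.land X Y) j = dig s X j &&& dig s Y j := by
  apply Nat.eq_of_testBit_eq
  intro b
  simp only [dig_eq, land_eq, Nat.testBit_mod_two_pow, Nat.testBit_and, Nat.testBit_div_two_pow]
  cases decide (b < s) <;> simp

/-- `k` copies of the digit `d`. -/
noncomputable def rep (w d k : ℕ) : ℕ :=
  Nat.rec (motive := fun _ => ℕ) 0 (fun _ ih => Nat.add d (Nat.shiftLeft ih w)) k

theorem rep_eq (w d : ℕ) : ∀ k, rep w d k = ofD w k fun _ => d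
  | 0 => rfl
  | k + 1 => by
    rw [ofD_succ', ← rep_eq w d k, mul_comm, ← Nat.shiftLeft_eq]; rfl

theorem land_rep {w b : ℕ} (hb : b ≤ w) (k Y : ℕ) :
    Nat.land Y (rep w (ones b) k) = ofD w k fun j => Y / 2 ^ (w * j) % 2 ^ b := by
  have hlt : ones b < 2 ^ w := by
    rw [ones_eq]
    have := Nat.pow_le_pow_right (n := 2) (by norm_num) hb
    have : 0 < 2 ^ b := by positivity
    omega
  obtain ⟨h1, h2⟩ := ofD_spec w k (fun _ => ones b) fun _ _ => hlt
  rw [rep_eq]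
  have h3 : Nat.land Y (ofD w k fun _ => ones b) < 2 ^ (w * k) :=
    lt_of_le_of_lt (by rw [land_eq]; exact Nat.and_le_right) h1
  rw [← Nat.mod_eq_of_lt h3, ← ofD_dig]
  refine ofD_congr fun j hj => ?_
  rw [dig_land, h2, if_pos hj, ← land_eq, land_ones, dig_eq,
    Nat.mod_mod_of_dvd _ (pow_dvd_pow 2 hb)]

/-- `X` has `M` digits, all at most `β`. -/
def Bdd (s M β X : ℕ) : Prop := ∃ f : ℕ → ℕ, X = ofD s M f ∧ ∀ j < M, f j ≤ β

theorem Bdd.dig {s M β X : ℕ} (h : Bdd s M β X) (hβ : β < 2 ^ s) :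
    X = ofD s M (dig s X) ∧ ∀ j, dig s X j ≤ β := by
  obtain ⟨f, rfl, hf⟩ := h
  obtain ⟨-, h2⟩ := ofD_spec s M f fun j hj => lt_of_le_of_lt (hf j hj) hβ
  refine ⟨ofD_congr fun j hj => by rw [h2, if_pos hj], fun j => ?_⟩
  rw [h2]
  split_ifs with hj
  · exact hf j hj
  · exact Nat.zero_le _

theorem ofD_add (s M : ℕ) (f g : ℕ → ℕ) :
    ofD s M f + ofD s M g = ofD s M fun j => f j + g j := by
  simp [ofD, add_mul, sum_add_distrib]

theorem ofD_mul (s M c : ℕ) (f : ℕ → ℕ) : c * ofD s M f = ofD s M fun j => c * f j := by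
  simp [ofD, mul_sum, mul_assoc]

theorem ofD_rows (s n : ℕ) (f : ℕ → ℕ) : ∀ r,
    ofD s (n * r) f = ∑ i ∈ range r, (ofD s n fun j => f (n * i + j)) * 2 ^ (s * n * i)
  | 0 => by simp [ofD]
  | r + 1 => by
    rw [sum_range_succ, ← ofD_rows s n f r, Nat.mul_succ, ofD, sum_range_add, ofD, ofD, sum_mul]
    congr 1
    exact sum_congr rfl fun j _ => by ring

/-- The parameters: dimension, digit size, characteristic, division by `p` as multiplication by
`m` and shift by `t`, size of reduced entries, bound for unreduced entries, the relation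
`ω ^ 2 = c0 + c1 ω`, and the masks. -/
structure Par where
  n : ℕ
  s : ℕ
  p : ℕ
  m : ℕ
  t : ℕ
  b : ℕ
  β : ℕ
  c0 : ℕ
  c1 : ℕ
  cm : ℕ
  rm : ℕ
  qm : ℕ
  lm : ℕ
  one : ℕ

namespace Par

variable (P : Par)

/-- The test of the parameters. -/
noncomputable def ok : Bool :=
  and2 (and2 (and2 (Nat.ble 1 P.n) (Nat.ble P.t P.s)) (and2 (Nat.ble P.b P.s) (Nat.ble 1 P.b)))
   (and2 (and2 (and2 (Nat.ble P.p (Nat.pow 2 P.b)) (Nat.ble 1 P.p))
      (and2 (Nat.ble (Nat.succ (Nat.mul P.β P.m)) (Nat.pow 2 P.s))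
        (Nat.ble (Nat.succ P.β) (Nat.pow 2 P.s))))
    (and2 (and2 (Nat.ble (Nat.mul (Nat.add 2 (Nat.add P.c0 P.c1))
        (Nat.mul P.n (Nat.mul (ones P.b) (ones P.b)))) P.β)
      (allN (Nat.succ P.β) fun x => Nat.beq (Nat.shiftRight (Nat.mul x P.m) P.t) (Nat.div x P.p)))
    (and2 (and2 (Nat.beq P.cm (rep (Nat.mul P.s P.n) (ones P.s) P.n))
        (Nat.beq P.rm (ones (Nat.mul P.s P.n))))
      (and2 (and2 (Nat.beq P.qm (rep P.s (ones (Nat.sub P.s P.t)) (Nat.mul P.n P.n)))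
        (Nat.beq P.lm (rep P.s (ones P.b) (Nat.mul P.n P.n))))
        (Nat.beq P.one (rep (Nat.mul P.s (Nat.succ P.n)) 1 P.n))))))

/-- See `ok`. -/
structure OK : Prop where
  n_pos : 1 ≤ P.n
  ts : P.t ≤ P.s
  bs : P.b ≤ P.s
  b_pos : 1 ≤ P.b
  pb : P.p ≤ 2 ^ P.b
  p_pos : 1 ≤ P.p
  βm : P.β * P.m < 2 ^ P.s
  βs : P.β < 2 ^ P.s
  big : (2 + (P.c0 + P.c1)) * (P.n * (ones P.b * ones P.b)) ≤ P.β
  div : ∀ x ≤ P.β, x * P.m / 2 ^ P.t = x / P.p
  cm : P.cm = rep (P.s * P.n) (ones P.s) P.n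
  rm : P.rm = ones (P.s * P.n)
  qm : P.qm = rep P.s (ones (P.s - P.t)) (P.n * P.n)
  lm : P.lm = rep P.s (ones P.b) (P.n * P.n)
  one : P.one = rep (P.s * (P.n + 1)) 1 P.n

variable {P}

theorem ok_of (h : P.ok = true) : P.OK := by
  simp only [ok, and2_true, ble_true, H29.beq_true, allN_true] at h
  obtain ⟨⟨⟨h1, h2⟩, h3, h3'⟩, ⟨⟨h4, h4'⟩, h5, h6⟩, ⟨h7, h8⟩, ⟨h9, h10⟩, ⟨h11, h12⟩, h13⟩ := h
  refine ⟨h1, h2, h3, h3', h4, h4', h5, h6, h7, fun x hx => ?_, h9, h10, h11, h12, h13⟩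
  have := h8 x (Nat.lt_succ_of_le hx)
  rwa [shr_eq, Nat.shiftRight_eq_div_pow] at this

variable (P)

/-- The product without reduction. -/
noncomputable def raw (A M : ℕ) : ℕ :=
  Nat.rec (motive := fun _ => ℕ) 0 (fun k ih => Nat.add ih
    (Nat.mul (Nat.land (Nat.shiftRight A (Nat.mul P.s k)) P.cm)
      (Nat.land (Nat.shiftRight M (Nat.mul (Nat.mul P.s P.n) k)) P.rm))) P.n

/-- Reduction of all digits modulo `p`. -/
noncomputable def red (X : ℕ) : ℕ :=
  seqN X fun X => Nat.sub X (Nat.mul P.p (Nat.land (Nat.shiftRight (Nat.mul X P.m) P.t) P.qm))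

/-- All entries are reduced. -/
def Sm (X : ℕ) : Prop := Bdd P.s (P.n * P.n) (ones P.b) X

/-- The entry `(i, j)`. -/
def ent (X i j : ℕ) : ℕ := dig P.s X (Nat.add (Nat.mul P.n i) j)

variable {P}

theorem ones_b_lt (h : P.OK) : ones P.b < 2 ^ P.s := by
  rw [ones_eq]
  have := Nat.pow_le_pow_right (n := 2) (by norm_num) h.bs
  have : 0 < 2 ^ P.b := by positivity
  omega

theorem sm_of_chk (h : P.OK) {X : ℕ} (hX : Nat.beq (Nat.land X P.lm) X = true) : P.Sm X := by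
  rw [H29.beq_true, h.lm, land_rep h.bs] at hX
  refine ⟨_, hX.symm, fun j _ => ?_⟩
  rw [ones_eq]
  have := Nat.mod_lt (X / 2 ^ (P.s * j)) (show 0 < 2 ^ P.b by positivity)
  omega

theorem raw_eq (h : P.OK) (A M : ℕ) : P.raw A M = ofD P.s (P.n * P.n) fun l =>
    ∑ k ∈ range P.n, P.ent A (l / P.n) k * P.ent M k (l % P.n) := by
  have key : ∀ r, Nat.rec (motive := fun _ => ℕ) 0 (fun k ih => Nat.add ih
      (Nat.mul (Nat.land (Nat.shiftRight A (Nat.mul P.s k)) P.cm)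
        (Nat.land (Nat.shiftRight M (Nat.mul (Nat.mul P.s P.n) k)) P.rm))) r =
      ∑ k ∈ range r, (ofD (P.s * P.n) P.n fun i => P.ent A i k) *
        ofD P.s P.n fun j => P.ent M k j := by
    intro r
    induction r with
    | zero => rfl
    | succ r ih =>
      rw [sum_range_succ, ← ih]
      refine congrArg₂ Nat.add rfl (congrArg₂ Nat.mul ?_ ?_)
      · rw [h.cm, land_rep (Nat.le_mul_of_pos_right _ h.n_pos)]
        refine ofD_congr fun i _ => ?_
        rw [ent, dig_eq, shr_eq, Nat.shiftRight_eq_div_pow, Nat.div_div_eq_div_mul, ← pow_add]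
        congr 3
        simp only [Nat.mul_eq, Nat.add_eq]; ring
      · rw [h.rm, land_ones, ← ofD_dig]
        refine ofD_congr fun j _ => ?_
        rw [ent, dig_eq, dig_eq, shr_eq, Nat.shiftRight_eq_div_pow, Nat.div_div_eq_div_mul,
          ← pow_add]
        congr 3
        simp only [Nat.mul_eq, Nat.add_eq]; ring
  rw [raw, key, ofD_rows]
  simp only [ofD, sum_mul, mul_sum]
  rw [sum_congr rfl fun k _ => sum_comm, sum_comm]
  refine sum_congr rfl fun i _ => ?_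
  rw [sum_comm]
  refine sum_congr rfl fun j hj => ?_
  have hj' := mem_range.1 hj
  rw [Nat.mul_add_div h.n_pos, Nat.div_eq_of_lt hj', Nat.mul_add_mod, Nat.mod_eq_of_lt hj']
  refine sum_congr rfl fun k _ => ?_
  simp only [add_zero]
  ring

theorem red_ofD (h : P.OK) {f : ℕ → ℕ} (hf : ∀ j < P.n * P.n, f j ≤ P.β) :
    P.red (ofD P.s (P.n * P.n) f) = ofD P.s (P.n * P.n) fun j => f j % P.p := by
  rw [red, seqN_eq, h.qm, land_rep (Nat.sub_le _ _)]
  have e1 : Nat.mul (ofD P.s (P.n * P.n) f) P.m = ofD P.s (P.n * P.n) fun j => P.m * f j := by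
    rw [← ofD_mul, Nat.mul_eq, mul_comm]
  obtain ⟨-, h2⟩ := ofD_spec P.s (P.n * P.n) (fun j => P.m * f j) fun j hj =>
    lt_of_le_of_lt (by rw [mul_comm]; exact Nat.mul_le_mul_right _ (hf j hj)) h.βm
  have e2 : (ofD P.s (P.n * P.n) fun j =>
      Nat.shiftRight (Nat.mul (ofD P.s (P.n * P.n) f) P.m) P.t / 2 ^ (P.s * j) % 2 ^ (P.s - P.t)) =
      ofD P.s (P.n * P.n) fun j => f j / P.p := by
    refine ofD_congr fun j hj => ?_
    rw [← h.div _ (hf j hj), mul_comm (f j), ← show (if j < P.n * P.n then P.m * f j else 0) =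
      P.m * f j from if_pos hj, ← h2, ← e1, dig_eq, shr_eq, Nat.shiftRight_eq_div_pow,
      show 2 ^ P.s = 2 ^ P.t * 2 ^ (P.s - P.t) by rw [← pow_add]; congr 1; have := h.ts; omega,
      Nat.mod_mul_right_div_self, Nat.div_div_eq_div_mul, Nat.div_div_eq_div_mul,
      mul_comm (2 ^ P.t)]
  rw [e2]
  apply Nat.sub_eq_of_eq_add
  change _ = _ + P.p * _
  rw [ofD_mul, ofD_add]
  exact ofD_congr fun j _ => (Nat.mod_add_div _ _).symm

theorem sm_red (h : P.OK) {f : ℕ → ℕ} (hf : ∀ j < P.n * P.n, f j ≤ P.β) :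
    P.Sm (P.red (ofD P.s (P.n * P.n) f)) ∧ ∀ i < P.n, ∀ j < P.n,
      P.ent (P.red (ofD P.s (P.n * P.n) f)) i j = f (P.n * i + j) % P.p := by
  rw [red_ofD h hf]
  have key : ∀ j, f j % P.p ≤ ones P.b := fun j => by
    have := Nat.mod_lt (f j) h.p_pos
    have := h.pb
    rw [ones_eq]; omega
  refine ⟨⟨_, rfl, fun j _ => key j⟩, fun i hi j hj => ?_⟩
  rw [ent, (ofD_spec _ _ _ fun j _ => lt_of_le_of_lt (key j) (ones_b_lt h)).2, if_pos]
  · rfl
  · change P.n * i + j < _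
    nlinarith

theorem Sm.ent_le (h : P.OK) {X : ℕ} (hX : P.Sm X) (i j : ℕ) : P.ent X i j ≤ ones P.b :=
  (hX.dig (ones_b_lt h)).2 _

theorem sum_le (h : P.OK) {A M : ℕ} (hA : P.Sm A) (hM : P.Sm M) (i j : ℕ) :
    ∑ k ∈ range P.n, P.ent A i k * P.ent M k j ≤ P.n * (ones P.b * ones P.b) := by
  refine (sum_le_card_nsmul _ _ _ fun k _ =>
    Nat.mul_le_mul (hA.ent_le h i k) (hM.ent_le h k j)).trans ?_
  simp

theorem one_eq (h : P.OK) : P.one = ofD P.s (P.n * P.n) fun l => if l / P.n = l % P.n then 1 else 0 := by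
  rw [h.one, rep_eq, ofD_rows, ofD]
  refine sum_congr rfl fun i hi => ?_
  rw [ofD, sum_eq_single i]
  · have hi' := mem_range.1 hi
    rw [Nat.mul_add_div h.n_pos, Nat.div_eq_of_lt hi', Nat.mul_add_mod, Nat.mod_eq_of_lt hi']
    simp only [add_zero, if_true]; ring
  · intro j hj hji
    have hj' := mem_range.1 hj
    rw [Nat.mul_add_div h.n_pos, Nat.div_eq_of_lt hj', Nat.mul_add_mod, Nat.mod_eq_of_lt hj',
      add_zero, if_neg (Ne.symm hji), zero_mul]
  · exact fun h' => absurd hi h'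

theorem one_le_ones (h : P.OK) : 1 ≤ ones P.b := by
  rw [ones_eq]
  have := Nat.pow_le_pow_right (n := 2) (by norm_num) h.b_pos
  omega

theorem ent_scal (h : P.OK) {c : ℕ} (hc : c < 2 ^ P.s) {i j : ℕ} (hi : i < P.n) (hj : j < P.n) :
    P.ent (c * P.one) i j = if i = j then c else 0 := by
  rw [one_eq h, ofD_mul, ent, (ofD_spec _ _ _ fun l _ => by split_ifs <;> simp [hc]).2, if_pos]
  · change c * (if (P.n * i + j) / P.n = (P.n * i + j) % P.n then 1 else 0) = _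
    rw [Nat.mul_add_div h.n_pos, Nat.div_eq_of_lt hj, Nat.mul_add_mod, Nat.mod_eq_of_lt hj]
    simp
  · change P.n * i + j < _
    nlinarith

theorem sm_one (h : P.OK) : P.Sm P.one :=
  ⟨_, one_eq h, fun l _ => by split_ifs; exacts [one_le_ones h, Nat.zero_le _]⟩

theorem sm_zero : P.Sm 0 := ⟨fun _ => 0, by simp [ofD], fun _ _ => Nat.zero_le _⟩

end Par

/-- A matrix `a0 + ω a1`. -/
structure MM where
  a0 : ℕ
  a1 : ℕ

namespace Par

variable (P : Par)

/-- The product, passed to a continuation. -/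
noncomputable def mulK {α : Type} (A M : MM) (k : MM → α) : α :=
  MM.rec (fun a0 a1 => MM.rec (fun m0 m1 => seqN (P.raw a1 m1) fun z =>
    seqN (P.red (Nat.add (P.raw a0 m0) (Nat.mul P.c0 z))) fun x0 =>
      seqN (P.red (Nat.add (Nat.add (P.raw a0 m1) (P.raw a1 m0)) (Nat.mul P.c1 z))) fun x1 =>
        k ⟨x0, x1⟩) M) A

/-- The product. -/
noncomputable def mul (A M : MM) : MM := P.mulK A M fun x => x

theorem mulK_eq {α : Type} (A M : MM) (k : MM → α) : P.mulK A M k = k (P.mul A M) := by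
  cases A; cases M; simp only [mul, mulK, seqN_eq]

/-- The identity matrix. -/
def one2 : MM := ⟨P.one, 0⟩

/-- Both parts are reduced. -/
def Sm2 (X : MM) : Prop := P.Sm X.a0 ∧ P.Sm X.a1

/-- Test of `Sm2`. -/
def sm2 (X : MM) : Bool :=
  Nat.beq (Nat.land X.a0 P.lm) X.a0 && Nat.beq (Nat.land X.a1 P.lm) X.a1

/-- Multiply `acc` by the letters of a word, then continue. -/
noncomputable def evK {α : Type} (L : ℕ → MM) (k : MM → α) (w : List ℕ) : MM → α :=
  List.rec (motive := fun _ => MM → α) k (fun y _ ih acc => P.mulK acc (L y) ih) w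

/-- Equality test. -/
noncomputable def eq2 (X Y : MM) : Bool := and2 (Nat.beq X.a0 Y.a0) (Nat.beq X.a1 Y.a1)

/-- Is `X` a scalar matrix? -/
noncomputable def isScal (X : MM) : Bool :=
  and2 (Nat.beq X.a0 (Nat.mul (dig P.s X.a0 0) P.one)) (Nat.beq X.a1 (Nat.mul (dig P.s X.a1 0) P.one))

/-- The letters given by a list. -/
noncomputable def lets (l : List MM) : ℕ → MM := nth P.one2 l

/-- `Y` is the transpose of `X`. -/
noncomputable def isTr (X Y : MM) : Bool :=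
  allN P.n fun i => allN P.n fun j => and2 (Nat.beq (P.ent Y.a0 i j) (P.ent X.a0 j i))
    (Nat.beq (P.ent Y.a1 i j) (P.ent X.a1 j i))

/-- The image under `ω ↦ d0 + d1 ω`. -/
noncomputable def cnj (d0 d1 : ℕ) (X : MM) : MM :=
  ⟨P.red (Nat.add X.a0 (Nat.mul d0 X.a1)), P.red (Nat.mul d1 X.a1)⟩

variable {P}

theorem eq2_true {X Y : MM} (h : eq2 X Y = true) : X = Y := by
  cases X; cases Y
  simp only [eq2, and2_true, H29.beq_true] at h
  rw [h.1, h.2]

theorem sm2_of (h : P.OK) {X : MM} (hX : P.sm2 X = true) : P.Sm2 X := by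
  rw [sm2, Bool.and_eq_true] at hX
  exact ⟨sm_of_chk h hX.1, sm_of_chk h hX.2⟩

theorem sm2_one (h : P.OK) : P.Sm2 P.one2 := ⟨sm_one h, sm_zero⟩

theorem sm2_lets (h : P.OK) {l : List MM} (hl : allL l P.sm2 = true) (c : ℕ) : P.Sm2 (P.lets l c) :=
  nth_forall (sm2_one h) (fun a ha => sm2_of h (allL_true.1 hl a ha)) c

end Par

/-- The interpretation of packed matrices over a ring `K`, on an index type `ι`. -/
structure Interp (P : Par) (K : Type*) [CommRing K] (ι : Type*) where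
  ω : K
  ix : ι ≃ Fin P.n
  ok : P.OK
  char : (P.p : K) = 0
  sq : ω * ω = P.c0 + P.c1 * ω

namespace Interp

variable {P : Par} {K : Type*} [CommRing K] {ι : Type*} [Fintype ι] [DecidableEq ι]
  (I : Interp P K ι)

/-- The matrix denoted by a pair of numbers. -/
def mat (X : MM) : Matrix ι ι K := Matrix.of fun i j =>
  (P.ent X.a0 (I.ix i) (I.ix j) : K) + (P.ent X.a1 (I.ix i) (I.ix j) : K) * I.ω

omit [Fintype ι] [DecidableEq ι] in
include I in
theorem cast_mod (x : ℕ) : ((x % P.p : ℕ) : K) = x := by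
  conv_rhs => rw [← Nat.mod_add_div x P.p]
  simp [I.char]

omit [DecidableEq ι] in
theorem sum_ix (f : ℕ → K) : ∑ k : ι, f (I.ix k) = ∑ k ∈ range P.n, f k := by
  rw [Equiv.sum_comp I.ix fun k : Fin P.n => f k, Finset.sum_range]

omit [DecidableEq ι] in
theorem mul_spec {A M : MM} (hA : P.Sm2 A) (hM : P.Sm2 M) :
    P.Sm2 (P.mul A M) ∧ I.mat (P.mul A M) = I.mat A * I.mat M := by
  have h := I.ok
  obtain ⟨a0, a1⟩ := A
  obtain ⟨m0, m1⟩ := M
  have e : P.mul ⟨a0, a1⟩ ⟨m0, m1⟩ = ⟨P.red (P.raw a0 m0 + P.c0 * P.raw a1 m1),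
      P.red (P.raw a0 m1 + P.raw a1 m0 + P.c1 * P.raw a1 m1)⟩ := by
    simp only [Par.mul, Par.mulK, seqN_eq]; rfl
  have s00 := Par.sum_le h hA.1 hM.1
  have s01 := Par.sum_le h hA.1 hM.2
  have s10 := Par.sum_le h hA.2 hM.1
  have s11 := Par.sum_le h hA.2 hM.2
  have hb := h.big
  rw [e, Par.raw_eq h, Par.raw_eq h, Par.raw_eq h, Par.raw_eq h, ofD_mul, ofD_mul, ofD_add,
    ofD_add, ofD_add]
  obtain ⟨u1, u2⟩ := Par.sm_red h (f := fun l =>
    ∑ k ∈ range P.n, P.ent a0 (l / P.n) k * P.ent m0 k (l % P.n) +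
      P.c0 * ∑ k ∈ range P.n, P.ent a1 (l / P.n) k * P.ent m1 k (l % P.n)) fun l _ => by
    have := s00 (l / P.n) (l % P.n)
    have := Nat.mul_le_mul_left P.c0 (s11 (l / P.n) (l % P.n))
    nlinarith [Nat.zero_le (P.c1 * (P.n * (ones P.b * ones P.b)))]
  obtain ⟨v1, v2⟩ := Par.sm_red h (f := fun l =>
    ∑ k ∈ range P.n, P.ent a0 (l / P.n) k * P.ent m1 k (l % P.n) +
      ∑ k ∈ range P.n, P.ent a1 (l / P.n) k * P.ent m0 k (l % P.n) +
      P.c1 * ∑ k ∈ range P.n, P.ent a1 (l / P.n) k * P.ent m1 k (l % P.n)) fun l _ => by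
    have := s01 (l / P.n) (l % P.n)
    have := s10 (l / P.n) (l % P.n)
    have := Nat.mul_le_mul_left P.c1 (s11 (l / P.n) (l % P.n))
    nlinarith [Nat.zero_le (P.c0 * (P.n * (ones P.b * ones P.b)))]
  refine ⟨⟨u1, v1⟩, ?_⟩
  ext i j
  have hj := (I.ix j).2
  simp only [mat, Matrix.of_apply, Matrix.mul_apply]
  rw [u2 _ (I.ix i).2 _ hj, v2 _ (I.ix i).2 _ hj, I.cast_mod, I.cast_mod,
    Nat.mul_add_div h.n_pos, Nat.div_eq_of_lt hj, Nat.mul_add_mod, Nat.mod_eq_of_lt hj,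
    I.sum_ix fun k => ((P.ent a0 (I.ix i) k : K) + (P.ent a1 (I.ix i) k : K) * I.ω) *
      ((P.ent m0 k (I.ix j) : K) + (P.ent m1 k (I.ix j) : K) * I.ω)]
  push_cast
  simp only [add_zero, mul_sum, sum_mul, add_mul, ← sum_add_distrib]
  refine sum_congr rfl fun k _ => ?_
  linear_combination (-(P.ent a1 (I.ix i) k : K) * (P.ent m1 k (I.ix j) : K)) * I.sq

omit [Fintype ι] in
theorem mat_scal {c d : ℕ} (hc : c < 2 ^ P.s) (hd : d < 2 ^ P.s) :
    I.mat ⟨c * P.one, d * P.one⟩ = ((c : K) + d * I.ω) • (1 : Matrix ι ι K) := by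
  ext i j
  simp only [mat, Matrix.of_apply, Par.ent_scal I.ok hc (I.ix i).2 (I.ix j).2,
    Par.ent_scal I.ok hd (I.ix i).2 (I.ix j).2, Matrix.smul_apply, Matrix.one_apply, Fin.val_inj,
    I.ix.injective.eq_iff]
  split_ifs <;> simp

omit [Fintype ι] in
theorem mat_one : I.mat P.one2 = 1 := by
  have := I.mat_scal (c := 1) (d := 0) (lt_of_le_of_lt (Par.one_le_ones I.ok) (Par.ones_b_lt I.ok))
    (by positivity)
  simpa [Par.one2] using this

omit [Fintype ι] in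
theorem mat_isScal {X : MM} (h : P.isScal X = true) : ∃ c : K, I.mat X = c • (1 : Matrix ι ι K) := by
  obtain ⟨a0, a1⟩ := X
  simp only [Par.isScal, and2_true, H29.beq_true] at h
  have := I.mat_scal (dig_lt P.s a0 0) (dig_lt P.s a1 0)
  exact ⟨_, (congrArg I.mat (congrArg₂ MM.mk h.1 h.2)).trans this⟩

omit [Fintype ι] [DecidableEq ι] in
theorem mat_isTr {X Y : MM} (h : P.isTr X Y = true) : I.mat Y = (I.mat X).transpose := by
  simp only [Par.isTr, allN_true, and2_true, H29.beq_true] at h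
  ext i j
  obtain ⟨h1, h2⟩ := h _ (I.ix i).2 _ (I.ix j).2
  simp only [mat, Matrix.of_apply, Matrix.transpose_apply, h1, h2]

omit [Fintype ι] [DecidableEq ι] in
theorem mat_cnj {X : MM} (hX : P.Sm2 X) {d0 d1 : ℕ} (hd : d0 + d1 ≤ 1 + (P.c0 + P.c1))
    (σ : K →+* K) (hσ : σ I.ω = d0 + d1 * I.ω) :
    P.Sm2 (P.cnj d0 d1 X) ∧ I.mat (P.cnj d0 d1 X) = (I.mat X).map σ := by
  have h := I.ok
  obtain ⟨e0, b0⟩ := hX.1.dig (Par.ones_b_lt h)
  obtain ⟨e1, b1⟩ := hX.2.dig (Par.ones_b_lt h)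
  have hb := h.big
  have h1 := Par.one_le_ones h
  have hn := h.n_pos
  have h2 : ones P.b ≤ P.n * (ones P.b * ones P.b) := by nlinarith [Nat.mul_le_mul hn h1]
  have h3 : (2 + (P.c0 + P.c1)) * ones P.b ≤ P.β := (Nat.mul_le_mul_left _ h2).trans hb
  have e : P.cnj d0 d1 X = ⟨P.red (ofD P.s (P.n * P.n) fun j => dig P.s X.a0 j + d0 * dig P.s X.a1 j),
      P.red (ofD P.s (P.n * P.n) fun j => d1 * dig P.s X.a1 j)⟩ := by
    rw [← ofD_add, ← ofD_mul, ← ofD_mul, ← e0, ← e1]; rfl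
  obtain ⟨u1, u2⟩ := Par.sm_red h (f := fun j => dig P.s X.a0 j + d0 * dig P.s X.a1 j) fun l _ => by
    have := b0 l
    have := Nat.mul_le_mul (show d0 ≤ 1 + (P.c0 + P.c1) by omega) (b1 l)
    nlinarith
  obtain ⟨v1, v2⟩ := Par.sm_red h (f := fun j => d1 * dig P.s X.a1 j) fun l _ => by
    have := Nat.mul_le_mul (show d1 ≤ 1 + (P.c0 + P.c1) by omega) (b1 l)
    nlinarith
  rw [e]
  refine ⟨⟨u1, v1⟩, ?_⟩
  ext i j
  simp only [mat, Matrix.of_apply, Matrix.map_apply]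
  rw [u2 _ (I.ix i).2 _ (I.ix j).2, v2 _ (I.ix i).2 _ (I.ix j).2, I.cast_mod, I.cast_mod]
  simp only [map_add, map_mul, map_natCast, hσ, Par.ent, Nat.mul_eq, Nat.add_eq]
  push_cast
  ring

theorem evK_spec {α : Type} {L : ℕ → MM} (hL : ∀ c, P.Sm2 (L c)) (k : MM → α) :
    ∀ (w : List ℕ) (acc : MM), P.Sm2 acc → ∃ X, P.Sm2 X ∧ P.evK L k w acc = k X ∧
      I.mat X = I.mat acc * (w.map fun c => I.mat (L c)).prod
  | [], acc, h => ⟨acc, h, rfl, by simp⟩
  | y :: w, acc, h => by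
    obtain ⟨h1, h2⟩ := I.mul_spec h (hL y)
    obtain ⟨X, h3, h4, h5⟩ := evK_spec hL k w _ h1
    refine ⟨X, h3, ?_, by rw [h5, h2, List.map_cons, List.prod_cons, mul_assoc]⟩
    rw [← h4]; exact Par.mulK_eq P acc (L y) (P.evK L k w)

end Interp

end H9.MX
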