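import Mathlib
import Cfsg.Prelude.Def_Classical
import Cfsg.Agent.H9.MX

/-!
# Glue between packed matrices, permutation models and presentations
-/

set_option autoImplicit false

namespace H9.MX

open H29

/-! ### Universal bounds -/

/-- Letters that satisfy the relators `R` generate a group of order at most `n`. -/
def UBd (iv : ℕ → ℕ) (R : List (List ℕ)) (L : List ℕ) (n : ℕ) : Prop :=
  ∀ (G : Type) [Group G] (e : ℕ → G), IvOK e iv → (∀ r ∈ R, ev e r = 1) → Bd (gen e L) n

theorem ev_prod {G H : Type*} [Group G] [Group H] (e1 : ℕ → G) (e2 : ℕ → H) (w : List ℕ) :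
    ev (fun c => (e1 c, e2 c)) w = (ev e1 w, ev e2 w) := by
  induction w with
  | nil => rfl
  | cons y t ih => rw [ev_cons, ih]; rfl

/-- A model of full order is the presented group: its relators hold in every other model. -/
theorem tr_of_bd {G H : Type} [Group G] [Group H] {iv : ℕ → ℕ} {R : List (List ℕ)} {L : List ℕ}
    {n : ℕ} (hU : UBd iv R L n) (hL : ∀ c ∈ L, iv c ∈ L) {e1 : ℕ → G} {e2 : ℕ → H}
    (i1 : IvOK e1 iv) (i2 : IvOK e2 iv) (r1 : ∀ r ∈ R, ev e1 r = 1) (r2 : ∀ r ∈ R, ev e2 r = 1)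
    (hn : n ≤ Nat.card (gen e1 L)) : Tr e1 e2 L := by
  have i3 : IvOK (fun c => (e1 c, e2 c)) iv := fun c => by simp only [i1 c, i2 c]; rfl
  have hb := hU (G × H) _ i3 fun r hr => by rw [ev_prod, r1 r hr, r2 r hr]; rfl
  exact ((Tr.of_hom (MonoidHom.fst G H) fun _ _ => rfl).symm_of_card i3 i1 hL hb hn).trans
    (Tr.of_hom (MonoidHom.snd G H) fun _ _ => rfl)

section

variable {S G : Type*} [Group S] [Group G]

theorem exists_hom_of_tr {e1 : ℕ → S} {e2 : ℕ → G} {L : List ℕ} {iv : ℕ → ℕ} (h : Tr e1 e2 L)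
    (i1 : IvOK e1 iv) (i2 : IvOK e2 iv) (hL : ∀ c ∈ L, iv c ∈ L) (top : gen e1 L = ⊤) :
    ∃ f : S →* G, f.range = gen e2 L ∧ ∀ c ∈ L, f (e1 c) = e2 c := by
  obtain ⟨f, hf⟩ := h.exists_hom i1 i2 hL
  let f' : S →* G := f.comp ((MonoidHom.id S).codRestrict _ fun x => top ▸ Subgroup.mem_top x)
  have h1 : ∀ c ∈ L, f' (e1 c) = e2 c := fun c hc => by
    have := hf [c] (by simpa using hc)
    simpa [f'] using this
  refine ⟨f', ?_, h1⟩
  rw [MonoidHom.range_eq_map, ← top, map_gen]
  exact gen_congr h1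

/-- A non-trivial image of a simple group is isomorphic to it. -/
theorem equiv_of_simple [IsSimpleGroup S] {e1 : ℕ → S} {e2 : ℕ → G} {L : List ℕ} {iv : ℕ → ℕ}
    (h : Tr e1 e2 L) (i1 : IvOK e1 iv) (i2 : IvOK e2 iv) (hL : ∀ c ∈ L, iv c ∈ L)
    (top : gen e1 L = ⊤) (hne : ∃ w : List ℕ, (∀ c ∈ w, c ∈ L) ∧ ev e2 w ≠ 1) :
    Nonempty (S ≃* gen e2 L) := by
  obtain ⟨f, h1, h2⟩ := exists_hom_of_tr h i1 i2 hL top
  have hinj : Function.Injective f := by
    rw [← MonoidHom.ker_eq_bot_iff]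
    refine (IsSimpleGroup.eq_bot_or_eq_top_of_normal f.ker inferInstance).resolve_right fun h3 => ?_
    obtain ⟨w, hw, h4⟩ := hne
    apply h4
    rw [← ev_congr (e := fun c => f (e1 c)) fun c hc => h2 c (hw c hc), ← map_ev]
    exact (h3 ▸ Subgroup.mem_top _ : ev e1 w ∈ f.ker)
  exact ⟨(MonoidHom.ofInjective hinj).trans (MulEquiv.subgroupCongr h1)⟩

theorem equiv_of_simple_card [IsSimpleGroup S] {e1 : ℕ → S} {e2 : ℕ → G} {L : List ℕ}
    {iv : ℕ → ℕ} (h : Tr e1 e2 L) (i1 : IvOK e1 iv) (i2 : IvOK e2 iv) (hL : ∀ c ∈ L, iv c ∈ L)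
    (top : gen e1 L = ⊤) (hne : ∃ w : List ℕ, (∀ c ∈ w, c ∈ L) ∧ ev e2 w ≠ 1) {n : ℕ} (hn : 0 < n)
    (hS : Nat.card S = n) (hG : Nat.card G = n) : Nonempty (S ≃* G) := by
  obtain ⟨f⟩ := equiv_of_simple h i1 i2 hL top hne
  have : Finite G := Nat.finite_of_card_ne_zero (by omega)
  have h1 : gen e2 L = ⊤ := Subgroup.eq_top_of_card_eq _ (by rw [← Nat.card_congr f.toEquiv, hS, hG])
  exact ⟨f.trans ((MulEquiv.subgroupCongr h1).trans Subgroup.topEquiv)⟩

/-- The letters, seen in a subgroup that contains them all. -/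
def subE (e : ℕ → G) {H : Subgroup G} (h : ∀ c, e c ∈ H) (c : ℕ) : H := ⟨e c, h c⟩

theorem ivOK_sub {e : ℕ → G} {H : Subgroup G} (h : ∀ c, e c ∈ H) {iv : ℕ → ℕ} (hi : IvOK e iv) :
    IvOK (subE e h) iv := fun c => Subtype.ext (hi c)

theorem coe_ev_sub {e : ℕ → G} {H : Subgroup G} (h : ∀ c, e c ∈ H) (w : List ℕ) :
    ((ev (subE e h) w : H) : G) = ev e w := map_ev H.subtype _ w

theorem rels_subE {e : ℕ → G} {H : Subgroup G} (h : ∀ c, e c ∈ H) {R : List (List ℕ)}
    (hR : ∀ r ∈ R, ev e r = 1) : ∀ r ∈ R, ev (subE e h) r = 1 := fun r hr =>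
  Subtype.ext ((coe_ev_sub h r).trans (hR r hr))

theorem gen_sub_top {e : ℕ → G} {H : Subgroup G} (h : ∀ c, e c ∈ H) {L : List ℕ}
    (hL : H ≤ gen e L) : gen (subE e h) L = ⊤ := by
  apply Subgroup.map_injective H.subtype_injective
  rw [map_gen, ← MonoidHom.range_eq_map, Subgroup.range_subtype]
  exact le_antisymm (gen_le.2 fun c _ => h c) hL

theorem ivOK_map {H : Type*} [Group H] (f : G →* H) {e : ℕ → G} {iv : ℕ → ℕ} (hi : IvOK e iv) :
    IvOK (fun c => f (e c)) iv := fun c => by simp only [hi c, map_inv]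

theorem rels_map {H : Type*} [Group H] (f : G →* H) {e : ℕ → G} {R : List (List ℕ)}
    (hR : ∀ r ∈ R, ev e r ∈ f.ker) : ∀ r ∈ R, ev (fun c => f (e c)) r = 1 := fun r hr => by
  rw [← map_ev]; exact hR r hr

end

/-! ### The permutation group of a list of networks -/

/-- The group generated by the permutations of a list of networks. -/
def PG (nl : List Net) : Subgroup (Equiv.Perm ℕ) :=
  Subgroup.closure (Set.range (sg (nth Net.nil nl)))

theorem mem_PG (nl : List Net) (c : ℕ) : sg (nth Net.nil nl) c ∈ PG nl :=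
  Subgroup.subset_closure ⟨c, rfl⟩

/-- The letters in `PG nl`. -/
noncomputable def pe (nl : List Net) : ℕ → PG nl := subE _ (mem_PG nl)

theorem pe_rho (nl : List Net) (c : ℕ) : (PG nl).subtype (pe nl c) = sg (nth Net.nil nl) c := rfl

/-- Is the network empty? -/
noncomputable def isNil (n : Net) : Bool := Net.rec (motive := fun _ => Bool) true (fun _ _ _ _ => false) n

/-- The letters outside `L` are trivial. -/
noncomputable def chkTop (nl : List Net) (L : List ℕ) : Bool :=
  allN nl.length fun c => Bool.rec (isNil (nth Net.nil nl c)) true (memL c L)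

theorem pe_top {nl : List Net} {L : List ℕ} (h : chkTop nl L = true) : gen (pe nl) L = ⊤ := by
  refine gen_sub_top _ ((Subgroup.closure_le _).2 ?_)
  rintro _ ⟨c, rfl⟩
  by_cases hc : c < nl.length
  · have := allN_true.1 h c hc
    cases h1 : memL c L with
    | true => exact mem_gen (memL_true.1 h1)
    | false =>
      rw [h1] at this
      have h2 : sg (nth Net.nil nl) c = 1 := by
        rw [sg]
        cases h3 : nth Net.nil nl c with
        | nil => rfl
        | cons d m r => rw [h3] at this; exact absurd this (by simp [isNil])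
      rw [h2]; exact Subgroup.one_mem _
  · rw [sg_nth_eq_one (not_lt.1 hc)]; exact Subgroup.one_mem _

theorem PG_lt {nl : List Net} {K : ℕ} (hn : NetsOK K (nth Net.nil nl)) (g : PG nl) :
    ∀ i, K ≤ i → (PG nl).subtype g i = i := by
  obtain ⟨g, hg⟩ := g
  intro i hi
  have : PG nl ≤ MulAction.stabilizer (Equiv.Perm ℕ) i := (Subgroup.closure_le _).2 (by
    rintro _ ⟨c, rfl⟩
    exact Net.perm_fix (hn c) hi)
  exact this hg

theorem PG_faithful {nl : List Net} {K : ℕ} (hn : NetsOK K (nth Net.nil nl)) (g : PG nl)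
    (h : ∀ i < K, (PG nl).subtype g i = i) : g = 1 := by
  refine Subtype.ext (Equiv.ext fun i => ?_)
  by_cases hi : i < K
  · exact h i hi
  · exact PG_lt hn g i (not_lt.1 hi)

/-- Transitivity from an orbit computation. -/
theorem trans_of_reach {G : Type*} [Group G] {e : ℕ → G} {ρ : G →* Equiv.Perm ℕ} {nets : ℕ → Net}
    {N : ℕ} (hN : 0 < N) (hfix : ∀ g i, N ≤ i → ρ g i = i) {L : List ℕ}
    (hρ : ∀ c ∈ L, ρ (e c) = sg nets c) (h : Reach nets L (bit 0) (ones N)) : Trans ρ N :=
  ⟨hN, fun g _ hi => lt_of_fix (hfix g) hi, fun i hi => by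
    obtain ⟨g, -, hg⟩ := h.exists_bit hρ (i := i) (by simp [testBit_ones, hi])
    exact ⟨g, hg⟩⟩

/-- A word moves the point `0`. -/
theorem ev_ne_one_of_chk {G : Type*} [Group G] {e : ℕ → G} {ρ : G →* Equiv.Perm ℕ}
    {nets : ℕ → Net} {K : ℕ} (hn : NetsOK K nets) {w : List ℕ} (hρ : ∀ c ∈ w, ρ (e c) = sg nets c)
    {b : ℕ} (h : disj (bit b) (pullW nets w (bit b)) = true) : ev e w ≠ 1 := by
  intro h1
  have := disj_true h (i := b) (by simp [testBit_bit])
  rw [testBit_pullW hn, ← map_ev_sg hρ, h1, map_one] at this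
  simp [testBit_bit] at this

/-! ### Matrix models -/

namespace Par

variable (P : Par)

/-- The table `ivl` inverts the letters. -/
noncomputable def chkIv (l : List MM) (ivl : List ℕ) : Bool :=
  and2 (Nat.ble ivl.length l.length) (allN l.length fun c =>
    P.mulK (P.lets l (ivOf ivl c)) (P.lets l c) fun X => eq2 X P.one2)

/-- The words evaluate to the identity. -/
noncomputable def chkRel (l : List MM) (R : List (List ℕ)) : Bool :=
  allL R fun w => P.evK (P.lets l) (fun X => eq2 X P.one2) w P.one2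

/-- The words evaluate to scalar matrices. -/
noncomputable def chkScal (l : List MM) (R : List (List ℕ)) : Bool :=
  allL R fun w => P.evK (P.lets l) P.isScal w P.one2

/-- The words `wl` in the letters `l0` evaluate to the letters `l`. -/
noncomputable def chkWords (l0 : List MM) (wl : List (List ℕ)) (l : List MM) : Bool :=
  and2 (and2 (Nat.beq wl.length l.length) (allL l P.sm2)) (allN l.length fun c =>
    P.evK (P.lets l0) (fun X => eq2 X (P.lets l c)) (nth [] wl c) P.one2)

/-- The words `u` and `v` have values with entries `1` and `0` at the place `(i, j)`. -/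
noncomputable def chkSep (l : List MM) (u v : List ℕ) (i j : ℕ) : Bool :=
  P.evK (P.lets l) (fun X => P.evK (P.lets l) (fun Y =>
    and2 (and2 (Nat.beq (P.ent X.a0 i j) 1) (Nat.beq (P.ent X.a1 i j) 0))
      (and2 (and2 (Nat.beq (P.ent Y.a0 i j) 0) (Nat.beq (P.ent Y.a1 i j) 0))
        (and2 (Nat.ble (Nat.succ i) P.n) (Nat.ble (Nat.succ j) P.n)))) v P.one2) u P.one2

/-- Each letter `X`, with transpose `Y` in the second list, satisfies `X J Y = J`. -/
noncomputable def chkForm (J : MM) (l lt : List MM) : Bool :=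
  and2 (and2 (P.sm2 J) (allL lt P.sm2)) (allN l.length fun c =>
    and2 (P.isTr (P.lets l c) (P.lets lt c)) (P.mulK (P.lets l c) J fun X =>
      P.mulK X (P.lets lt c) fun Y => eq2 Y J))

/-- Each letter `X`, with transpose `Y` in the second list, satisfies `Y X̄ = 1`. -/
noncomputable def chkUnit (d0 d1 : ℕ) (l lt : List MM) : Bool :=
  and2 (and2 (Nat.ble (Nat.add d0 d1) (Nat.add 1 (Nat.add P.c0 P.c1))) (allL lt P.sm2))
    (allN l.length fun c => and2 (P.isTr (P.lets l c) (P.lets lt c))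
      (P.mulK (P.lets lt c) (P.cnj d0 d1 (P.lets l c)) fun Y => eq2 Y P.one2))

/-- Letter `c` has order dividing `ords[c]`, a number coprime to `m`. -/
noncomputable def chkOrd (m : ℕ) (l : List MM) (ords : List ℕ) : Bool :=
  allN l.length fun c => and2 (and2 (Nat.beq (Nat.gcd (nth 1 ords c) m) 1) (Nat.ble 1 (nth 1 ords c)))
    (P.evK (P.lets l) (fun X => eq2 X P.one2) (powW (nth 1 ords c) [c]) P.one2)

theorem lets_default {l : List MM} {c : ℕ} (h : l.length ≤ c) : P.lets l c = P.one2 :=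
  nth_default _ h

end Par

namespace Interp

variable {P : Par} {K : Type*} [CommRing K] {ι : Type*} [Fintype ι] [DecidableEq ι]
  (I : Interp P K ι)

/-- The value of a word. -/
noncomputable def wd (l : List MM) (w : List ℕ) : Matrix ι ι K :=
  (w.map fun c => I.mat (P.lets l c)).prod

variable {I}

theorem ev_chk {l : List MM} (hl : allL l P.sm2 = true) {k : MM → Bool} {w : List ℕ}
    (h : P.evK (P.lets l) k w P.one2 = true) : ∃ X, P.Sm2 X ∧ k X = true ∧ I.mat X = I.wd l w := by
  obtain ⟨X, h1, h2, h3⟩ := I.evK_spec (Par.sm2_lets I.ok hl) k w _ (Par.sm2_one I.ok)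
  exact ⟨X, h1, h2 ▸ h, by rw [h3, I.mat_one, one_mul, wd]⟩

theorem wd_eq {l : List MM} (hl : allL l P.sm2 = true) {w : List ℕ} {Y : MM}
    (h : P.evK (P.lets l) (fun X => Par.eq2 X Y) w P.one2 = true) : I.wd l w = I.mat Y := by
  obtain ⟨X, -, h2, h3⟩ := ev_chk (I := I) hl h
  rw [← h3, Par.eq2_true h2]

theorem iv_mul {l : List MM} (hl : allL l P.sm2 = true) {ivl : List ℕ} (h : P.chkIv l ivl = true)
    (c : ℕ) : I.mat (P.lets l (ivOf ivl c)) * I.mat (P.lets l c) = 1 := by
  simp only [Par.chkIv, and2_true, allN_true, ble_true, Par.mulK_eq] at h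
  by_cases hc : c < l.length
  · rw [← (I.mul_spec (Par.sm2_lets I.ok hl _) (Par.sm2_lets I.ok hl _)).2,
      Par.eq2_true (h.2 c hc), I.mat_one]
  · rw [ivOf, nth_default _ (by omega), P.lets_default (by omega), I.mat_one, one_mul]

theorem form_eq {l lt : List MM} (hl : allL l P.sm2 = true) {J : MM} (h : P.chkForm J l lt = true)
    (c : ℕ) : I.mat (P.lets l c) * I.mat J * (I.mat (P.lets l c)).transpose = I.mat J := by
  simp only [Par.chkForm, and2_true, allN_true, Par.mulK_eq] at h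
  by_cases hc : c < l.length
  · obtain ⟨h1, h2⟩ := I.mul_spec (Par.sm2_lets I.ok hl c) (Par.sm2_of I.ok h.1.1)
    rw [← I.mat_isTr (h.2 c hc).1, ← h2, ← (I.mul_spec h1 (Par.sm2_lets I.ok h.1.2 c)).2,
      Par.eq2_true (h.2 c hc).2]
  · rw [P.lets_default (by omega), I.mat_one]; simp

theorem unit_eq {l lt : List MM} (hl : allL l P.sm2 = true) {d0 d1 : ℕ}
    (h : P.chkUnit d0 d1 l lt = true) (σ : K →+* K) (hσ : σ I.ω = d0 + d1 * I.ω) (c : ℕ) :
    (I.mat (P.lets l c)).transpose * (I.mat (P.lets l c)).map σ = 1 := by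
  simp only [Par.chkUnit, and2_true, allN_true, Par.mulK_eq, ble_true] at h
  by_cases hc : c < l.length
  · obtain ⟨h1, h2⟩ := I.mat_cnj (Par.sm2_lets I.ok hl c) h.1.1 σ hσ
    rw [← I.mat_isTr (h.2 c hc).1, ← h2, ← (I.mul_spec (Par.sm2_lets I.ok h.1.2 c) h1).2,
      Par.eq2_true (h.2 c hc).2, I.mat_one]
  · rw [P.lets_default (by omega), I.mat_one]; simp

theorem wd_powW (l : List MM) (c : ℕ) : ∀ m, I.wd l (powW m [c]) = I.mat (P.lets l c) ^ m
  | 0 => by simp [wd, show powW 0 [c] = [] from rfl]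
  | m + 1 => by
    rw [pow_succ', ← wd_powW l c m]; rfl

end Interp

theorem det_eq_one {P : Par} {K : Type*} [Field K] [Fintype K] {ι : Type*} [Fintype ι]
    [DecidableEq ι] (I : Interp P K ι) {l : List MM} (hl : allL l P.sm2 = true) {ords : List ℕ}
    {m : ℕ} (hm : Fintype.card K - 1 = m) (h : P.chkOrd m l ords = true) (c : ℕ) :
    (I.mat (P.lets l c)).det = 1 := by
  by_cases hc : c < l.length
  · have := allN_true.1 h c hc
    rw [and2_true, and2_true, H29.beq_true, ble_true] at this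
    have h1 := Interp.wd_eq (I := I) hl this.2
    rw [Interp.wd_powW, I.mat_one] at h1
    have h2 := congrArg Matrix.det h1
    rw [Matrix.det_pow, Matrix.det_one] at h2
    have h0 : (I.mat (P.lets l c)).det ≠ 0 := fun h0 => by
      rw [h0, zero_pow (by have := this.1.2; omega)] at h2
      exact zero_ne_one h2
    have h3 := FiniteField.pow_card_sub_one_eq_one _ h0
    rw [hm] at h3
    rw [← orderOf_eq_one_iff]
    exact Nat.eq_one_of_dvd_coprimes this.1.1 (orderOf_dvd_of_pow_eq_one h2)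
      (orderOf_dvd_of_pow_eq_one h3)
  · rw [P.lets_default (by omega), I.mat_one, Matrix.det_one]

/-- The letters `e` of a matrix group are the packed matrices `l`. -/
structure Model {P : Par} {K : Type*} [CommRing K] {ι : Type*} [Fintype ι] [DecidableEq ι]
    (I : Interp P K ι) {G : Type*} [Group G] (val : G →* Matrix ι ι K) (e : ℕ → G)
    (l : List MM) : Prop where
  inj : Function.Injective val
  sm : allL l P.sm2 = true
  eq : ∀ c, val (e c) = I.mat (P.lets l c)

namespace Model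

variable {P : Par} {K : Type*} [CommRing K] {ι : Type*} [Fintype ι] [DecidableEq ι]
  {I : Interp P K ι} {G : Type*} [Group G] {val : G →* Matrix ι ι K} {e : ℕ → G} {l : List MM}

theorem of_exists (inj : Function.Injective val) (sm : allL l P.sm2 = true)
    (h : ∀ c, ∃ g, val g = I.mat (P.lets l c)) : ∃ e, Model I val e l :=
  ⟨fun c => (h c).choose, inj, sm, fun c => (h c).choose_spec⟩

theorem val_ev (h : Model I val e l) (w : List ℕ) : val (ev e w) = I.wd l w := by
  rw [ev, map_list_prod, List.map_map, Interp.wd]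
  congr 1
  exact List.map_congr_left fun c _ => h.eq c

theorem ivOK (h : Model I val e l) {ivl : List ℕ} (hc : P.chkIv l ivl = true) :
    IvOK e (ivOf ivl) := fun c => eq_inv_of_mul_eq_one_left (h.inj (by
  rw [map_mul, h.eq, h.eq, Interp.iv_mul h.sm hc, map_one]))

theorem rels (h : Model I val e l) {R : List (List ℕ)} (hc : P.chkRel l R = true) :
    ∀ r ∈ R, ev e r = 1 := fun r hr => h.inj (by
  rw [h.val_ev, Interp.wd_eq h.sm (allL_true.1 hc r hr), I.mat_one, map_one])

theorem scal (h : Model I val e l) {R : List (List ℕ)} (hc : P.chkScal l R = true) :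
    ∀ r ∈ R, ev e r ∈ Subgroup.center G := fun r hr => by
  obtain ⟨X, -, h2, h3⟩ := Interp.ev_chk (I := I) h.sm (allL_true.1 hc r hr)
  obtain ⟨c, h4⟩ := I.mat_isScal h2
  rw [Subgroup.mem_center_iff]
  intro g
  apply h.inj
  rw [map_mul, map_mul, h.val_ev, ← h3, h4]; simp

theorem rels_quot (h : Model I val e l) {R : List (List ℕ)} (hc : P.chkScal l R = true) :
    ∀ r ∈ R, ev (fun c => QuotientGroup.mk' (Subgroup.center G) (e c)) r = 1 :=
  rels_map _ fun r hr => by rw [QuotientGroup.ker_mk']; exact h.scal hc r hr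

theorem words (h : Model I val e l) {wl : List (List ℕ)} {l' : List MM}
    (hc : P.chkWords l wl l' = true) : Model I val (wE e wl) l' := by
  simp only [Par.chkWords, and2_true, allN_true, H29.beq_true] at hc
  refine ⟨h.inj, hc.1.2, fun c => ?_⟩
  rw [wE, h.val_ev]
  by_cases h1 : c < l'.length
  · exact Interp.wd_eq h.sm (hc.2 c h1)
  · rw [nth_default _ (by omega), P.lets_default (by omega), I.mat_one]; rfl

theorem ne [Nontrivial K] (h : Model I val e l) {u v : List ℕ} {i j : ℕ}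
    (hc : P.chkSep l u v i j = true) : ev e u ≠ ev e v := by
  obtain ⟨X, -, h2, h3⟩ := Interp.ev_chk (I := I) h.sm hc
  obtain ⟨Y, -, h4, h5⟩ := Interp.ev_chk (I := I) h.sm h2
  simp only [and2_true, H29.beq_true, ble_true] at h4
  obtain ⟨⟨a1, a2⟩, ⟨a3, a4⟩, a5, a6⟩ := h4
  intro h6
  have h7 := congrArg val h6
  rw [h.val_ev, h.val_ev, ← h3, ← h5] at h7
  have := congrFun (congrFun h7 (I.ix.symm ⟨i, a5⟩)) (I.ix.symm ⟨j, a6⟩)
  simp [Interp.mat, a1, a2, a3, a4] at this

/-- The word `u` is not central. -/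
theorem quot_ne_one [Nontrivial K] (h : Model I val e l) {u v : List ℕ} {i j : ℕ}
    (hc : P.chkSep l (u ++ v) (v ++ u) i j = true) :
    ev (fun c => QuotientGroup.mk' (Subgroup.center G) (e c)) u ≠ 1 := by
  rw [← map_ev, QuotientGroup.mk'_apply, Ne, QuotientGroup.eq_one_iff, Subgroup.mem_center_iff]
  intro h1
  apply h.ne hc
  rw [ev_append, ev_append, h1]

theorem sub (h : Model I val e l) {H : Subgroup G} (hH : ∀ c, e c ∈ H) :
    Model I (val.comp H.subtype) (subE e hH) l :=
  ⟨h.inj.comp H.subtype_injective, h.sm, h.eq⟩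

end Model

section Classical

variable {P : Par} {K : Type*} {ι : Type*} [Fintype ι] [DecidableEq ι] {l : List MM}

theorem exists_GL [CommRing K] (I : Interp P K ι) (hl : allL l P.sm2 = true) {ivl : List ℕ}
    (h : P.chkIv l ivl = true) : ∃ e : ℕ → GL ι K, Model I (Units.coeHom _) e l :=
  Model.of_exists Units.val_injective hl fun c =>
    ⟨⟨_, _, mul_eq_one_comm.1 (Interp.iv_mul hl h c), Interp.iv_mul hl h c⟩, rfl⟩

theorem slToMat_injective (n : ℕ) [Field K] : Function.Injective (Cfsg.slToMat n K) :=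
  fun _ _ h => Subtype.ext h

theorem exists_SL [Field K] {n : ℕ} (I : Interp P K (Fin n)) (hl : allL l P.sm2 = true)
    (h : ∀ c, (I.mat (P.lets l c)).det = 1) :
    ∃ e : ℕ → Matrix.SpecialLinearGroup (Fin n) K, Model I (Cfsg.slToMat n K) e l :=
  Model.of_exists (slToMat_injective n) hl fun c => ⟨⟨_, h c⟩, rfl⟩

theorem mem_SU [Field K] {n q : ℕ} (σ : K →+* K) (hσ : ∀ x, σ x = x ^ q)
    {A : Matrix.SpecialLinearGroup (Fin n) K}
    (h : (Cfsg.slToMat n K A).transpose * (Cfsg.slToMat n K A).map σ = 1) : A ∈ Cfsg.SU n K q := by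
  intro u v
  generalize Cfsg.slToMat n K A = M at h
  have e1 : ∀ x y : Fin n → K, Cfsg.hermForm n K q x y = dotProduct x (σ ∘ y) := fun x y => by
    simp [Cfsg.hermForm, dotProduct, hσ]
  have e2 : σ ∘ M.mulVec v = (M.map σ).mulVec (σ ∘ v) := funext fun i => σ.map_mulVec M v i
  rw [e1, e1, e2, ← Matrix.vecMul_transpose, ← Matrix.dotProduct_mulVec, Matrix.mulVec_mulVec, h,
    Matrix.one_mulVec]

theorem exists_SU [Field K] {n q : ℕ} (I : Interp P K (Fin n)) (hl : allL l P.sm2 = true)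
    (h : ∀ c, (I.mat (P.lets l c)).det = 1) (σ : K →+* K) (hσ : ∀ x, σ x = x ^ q) {d0 d1 : ℕ}
    (hω : σ I.ω = d0 + d1 * I.ω) {lt : List MM} (hu : P.chkUnit d0 d1 l lt = true) :
    ∃ e : ℕ → Cfsg.SU n K q, Model I ((Cfsg.slToMat n K).comp (Cfsg.SU n K q).subtype) e l := by
  obtain ⟨e, he⟩ := exists_SL I hl h
  exact ⟨_, he.sub fun c => mem_SU σ hσ (by rw [he.eq]; exact Interp.unit_eq hl hu σ hω c)⟩

theorem exists_Sp [CommRing K] {m : Type*} [Fintype m] [DecidableEq m] (I : Interp P K (m ⊕ m))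
    (hl : allL l P.sm2 = true) {J : MM} (hJ : I.mat J = Matrix.J m K) {lt : List MM}
    (h : P.chkForm J l lt = true) : ∃ e : ℕ → Matrix.symplecticGroup m K,
      Model I (Matrix.symplecticGroup m K).subtype e l :=
  Model.of_exists Subtype.val_injective hl fun c =>
    ⟨⟨_, by rw [SymplecticGroup.mem_iff, ← hJ]; exact Interp.form_eq hl h c⟩, rfl⟩

end Classical

end H9.MX
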