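import Mathlib
import Cfsg.Agent.H9.M24

/-! Stabilisers of arbitrary points and dodecads in `M24`; the explicit generators. -/

set_option autoImplicit false

namespace H9

open Cfsg Finset MulAction
open scoped symmDiff Pointwise

theorem conj_mem_M24 {g : Equiv.Perm GolayPt} (hg : g ∈ M24) (x : M24) :
    g⁻¹ * x * g ∈ M24 := M24.mul_mem (M24.mul_mem (M24.inv_mem hg) x.2) hg

theorem conj_apply_iff (g x : Equiv.Perm GolayPt) (a : GolayPt) :
    (g⁻¹ * x * g) a = a ↔ x (g a) = g a := conj_smul_eq_iff g x a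

theorem mem_stab_pt (x : M24) (p : GolayPt) :
    x ∈ stabilizer M24 p ↔ (x : Equiv.Perm GolayPt) p = p := Iff.rfl

theorem mem_stab_set (x : M24) (s : Finset GolayPt) :
    x ∈ stabilizer M24 s ↔ (x : Equiv.Perm GolayPt) • s = s := Iff.rfl

theorem stab1_equiv (p : GolayPt) : Nonempty (stabilizer M24 p ≃* Stab [23] []) := by
  obtain ⟨g, hg, rfl⟩ := M24_trans1 (pt 23) p
  refine nonempty_equiv_of_conj _ _ (Stab_le _ _) g hg fun x => ?_
  simp only [mem_Stab, conj_mem_M24 hg x, List.mem_singleton, forall_eq, conj_apply_iff,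
    mem_stab_pt, List.not_mem_nil, IsEmpty.forall_iff, implies_true, and_true, true_and]

theorem stab2_equiv {p q : GolayPt} (hpq : p ≠ q) :
    Nonempty (↥(stabilizer M24 p ⊓ stabilizer M24 q) ≃* Stab [0, 23] []) := by
  obtain ⟨g, hg, rfl, rfl⟩ := M24_trans2 (show pt 0 ≠ pt 23 by decide) hpq
  refine nonempty_equiv_of_conj _ _ (Stab_le _ _) g hg fun x => ?_
  simp only [mem_Stab, conj_mem_M24 hg x, List.forall_mem_cons, conj_apply_iff, Subgroup.mem_inf,
    mem_stab_pt, List.not_mem_nil, IsEmpty.forall_iff, implies_true, and_true, true_and]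

theorem stab3_equiv {p q r : GolayPt} (hpq : p ≠ q) (hpr : p ≠ r) (hqr : q ≠ r) :
    Nonempty (↥(stabilizer M24 p ⊓ stabilizer M24 q ⊓ stabilizer M24 r) ≃* Stab [1, 0, 23] []) := by
  obtain ⟨g, hg, rfl, rfl, rfl⟩ := M24_trans3 (show pt 1 ≠ pt 0 by decide)
    (show pt 1 ≠ pt 23 by decide) (show pt 0 ≠ pt 23 by decide) hpq hpr hqr
  refine nonempty_equiv_of_conj _ _ (Stab_le _ _) g hg fun x => ?_
  simp only [mem_Stab, conj_mem_M24 hg x, List.forall_mem_cons, conj_apply_iff, Subgroup.mem_inf,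
    mem_stab_pt, List.not_mem_nil, IsEmpty.forall_iff, implies_true, and_true, true_and, and_assoc]

theorem stabd_equiv {d : Finset GolayPt} (hd : d ∈ dodecads) :
    Nonempty (stabilizer M24 d ≃* Stab [] [dod0]) := by
  obtain ⟨g, hg, rfl⟩ := dodecad_from0 hd
  refine nonempty_equiv_of_conj _ _ (Stab_le _ _) g hg fun x => ?_
  simp only [mem_Stab, conj_mem_M24 hg x, List.forall_mem_cons, conj_smul_eq_iff,
    mem_stab_set, List.not_mem_nil, IsEmpty.forall_iff, implies_true, and_true, true_and]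

/-- `M24` is transitive on pairs (dodecad, point of it). -/
theorem dodecad_pt_from0 {d : Finset GolayPt} (hd : d ∈ dodecads) {p : GolayPt} (hp : p ∈ d) :
    ∃ g ∈ M24, g • ofMask dod0 = d ∧ g (pt 0) = p := by
  obtain ⟨g, hg, rfl⟩ := dodecad_from0 hd
  obtain ⟨h, hh, e⟩ := gi12.orbPt (b := 0) (by decide) (g⁻¹ p) (by
    rw [show orbPt g12 0 = dod0 by decide +kernel]
    exact Finset.inv_smul_mem_iff.2 hp)
  refine ⟨g * h, M24.mul_mem hg hh.1, by rw [mul_smul, smul_dod0 _ h hh], ?_⟩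
  rw [Equiv.Perm.mul_apply, show h (pt 0) = g⁻¹ p from e]
  simp

theorem stabdp_equiv {d : Finset GolayPt} (hd : d ∈ dodecads) {p : GolayPt} (hp : p ∈ d) :
    Nonempty (↥(stabilizer M24 d ⊓ stabilizer M24 p) ≃* Stab [0] [dod0]) := by
  obtain ⟨g, hg, rfl, rfl⟩ := dodecad_pt_from0 hd hp
  refine nonempty_equiv_of_conj _ _ (Stab_le _ _) g hg fun x => ?_
  simp only [mem_Stab, conj_mem_M24 hg x, List.forall_mem_cons, conj_smul_eq_iff, conj_apply_iff,
    Subgroup.mem_inf, mem_stab_pt, mem_stab_set, List.not_mem_nil, IsEmpty.forall_iff,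
    implies_true, true_and, and_comm]

theorem card_of_equiv {A B : Type*} [Group A] [Group B] (h : Nonempty (A ≃* B)) {n : ℕ}
    (hn : Nat.card B = n) : Nat.card A = n := by
  obtain ⟨e⟩ := h
  rw [← hn]; exact Nat.card_congr e.toEquiv

theorem simple_of_equiv {A B : Type*} [Group A] [Group B] (h : Nonempty (A ≃* B))
    (hn : IsSimpleGroup B) : IsSimpleGroup A := by
  obtain ⟨e⟩ := h
  exact e.isSimpleGroup

/-! ### the named generators -/

theorem pm_shift : pm 956302485175575353788796878166559809 =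
    Equiv.optionCongr (Equiv.addRight (1 : ZMod 23)) :=
  pm_eq (by decide +kernel) _ (by decide +kernel)

theorem pm_projInv : pm 1795248432537898728475572672376535 = projInv :=
  pm_eq (by decide +kernel) _ (by decide +kernel)

theorem pm_cube : pm 974380510768821363662145534143076928 = cubeTwist :=
  pm_eq (by decide +kernel) _ (by
    intro p
    change cubeTwistFun p = _
    revert p
    decide +kernel)

theorem shift_mem : Equiv.optionCongr (Equiv.addRight (1 : ZMod 23)) ∈ M24 :=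
  pm_shift ▸ (gi24' _ (by decide)).2

theorem projInv_mem : projInv ∈ M24 := pm_projInv ▸ (gi24' _ (by decide)).2

theorem cubeTwist_mem : cubeTwist ∈ M24 := pm_cube ▸ (gi24' _ (by decide)).2

theorem closure_gens : Subgroup.closure
    {Equiv.optionCongr (Equiv.addRight (1 : ZMod 23)), projInv, cubeTwist} = M24 := by
  rw [← cl_g24, cl, ← pm_shift, ← pm_projInv, ← pm_cube]
  congr 1
  ext g
  simp [g24]

/-- code of multiplication by `a`. -/
def mulCode (a : ℕ) : ℕ := mkP fun i => cond (Nat.beq i 23) 23 (Nat.mod (Nat.mul a i) 23)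

theorem pm_mulCode (u : (ZMod 23)ˣ) :
    pm (mulCode (u : ZMod 23).val) = Equiv.optionCongr (Units.mulLeft u) := by
  have h1 : ∀ a : ZMod 23, a ≠ 0 → validP (mulCode a.val) = true := by decide +kernel
  have h2 : ∀ a x : ZMod 23, some (a * x) = pt (dig (mulCode a.val) (ix (some x))) := by
    decide +kernel
  have h3 : ∀ a : ZMod 23, none = pt (dig (mulCode a.val) (ix none)) := by decide +kernel
  have : Fact (Nat.Prime 23) := ⟨by norm_num⟩
  apply pm_eq (h1 _ u.ne_zero)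
  rintro (_ | x)
  · exact h3 _
  · exact h2 _ x

theorem mulSquare_mem (u : (ZMod 23)ˣ) (hu : IsSquare u) :
    Equiv.optionCongr (Units.mulLeft u) ∈ M24 := by
  have h1 : ∀ r : ZMod 23, r ≠ 0 → isM24 (mulCode (r * r).val) = true := by decide +kernel
  have : Fact (Nat.Prime 23) := ⟨by norm_num⟩
  obtain ⟨r, rfl⟩ := hu
  rw [← pm_mulCode]
  exact mem_M24_of_isM24 (h1 _ r.ne_zero)

/-! ### the pointwise stabiliser of an octad -/

theorem fix_oct0_eq : M24 ⊓ fixingSubgroup (Equiv.Perm GolayPt) (ofMask oct0 : Set GolayPt) =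
    Stab [5, 3, 2, 1, 0, 23] [] := by
  apply le_antisymm
  · rintro g ⟨hg, h⟩
    refine ⟨hg, fun i hi => ?_, by simp⟩
    apply (mem_fixingSubgroup_iff _).1 h
    revert i
    decide
  · have h : GensIn g16 (Stab [17, 14, 5, 3, 2, 1, 0, 23] []) := gensIn_Stab (by decide +kernel)
    rw [← cl_g16]
    refine h.cl_le.trans fun g hg => ⟨hg.1, (mem_fixingSubgroup_iff _).2 fun y hy => ?_⟩
    have : ix y ∈ [17, 14, 5, 3, 2, 1, 0, 23] := by
      revert y
      decide
    simpa using hg.2.1 _ this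

theorem g16_sq : ∀ g ∈ Stab [5, 3, 2, 1, 0, 23] [], g * g = 1 := by
  rw [← cl_g16]
  apply sq_eq_one_of_closure
  · rintro _ ⟨c, hc, rfl⟩ _ ⟨d, hd, rfl⟩
    have : ∀ c ∈ g16, ∀ d ∈ g16, mulP c d = mulP d c := by decide +kernel
    rw [← pm_mulP (gi16 c hc).1 (gi16 d hd).1, this c hc d hd, pm_mulP (gi16 d hd).1 (gi16 c hc).1]
  · rintro _ ⟨c, hc, rfl⟩
    have : ∀ c ∈ g16, mulP c c = idP := by decide +kernel
    rw [← pm_mulP (gi16 c hc).1 (gi16 c hc).1, this c hc, pm_idP]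

theorem octad_fix {o : Finset GolayPt} (ho : o ∈ octads) :
    Nat.card ↥(M24 ⊓ fixingSubgroup (Equiv.Perm GolayPt) (o : Set GolayPt)) = 16 ∧
    ∀ g ∈ M24 ⊓ fixingSubgroup (Equiv.Perm GolayPt) (o : Set GolayPt), g * g = 1 := by
  obtain ⟨k, hk, rfl⟩ := octad_from0 ho
  have h : ∀ x, x ∈ M24 ⊓ fixingSubgroup (Equiv.Perm GolayPt) ((k • ofMask oct0 : Finset _) : Set GolayPt)
      ↔ k⁻¹ * x * k ∈ Stab [5, 3, 2, 1, 0, 23] [] := by
    intro x
    rw [← fix_oct0_eq, Subgroup.mem_inf, Subgroup.mem_inf, mem_fixingSubgroup_iff,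
      mem_fixingSubgroup_iff, M24.mul_mem_cancel_right hk, M24.mul_mem_cancel_left (M24.inv_mem hk)]
    simp only [conj_smul_eq_iff, mem_coe, Finset.mem_smul_finset]
    apply and_congr_right
    intro _
    exact ⟨fun h y hy => h _ ⟨y, hy, rfl⟩, fun h _ ⟨y, hy, e⟩ => e ▸ h y hy⟩
  refine ⟨card_of_equiv (nonempty_equiv_of_conj' _ _ k h) card_s6, fun g hg => ?_⟩
  have := g16_sq _ ((h g).1 hg)
  have e : g * g = k * (k⁻¹ * g * k * (k⁻¹ * g * k)) * k⁻¹ := by group
  rw [e, this]; simp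

/-! ### sharp 5-transitivity of `M12`, 3-transitivity of `M11` on the other dodecad -/

theorem m12_five {d : Finset GolayPt} (hd : d ∈ dodecads) (x y : Fin 5 → GolayPt)
    (hxi : Function.Injective x) (hyi : Function.Injective y) (hx : ∀ i, x i ∈ d)
    (hy : ∀ i, y i ∈ d) : ∃ g ∈ M24, g • d = d ∧ ∀ i, g (x i) = y i := by
  obtain ⟨k, hk, rfl⟩ := dodecad_from0 hd
  obtain ⟨g, hg, h⟩ := dtr0.tuple rfl (fun i => k⁻¹ (x i)) (fun i => k⁻¹ (y i))
    ((k⁻¹).injective.comp hxi) ((k⁻¹).injective.comp hyi)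
    (fun i => Finset.inv_smul_mem_iff.2 (hx i)) (fun i => Finset.inv_smul_mem_iff.2 (hy i))
  refine ⟨k * g * k⁻¹, M24.mul_mem (M24.mul_mem hk hg.1) (M24.inv_mem hk), ?_, fun i => ?_⟩
  · rw [mul_smul, inv_smul_smul, mul_smul, smul_dod0 _ g hg]
  · rw [Equiv.Perm.mul_apply, Equiv.Perm.mul_apply, show g (k⁻¹ (x i)) = k⁻¹ (y i) from h i]
    simp

theorem m12_sharp {d : Finset GolayPt} (hd : d ∈ dodecads) (x : Fin 5 → GolayPt)
    (hxi : Function.Injective x) (hx : ∀ i, x i ∈ d) {g : Equiv.Perm GolayPt} (hg : g ∈ M24)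
    (hgd : g • d = d) (h : ∀ i, g (x i) = x i) : g = 1 := by
  obtain ⟨k, hk, rfl⟩ := dodecad_from0 hd
  obtain ⟨t, ht, htd, e⟩ := m12_five hd (fun i => k (pt i)) x
    (k.injective.comp (by decide)) hxi
    (fun i => Finset.smul_mem_smul_finset (by revert i; decide)) hx
  have : (t * k)⁻¹ * g * (t * k) ∈ Stab [4, 3, 2, 1, 0] [dod0] := by
    refine ⟨conj_mem_M24 (M24.mul_mem ht hk) ⟨g, hg⟩, ?_, ?_⟩
    · intro i hi
      have hi5 : i < 5 := by revert i; decide
      rw [conj_apply_iff, Equiv.Perm.mul_apply, e ⟨i, hi5⟩, h]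
    · simp only [List.mem_singleton, forall_eq, conj_smul_eq_iff]
      rw [mul_smul, htd, hgd]
  rw [d5_bot, Subgroup.mem_bot] at this
  have e : g = (t * k) * ((t * k)⁻¹ * g * (t * k)) * (t * k)⁻¹ := by group
  rw [e, this]; simp

theorem m12_sharply {d : Finset GolayPt} (hd : d ∈ dodecads) (x y : Fin 5 ↪ GolayPt)
    (hx : ∀ i, x i ∈ d) (hy : ∀ i, y i ∈ d) : ∃! g : stabilizer M24 d,
      ∀ i, ((g : M24) : Equiv.Perm GolayPt) (x i) = y i := by
  obtain ⟨g, hg, hgd, h⟩ := m12_five hd x y x.injective y.injective hx hy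
  refine ⟨⟨⟨g, hg⟩, hgd⟩, h, fun g' h' => ?_⟩
  ext1; ext1
  have := m12_sharp hd x x.injective hx (g := g⁻¹ * g') (M24.mul_mem (M24.inv_mem hg) g'.1.2)
    (by rw [mul_smul, inv_smul_eq_iff, hgd]; exact g'.2)
    (fun i => by rw [Equiv.Perm.mul_apply, h' i, ← h i]; simp)
  exact (inv_mul_eq_one.1 this).symm

theorem m11_three {d : Finset GolayPt} (hd : d ∈ dodecads) {p : GolayPt} (hp : p ∈ d)
    (x y : Fin 3 → GolayPt) (hxi : Function.Injective x) (hyi : Function.Injective y)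
    (hx : ∀ i, x i ∉ d) (hy : ∀ i, y i ∉ d) :
    ∃ g ∈ M24, g • d = d ∧ g p = p ∧ ∀ i, g (x i) = y i := by
  obtain ⟨k, hk, rfl, rfl⟩ := dodecad_pt_from0 hd hp
  have hc : ∀ z, z ∉ k • ofMask dod0 → k⁻¹ z ∈ (ofMask 16436384 : Set GolayPt) := by
    intro z hz
    rw [show 16436384 = dod0 ^^^ 16777215 by decide, ofMask_compl, mem_coe, mem_compl]
    exact fun h => hz (Finset.inv_smul_mem_iff.1 h)
  obtain ⟨g, hg, h⟩ := ctr0.tuple rfl (fun i => k⁻¹ (x i)) (fun i => k⁻¹ (y i))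
    ((k⁻¹).injective.comp hxi) ((k⁻¹).injective.comp hyi)
    (fun i => hc _ (hx i)) (fun i => hc _ (hy i))
  refine ⟨k * g * k⁻¹, M24.mul_mem (M24.mul_mem hk hg.1) (M24.inv_mem hk), ?_, ?_, fun i => ?_⟩
  · rw [mul_smul, inv_smul_smul, mul_smul, smul_dod0 _ g hg]
  · simp [hg.2.1 0 (by simp)]
  · rw [Equiv.Perm.mul_apply, Equiv.Perm.mul_apply, show g (k⁻¹ (x i)) = k⁻¹ (y i) from h i]
    simp

/-! ### hexads -/

theorem octad_inter_dodecad {o d : Finset GolayPt} (ho : o ∈ octads) (hd : d ∈ dodecads) :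
    (o ∩ d).card = 2 ∨ (o ∩ d).card = 4 ∨ (o ∩ d).card = 6 := by
  have h0 := card_symmDiff_add o d
  have h3 := card_of_mem_GC (symmDiff_mem_GC ho.1 hd.1)
  have h4 : (o ∩ d).card ≤ o.card := card_le_card inter_subset_left
  rw [ho.2, hd.2] at h0
  rw [ho.2] at h4
  omega

theorem hexads_steiner {d : Finset GolayPt} (hd : d ∈ dodecads) :
    IsSteinerSystem 5 6 {h : Finset {p : GolayPt // p ∈ d} |
      ∃ o ∈ octads, (o ∩ d).card = 6 ∧ h = Finset.subtype (fun p => p ∈ d) o} := by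
  constructor
  · rintro _ ⟨o, -, h6, rfl⟩
    rw [Finset.card_subtype, Finset.filter_mem_eq_inter, h6]
  · intro s hs
    obtain ⟨o, ⟨ho, hso⟩, hu⟩ := octads_steiner.2 (s.map (Function.Embedding.subtype _))
      (by rw [card_map, hs])
    have h5 : s.map (Function.Embedding.subtype _) ⊆ o ∩ d := by
      apply subset_inter hso
      intro x hx
      obtain ⟨y, -, rfl⟩ := mem_map.1 hx
      exact y.2
    have h6 := card_le_card h5
    rw [card_map, hs] at h6
    have := octad_inter_dodecad ho hd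
    refine ⟨Finset.subtype (fun p => p ∈ d) o, ⟨⟨o, ho, by omega, rfl⟩, fun x hx => ?_⟩, ?_⟩
    · exact Finset.mem_subtype.2 (hso (mem_map_of_mem _ hx))
    · rintro _ ⟨⟨o', ho', -, rfl⟩, h⟩
      rw [hu o' ⟨ho', ?_⟩]
      intro x hx
      obtain ⟨y, hy, rfl⟩ := mem_map.1 hx
      exact Finset.mem_subtype.1 (h hy)

/-- transport of a count of code words along an element of `M24`. -/
theorem ncard_smul_GC {k : Equiv.Perm GolayPt} (hk : k ∈ M24) (P Q : Finset GolayPt → Prop)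
    (h : ∀ s ∈ GC, P (k • s) ↔ Q s) : {s | s ∈ GC ∧ P s}.ncard = {s | s ∈ GC ∧ Q s}.ncard := by
  rw [← Set.ncard_smul_set k {s | s ∈ GC ∧ Q s}]
  congr 1
  ext s
  rw [Set.mem_smul_set_iff_inv_smul_mem]
  simp only [Set.mem_ofPred_eq, smul_mem_GC_iff (M24.inv_mem hk)]
  apply and_congr_right
  intro hs
  rw [← h _ (smul_mem_GC (M24.inv_mem hk) hs), smul_inv_smul]

theorem hexad_count {d : Finset GolayPt} (hd : d ∈ dodecads) (n : ℕ) :
    {o : Finset GolayPt | o ∈ octads ∧ (o ∩ d).card = n}.ncard =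
      treeCnt (fun m => Nat.beq (pc (cw m)) 8 && Nat.beq (pc (Nat.land (cw m) dod0)) n) 12 := by
  obtain ⟨k, hk, rfl⟩ := dodecad_from0 hd
  simp only [mem_octads, and_assoc]
  rw [ncard_smul_GC hk _ (fun o => o.card = 8 ∧ (o ∩ ofMask dod0).card = n)
    (fun s _ => by rw [← Finset.smul_finset_inter, card_smul_finset, card_smul_finset])]
  refine ncard_GC _ (fun c => Nat.beq (pc c) 8 && Nat.beq (pc (Nat.land c dod0)) n) ?_
  intro m _
  rw [← ofMask_and, card_ofMask, card_ofMask, Bool.and_eq_true, beq_iff, beq_iff]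
  rfl

end H9
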