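import Mathlib
import Cfsg.Agent.H9.M24b
import Cfsg.Agent.H7.SmallTools

/-! A computable field with four elements, and `M21 ≅ PSL(3,4)`. -/

set_option autoImplicit false

namespace H9

open Cfsg Finset MulAction

/-- the field with four elements `0, 1, ω, ω + 1`. -/
def F4 : Type := Fin 4

namespace F4

instance : DecidableEq F4 := inferInstanceAs (DecidableEq (Fin 4))
instance : Fintype F4 := inferInstanceAs (Fintype (Fin 4))

/-- the code of an element. -/
def val (a : F4) : ℕ := Fin.val a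

/-- the element with a given code. -/
def mk (n : ℕ) : F4 := Fin.ofNat 4 n

instance : Zero F4 := ⟨mk 0⟩
instance : One F4 := ⟨mk 1⟩
instance : Add F4 := ⟨fun a b => mk (Nat.xor a.val b.val)⟩
instance : Neg F4 := ⟨fun a => a⟩
instance : Mul F4 := ⟨fun a b => mk (Nat.shiftRight 0x9c78e400 (8 * a.val + 2 * b.val))⟩
instance : Inv F4 := ⟨fun a => a * a⟩

instance : Field F4 :=
  Field.ofMinimalAxioms F4 (by decide) (by decide) (by decide) (by decide) (by decide) (by decide)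
    (by decide) (by decide) (by decide) ⟨0, 1, by decide⟩

theorem card : Fintype.card F4 = 4 := rfl

end F4

/-- the point of the projective plane of order 4 on a non-zero vector. -/
def pgPt (v : Fin 3 → F4) : GolayPt :=
  pt (dig 0x41de554aae325916c2c2619317a0e5aaa4eb36029554e4b0d13bd05859a25ce83a2e639d16321080
    ((v 0).val + 4 * (v 1).val + 16 * (v 2).val))

def tvL : List ℕ := [0xbdab49ca307b9ac5a928398a418820, 0xbdab49ca307b9ac5a928398a418820, 0xbdab49ca307b9ac5a928398a418820,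
  0xbdab49ca307b9ac5a928398a418820, 0xbdab49ca307b9ac5a928398a418820, 0xbd953a39903c9b11d4c57a50458820,
  0xbda435d5302a9a69ba27431e4a0820, 0xbd9cb1a8d0455a9a498f2c4e498820, 0xbdab49ca307b9ac5a928398a418820,
  0xbc2549d4d63a8495b9857c5041b420, 0xb89d49a98d2d6115c8c7425e41d820, 0xbb5549b92244ac65d62f2b0e41c020,
  0xbdab49ca307b9ac5a928398a418820, 0xbb1f3a4232ab916218ed4a8ab18820, 0xbd6cb22627638cfa224a834b318820,
  0xbbd8459e29b39559b606920b418820, 0xbdab49ca307b9ac5a928398a418820, 0xbdab49ca307b9ac5a928398a418820,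
  0xbdab49ca307b9ac5a928398a418820, 0xbdab49ca307b9ac5a928398a418820, 0xbdab49ca307b9ac5a928398a418820,
  0xbbd949a5c7b451559a4d8284419420, 0xbb1f499c49a94d65a20a935c41c420, 0xbd6d49c0b26094f5b4e64a2241b820,
  0xbdab49ca307b9ac5a928398a418820, 0xbc0ea332364b892451ebaccad18820, 0xbb4c93ae2453ac893e8c9d4b018820,
  0xb926faa22da3a0b6255231cb618820, 0xbdab49ca307b9ac5a928398a418820, 0xbd8cf3b1d0a45b24254b9d46428820,
  0xbda6aaacb048da8951ec31e2470820, 0xbd8e932070515ab63e92acdc488820, 0xbdab49ca307b9ac5a928398a418820,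
  0xbdab49ca307b9ac5a928398a418820, 0xbdab49ca307b9ac5a928398a418820, 0xbdab49ca307b9ac5a928398a418820]

def tvCode (i j : Fin 3) (c : F4) : ℕ := tvL.getD (12 * i.val + 4 * j.val + c.val) 0

theorem tv_stab : ∀ (i j : Fin 3) (c : F4), inStab [1, 0, 23] [] (tvCode i j c) = true := by
  decide +kernel

theorem tv_act : ∀ (i j : Fin 3) (c x y z : F4), i ≠ j → ¬ (x = 0 ∧ y = 0 ∧ z = 0) →
    pt (dig (tvCode i j c) (ix (pgPt ![x, y, z]))) =
      pgPt fun k => ![x, y, z] k + if k = i then c * ![x, y, z] j else 0 := by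
  decide +kernel

theorem pgPt_smul : ∀ c x y z : F4, c ≠ 0 → pgPt ![c * x, c * y, c * z] = pgPt ![x, y, z] := by
  decide +kernel

theorem pgPt_surj : ∀ p : GolayPt, p = pt 1 ∨ p = pt 0 ∨ p = pt 23 ∨
    ∃ x y z : F4, x + 1 = 0 ∧ pgPt ![x, y, z] = p ∨ y + 1 = 0 ∧ pgPt ![x, y, z] = p ∨
      z + 1 = 0 ∧ pgPt ![x, y, z] = p := by
  decide +kernel

theorem vec3_eq (v : Fin 3 → F4) : ![v 0, v 1, v 2] = v := by
  ext i; fin_cases i <;> rfl

theorem exists_m21_hom : ∃ φ : Matrix.SpecialLinearGroup (Fin 3) F4 →* Stab [1, 0, 23] [],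
    ∀ g v, v ≠ 0 → (φ g : Equiv.Perm GolayPt) (pgPt v) = pgPt (g • v) := by
  have h1 : ∀ g : Matrix.SpecialLinearGroup (Fin 3) F4, ∃ k : Stab [1, 0, 23] [],
      ∀ v, v ≠ 0 → (k : Equiv.Perm GolayPt) (pgPt v) = pgPt (g • v) := by
    apply H7.sl_transvection_induction
    · exact ⟨1, fun v _ => by rw [one_smul]; rfl⟩
    · intro i j h c
      refine ⟨⟨_, mem_Stab_of_inStab (tv_stab i j c)⟩, fun v hv => ?_⟩
      have := tv_act i j c (v 0) (v 1) (v 2) h (fun ⟨e0, e1, e2⟩ => hv (by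
        rw [← vec3_eq v, e0, e1, e2]; exact vec3_eq 0))
      rw [vec3_eq] at this
      rw [pm_apply (validP_of_inStab (tv_stab i j c)), this]
      congr 1
      ext k
      rw [H7.transvection_smul_apply]
    · rintro A B ⟨k, hk⟩ ⟨l, hl⟩
      refine ⟨k * l, fun v hv => ?_⟩
      rw [mul_smul, ← hk _ ((smul_ne_zero_iff_ne B).2 hv), ← hl v hv]
      rfl
  have h2 : ∀ k l : Stab [1, 0, 23] [], (∀ v, v ≠ 0 → (k : Equiv.Perm GolayPt) (pgPt v) =
      (l : Equiv.Perm GolayPt) (pgPt v)) → k = l := by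
    intro k l h
    ext1
    ext1 p
    rcases pgPt_surj p with rfl | rfl | rfl | ⟨x, y, z, h3⟩
    · rw [k.2.2.1 1 (by simp), l.2.2.1 1 (by simp)]
    · rw [k.2.2.1 0 (by simp), l.2.2.1 0 (by simp)]
    · rw [k.2.2.1 23 (by simp), l.2.2.1 23 (by simp)]
    · have : ![x, y, z] ≠ 0 := fun e => by
        have e0 : x = 0 := congrFun e 0
        have e1 : y = 0 := congrFun e 1
        have e2 : z = 0 := congrFun e 2
        simp [e0, e1, e2] at h3
      rcases h3 with ⟨-, rfl⟩ | ⟨-, rfl⟩ | ⟨-, rfl⟩ <;> exact h _ this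
  choose φ hφ using h1
  refine ⟨MonoidHom.mk' φ fun A B => h2 _ _ fun v hv => ?_, hφ⟩
  rw [hφ _ v hv, mul_smul, ← hφ _ _ ((smul_ne_zero_iff_ne B).2 hv), ← hφ _ v hv]
  rfl

theorem m21_iso : Nonempty (Matrix.ProjectiveSpecialLinearGroup (Fin 3) F4 ≃* Stab [1, 0, 23] []) := by
  obtain ⟨φ, hφ⟩ := exists_m21_hom
  have := H7.psl_simple (ι := Fin 3) (F := F4) (by simp)
  obtain ⟨ψ, hψ⟩ := H7.exists_injective_of_simple φ (by
    intro g hg
    obtain ⟨r, -, hr⟩ := Matrix.SpecialLinearGroup.mem_center_iff.1 hg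
    have hv : ∀ v : Fin 3 → F4, g • v = r • v := fun v => by
      rw [Matrix.SpecialLinearGroup.smul_def, ← hr, Matrix.smul_eq_mulVec]
      ext i
      simp [Matrix.mulVec_diagonal]
    have hr0 : r ≠ 0 := by
      rintro rfl
      exact (smul_ne_zero_iff_ne g).2 (one_ne_zero (α := Fin 3 → F4)) ((hv 1).trans (zero_smul _ _))
    rw [MonoidHom.mem_ker]
    ext1
    ext1 p
    have h4 : ∀ x y z : F4, ![x, y, z] ≠ 0 →
        (φ g : Equiv.Perm GolayPt) (pgPt ![x, y, z]) = pgPt ![x, y, z] := fun x y z h => by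
      rw [hφ _ _ h, hv, ← vec3_eq (r • _)]
      exact pgPt_smul r x y z hr0
    rcases pgPt_surj p with rfl | rfl | rfl | ⟨x, y, z, h3⟩
    · exact (φ g).2.2.1 1 (by simp)
    · exact (φ g).2.2.1 0 (by simp)
    · exact (φ g).2.2.1 23 (by simp)
    · have : ![x, y, z] ≠ 0 := fun e => by
        have e0 : x = 0 := congrFun e 0
        have e1 : y = 0 := congrFun e 1
        have e2 : z = 0 := congrFun e 2
        simp [e0, e1, e2] at h3
      rcases h3 with ⟨-, rfl⟩ | ⟨-, rfl⟩ | ⟨-, rfl⟩ <;> exact h4 _ _ _ this) (by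
    refine ⟨Matrix.SpecialLinearGroup.transvection (show (0 : Fin 3) ≠ 1 by decide) 1, fun e => ?_⟩
    have h1 := hφ (Matrix.SpecialLinearGroup.transvection (show (0 : Fin 3) ≠ 1 by decide) 1)
      ![0, 1, 0] (by decide)
    rw [e, funext (H7.transvection_smul_apply _ _ _)] at h1
    exact absurd h1 (by decide +kernel))
  have h1 := H7.card_psl F4.card 3 (by norm_num)
  have : Finite (Stab [1, 0, 23] []) := inferInstance
  refine ⟨MulEquiv.ofBijective ψ (hψ.bijective_of_nat_card_le ?_)⟩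
  rw [card_s3]
  rw [show ∏ i : Fin 3, (4 ^ 3 - 4 ^ (i : ℕ)) = 181440 by decide, show Nat.gcd 3 (4 - 1) = 3 by decide]
    at h1
  change 20160 ≤ Nat.card (Matrix.ProjectiveSpecialLinearGroup (Fin 3) F4)
  omega

theorem m21_iso_psl (F : Type*) [Field F] [Fintype F] (hF : Fintype.card F = 4) :
    Nonempty (Stab [1, 0, 23] [] ≃* Matrix.ProjectiveSpecialLinearGroup (Fin 3) F) := by
  obtain ⟨e⟩ := m21_iso
  exact ⟨e.symm.trans (H7.pslCongr (FiniteField.ringEquivOfCardEq (by rw [hF, F4.card])))⟩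

end H9
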