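import Mathlib
import Cfsg.Agent.H9.CG
import Cfsg.Agent.H9.M21

/-! More glue: membership of letters, interpretations over the field with four elements. -/

set_option autoImplicit false

namespace H9.MX

open H29

theorem Model.mem_of {P : Par} {K : Type*} [CommRing K] {ι : Type*} [Fintype ι] [DecidableEq ι]
    {I : Interp P K ι} {G : Type*} [Group G] {val : G →* Matrix ι ι K} {e : ℕ → G} {l : List MM}
    (h : Model I val e l) {H : Subgroup G} (hc : ∀ c < l.length, e c ∈ H) (c : ℕ) : e c ∈ H := by
  by_cases h1 : c < l.length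
  · exact hc c h1
  · rw [h.inj (a₁ := e c) (a₂ := 1) (by rw [h.eq, P.lets_default (by omega), I.mat_one, map_one])]
    exact H.one_mem

theorem Model.ne_one {P : Par} {K : Type*} [CommRing K] [Nontrivial K] {ι : Type*} [Fintype ι]
    [DecidableEq ι] {I : Interp P K ι} {G : Type*} [Group G] {val : G →* Matrix ι ι K} {e : ℕ → G}
    {l : List MM} (h : Model I val e l) {u v : List ℕ} {i j : ℕ}
    (hc : P.chkSep l (u ++ v) (v ++ u) i j = true) : ev e u ≠ 1 := by
  intro h1
  apply h.ne hc
  rw [ev_append, ev_append, h1, one_mul, mul_one]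

/-- The interpretation over the field with four elements. -/
def interp4 {P : Par} {ι : Type*} (ix : ι ≃ Fin P.n) (ok : P.OK) (h : P.p = 2 ∧ P.c0 = 1 ∧ P.c1 = 1) :
    Interp P F4 ι :=
  ⟨F4.mk 2, ix, ok, by rw [h.1]; decide, by rw [h.2.1, h.2.2]; decide⟩

/-- The interpretation over a prime field. -/
def interpP {P : Par} {ι : Type*} (p : ℕ) (ix : ι ≃ Fin P.n) (ok : P.OK)
    (h : P.p = p ∧ P.c0 = 0 ∧ P.c1 = 0) : Interp P (ZMod p) ι :=
  ⟨0, ix, ok, by rw [h.1]; simp, by rw [h.2.1, h.2.2]; simp⟩

/-- The Frobenius map of the field with four elements. -/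
def frob4 : F4 →+* F4 where
  toFun x := x * x
  map_one' := by decide
  map_mul' := by decide
  map_zero' := by decide
  map_add' := by decide

theorem frob4_eq (x : F4) : frob4 x = x ^ 2 := (sq x).symm

end H9.MX
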