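import Mathlib
import Cfsg.Agent.H9.CG2

/-! More glue: odd orthogonal groups, central quotients of commutator subgroups. -/

set_option autoImplicit false

namespace H9.MX

open H29 Matrix
open scoped commutatorElement

theorem equiv_of_simple_hom {S G : Type*} [Group S] [Group G] [IsSimpleGroup S] (f : S →* G)
    (hne : ∃ x, f x ≠ 1) {n : ℕ} (hn : 0 < n) (hS : Nat.card S = n) (hG : Nat.card G = n) :
    Nonempty (S ≃* G) := by
  have hinj : Function.Injective f := by
    rw [← MonoidHom.ker_eq_bot_iff]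
    refine (IsSimpleGroup.eq_bot_or_eq_top_of_normal f.ker inferInstance).resolve_right fun h3 => ?_
    obtain ⟨x, hx⟩ := hne
    exact hx (h3 ▸ Subgroup.mem_top _ : x ∈ f.ker)
  have : Finite G := Nat.finite_of_card_ne_zero (by omega)
  exact ⟨MulEquiv.ofBijective f ((Nat.bijective_iff_injective_and_card f).2 ⟨hinj, by rw [hS, hG]⟩)⟩

/-- A simple group with a non-commutative image in `G` maps into the central quotient of the
commutator subgroup of `G`. -/
theorem equiv_comm_quot {S G : Type*} [Group S] [Group G] [IsSimpleGroup S] (f : S →* G)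
    {x y : S} (h : f (x * y) ≠ f (y * x)) {n : ℕ} (hn : 0 < n) (hS : Nat.card S = n)
    (hG : Nat.card (commutator G ⧸ Subgroup.center (commutator G)) = n) :
    Nonempty (S ≃* commutator G ⧸ Subgroup.center (commutator G)) := by
  have h1 : commutator S = ⊤ := by
    refine (IsSimpleGroup.eq_bot_or_eq_top_of_normal _ inferInstance).resolve_left fun h2 => h ?_
    have : ⁅x, y⁆ ∈ commutator S := Subgroup.commutator_mem_commutator (by simp) (by simp)
    rw [h2, Subgroup.mem_bot, commutatorElement_eq_one_iff_mul_comm] at this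
    rw [this]
  have h2 : ∀ s, f s ∈ commutator G := fun s => by
    have : (commutator S).map f ≤ commutator G := by
      rw [commutator_def, Subgroup.map_commutator]
      exact Subgroup.commutator_mono le_top le_top
    exact this ⟨s, h1 ▸ Subgroup.mem_top s, rfl⟩
  refine equiv_of_simple_hom ((QuotientGroup.mk' _).comp (f.codRestrict _ h2)) ⟨x, fun h3 => h ?_⟩
    hn hS hG
  rw [MonoidHom.comp_apply, QuotientGroup.mk'_apply, QuotientGroup.eq_one_iff,
    Subgroup.mem_center_iff] at h3
  have := congrArg Subtype.val (h3 (f.codRestrict _ h2 y))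
  rw [map_mul, map_mul]
  exact this.symm

/-- The Gram matrix of `quadFormOdd`. -/
def gramOdd (m : ℕ) (F : Type*) [Field F] :
    Matrix (Unit ⊕ (Fin m ⊕ Fin m)) (Unit ⊕ (Fin m ⊕ Fin m)) F :=
  fromBlocks (2 : Matrix Unit Unit F) 0 0 (fromBlocks 0 1 1 0)

theorem gramOdd_spec (m : ℕ) (F : Type*) [Field F] (v : Unit ⊕ (Fin m ⊕ Fin m) → F) :
    v ⬝ᵥ (gramOdd m F *ᵥ v) = 2 * Cfsg.quadFormOdd m F v := by
  simp [gramOdd, fromBlocks_mulVec, dotProduct, Fintype.sum_sum_type, Cfsg.quadFormOdd,
    mul_add, Finset.mul_sum]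
  rw [← Finset.sum_add_distrib]
  congr 1
  · ring
  · exact Finset.sum_congr rfl fun i _ => by ring

theorem mem_isometryGroup {ι F : Type} [Fintype ι] [DecidableEq ι] [Field F] (h2 : (2 : F) ≠ 0)
    {Q : (ι → F) → F} {S : Matrix ι ι F} (hS : ∀ v, v ⬝ᵥ (S *ᵥ v) = 2 * Q v)
    {A : GL ι F} (h : (A : Matrix ι ι F)ᵀ * S * A = S) : A ∈ Cfsg.isometryGroup F Q := by
  intro u _
  apply mul_left_cancel₀ h2
  show 2 * Q (A.val *ᵥ u) = 2 * Q u
  rw [← hS, ← hS, mulVec_mulVec, ← vecMul_transpose, ← dotProduct_mulVec, mulVec_mulVec,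
    ← Matrix.mul_assoc, h]

theorem Interp.form_eq' {P : Par} {K : Type*} [CommRing K] {ι : Type*} [Fintype ι] [DecidableEq ι]
    {I : Interp P K ι} {l lt : List MM} (hl : H29.allL lt P.sm2 = true) {J : MM}
    (h : P.chkForm J lt l = true) (hlen : l.length = lt.length) (c : ℕ) :
    (I.mat (P.lets l c))ᵀ * I.mat J * I.mat (P.lets l c) = I.mat J := by
  have h1 := Interp.form_eq (I := I) hl h c
  by_cases hc : c < lt.length
  · simp only [Par.chkForm, and2_true, allN_true] at h
    rw [I.mat_isTr (h.2 c hc).1, transpose_transpose]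
    exact h1
  · rw [P.lets_default (by omega), I.mat_one]; simp

theorem exists_O {P : Par} {ι K : Type} [Fintype ι] [DecidableEq ι] [Field K] {l lt : List MM}
    (I : Interp P K ι) (hl : H29.allL l P.sm2 = true) (hlt : H29.allL lt P.sm2 = true) {ivl : List ℕ}
    (hi : P.chkIv l ivl = true) (h2 : (2 : K) ≠ 0) {Q : (ι → K) → K} {J : MM}
    (hS : ∀ v, v ⬝ᵥ (I.mat J *ᵥ v) = 2 * Q v) (h : P.chkForm J lt l = true)
    (hlen : l.length = lt.length) : ∃ e : ℕ → Cfsg.isometryGroup K Q,
      Model I ((Units.coeHom _).comp (Cfsg.isometryGroup K Q).subtype) e l := by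
  obtain ⟨e, he⟩ := exists_GL I hl hi
  exact ⟨_, he.sub fun c => mem_isometryGroup h2 hS (by
    rw [show (e c : Matrix ι ι K) = _ from he.eq c]; exact Interp.form_eq' hlt h hlen c)⟩

end H9.MX
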