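import Mathlib
import Cfsg.Agent.H9.CG3

/-! More glue: words as letters, subgroups of index two. -/

set_option autoImplicit false

namespace H9.MX

open H29

theorem ivOK_of_chk' {K k : ℕ} {nets : ℕ → Net} {ivl : List ℕ} (h : NetsOK K nets)
    (hK : K ≤ 2 ^ k) {n : ℕ} (h2 : ivl.length ≤ n) (h1 : ∀ c, n ≤ c → sg nets c = 1)
    (hc : ∀ j < k, chkIvP K k nets (ivOf ivl) n j = true) : IvOK (sg nets) (ivOf ivl) := by
  intro c
  by_cases hcn : c < n
  · have := ev_eq_of_planeEq h hK (u := [c, ivOf ivl c]) (v := [])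
      fun j hj => chkEq_sound h hK (allN_true.1 (hc j hj) c hcn)
    simp only [ev_cons, ev_nil, mul_one] at this
    exact eq_inv_of_mul_eq_one_right this
  · have e1 : ivOf ivl c = c := by
      rw [ivOf, nth_eq, List.getD_eq_default _ _ (by omega)]
    rw [e1, h1 c (by omega), inv_one]

section

variable {G : Type*} [Group G]

theorem inj_of_faithful {ρ : G →* Equiv.Perm ℕ} {N : ℕ}
    (hf : ∀ g : G, (∀ i < N, ρ g i = i) → g = 1) : Function.Injective ρ :=
  (injective_iff_map_eq_one _).2 fun g hg => hf g fun i _ => by rw [hg]; rfl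

theorem ivOK_of_faithful {e : ℕ → G} {ρ : G →* Equiv.Perm ℕ} {nets : ℕ → Net} {N : ℕ}
    (hf : ∀ g : G, (∀ i < N, ρ g i = i) → g = 1) (hρ : ∀ c, ρ (e c) = sg nets c) {iv : ℕ → ℕ}
    (h : IvOK (sg nets) iv) : IvOK e iv := fun c =>
  inj_of_faithful hf (by rw [map_inv, hρ, hρ, h c])

theorem gen_wE_le {e : ℕ → G} {wl : List (List ℕ)} {L L' : List ℕ}
    (h : (H29.allL L fun c => H29.allL (nth [] wl c) fun y => memL y L') = true) :
    gen (wE e wl) L ≤ gen e L' := gen_le.2 fun c hc =>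
  ev_mem_gen fun y hy => memL_true.1 (allL_true.1 (allL_true.1 h c hc) y hy)

theorem exists_index {K : Type*} [Group K] {N H : Subgroup G} (h : N ≤ H) (f : N ≃* K) {n m : ℕ}
    (hn : 0 < n) (hK : Nat.card K = n) (hH : Nat.card H = m * n) :
    ∃ M : Subgroup H, M.index = m ∧ Nonempty (M ≃* K) := by
  have g := (Subgroup.subgroupOfEquivOfLe h).trans f
  refine ⟨N.subgroupOf H, ?_, ⟨g⟩⟩
  have := (N.subgroupOf H).index_mul_card
  rw [Nat.card_congr g.toEquiv, hK, hH] at this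
  exact Nat.eq_of_mul_eq_mul_right hn this

theorem exists_index_two {K : Type*} [Group K] {N H : Subgroup G} (h : N ≤ H) (f : N ≃* K) {n : ℕ}
    (hn : 0 < n) (hK : Nat.card K = n) (hH : Nat.card H = 2 * n) :
    ∃ M : Subgroup H, M.index = 2 ∧ Nonempty (M ≃* K) := exists_index h f hn hK hH

theorem index_two_congr {H K : Type*} [Group H] [Group K] (f : G ≃* H) {m : ℕ}
    (h : ∃ M : Subgroup G, M.index = m ∧ Nonempty (M ≃* K)) :
    ∃ M : Subgroup H, M.index = m ∧ Nonempty (M ≃* K) := by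
  obtain ⟨M, h1, ⟨g⟩⟩ := h
  exact ⟨M.map f.toMonoidHom, by rw [← h1]; exact Subgroup.index_map_equiv M f,
    ⟨(f.subgroupMap M).symm.trans g⟩⟩

end

end H9.MX
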