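import Mathlib
import Cfsg.Agent.H9.CG4

/-!
# Packed square matrices over the field with two elements, for kernel evaluation

Entry `(i, j)` of the matrix coded by `X` is the bit number `s * i + j` of `X`.
-/

set_option autoImplicit false

namespace H9.GF2

open H29 H9.MX Finset

/-- Dimension, row size, and the masks. -/
structure Par where
  n : ℕ
  s : ℕ
  cm : ℕ
  rm : ℕ
  one : ℕ

/-- A bit as an element of the field. -/
def bz (b : Bool) : ZMod 2 := cond b 1 0

theorem bz_xor (a b : Bool) : bz (a ^^ b) = bz a + bz b := by revert a b; decide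
theorem bz_and (a b : Bool) : bz (a && b) = bz a * bz b := by revert a b; decide
theorem bz_inj {a b : Bool} (h : bz a = bz b) : a = b := by revert a b; decide

theorem testBit_dig' (s X i j : ℕ) (hj : j < s) :
    (MX.dig s X i).testBit j = X.testBit (s * i + j) := by
  rw [MX.dig_eq, Nat.testBit_mod_two_pow, Nat.testBit_div_two_pow, add_comm]
  simp [hj]

namespace Par

variable (P : Par)

/-- The parameters are coherent. -/
noncomputable def ok : Bool :=
  and2 (Nat.ble (Nat.succ P.n) P.s) (and2 (Nat.beq P.cm (rep P.s (ones 1) P.n))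
    (and2 (Nat.beq P.rm (ones P.n)) (Nat.beq P.one (rep (Nat.succ P.s) 1 P.n))))

structure OK : Prop where
  lt : P.n < P.s
  cm : P.cm = rep P.s (ones 1) P.n
  rm : P.rm = ones P.n
  one : P.one = rep (P.s + 1) 1 P.n

theorem ok_of (h : P.ok = true) : P.OK := by
  simp only [ok, and2_true, ble_true, H29.beq_true] at h
  exact ⟨h.1, h.2.1, h.2.2.1, h.2.2.2⟩

/-- Row `k`. -/
def row (B k : ℕ) : ℕ := Nat.land (Nat.shiftRight B (Nat.mul P.s k)) P.rm

/-- The sum of the first terms of the product. -/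
noncomputable def mulAux (A B m : ℕ) : ℕ → ℕ :=
  Nat.rec (motive := fun _ => ℕ → ℕ) (fun acc => acc)
    (fun k ih acc => seqN (Nat.xor acc (Nat.mul (Nat.land (Nat.shiftRight A k) P.cm) (P.row B k))) ih) m

/-- The product. -/
noncomputable def mul (A B : ℕ) : ℕ := P.mulAux A B P.n 0

/-- The matrix of a code. -/
def mat (X : ℕ) : Matrix (Fin P.n) (Fin P.n) (ZMod 2) :=
  Matrix.of fun i j => bz (X.testBit (P.s * i + j))

variable {P}

theorem testBit_row (h : P.OK) (B k j : ℕ) :
    (P.row B k).testBit j = (decide (j < P.n) && B.testBit (P.s * k + j)) := by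
  rw [row, h.rm, land_eq, Nat.testBit_and, testBit_ones, shr_eq, Nat.testBit_shiftRight,
    Bool.and_comm]
  rfl

theorem row_lt (h : P.OK) (B k : ℕ) : P.row B k < 2 ^ P.s := by
  apply Nat.lt_pow_two_of_testBit
  intro j hj
  have := h.lt
  rw [testBit_row h, decide_eq_false (by omega), Bool.false_and]

theorem testBit_term (h : P.OK) (A r k : ℕ) (hr : r < 2 ^ P.s) {i j : ℕ} (hi : i < P.n)
    (hj : j < P.s) : (Nat.mul (Nat.land (Nat.shiftRight A k) P.cm) r).testBit (P.s * i + j) =
      (A.testBit (P.s * i + k) && r.testBit j) := by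
  have hs : 1 ≤ P.s := by have := h.lt; omega
  rw [h.cm, land_rep hs, ← testBit_dig' _ _ _ _ hj, Nat.mul_eq, mul_comm, ofD_mul,
    (ofD_spec _ _ (fun l => r * (A.shiftRight k / 2 ^ (P.s * l) % 2 ^ 1))
      fun l _ => lt_of_le_of_lt (Nat.mul_le_mul_left r
      (Nat.le_of_lt_succ (Nat.mod_lt _ two_pos))) (by simpa using hr)).2, if_pos hi]
  have e : A.shiftRight k / 2 ^ (P.s * i) % 2 ^ 1 = (A.testBit (P.s * i + k)).toNat := by
    rw [Nat.toNat_testBit, shr_eq, Nat.shiftRight_eq_div_pow, Nat.div_div_eq_div_mul, ← pow_add,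
      add_comm, pow_one]
  rw [e]
  cases A.testBit (P.s * i + k) <;> simp

theorem mulAux_spec (h : P.OK) (A B : ℕ) {i j : ℕ} (hi : i < P.n) (hj : j < P.n) : ∀ m acc,
    bz ((P.mulAux A B m acc).testBit (P.s * i + j)) = bz (acc.testBit (P.s * i + j)) +
      ∑ k ∈ range m, bz (A.testBit (P.s * i + k)) * bz (B.testBit (P.s * k + j))
  | 0, acc => by simp [show P.mulAux A B 0 acc = acc from rfl]
  | m + 1, acc => by
    rw [show P.mulAux A B (m + 1) acc = seqN (Nat.xor acc (Nat.mul (Nat.land (Nat.shiftRight A m)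
      P.cm) (P.row B m))) (P.mulAux A B m) from rfl, seqN_eq, mulAux_spec h A B hi hj m, xor_eq,
      Nat.testBit_xor, testBit_term h A _ m (row_lt h B m) hi (hj.trans h.lt), testBit_row h,
      decide_eq_true hj, Bool.true_and, bz_xor, bz_and, sum_range_succ]
    ring

theorem mat_mul (h : P.OK) (A B : ℕ) : P.mat (P.mul A B) = P.mat A * P.mat B := by
  ext i j
  rw [Matrix.mul_apply]
  simp only [mat, Matrix.of_apply]
  rw [mul, mulAux_spec h A B i.2 j.2,
    Fin.sum_univ_eq_sum_range (fun k => bz (A.testBit (P.s * i + k)) * bz (B.testBit (P.s * k + j)))]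
  simp [bz]

theorem mat_one (h : P.OK) : P.mat P.one = 1 := by
  ext i j
  have hs := h.lt
  have key : ∀ a b : ℕ, b < P.s + 1 → P.one.testBit ((P.s + 1) * a + b) =
      decide (a < P.n ∧ b = 0) := fun a b hb => by
    rw [← testBit_dig' _ _ _ _ hb, h.one, rep_eq,
      (ofD_spec _ _ _ fun _ _ => Nat.one_lt_two_pow (by omega)).2]
    by_cases ha : a < P.n
    · rw [if_pos ha, Bool.eq_iff_iff, Nat.testBit_one_eq_true_iff_self_eq_zero]; simp [ha]
    · rw [if_neg ha]; simp [ha]
  simp only [mat, Matrix.of_apply, Matrix.one_apply]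
  have hi := i.2
  have hj := j.2
  rcases lt_trichotomy (j : ℕ) i with h1 | h1 | h1
  · have := key (i - 1) (P.s + 1 + j - i) (by omega)
    rw [show (P.s + 1) * (i - 1) + (P.s + 1 + j - i) = P.s * i + j by
      obtain ⟨m, hm⟩ : ∃ m, (i : ℕ) = m + 1 := ⟨i - 1, by omega⟩
      rw [hm]; simp only [Nat.add_sub_cancel]
      have : m + 1 ≤ P.s + 1 + j := by omega
      zify [this]; ring] at this
    rw [this, if_neg (fun h2 => by rw [h2] at h1; omega), decide_eq_false (by omega)]; rfl
  · have := key i 0 (by omega)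
    rw [show (P.s + 1) * i + 0 = P.s * i + j by rw [h1]; ring] at this
    rw [this, if_pos (Fin.ext h1.symm), decide_eq_true ⟨hi, rfl⟩]; rfl
  · have := key i (j - i) (by omega)
    rw [show (P.s + 1) * i + (j - i) = P.s * i + j by
      have : (i : ℕ) ≤ j := h1.le
      zify [this]; ring] at this
    rw [this, if_neg (fun h2 => by rw [h2] at h1; omega), decide_eq_false (by omega)]; rfl

variable (P)

/-- The letters of a list of codes. -/
noncomputable def lets (l : List ℕ) : ℕ → ℕ := nth P.one l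

/-- `acc` times the value of a word. -/
noncomputable def evA (L : ℕ → ℕ) (w : List ℕ) : ℕ → ℕ :=
  List.rec (motive := fun _ => ℕ → ℕ) (fun acc => acc)
    (fun c _ ih acc => seqN (P.mul acc (L c)) ih) w

/-- The value of a word. -/
noncomputable def evW (L : ℕ → ℕ) (w : List ℕ) : ℕ :=
  List.rec (motive := fun _ => ℕ) P.one (fun c t _ => P.evA L t (L c)) w

/-- The table `ivl` inverts the letters from `a` to `a + m`. -/
noncomputable def chkIv (l : List ℕ) (ivl : List ℕ) (a m : ℕ) : Bool :=
  allN m fun c => lit (Nat.add a c) fun d =>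
    Nat.beq (P.mul (P.lets l (ivOf ivl d)) (P.lets l d)) P.one

/-- The words evaluate to the identity. -/
noncomputable def chkRel (l : List ℕ) (R : List (List ℕ)) : Bool :=
  H29.allL R fun w => Nat.beq (P.evW (P.lets l) w) P.one

/-- The pairs of words have equal values. -/
noncomputable def chkEq (l : List ℕ) (R : List (List ℕ × List ℕ)) : Bool :=
  H29.allL R fun w => Nat.beq (P.evW (P.lets l) w.1) (P.evW (P.lets l) w.2)

/-- The words have values that differ at the place `(i, j)`. -/
noncomputable def chkNe (l : List ℕ) (u v : List ℕ) (i j : ℕ) : Bool :=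
  and2 (and2 (Nat.ble (Nat.succ i) P.n) (Nat.ble (Nat.succ j) P.n))
    (Nat.beq (Nat.land (Nat.shiftRight (Nat.xor (P.evW (P.lets l) u) (P.evW (P.lets l) v))
      (Nat.add (Nat.mul P.s i) j)) 1) 1)

variable {P}

theorem mat_evA (h : P.OK) (L : ℕ → ℕ) : ∀ (w : List ℕ) (acc : ℕ),
    P.mat (P.evA L w acc) = P.mat acc * (w.map fun c => P.mat (L c)).prod
  | [], acc => by simp [show P.evA L [] acc = acc from rfl]
  | c :: t, acc => by
    rw [show P.evA L (c :: t) acc = seqN (P.mul acc (L c)) (P.evA L t) from rfl, seqN_eq,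
      mat_evA h L t, mat_mul h, List.map_cons, List.prod_cons, mul_assoc]

theorem mat_evW (h : P.OK) (L : ℕ → ℕ) : ∀ w : List ℕ,
    P.mat (P.evW L w) = (w.map fun c => P.mat (L c)).prod
  | [] => mat_one h
  | c :: t => by
    rw [show P.evW L (c :: t) = P.evA L t (L c) from rfl, mat_evA h, List.map_cons, List.prod_cons]

/-- The inverse table is right on all letters below `m`. -/
def IvTo (P : Par) (l ivl : List ℕ) (m : ℕ) : Prop :=
  ∀ c < m, P.mat (P.lets l (ivOf ivl c)) * P.mat (P.lets l c) = 1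

theorem ivTo_zero (l ivl : List ℕ) : P.IvTo l ivl 0 := fun _ h => absurd h (Nat.not_lt_zero _)

theorem IvTo.step (h : P.OK) {l ivl : List ℕ} {a m b : ℕ} (h1 : P.IvTo l ivl a)
    (h2 : P.chkIv l ivl a m = true) (hb : b = a + m) : P.IvTo l ivl b := fun c hc => by
  by_cases hca : c < a
  · exact h1 c hca
  · have := allN_true.1 h2 (c - a) (by omega)
    rw [lit_eq, H29.beq_true, Nat.add_eq, show a + (c - a) = c by omega] at this
    rw [← mat_mul h, this, mat_one h]

end Par

/-- The letters `e` have the matrices of the list `l` as values. -/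
def Mod (P : Par) {G : Type*} [Group G] (val : G →* Matrix (Fin P.n) (Fin P.n) (ZMod 2))
    (e : ℕ → G) (l : List ℕ) : Prop := ∀ c, val (e c) = P.mat (P.lets l c)

theorem exists_GL {P : Par} (h : P.OK) {l ivl : List ℕ} (hi : P.IvTo l ivl l.length)
    (hl : ivl.length ≤ l.length) : ∃ σ : ℕ → GL (Fin P.n) (ZMod 2),
      Mod P (Units.coeHom _) σ l ∧ IvOK σ (ivOf ivl) := by
  have key : ∀ c, P.mat (P.lets l (ivOf ivl c)) * P.mat (P.lets l c) = 1 := fun c => by
    by_cases hc : c < l.length
    · exact hi c hc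
    · rw [ivOf, nth_default _ (by omega), Par.lets, nth_default _ (by omega), Par.mat_one h, one_mul]
  refine ⟨fun c => ⟨_, _, mul_eq_one_comm.1 (key c), key c⟩, fun c => rfl, fun c => ?_⟩
  exact eq_inv_of_mul_eq_one_left (Units.ext (key c))

namespace Mod

variable {P : Par} {G : Type*} [Group G] {val : G →* Matrix (Fin P.n) (Fin P.n) (ZMod 2)}
  {e : ℕ → G} {l : List ℕ}

theorem val_ev (h : P.OK) (hm : Mod P val e l) (w : List ℕ) :
    val (ev e w) = P.mat (P.evW (P.lets l) w) := by
  rw [Par.mat_evW h, ev, map_list_prod, List.map_map]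
  congr 1
  exact List.map_congr_left fun c _ => hm c

theorem rels (h : P.OK) (hm : Mod P val e l) (inj : Function.Injective val) {R : List (List ℕ)}
    (hc : P.chkRel l R = true) : ∀ r ∈ R, ev e r = 1 := fun r hr => inj (by
  rw [hm.val_ev h, H29.beq_true.1 (allL_true.1 hc r hr), Par.mat_one h, map_one])

theorem val_eq (h : P.OK) (hm : Mod P val e l) {R : List (List ℕ × List ℕ)}
    (hc : P.chkEq l R = true) : ∀ r ∈ R, val (ev e r.1) = val (ev e r.2) := fun r hr => by
  rw [hm.val_ev h, hm.val_ev h, H29.beq_true.1 (allL_true.1 hc r hr)]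

theorem eqs (h : P.OK) (hm : Mod P val e l) (inj : Function.Injective val)
    {R : List (List ℕ × List ℕ)} (hc : P.chkEq l R = true) : ∀ r ∈ R, ev e r.1 = ev e r.2 :=
  fun r hr => inj (hm.val_eq h hc r hr)

theorem val_ne (h : P.OK) (hm : Mod P val e l) {u v : List ℕ} {i j : ℕ}
    (hc : P.chkNe l u v i j = true) : val (ev e u) ≠ val (ev e v) := by
  intro h1
  simp only [Par.chkNe, and2_true, ble_true, H29.beq_true] at hc
  obtain ⟨⟨hi, hj⟩, h2⟩ := hc
  rw [hm.val_ev h, hm.val_ev h] at h1
  have h3 := bz_inj (congrFun (congrFun h1 ⟨i, hi⟩) ⟨j, hj⟩)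
  have h4 := congrArg (fun x => Nat.testBit x 0) h2
  simp only [land_eq, shr_eq, xor_eq, Nat.testBit_and, Nat.testBit_shiftRight, Nat.testBit_xor,
    Nat.add_eq, Nat.mul_eq, add_zero] at h4
  simp only at h3
  rw [h3] at h4
  simp at h4

theorem ne (h : P.OK) (hm : Mod P val e l) {u v : List ℕ} {i j : ℕ}
    (hc : P.chkNe l u v i j = true) : ev e u ≠ ev e v := fun h1 => hm.val_ne h hc (by rw [h1])

theorem eq_one (h : P.OK) (hm : Mod P val e l) (inj : Function.Injective val) {c : ℕ}
    (hc : l.length ≤ c) : e c = 1 := inj (by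
  rw [hm c, Par.lets, nth_default _ hc, Par.mat_one h, map_one])

/-- A homomorphism that matches the old letters matches the new ones. -/
theorem ext (h : P.OK) {H : Type*} [Group H] {σ : ℕ → H}
    {v : H →* Matrix (Fin P.n) (Fin P.n) (ZMod 2)} (hm : Mod P v σ l) (inj : Function.Injective v)
    {n : ℕ} {defs : List (List ℕ)} {ivl0 ivl : List ℕ} (hx : chkExt n defs ivl0 ivl = true)
    (hiv : IvOK σ (ivOf ivl)) (hR : ∀ r ∈ defRels defs n, ev σ r = 1)
    (hl : l.length ≤ n + 2 * defs.length) {ρ : G →* H} (h0 : ∀ c < n, ρ (e c) = σ c) :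
    Mod P (v.comp ρ) (extE e n defs) l := fun c => by
  rw [MonoidHom.comp_apply, (isExt_extE e (chkExt_wf hx)).map_eq (chkExt_wf hx)
    (isExt_of_rels hx hiv hR fun _ hc => hm.eq_one h inj (hl.trans hc))
    (fun c hc => by rw [extE_lt _ _ _ hc, h0 c hc]) c, hm c]

end Mod

end H9.GF2
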