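import Mathlib
import Cfsg.Agent.H9.Perm24
import Cfsg.Agent.H9.GF2

/-!
# Fast operations on codes of permutations of the 24 points; block systems; stabiliser chains
-/

set_option autoImplicit false

namespace H9.DC

open Cfsg H29 MulAction

/-- The product of codes, unrolled. -/
def mulF (c d : ℕ) : ℕ :=
  Nat.lor (Nat.shiftLeft (Nat.land (Nat.shiftRight c (Nat.mul 5 (Nat.land (Nat.shiftRight d 115) 31))) 31) 115)
    (Nat.lor (Nat.shiftLeft (Nat.land (Nat.shiftRight c (Nat.mul 5 (Nat.land (Nat.shiftRight d 110) 31))) 31) 110)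
    (Nat.lor (Nat.shiftLeft (Nat.land (Nat.shiftRight c (Nat.mul 5 (Nat.land (Nat.shiftRight d 105) 31))) 31) 105)
    (Nat.lor (Nat.shiftLeft (Nat.land (Nat.shiftRight c (Nat.mul 5 (Nat.land (Nat.shiftRight d 100) 31))) 31) 100)
    (Nat.lor (Nat.shiftLeft (Nat.land (Nat.shiftRight c (Nat.mul 5 (Nat.land (Nat.shiftRight d 95) 31))) 31) 95)
    (Nat.lor (Nat.shiftLeft (Nat.land (Nat.shiftRight c (Nat.mul 5 (Nat.land (Nat.shiftRight d 90) 31))) 31) 90)
    (Nat.lor (Nat.shiftLeft (Nat.land (Nat.shiftRight c (Nat.mul 5 (Nat.land (Nat.shiftRight d 85) 31))) 31) 85)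
    (Nat.lor (Nat.shiftLeft (Nat.land (Nat.shiftRight c (Nat.mul 5 (Nat.land (Nat.shiftRight d 80) 31))) 31) 80)
    (Nat.lor (Nat.shiftLeft (Nat.land (Nat.shiftRight c (Nat.mul 5 (Nat.land (Nat.shiftRight d 75) 31))) 31) 75)
    (Nat.lor (Nat.shiftLeft (Nat.land (Nat.shiftRight c (Nat.mul 5 (Nat.land (Nat.shiftRight d 70) 31))) 31) 70)
    (Nat.lor (Nat.shiftLeft (Nat.land (Nat.shiftRight c (Nat.mul 5 (Nat.land (Nat.shiftRight d 65) 31))) 31) 65)
    (Nat.lor (Nat.shiftLeft (Nat.land (Nat.shiftRight c (Nat.mul 5 (Nat.land (Nat.shiftRight d 60) 31))) 31) 60)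
    (Nat.lor (Nat.shiftLeft (Nat.land (Nat.shiftRight c (Nat.mul 5 (Nat.land (Nat.shiftRight d 55) 31))) 31) 55)
    (Nat.lor (Nat.shiftLeft (Nat.land (Nat.shiftRight c (Nat.mul 5 (Nat.land (Nat.shiftRight d 50) 31))) 31) 50)
    (Nat.lor (Nat.shiftLeft (Nat.land (Nat.shiftRight c (Nat.mul 5 (Nat.land (Nat.shiftRight d 45) 31))) 31) 45)
    (Nat.lor (Nat.shiftLeft (Nat.land (Nat.shiftRight c (Nat.mul 5 (Nat.land (Nat.shiftRight d 40) 31))) 31) 40)
    (Nat.lor (Nat.shiftLeft (Nat.land (Nat.shiftRight c (Nat.mul 5 (Nat.land (Nat.shiftRight d 35) 31))) 31) 35)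
    (Nat.lor (Nat.shiftLeft (Nat.land (Nat.shiftRight c (Nat.mul 5 (Nat.land (Nat.shiftRight d 30) 31))) 31) 30)
    (Nat.lor (Nat.shiftLeft (Nat.land (Nat.shiftRight c (Nat.mul 5 (Nat.land (Nat.shiftRight d 25) 31))) 31) 25)
    (Nat.lor (Nat.shiftLeft (Nat.land (Nat.shiftRight c (Nat.mul 5 (Nat.land (Nat.shiftRight d 20) 31))) 31) 20)
    (Nat.lor (Nat.shiftLeft (Nat.land (Nat.shiftRight c (Nat.mul 5 (Nat.land (Nat.shiftRight d 15) 31))) 31) 15)
    (Nat.lor (Nat.shiftLeft (Nat.land (Nat.shiftRight c (Nat.mul 5 (Nat.land (Nat.shiftRight d 10) 31))) 31) 10)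
    (Nat.lor (Nat.shiftLeft (Nat.land (Nat.shiftRight c (Nat.mul 5 (Nat.land (Nat.shiftRight d 5) 31))) 31) 5)
    (Nat.lor (Nat.shiftLeft (Nat.land (Nat.shiftRight c (Nat.mul 5 (Nat.land (Nat.shiftRight d 0) 31))) 31) 0)
    (0))))))))))))))))))))))))

theorem dig_land (c i : ℕ) : dig c i = Nat.land (Nat.shiftRight c (Nat.mul 5 i)) 31 :=
  (Nat.and_two_pow_sub_one_eq_mod _ 5).symm

theorem mulF_eq (c d : ℕ) : mulF c d = mulP c d := by
  show _ = mkP fun i => dig c (dig d i)
  simp only [dig_land]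
  rfl

/-- One in each digit. -/
def R1 : ℕ := 42878322444674705577542163234849825

theorem R1_eq : R1 = MX.ofD 5 24 fun _ => 1 := by decide +kernel

theorem testBit_R1 (n : ℕ) : R1.testBit n = true → n % 5 = 0 ∧ n < 120 := by
  by_cases h : n < 120
  · revert n; decide +kernel
  · intro h1
    rw [Nat.testBit_lt_two_pow (lt_of_lt_of_le (show R1 < 2 ^ 120 by decide +kernel)
      (Nat.pow_le_pow_right two_pos (not_lt.1 h)))] at h1
    exact absurd h1 (by simp)

theorem testBit_R1' : ∀ k < 24, R1.testBit (5 * k) = true := by decide +kernel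

theorem testBit_dig5 (c i : ℕ) {b : ℕ} (hb : b < 5) :
    (dig c i).testBit b = c.testBit (5 * i + b) := by
  rw [testBit_dig]; simp [hb]

/-- All digits are below 24. -/
def small (c : ℕ) : Bool :=
  Nat.beq (Nat.land (Nat.land (Nat.shiftRight c 3) (Nat.shiftRight c 4)) R1) 0

theorem dig_lt_of_small {c : ℕ} (h : small c = true) {i : ℕ} (hi : i < 24) : dig c i < 24 := by
  have h1 := congrArg (fun x => Nat.testBit x (5 * i)) (H29.beq_true.1 h)
  simp only [land_eq, shr_eq, Nat.testBit_and, Nat.testBit_shiftRight, testBit_R1' i hi,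
    Nat.zero_testBit, Bool.and_true] at h1
  rw [add_comm 3, add_comm 4, ← testBit_dig5 _ _ (by norm_num), ← testBit_dig5 _ _ (by norm_num)] at h1
  have h2 := dig_lt32 c i
  revert h1 h2
  generalize dig c i = x
  revert x
  have : ∀ x < 32, (x.testBit 3 && x.testBit 4) = false → x < 24 := by decide
  exact fun x h1 h2 => this x h2 h1

theorem dig_inj {c : ℕ} (h : validP c = true) {i j : ℕ} (hi : i < 24) (hj : j < 24)
    (e : dig c i = dig c j) : i = j := by
  apply pt_inj hi hj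
  apply (pm c).injective
  rw [pm_pt h hi, pm_pt h hj, e]

theorem valid_right {a p : ℕ} (ha : validP a = true) (hp : small p = true)
    (h : validP (mulP a p) = true) : validP p = true := by
  refine validP_iff.2 ⟨fun i hi => dig_lt_of_small hp hi, fun j hj => ?_⟩
  obtain ⟨i, hi, e⟩ := (validP_iff.1 h).2 _ (dig_lt ha hj)
  rw [dig_mulP _ _ hi] at e
  exact ⟨i, hi, dig_inj ha (dig_lt_of_small hp hi) hj e⟩

theorem valid_left {q p : ℕ} (hp : validP p = true) (h : validP (mulP q p) = true) :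
    validP q = true := by
  refine validP_iff.2 ⟨fun i hi => ?_, fun j hj => ?_⟩
  · obtain ⟨k, hk, rfl⟩ := (validP_iff.1 hp).2 i hi
    rw [← dig_mulP _ _ hk]
    exact dig_lt h hk
  · obtain ⟨k, hk, e⟩ := (validP_iff.1 h).2 j hj
    exact ⟨_, dig_lt hp hk, by rw [← e, dig_mulP _ _ hk]⟩

/-! ### Block systems -/

/-- The permutations that preserve the partition in blocks of `2 ^ β` consecutive points. -/
def TS (β : ℕ) : Subgroup (Equiv.Perm GolayPt) where
  carrier := {g | ∀ p q, ix p / 2 ^ β = ix q / 2 ^ β → ix (g p) / 2 ^ β = ix (g q) / 2 ^ β}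
  one_mem' := fun _ _ h => h
  mul_mem' := fun ha hb p q h => ha _ _ (hb p q h)
  inv_mem' := by
    intro g hg
    have key : ∀ n : ℕ, ∀ p q, ix p / 2 ^ β = ix q / 2 ^ β →
        ix ((g ^ n) p) / 2 ^ β = ix ((g ^ n) q) / 2 ^ β := by
      intro n
      induction n with
      | zero => exact fun _ _ h => h
      | succ n ih => intro p q h; rw [pow_succ']; exact hg _ _ (ih p q h)
    have h1 : g⁻¹ = g ^ (orderOf g - 1) := by
      rw [inv_eq_iff_mul_eq_one, ← pow_succ', Nat.sub_add_cancel (orderOf_pos g), pow_orderOf_eq_one]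
    rw [h1]
    exact key _

theorem TS_iff {β : ℕ} {g : Equiv.Perm GolayPt} (h : g ∈ TS β) (p q : GolayPt) :
    ix (g p) / 2 ^ β = ix (g q) / 2 ^ β ↔ ix p / 2 ^ β = ix q / 2 ^ β :=
  ⟨fun h1 => by simpa using (TS β).inv_mem h _ _ h1, h p q⟩

/-- The test for `TS`: the mask `mc` marks the high bits of the digits that are not last in
their block. -/
def inT (mc d : ℕ) : Bool := Nat.beq (Nat.land (Nat.xor d (Nat.shiftRight d 5)) mc) 0

/-- The mask suits the block size. -/
def McOK (β mc : ℕ) : Prop := (β = 2 ∨ β = 3) ∧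
  ∀ i < 23, i / 2 ^ β = (i + 1) / 2 ^ β → ∀ b < 5, β ≤ b → mc.testBit (5 * i + b) = true

instance (β mc : ℕ) : Decidable (McOK β mc) := by unfold McOK; infer_instance

theorem mem_TS {β mc d : ℕ} (hm : McOK β mc) (hd : validP d = true) (h : inT mc d = true) :
    pm d ∈ TS β := by
  have h1 : ∀ i < 23, i / 2 ^ β = (i + 1) / 2 ^ β → dig d i / 2 ^ β = dig d (i + 1) / 2 ^ β := by
    intro i hi e
    apply Nat.eq_of_testBit_eq
    intro b
    rw [Nat.testBit_div_two_pow, Nat.testBit_div_two_pow]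
    by_cases hb : b + β < 5
    · have h2 := congrArg (fun x => Nat.testBit x (5 * i + (b + β))) (H29.beq_true.1 h)
      simp only [land_eq, shr_eq, xor_eq, Nat.testBit_and, Nat.testBit_xor, Nat.testBit_shiftRight,
        hm.2 i hi e _ hb (by omega), Nat.zero_testBit, Bool.and_true] at h2
      rw [testBit_dig5 _ _ hb, testBit_dig5 _ _ hb,
        show 5 * (i + 1) + (b + β) = 5 + (5 * i + (b + β)) by ring]
      simpa using h2
    · rw [testBit_dig, testBit_dig, decide_eq_false hb]; rfl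
  have h2 : ∀ n i, i + n < 24 → i / 2 ^ β = (i + n) / 2 ^ β →
      dig d i / 2 ^ β = dig d (i + n) / 2 ^ β := by
    intro n
    induction n with
    | zero => exact fun _ _ _ => rfl
    | succ n ih =>
      intro i hi e
      have e1 : i / 2 ^ β ≤ (i + n) / 2 ^ β := Nat.div_le_div_right (by omega)
      have e2 : (i + n) / 2 ^ β ≤ (i + (n + 1)) / 2 ^ β := Nat.div_le_div_right (by omega)
      rw [ih i (by omega) (by omega)]
      exact h1 (i + n) (by omega) (by rw [add_assoc]; omega)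
  intro p q e
  rw [pm_apply hd, pm_apply hd, ix_pt (dig_lt hd (ix_lt p)), ix_pt (dig_lt hd (ix_lt q))]
  rcases le_total (ix p) (ix q) with h3 | h3
  · obtain ⟨n, hn⟩ := Nat.exists_eq_add_of_le h3
    rw [hn] at e ⊢
    exact h2 n _ (hn ▸ ix_lt q) e
  · obtain ⟨n, hn⟩ := Nat.exists_eq_add_of_le h3
    rw [hn] at e ⊢
    exact (h2 n _ (hn ▸ ix_lt p) e.symm).symm

/-- The positions whose digit is not in the block of digit `i`. -/
noncomputable def difM (β a i : ℕ) : ℕ :=
  lit (Nat.xor a (Nat.mul (Nat.land (Nat.shiftRight a (Nat.mul 5 i)) 31) R1)) fun z =>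
    Nat.land (Nat.lor (Nat.shiftRight z β) (Nat.lor (Nat.shiftRight z 3) (Nat.shiftRight z 4))) R1

theorem testBit_difM {β : ℕ} (hβ : β = 2 ∨ β = 3) (a i n : ℕ) : (difM β a i).testBit n =
    (R1.testBit n && decide (dig a (n / 5) / 2 ^ β ≠ dig a i / 2 ^ β)) := by
  rw [difM, lit_eq, ← dig_land, land_eq, Nat.testBit_and, Bool.and_comm]
  cases h : R1.testBit n with
  | false => rfl
  | true =>
    obtain ⟨h1, h2⟩ := testBit_R1 n h
    obtain ⟨k, rfl⟩ : ∃ k, n = 5 * k := ⟨n / 5, by omega⟩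
    have hk : k < 24 := by omega
    have key : ∀ b < 5, (Nat.xor a (Nat.mul (dig a i) R1)).testBit (b + 5 * k) =
        ((dig a k).testBit b ^^ (dig a i).testBit b) := fun b hb => by
      rw [xor_eq, Nat.testBit_xor, add_comm b, testBit_dig5 _ _ hb, R1_eq, Nat.mul_eq, MX.ofD_mul,
        ← GF2.testBit_dig' 5 (MX.ofD _ _ _) k b hb, (MX.ofD_spec 5 24 (fun _ => dig a i * 1)
          fun _ _ => by simpa using dig_lt32 a i).2, if_pos hk, mul_one]
    simp only [lor_eq, shr_eq, Nat.testBit_or, Nat.testBit_shiftRight, Bool.true_and]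
    rw [key β (by omega), key 3 (by omega), key 4 (by omega), Nat.mul_div_cancel_left _ (by norm_num)]
    have h3 := dig_lt32 a k
    have h4 := dig_lt32 a i
    revert h3 h4
    generalize dig a k = x
    generalize dig a i = y
    revert x y
    have : ∀ x < 32, ∀ y < 32, ∀ β, β = 2 ∨ β = 3 → ((x.testBit β ^^ y.testBit β) ||
        ((x.testBit 3 ^^ y.testBit 3) || (x.testBit 4 ^^ y.testBit 4))) =
        decide (x / 2 ^ β ≠ y / 2 ^ β) := by
      intro x hx y hy β hβ
      rcases hβ with rfl | rfl <;> revert x y <;> decide +kernel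
    exact fun x y h3 h4 => this x h3 y h4 β hβ

theorem difM_congr {β : ℕ} (hβ : β = 2 ∨ β = 3) {a a' : ℕ} (ha : validP a = true)
    (ha' : validP a' = true) (h : pm a' * (pm a)⁻¹ ∈ TS β) {i : ℕ} (hi : i < 24) :
    difM β a' i = difM β a i := by
  apply Nat.eq_of_testBit_eq
  intro n
  rw [testBit_difM hβ, testBit_difM hβ]
  cases h0 : R1.testBit n with
  | false => rfl
  | true =>
    have hk : n / 5 < 24 := by have := testBit_R1 n h0; omega
    have := TS_iff h (pm a (pt (n / 5))) (pm a (pt i))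
    simp only [Equiv.Perm.mul_apply, Equiv.Perm.coe_inv, Equiv.symm_apply_apply] at this
    rw [pm_pt ha hk, pm_pt ha hi, pm_pt ha' hk, pm_pt ha' hi, ix_pt (dig_lt ha hk),
      ix_pt (dig_lt ha hi), ix_pt (dig_lt ha' hk), ix_pt (dig_lt ha' hi)] at this
    simp only [Bool.true_and, ne_eq, this]

/-- A number that depends on the partition only. -/
noncomputable def invT (β a : ℕ) : ℕ :=
  lit (difM β a 0) fun z => Nat.add z
    (Nat.shiftLeft (difM β a (Nat.mod (Nat.div (Nat.log2 z) 5) 24)) 1)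

theorem invT_congr {β : ℕ} (hβ : β = 2 ∨ β = 3) {a a' : ℕ} (ha : validP a = true)
    (ha' : validP a' = true) (h : pm a' * (pm a)⁻¹ ∈ TS β) : invT β a' = invT β a := by
  rw [invT, invT, lit_eq, lit_eq, difM_congr hβ ha ha' h (by norm_num),
    difM_congr hβ ha ha' h (i := Nat.mod _ 24) (Nat.mod_lt _ (by norm_num))]

/-- A hash function, with displacement table `D`. -/
noncomputable def hsh (m1 m2 D v : ℕ) : ℕ :=
  lit v fun v => Nat.land (Nat.add (Nat.mod v m2)
    (Nat.shiftRight D (Nat.mul 12 (Nat.mod v m1)))) 4095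

/-! ### Stabiliser chains -/

/-- A chain: base point, orbit length, words for the generators of the next term. -/
noncomputable def chkCh (ch : List (ℕ × ℕ × List (List ℕ))) : List ℕ → Bool :=
  List.rec (motive := fun _ => List ℕ → Bool) (fun _ => true)
    (fun a _ ih gens => and2 (and2 (Nat.ble a.1 23) (Nat.ble a.2.1 (pc (orbPt gens a.1))))
      (seqL (a.2.2.map (evalW gens)) fun g2 =>
        and2 (H29.allL g2 fun c => Nat.beq (dig c a.1) a.1) (ih g2))) ch

theorem le_card_of_chkCh : ∀ (ch : List (ℕ × ℕ × List (List ℕ))) {gens : List ℕ}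
    {K : Subgroup (Equiv.Perm GolayPt)}, GensIn gens K → chkCh ch gens = true →
      (ch.map fun a => a.2.1).prod ≤ Nat.card K
  | [], _, _, _, _ => Nat.card_pos
  | a :: ch, gens, K, hK, h => by
    rw [show chkCh (a :: ch) gens = and2 (and2 (Nat.ble a.1 23)
      (Nat.ble a.2.1 (pc (orbPt gens a.1)))) (seqL (a.2.2.map (evalW gens)) fun g2 =>
        and2 (H29.allL g2 fun c => Nat.beq (dig c a.1) a.1) (chkCh ch g2)) from rfl, seqL_eq] at h
    simp only [and2_true, ble_true, allL_true, H29.beq_true] at h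
    obtain ⟨⟨h1, h2⟩, h3, h4⟩ := h
    have hb : a.1 < 24 := by omega
    have h5 : GensIn (a.2.2.map (evalW gens)) (K ⊓ stabilizer _ (pt a.1)) := fun c hc => by
      obtain ⟨h6, h7⟩ := hK.of_words a.2.2 rfl c hc
      exact ⟨h6, h7, mem_stabilizer_iff.2 (by rw [Equiv.Perm.smul_def, pm_pt h6 hb, h3 c hc])⟩
    rw [List.map_cons, List.prod_cons, card_eq_orbit_mul K (pt a.1)]
    refine Nat.mul_le_mul (h2.trans ?_) (le_card_of_chkCh ch h5 h4)
    rw [← card_ofMask, ← Set.ncard_coe_finset]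
    exact Set.ncard_le_ncard (fun x hx => hK.orbPt hb x hx) (Set.toFinite _)

end H9.DC
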