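import Mathlib
import Cfsg.Agent.H0.BSM0

/-!
# Rigidity along a line
-/

set_option autoImplicit false
set_option linter.all false

namespace H10.Mon.MG

variable {M : Type*} [Group M] {x y γ : M} {p : ZMod 2 → C → M}

theorem pl_e0 {c d : C} (hc : c.1 = 0) (hd : d.1 = 0) : pl c d = 0 := by
  rw [pl, bb_fst hc, bb_fst hd, add_zero]

theorem ex_e0 {c : C} (h : c.1 ≠ 0) : ∃ d : C, d.1 = 0 ∧ pl c d = 1 := by
  obtain ⟨j, hj⟩ := Function.ne_iff.1 h
  refine ⟨(0, Pi.single j 1), rfl, ?_⟩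
  rw [pl, bb_fst (c := (0, Pi.single j 1)) rfl, add_zero, bb, dotProduct_single, mul_one]
  exact (z2 _).resolve_left hj

namespace Two

variable (H : Two x y p γ)
include H

theorem conj (n : M) : Two (n * x * n⁻¹) (n * y * n⁻¹) (fun s c => n * p s c * n⁻¹) (n * γ * n⁻¹) := by
  have e : ∀ u, n * γ * n⁻¹ * (n * u * n⁻¹) * (n * γ * n⁻¹)⁻¹ = n * (γ * u * γ⁻¹) * n⁻¹ :=
    fun u => by group
  exact ⟨H.s.view n, by rw [H.hx], fun h => H.nc ((cj_of rfl).trans (h.trans (cj_of rfl).symm)),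
    by rw [e, H.gx], by rw [e, H.gy], by rw [e, H.gO]⟩

theorem OO : p 0 Om * p 0 Om = 1 := H.s.sq0 0 (bb_fst Om_fst _)

variable {s : ZMod 2} {e : C} {u : M} (hu : u = γ * p s e * γ⁻¹)
include hu

theorem uO : u * p 0 Om = p 0 Om * u := hu ▸ H.view.s.cm s e

theorem uE (r : ZMod 2) {c : C} (hc : c.1 = 0) :
    u * p r c * u⁻¹ = p r c ∨ u * p r c * u⁻¹ = p r c * p 0 Om := by
  obtain ⟨t, d, -, e1⟩ := H.shared0 r hc
  have := H.view.s.cj s t d e
  beta_reduce at this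
  rw [hu, e1, this]
  exact H.view.s.or_y _ _ _

theorem uy (he : pl e Om = 1) : u * y * u⁻¹ = y * p 0 Om := by
  have h1 := H.view.s.cj s 0 Om e
  have h2 := H.view.s.mul_y 0 Om
  beta_reduce at h1 h2
  rw [H.gO] at h1 h2
  rw [hu, h1, h2, he]

theorem nocomm (he : pl e Om = 1) {r : ZMod 2} {c : C} (hc : c.1 ≠ 0) : u * p r c ≠ p r c * u := by
  intro h
  obtain ⟨d, d1, d2⟩ := ex_e0 hc
  have h0 : Commute (p r c) u := h.symm
  have h1 : p r c * p 0 d * (p r c)⁻¹ = p 0 d * y := by rw [H.s.cj, d2, H.s.mul_y]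
  have hy : Commute (p r c) y := H.s.cm r c
  have h2 : Commute (p r c) (p 0 Om) := by
    have := hy.inv_right.mul_right (H.uy hu he ▸ (h0.mul_right hy).mul_right h0.inv_right)
    rwa [inv_mul_cancel_left] at this
  have h3 : p r c * (u * p 0 d * u⁻¹) * (p r c)⁻¹ = u * p 0 d * u⁻¹ * (y * p 0 Om) := by
    rw [← H.uy hu he, conj_mul, ← h1]
    calc _ = p r c * u * p 0 d * (p r c * u)⁻¹ := by group
      _ = _ := by rw [h0.eq]; group
  refine H.O_ne.1 ?_
  rcases H.uE hu 0 d1 with e1 | e1 <;> rw [e1] at h3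
  · rwa [h1, mul_right_inj, left_eq_mul] at h3
  · rw [← conj_mul, h1, mul_inv_eq_iff_eq_mul.2 h2.eq, mul_assoc, mul_assoc, mul_right_inj] at h3
    rwa [right_eq_mul] at h3

/-- An automorphism that is trivial on `Q` moves an odd element of `Q ^ γ` by at most `p 0 Om`. -/
theorem line (he : pl e Om = 1) {X : Subgroup M} {α : M → M}
    (mul : ∀ a ∈ X, ∀ b ∈ X, α (a * b) = α a * α b) (fix : ∀ r c, p r c ∈ X → α (p r c) = p r c)
    (hE : ∀ r c, c.1 = 0 → p r c ∈ X) (uX : u ∈ X) (uu : u * u = 1) {r : ZMod 2} {d : C}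
    (vX : p r d ∈ X) (br : (u * p r d) ^ 3 = 1) : α u = u ∨ α u = u * p 0 Om := by
  have a1 : α 1 = 1 := by simpa only [H.s.zero] using fix 0 0 (hE 0 0 rfl)
  have uE' : ∀ r c, c.1 = 0 → ∃ t, u * p r c * u⁻¹ = p t c ∨ u * p r c * u⁻¹ = p t (c + Om) :=
    fun r c hc => by
      rcases H.uE hu r hc with e1 | e1
      exacts [⟨_, .inl e1⟩, ⟨_, .inr (e1.trans (H.s.mul _ _ _ _))⟩]
  have cm : ∀ r c, c.1 = 0 → u⁻¹ * α u * p r c = p r c * (u⁻¹ * α u) := fun r c hc => by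
    have h1 := mul _ uX _ (hE r c hc)
    have h2 := mul _ (X.mul_mem (X.mul_mem uX (hE r c hc)) (X.inv_mem uX)) _ uX
    rw [inv_mul_cancel_right, h1, fix r c (hE r c hc)] at h2
    have h3 : α (u * p r c * u⁻¹) = u * p r c * u⁻¹ := by
      obtain ⟨t, e1 | e1⟩ := uE' r c hc <;> rw [e1]
      exacts [fix _ _ (hE _ _ hc), fix _ _ (hE _ _ (by rw [Prod.fst_add, hc, Om_fst, add_zero]))]
    rw [mul_assoc, h2, h3]; group
  obtain ⟨k, hk⟩ := H.s.up _ (H.s.one ▸ cm 1 0 rfl)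
  obtain ⟨t, f, e1⟩ := H.s.inQ hk (fixE0 fun c hc => (H.s.cm_q hk (cm 0 c hc)).1)
  have f0 : f.1 = 0 := by
    by_contra h
    obtain ⟨c, c1, c2⟩ := ex_e0 h
    have := cm 0 c c1
    rw [e1, H.s.cm_iff, c2] at this
    exact absurd this (by decide)
  have e2 : α u = u * p t f := by rw [← e1, mul_inv_cancel_left]
  let P : M → Prop := fun z => ∃ r c, z = p r c ∧ (c = f ∨ c = f + Om)
  have pu : ∀ {z}, P z → P (u * z * u⁻¹) := by
    rintro _ ⟨r, c, rfl, hc⟩
    obtain ⟨t, e1 | e1⟩ := uE' r c (by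
      rcases hc with rfl | rfl
      exacts [f0, by rw [Prod.fst_add, f0, Om_fst, add_zero]])
    · exact ⟨_, _, e1, hc⟩
    · refine ⟨_, _, e1, ?_⟩
      rcases hc with rfl | rfl
      exacts [.inr rfl, .inl (by rw [add_assoc, cc2, add_zero])]
  have pv : ∀ {z}, P z → P (u * p r d * z * (u * p r d)⁻¹) := by
    rintro _ ⟨r', c, rfl, hc⟩
    rw [show ∀ z, u * p r d * z * (u * p r d)⁻¹ = u * (p r d * z * (p r d)⁻¹) * u⁻¹ from
      fun z => by group]
    exact pu ⟨_, _, H.s.cj _ _ _ _, hc⟩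
  have p1 := pu ⟨t, f, rfl, .inl rfl⟩
  have p2 := pv p1
  have p3 := pv p2
  have b3 : (u * p t f * p r d) ^ 3 = 1 := by
    have h1 := X.mul_mem uX vX
    rw [← e2, ← fix r d vX, ← mul _ uX _ vX, pow_three, ← mul _ h1 _ h1,
      ← mul _ h1 _ (X.mul_mem h1 h1), ← pow_three, br, a1]
  rw [show (u * p t f * p r d) ^ 3 = u * p t f * u⁻¹ * (u * p r d * (u * p t f * u⁻¹) * (u * p r d)⁻¹) *
    (u * p r d * (u * p r d * (u * p t f * u⁻¹) * (u * p r d)⁻¹) * (u * p r d)⁻¹) * (u * p r d) ^ 3 by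
      simp only [pow_three]; group, br, mul_one] at b3
  obtain ⟨r1, c1, e3, h1⟩ := p1
  obtain ⟨r2, c2, e4, h2⟩ := p2
  obtain ⟨r3, c3, e5, h3⟩ := p3
  rw [e5, e4, e3, H.s.mul, H.s.mul, ← H.s.zero] at b3
  have h4 := (H.s.inj b3).2
  have h5 : f = 0 ∨ f = Om := by
    have a := cc2 f
    have b := cc2 Om
    rcases h1 with rfl | rfl <;> rcases h2 with rfl | rfl <;> rcases h3 with rfl | rfl <;>
      first
      | (left; linear_combination (exp := 1) h4 - a)
      | (left; linear_combination (exp := 1) h4 - a - b)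
      | (right; linear_combination (exp := 1) h4 - a - b)
      | (right; linear_combination (exp := 1) h4 - a - b - b)
  have sq : u * p t f = p t f * u := by
    have h := mul _ uX _ uX
    rw [uu, a1, e2, eq_comm, mul_eq_one_iff_eq_inv, mul_inv_rev, inv_eq_of_mul_eq_one_right uu,
      inv_eq_of_mul_eq_one_right (H.s.sq0 t (bb_fst f0 _))] at h
    exact h
  have ny : u * y ≠ y * u := fun h => H.O_ne.1 (by
    have := H.uy hu he
    rwa [h, mul_inv_cancel_right, left_eq_mul] at this)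
  rw [e2]
  rcases h5 with rfl | rfl
  · rcases H.s.q0 t with e | e <;> rw [e] at sq ⊢
    exacts [.inl (mul_one _), (ny sq).elim]
  · rcases H.s.or_y t 0 Om with e | e <;> rw [e] at sq ⊢
    · exact .inr rfl
    · rw [← mul_assoc, H.uO hu, mul_assoc, mul_assoc, mul_right_inj] at sq
      exact (ny sq).elim

end Two

end H10.Mon.MG
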