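import Mathlib
import Cfsg.Agent.H9.MB1
import Cfsg.Agent.H10.TH

/-!
# Automorphisms of the centraliser of two nodes that are trivial on `Q`
-/

set_option autoImplicit false
set_option linter.all false
set_option maxRecDepth 100000

namespace H10.Mon.MG.MB

open Cfsg H9 H29 Cfsg.Spor H10.YW H10.Mon.T H10.Mon.MS
open H10.Mon.Y hiding Nd lb

attribute [local irreducible] wd

noncomputable def rM (k : GT) : MM tau := ⟨rho k, rho_mem_MM _ _⟩
noncomputable def τM : MM tau := ⟨tau, tau_mem_MM _⟩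
noncomputable def xm (n : Nd) : MM tau := ⟨xB n, TH.xB_MM n⟩

theorem rM_rel (k : GT) : Rel qM (rM k) k := relM k
theorem rM_mul (k l : GT) : rM (k * l) = rM k * rM l := Subtype.ext (map_mul rho k l)

theorem twoT : ∃ γ, Two (tM tau) (zM tau) qM γ ∧
    ∀ s e, ∃ s', τM * qM s e * τM⁻¹ = γ * qM s' e * γ⁻¹ := by
  obtain ⟨d, d1, d2⟩ := exists_perp_one Om_ne_zero (S_ne_Om c0).symm
  obtain ⟨γ, H⟩ := twoM
  refine ⟨τM * qM 0 d, ⟨sitM, H.hx, H.nc,
    Subtype.ext (mem_HH.1 (mul_mem (tau_mem_HH tri_tau) (qe_mem_HH.2 d1))).2,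
    Subtype.ext ?_, Subtype.ext ?_⟩, fun s e => ⟨s + pl d e, ?_⟩⟩
  · change tau * rho (qe 0 d) * zz * (tau * rho (qe 0 d))⁻¹ = xO
    rw [mul_assoc tau, zz_comm, ← pre_tau.zz_conj]; group
  · change tau * rho (qe 0 d) * xO * (tau * rho (qe 0 d))⁻¹ = zz
    have : rho (qe 0 d) * xO * (rho (qe 0 d))⁻¹ = zz * xO := by
      rw [xO, zz, ← map_inv, ← map_mul, ← map_mul, ← map_mul, conj_qe, ep_qe, qe_mul, co_qe,
        one_smul, add_comm (bb d Om), d2, bb_zero_left, zero_add, zero_add, add_zero, add_zero]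
    rw [← pre_tau.zx_conj, ← this]; group
  · have := sitM.cj 0 (s + pl d e) e d
    rw [add_assoc, zz2, add_zero] at this
    rw [← this]; group

/-- The class of a word in the letters of `Q`. -/
def cd : List ℕ → ℕ
  | [] => 0
  | c :: w => cd w ^^^ (2 ^ (c - 28) % 2 ^ 24)

theorem gw_Q : ∀ w : List ℕ, (∀ c ∈ w, 28 ≤ c ∧ c ≤ 52) → ∃ s, gw w = qe s (dec (cd w))
  | [], _ => ⟨0, by rw [cd, dec_zero, qe_zero]; rfl⟩
  | c :: w, h => by
    obtain ⟨s, e⟩ := gw_Q w fun d hd => h d (List.mem_cons_of_mem _ hd)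
    obtain ⟨h1, h2⟩ := h c List.mem_cons_self
    obtain ⟨j, rfl⟩ := Nat.exists_eq_add_of_le h1
    rw [gw, e, cd, dec_xor, Nat.add_sub_cancel_left]
    rcases Nat.lt_or_ge j 24 with hj | hj
    · rw [gl_Q hj, qe_mul, Nat.mod_eq_of_lt (Nat.pow_lt_pow_right (by norm_num) hj)]
      exact ⟨_, rfl⟩
    · obtain rfl : j = 24 := by omega
      rw [show 28 + 24 = 52 from rfl, gl_Z, qe_mul, Nat.mod_self, dec_zero]
      exact ⟨_, rfl⟩

theorem wd_qD (n : Nd) : ∃ s, wd (qD n) = (qM s (dec (cd (qD n)))).1 := by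
  obtain ⟨s, e⟩ := gw_Q (qD n) (by cases n <;> decide +kernel)
  exact ⟨s, by rw [wd_gw (by cases n <;> decide +kernel), e]; rfl⟩

noncomputable def nL (n : Nd) : MM tau := rM ((gw (wD .f2))⁻¹ * gw (gD n))

/-- The coordinates that belong to the line `n`. -/
noncomputable def pL (n : Nd) (s : ZMod 2) (c : C) : MM tau := nL n * qM s c * (nL n)⁻¹

theorem xB_eq {n : Nd} (h : n ≠ .e3) :
    xB n = rho (gw (wD .f2))⁻¹ * wd (X n) * (rho (gw (wD .f2))⁻¹)⁻¹ := by
  have k : xB n = (wd (wD .f2))⁻¹ * xU n * (wd (wD .f2))⁻¹⁻¹ := rfl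
  rw [k, xU_ne h, x0, wd_gw (w := wD .f2) (by decide +kernel), map_inv]

theorem view (n : Nd) (s : ZMod 2) (c : C) : ∃ r, pL .a s (co (gw (gD n)) • c) = pL n r c := by
  refine ⟨s + ep (gw (gD n)) c, ?_⟩
  have := rM_rel (gw (gD n)) (s + ep (gw (gD n)) c) c
  rw [add_assoc, zz2, add_zero] at this
  rw [pL, pL, nL, nL, ← this, show gw (gD .a) = 1 from rfl, mul_one, rM_mul]
  group

theorem point {n : Nd} (h : isL n = false) : ∃ s, xm n = pL .a s (dec (cd (qD n))) := by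
  obtain ⟨s, e⟩ := wd_qD n
  refine ⟨s, Subtype.ext ?_⟩
  change xB n = rho _ * _ * (rho _)⁻¹
  rw [xB_eq (by rintro rfl; revert h; decide +kernel), X, h, show gw (gD .a) = 1 from rfl, mul_one, ← e]

theorem lineq {n : Nd} (h : isL n = true) (h3 : n ≠ .e3) :
    ∃ s, xm n = nL n * (τM * qM s (dec (cd (qD n))) * τM⁻¹) * (nL n)⁻¹ := by
  obtain ⟨s, e⟩ := wd_qD n
  refine ⟨s, Subtype.ext ?_⟩
  change xB n = rho _ * (tau * _ * tau⁻¹) * (rho _)⁻¹
  rw [xB_eq h3, X, h, ← e, map_mul, ← wd_tau, wd_cjW, ← wd_gw (by cases n <;> decide +kernel),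
    ← wd_cjW (gD n)]
  group

theorem nL_y (n : Nd) : nL n * zM tau * (nL n)⁻¹ = zM tau :=
  mul_inv_eq_iff_eq_mul.2 (sitM.rel_cm (rM_rel _))

theorem pL_Q (n : Nd) (s : ZMod 2) (c : C) : ∃ r d, pL n s c = qM r d := ⟨_, _, rM_rel _ s c⟩

theorem Q_pL (n : Nd) (s : ZMod 2) (c : C) : ∃ r d, qM s c = pL n r d := by
  have := (rM_rel ((gw (wD .f2))⁻¹ * gw (gD n))).inv s c
  exact ⟨_, _, by rw [pL, ← this, nL]; group⟩

theorem cox {n m : Nd} (h : m ≠ .e3) : (xm n * xm m) ^ lb n m = 1 := Subtype.ext (by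
  have := sys_xB.cox n m
  rwa [inv_eq_of_mul_eq_one_right (sys_xB.sq h)] at this)

theorem xsq {n : Nd} (h : n ≠ .e3) : xm n * xm n = 1 := Subtype.ext (sys_xB.sq h)

theorem xcm {n m : Nd} (h1 : n ≠ .e3) (h2 : m ≠ .e3) (h : lb n m = 2 ∨ n = m) :
    xm n * xm m = xm m * xm n := by
  rcases h with h | rfl
  · have := cox (n := n) h2
    rwa [h, pow_two, mul_eq_one_iff_eq_inv, mul_inv_rev, inv_eq_of_mul_eq_one_right (xsq h1),
      inv_eq_of_mul_eq_one_right (xsq h2)] at this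
  · rfl

theorem xm_f2 : xm .f2 = tM tau := Subtype.ext xB_f2

/-- The centraliser of the nodes `f2` and `f1`. -/
noncomputable def XX : Subgroup (MM tau) :=
  Subgroup.centralizer {tM tau} ⊓ Subgroup.centralizer {xm .f1}

theorem mem_XX {u : MM tau} : u ∈ XX ↔ u * tM tau = tM tau * u ∧ u * xm .f1 = xm .f1 * u :=
  and_congr Subgroup.mem_centralizer_singleton_iff Subgroup.mem_centralizer_singleton_iff

theorem n_XX {n : Nd} (h : n ∈ N333) : xm n ∈ XX :=
  mem_XX.2 ⟨xm_f2 ▸ xcm (by rintro rfl; revert h; decide) (by decide) (.inl (by revert n; decide)),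
    xcm (by rintro rfl; revert h; decide) (by decide) (.inl (by revert n; decide))⟩

theorem twoL (n : Nd) (h : isL n = true) (h3 : n ≠ .e3) : ∃ x γ s, Two x (zM tau) (pL n) γ ∧
    xm n = γ * pL n s (dec (cd (qD n))) * γ⁻¹ := by
  obtain ⟨γ, H, h1⟩ := twoT
  obtain ⟨s, e⟩ := lineq h h3
  obtain ⟨s', e'⟩ := h1 s (dec (cd (qD n)))
  have := H.conj (nL n)
  rw [nL_y] at this
  exact ⟨_, _, s', this, by rw [e, e', pL]; group⟩

theorem odd {n : ℕ} (h : n.testBit 23 = true) : pl (dec n) Om = 1 := by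
  rw [pl_Om]
  change bt n 23 = 1
  rw [bt, h]; rfl

theorem fst0 {n : ℕ} (h : n < 4096) : (dec n).1 = 0 := funext fun j => by
  change bt n (12 + j) = 0
  rw [bt, Nat.testBit_lt_two_pow (h.trans_le (Nat.pow_le_pow_right (n := 2) (i := 12) (by norm_num)
    (by omega)))]
  rfl

theorem E_cm {n m : Nd} (h : isL m = false) {a : ℕ} (ha : a < 4096)
    (e : Nat.beq (apL (gD n) a) (cd (qD m)) = true) (r : ZMod 2) {c : C} (hc : c.1 = 0) :
    pL n r c * xm m = xm m * pL n r c := by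
  obtain ⟨s, e1⟩ := point h
  obtain ⟨s', e2⟩ := view n s (dec a)
  rw [e1, ← H29.beq_true.1 e, dec_apL, e2]
  exact (sitM.view (nL n)).cm_iff.2 (pl_e0 hc (fst0 ha))

variable {α : MM tau → MM tau} (mul : ∀ a ∈ XX, ∀ b ∈ XX, α (a * b) = α a * α b)
  (fix : ∀ r c, qM r c ∈ XX → α (qM r c) = qM r c)
include mul fix

theorem lineL {n m : Nd} (hn : n ∈ N333) (hm : m ∈ N333) (h : isL n = true) (h' : isL m = false)
    (h3 : lb n m = 3) (ho : (cd (qD n)).testBit 23 = true) {a b : ℕ} (ha : a < 4096) (hb : b < 4096)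
    (e1 : Nat.beq (apL (gD n) a) (cd (qD .f2)) = true)
    (e2 : Nat.beq (apL (gD n) b) (cd (qD .f1)) = true) :
    α (xm n) = xm n ∨ α (xm n) = xm n * pL n 0 Om := by
  have n3 : n ≠ .e3 := by rintro rfl; revert hn; decide
  obtain ⟨x, γ, s, H, e⟩ := twoL n h n3
  obtain ⟨s1, e3⟩ := point h'
  obtain ⟨s2, c2, e4⟩ := pL_Q .a s1 (dec (cd (qD m)))
  obtain ⟨s3, c3, e5⟩ := Q_pL n s2 c2
  have := cox (n := n) (m := m) (by rintro rfl; revert hm; decide)
  have hX := n_XX hm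
  rw [e3, e4, e5] at this hX
  refine H.line e (odd ho) mul (fun r c hc => ?_) (fun r c hc => mem_XX.2
    ⟨xm_f2 ▸ E_cm (by decide +kernel) ha e1 r hc, E_cm (by decide +kernel) hb e2 r hc⟩) (n_XX hn)
    (xsq n3) hX (h3 ▸ this)
  obtain ⟨r', c', e⟩ := pL_Q n r c
  rw [e] at hc ⊢
  exact fix _ _ hc

theorem fixL (h0 : α (xm .a) = xm .a) {n : Nd} (hn : n ∈ N333) (h2 : lb .a n = 2)
    (h : α (xm n) = xm n ∨ α (xm n) = xm n * pL n 0 Om)
    (e : Nat.ble 4096 (apL (gD n) 2048) = true) (e' : Nat.blt (apL (gD n) 2048) (2 ^ 24) = true) :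
    α (xm n) = xm n := h.resolve_right fun h => by
  obtain ⟨x, γ, s, H, e1⟩ := twoL .a (by decide +kernel) (by decide)
  have c := xcm (by decide) (by rintro rfl; revert hn; decide) (.inl h2)
  have ha := n_XX (n := .a) (by decide)
  have c' := congrArg α c
  rw [mul _ ha _ (n_XX hn), mul _ (n_XX hn) _ ha, h0, h, ← mul_assoc, c, mul_assoc, mul_assoc,
    mul_right_inj] at c'
  obtain ⟨r, e2⟩ : ∃ r, pL n 0 Om = pL .a r (co (gw (gD n)) • Om) := by
    obtain ⟨r, e2⟩ := view n 0 Om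
    rcases z2 r with rfl | rfl
    · exact ⟨0, e2.symm⟩
    · refine ⟨0 + 1, ?_⟩
      rw [← H.s.mul_y, e2, pL, pL, ← nL_y n, conj_mul, sitM.mul_y]; rfl
  rw [e2] at c'
  refine H.nocomm e1 (odd (by decide +kernel)) (fun e3 => ?_) c'
  rw [← dec_Om, ← dec_apL] at e3
  generalize apL (gD n) 2048 = N at *
  have := dec_inj (a := N) (b := N % 4096) (by simpa using e') (by omega) (Prod.ext
    (e3.trans (fst0 (Nat.mod_lt _ (by norm_num))).symm) (funext fun j => by
      change bt N j = bt (N % 2 ^ 12) j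
      rw [bt, bt, Nat.testBit_mod_two_pow, decide_eq_true j.2, Bool.true_and]))
  have := H29.ble_true.1 e
  omega

theorem la : α (xm .a) = xm .a ∨ α (xm .a) = xm .a * pL .a 0 Om :=
  lineL mul fix (m := .b1) (a := 802) (b := 512) (by decide) (by decide) (by decide +kernel)
    (by decide +kernel) rfl (by decide +kernel) (by norm_num) (by norm_num) (by decide +kernel)
    (by decide +kernel)

theorem gens1 (hB : IsB BabyMonster) (h0 : α (xm .a) = xm .a) {u : MM tau} (hu : u ∈ XX) :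
    α u = u := by
  have pt : ∀ n ∈ N333, isL n = false → α (xm n) = xm n := fun n hn h => by
    obtain ⟨s1, e3⟩ := point h
    obtain ⟨s2, c2, e4⟩ := pL_Q .a s1 (dec (cd (qD n)))
    have := n_XX hn
    rw [e3, e4] at this ⊢
    exact fix _ _ this
  have all : ∀ n ∈ N333, α (xm n) = xm n := fun n hn => by
    simp only [N333, List.mem_cons, List.not_mem_nil, or_false] at hn
    rcases hn with rfl | rfl | rfl | rfl | rfl | rfl | rfl | rfl | rfl | rfl
    case inl => exact h0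
    all_goals first
      | exact pt _ (by decide) (by decide +kernel)
      | refine fixL mul fix h0 (by decide) rfl ?_ (by decide +kernel) (by decide +kernel)
    · exact lineL mul fix (m := .b1) (a := 2561) (b := 3216) (by decide) (by decide) (by decide +kernel)
        (by decide +kernel) rfl (by decide +kernel) (by norm_num) (by norm_num) (by decide +kernel)
        (by decide +kernel)
    · exact lineL mul fix (m := .b2) (a := 3082) (b := 2764) (by decide) (by decide) (by decide +kernel)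
        (by decide +kernel) rfl (by decide +kernel) (by norm_num) (by norm_num) (by decide +kernel)
        (by decide +kernel)
    · exact lineL mul fix (m := .b3) (a := 520) (b := 951) (by decide) (by decide) (by decide +kernel)
        (by decide +kernel) rfl (by decide +kernel) (by norm_num) (by norm_num) (by decide +kernel)
        (by decide +kernel)
  have a1 : α 1 = 1 := by simpa using mul 1 (one_mem _) 1 (one_mem _)
  obtain ⟨u, hm⟩ := u
  have := yb_cent hB (m := u) (mem_HH.2 ⟨hm, mul_inv_eq_iff_eq_mul.2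
    (congrArg Subtype.val (mem_XX.1 hu).1)⟩)
    (mul_inv_eq_iff_eq_mul.2 (congrArg Subtype.val (mem_XX.1 hu).2))
  suffices ∃ v ∈ XX, v.1 = u ∧ α v = v by
    obtain ⟨v, -, rfl, e⟩ := this
    exact e
  clear hu hm
  induction this using Subgroup.closure_induction with
  | mem _ h => obtain ⟨n, hn, rfl⟩ := h; exact ⟨xm n, n_XX hn, rfl, all n hn⟩
  | one => exact ⟨1, one_mem _, rfl, a1⟩
  | mul _ _ _ _ h1 h2 =>
    obtain ⟨a, a1, rfl, a2⟩ := h1
    obtain ⟨b, b1, rfl, b2⟩ := h2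
    exact ⟨a * b, mul_mem a1 b1, rfl, by rw [mul _ a1 _ b1, a2, b2]⟩
  | inv _ _ h1 =>
    obtain ⟨a, a2, rfl, a3⟩ := h1
    refine ⟨a⁻¹, inv_mem a2, rfl, eq_inv_of_mul_eq_one_left ?_⟩
    have := mul _ (inv_mem a2) _ a2
    rwa [a3, inv_mul_cancel, a1, eq_comm] at this

omit mul fix in
theorem a_y : xm .a * zM tau * (xm .a)⁻¹ = zM tau * pL .a 0 Om ∧ pL .a 0 Om ≠ 1 ∧
    pL .a 0 Om * pL .a 0 Om = 1 ∧ pL .a 0 Om * zM tau = zM tau * pL .a 0 Om := by
  obtain ⟨x, γ, s, H, e1⟩ := twoL .a (by decide +kernel) (by decide)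
  exact ⟨H.uy e1 (odd (by decide +kernel)), H.O_ne.1, H.OO, H.s.cm _ _⟩

theorem gens (hB : IsB BabyMonster) :
    (∀ u ∈ XX, α u = u) ∨ ∀ u ∈ XX, zM tau * α u * (zM tau)⁻¹ = u := by
  rcases la mul fix with h | h
  · exact .inl fun u => gens1 mul fix hB h
  · refine .inr fun u => gens1 (α := fun u => zM tau * α u * (zM tau)⁻¹)
      (fun a ha b hb => by rw [mul a ha b hb, conj_mul])
      (fun r c hc => by rw [fix r c hc, ← sitM.cm, mul_inv_cancel_right]) hB ?_
    obtain ⟨h1, -, h2, h3⟩ := a_y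
    have e := inv_eq_of_mul_eq_one_right (xsq (n := .a) (by decide))
    beta_reduce
    rw [h]
    calc _ = xm .a * ((xm .a)⁻¹ * zM tau * (xm .a)⁻¹⁻¹) * pL .a 0 Om * (zM tau)⁻¹ := by group
      _ = _ := by rw [e, h1, mul_assoc (xm .a), mul_assoc (zM tau), h2, mul_one, mul_inv_cancel_right]

end H10.Mon.MG.MB
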