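import Mathlib
import Cfsg.Agent.H0.BSC1
import Cfsg.Agent.H9.MB2

/-!
# Uniqueness of the perfect double cover of the Baby Monster
-/

set_option autoImplicit false
set_option linter.all false
set_option maxRecDepth 100000

namespace H10.Mon.MG.MB

open Cfsg H9 H29 Cfsg.Spor H10.YW H10.Mon.T
open H10.Mon.Y hiding Nd lb

theorem sys_xm : Sys xm := sys_of (MM tau).subtype_injective sys_xB

theorem bne (n : BabyMonster.Gen) : bN n ≠ .e3 := by cases n <;> decide

theorem xb_cm (n : BabyMonster.Gen) : xm (bN n) * tM tau = tM tau * xm (bN n) :=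
  xm_f2 ▸ xcm (bne n) (by decide) (.inl (by cases n <;> rfl))

theorem exists_phi (hB : IsB BabyMonster) :
    ∃ φ : Subgroup.centralizer {tM tau} →* BabyMonster, MG.Cv (tM tau) φ ∧
      ∀ n u, φ ⟨xm (bN n), u⟩ = PresentedGroup.of n := by
  obtain ⟨f, h1, h2⟩ := baby_hom
  have := hB.1
  let e := MulEquiv.ofBijective f ((Nat.bijective_iff_injective_and_card f).2
    ⟨(MonoidHom.ker_eq_bot_iff f).1 ((f.normal_ker.eq_bot_or_eq_top).resolve_right h1),
      hB.2.trans card_HHq.symm⟩)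
  let j := (MulEquiv.subgroupCongr (cent_tM (τ := tau))).trans (Subgroup.subgroupOfEquivOfLe HH_le)
  refine ⟨e.symm.toMonoidHom.comp ((QuotientGroup.mk' _).comp j.toMonoidHom),
    ⟨e.symm.surjective.comp ((QuotientGroup.mk'_surjective _).comp j.surjective), fun g => ?_⟩,
    fun n u => e.symm_apply_eq.2 (h2 n).symm⟩
  change e.symm (QuotientGroup.mk (j g)) = 1 ↔ _
  rw [map_eq_one_iff _ e.symm.injective, QuotientGroup.eq_one_iff, center_HH tri_tau,
    Subgroup.mem_subgroupOf]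
  constructor
  · exact fun h => (mem_zpowers_invol (tv_mul_self _ _) h).imp Subtype.ext Subtype.ext
  · rintro (h | h) <;> change g.1.1 ∈ _ <;> rw [h]
    exacts [one_mem _, Subgroup.mem_zpowers _]

variable {K : Type*} [Group K] {t : K} {R : K → MM tau → Prop} (h : Cor t (tM tau) R) (tt : t * t = 1)
include h tt

theorem lift2 {g : K} {a : MM tau} (r : R g a) (ha : a * a = 1) : g * g = 1 := by
  obtain ⟨γ, H⟩ := twoM
  obtain ⟨_, _, _, L⟩ := exists_LF
  exact H.lift_inv L h tt r ha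

theorem mt_pow {g : K} {a : MM tau} (r : R g a) {n : ℕ} (hn : Odd n) : (g * t) ^ n = g ^ n * t := by
  obtain ⟨k, rfl⟩ := hn
  rw [(show Commute g t from h.cm r).mul_pow, pow_succ t, pow_mul t, pow_two, tt, one_pow, one_mul]

theorem next {g : K} {n : BabyMonster.Gen} (r : R g (xm (bN n))) (m : BabyMonster.Gen)
    (e : lb (bN n) (bN m) = 3) : ∃ g', R g' (xm (bN m)) ∧ (g * g') ^ 3 = 1 := by
  obtain ⟨g', r'⟩ := h.down _ (xb_cm m)
  have := h.pow (h.mul r r') 3
  rw [← e, cox (bne m), e, h.ker] at this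
  rcases this with e | e
  · exact ⟨g', r', e⟩
  · exact ⟨g' * t, h.mz r', by rw [← mul_assoc, mt_pow h tt (h.mul r r') (by decide), e, tt]⟩

theorem lifts : ∃ g : BabyMonster.Gen → K, (∀ n, R (g n) (xm (bN n))) ∧
    ∀ n m, (g n * g m) ^ coxLabel BabyMonster.edges n m = 1 := by
  obtain ⟨g5, r5⟩ := h.down _ (xb_cm .t5)
  obtain ⟨g4, r4, e4⟩ := next h tt r5 .t4 rfl
  obtain ⟨g3, r3, e3⟩ := next h tt r4 .t3 rfl
  obtain ⟨g2, r2, e2⟩ := next h tt r3 .t2 rfl
  obtain ⟨g1, r1, e1⟩ := next h tt r2 .t1 rfl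
  obtain ⟨g6, r6, e6⟩ := next h tt r5 .t6 rfl
  obtain ⟨g7, r7, e7⟩ := next h tt r6 .t7 rfl
  obtain ⟨g8, r8, e8⟩ := next h tt r7 .t8 rfl
  obtain ⟨g9, r9, e9⟩ := next h tt r5 .t9 rfl
  obtain ⟨g10, r10, e10⟩ := next h tt r9 .t10 rfl
  obtain ⟨g11, r11, e11⟩ := next h tt r10 .t11 rfl
  let g : BabyMonster.Gen → K := fun n => match n with
    | .t1 => g1 | .t2 => g2 | .t3 => g3 | .t4 => g4 | .t5 => g5 | .t6 => g6 | .t7 => g7 | .t8 => g8
    | .t9 => g9 | .t10 => g10 | .t11 => g11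
  have r : ∀ n, R (g n) (xm (bN n)) := fun n => by cases n <;> assumption
  have a1 : ∀ n m, n = m → (g n * g m) ^ 1 = 1 := fun n m e => by
    rw [pow_one, ← e, lift2 h tt (r n) (xsq (bne n))]
  have a2 : ∀ n m, lb (bN n) (bN m) = 2 → (g n * g m) ^ 2 = 1 := fun n m e => by
    rw [pow_two, lift2 h tt (h.mul (r n) (r m)) (by rw [← pow_two, ← e, cox (bne m)])]
  refine ⟨g, r, fun n m => ?_⟩
  have b1 := a1 n m
  have b2 := a2 n m
  clear a1 a2
  cases n <;> cases m <;> first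
    | exact b1 rfl | exact b2 rfl | assumption | (apply swap_pow; assumption)

theorem lifts' : ∃ g : BabyMonster.Gen → K, (∀ n, R (g n) (xm (bN n))) ∧
    (∀ n m, (g n * g m) ^ coxLabel BabyMonster.edges n m = 1) ∧
    (g .t5 * g .t4 * g .t3 * g .t6 * g .t9 * g .t10 * g .t11) ^ 9 = 1 := by
  obtain ⟨g, r, c⟩ := lifts h tt
  have r7 := h.mul (h.mul (h.mul (h.mul (h.mul (h.mul (r .t5) (r .t4)) (r .t3)) (r .t6)) (r .t9))
    (r .t10)) (r .t11)
  have := h.pow r7 9
  rw [show _ ^ 9 = (1 : MM tau) by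
    simpa only [vl_cons, vl_nil, mul_one, ← mul_assoc, bN] using sys_b3 sys_xm, h.ker] at this
  have e : ∀ {a a' b b'}, R a a' → R b b' → a * t * (b * t) = a * b := fun ra rb => by
    rw [mul_assoc, ← mul_assoc t, ← h.cm rb, mul_assoc, tt, mul_one]
  rcases this with e1 | e1
  · exact ⟨g, r, c, e1⟩
  · refine ⟨fun n => g n * t, fun n => h.mz (r n), fun n m => by rw [e (r n) (r m), c], ?_⟩
    rw [e (r _) (r _), mul_assoc _ (g .t3 * t), e (r _) (r _), mul_assoc _ (g .t9 * t), e (r _) (r _)]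
    simp only [← mul_assoc]
    rw [mt_pow h tt r7 (by decide), e1, tt]

open BabyMonster hiding t4 in
def w2 : FreeGroup BabyMonster.Gen := (t5 * BabyMonster.t4 * t3 * t6 * t7 * t8 * t9) ^ 9

omit h tt in
theorem cover [Finite K] (hB : IsB BabyMonster) (hp : Group.IsPerfect K)
    (h2 : Nat.card (Subgroup.center K) = 2) (e : K ⧸ Subgroup.center K ≃* BabyMonster) :
    ∃ t ι, Em (G := K) (tM tau) t ι ∧ ∀ g, ∃ a, a * tM tau = tM tau * a ∧ ι a = g := by
  obtain ⟨φ, c1, c2⟩ := exists_phi hB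
  obtain ⟨⟨t, tc⟩, t1, t2⟩ := (Nat.card_eq_two_iff' (1 : Subgroup.center K)).1 h2
  have zc : ∀ {g}, g ∈ Subgroup.center K ↔ g = 1 ∨ g = t := fun {g} => ⟨fun hg => by
    by_cases k : g = 1
    exacts [.inl k, .inr (congrArg Subtype.val (t2 ⟨g, hg⟩ fun e => k (congrArg Subtype.val e)))],
    by rintro (rfl | rfl); exacts [one_mem _, tc]⟩
  replace t1 : t ≠ 1 := fun e => t1 (Subtype.ext e)
  have tt : t * t = 1 := (zc.1 (mul_mem tc tc)).resolve_right fun e => t1 (by simpa using e)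
  have ct : ∀ g, g * t = t * g := Subgroup.mem_center_iff.1 tc
  let π : K →* BabyMonster := e.toMonoidHom.comp (QuotientGroup.mk' _)
  have πk : ∀ g, π g = 1 ↔ g = 1 ∨ g = t := fun g => by
    change e (QuotientGroup.mk g) = 1 ↔ _
    rw [map_eq_one_iff _ e.injective, QuotientGroup.eq_one_iff, zc]
  have c0 : MG.Cv t (π.comp (Subgroup.centralizer {t}).subtype) :=
    ⟨fun b => by
      obtain ⟨g, rfl⟩ := (e.surjective.comp (QuotientGroup.mk'_surjective _)) b
      exact ⟨⟨g, Subgroup.mem_centralizer_singleton_iff.2 (ct g)⟩, rfl⟩, fun g => πk g⟩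
  obtain ⟨R, h, hR⟩ : ∃ R, Cor t (tM tau) R ∧ ∀ k n, R k (xm (bN n)) → π k = PresentedGroup.of n :=
    ⟨_, c0.cor c1, fun k n ⟨_, _, e⟩ => e.trans (c2 n _)⟩
  clear_value π
  clear c0 c1 c2 φ e
  obtain ⟨g, r, c, b3⟩ := lifts' h tt
  obtain ⟨ψ, hψ⟩ : ∃ ψ : FreeGroup BabyMonster.Gen →* K × MM tau, ∀ n, ψ (.of n) = (g n, xm (bN n)) :=
    ⟨FreeGroup.lift fun n => (g n, xm (bN n)), fun n => FreeGroup.lift_apply_of⟩
  have ψ1 : ∀ w, π (ψ w).1 = PresentedGroup.mk _ w := fun w => DFunLike.congr_fun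
    (FreeGroup.ext_hom (π.comp ((MonoidHom.fst _ _).comp ψ)) (PresentedGroup.mk _) fun n => by
      rw [MonoidHom.comp_apply, MonoidHom.comp_apply, hψ]; exact hR _ n (r n)) w
  have ψ2 : ∀ w, R (ψ w).1 (ψ w).2 := fun w => by
    induction w using FreeGroup.induction_on with
    | C1 => rw [map_one]; exact h.one
    | of n => rw [hψ]; exact r n
    | inv_of n k => rw [map_inv]; exact h.inv k
    | mul a b k l => rw [map_mul]; exact h.mul k l
  obtain ⟨z, z1, z2⟩ : ∃ z, ψ w2 = (z, tM tau) ∧ (z = 1 ∨ z = t) := by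
    have k : (ψ w2).2 = tM tau := by
      simpa only [w2, map_pow, map_mul, hψ, Prod.pow_snd, Prod.snd_mul, vl_cons, vl_nil,
        mul_one, ← mul_assoc, bN, xm_f2] using sys_b2 sys_xm
    refine ⟨_, Prod.ext rfl k, (πk _).1 ?_⟩
    rw [ψ1]
    exact PresentedGroup.one_of_mem (.inr (by simp [BabyMonster.extra, w2]))
  have zz : (z, tM tau) * (z, tM tau) = 1 := Prod.ext (by rcases z2 with rfl | rfl; exacts [mul_one _, tt])
    twoM.choose_spec.one.xx
  have key : ∀ w, π (ψ w).1 = 1 → ψ w = 1 ∨ ψ w = (z, tM tau) := fun w hw => by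
    rw [ψ1, PresentedGroup.mk_eq_one_iff] at hw
    let N : Subgroup (FreeGroup BabyMonster.Gen) := (Subgroup.zpowers (z, tM tau)).comap ψ
    have : N.Normal := ⟨fun a ha b => by
      have : Commute (ψ b) (z, tM tau) := Prod.ext (by
        rcases z2 with rfl | rfl
        exacts [(mul_one _).trans (one_mul _).symm, ct _]) (h.cm' (ψ2 b))
      obtain ⟨k, hk⟩ := Subgroup.mem_comap.1 ha
      exact ⟨k, by rw [map_mul, map_mul, map_inv, ← hk, (this.zpow_right k).eq, mul_inv_cancel_right]⟩⟩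
    refine mem_zpowers_invol zz (Subgroup.normalClosure_le_normal (N := N) ?_ hw)
    have o : ∀ w, ψ w = 1 → w ∈ N := fun w e => Subgroup.mem_comap.2 (e ▸ one_mem _)
    rintro _ (⟨n, -, m, -, rfl⟩ | hr)
    · refine o _ ?_
      simp only [map_mul, map_pow, hψ]
      refine Prod.ext (c n m) ?_
      have := cox (n := bN n) (bne m)
      rwa [show YW.lb (bN n) (bN m) = coxLabel BabyMonster.edges n m by cases n <;> cases m <;> rfl] at this
    · simp only [BabyMonster.extra, Set.mem_setOf_eq, List.mem_cons, List.not_mem_nil, or_false] at hr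
      rcases hr with rfl | rfl | rfl
      · refine o _ ?_
        rw [show 10 = 5 * 2 from rfl, pow_mul, pow_two, map_mul]
        suffices _ by exact Prod.ext (lift2 h tt (ψ2 _) this) this
        rw [← Prod.snd_mul, ← map_mul, ← pow_add]
        simpa only [map_pow, map_mul, hψ, Prod.pow_snd, Prod.snd_mul, vl_cons,
          vl_nil, mul_one, ← mul_assoc, bN] using sys_sp sys_xm
      · exact Subgroup.mem_comap.2 (z1 ▸ Subgroup.mem_zpowers _)
      · refine o _ (Prod.ext ?_ ?_)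
        · simpa only [map_pow, map_mul, hψ, Prod.pow_fst, Prod.fst_mul, Prod.fst_one] using b3
        · simpa only [map_pow, map_mul, hψ, Prod.pow_snd, Prod.snd_mul, vl_cons,
            vl_nil, mul_one, ← mul_assoc, bN, Prod.snd_one] using sys_b3 sys_xm
  have on : ∀ k, ∃ w, k = (ψ w).1 ∨ k = (ψ w).1 * t := fun k => by
    obtain ⟨w, hw⟩ := PresentedGroup.mk_surjective _ (π k)
    have := (πk ((ψ w).1⁻¹ * k)).1 (by rw [map_mul, map_inv, ψ1, hw, inv_mul_cancel])
    rw [inv_mul_eq_iff_eq_mul, inv_mul_eq_iff_eq_mul, mul_one] at this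
    exact ⟨w, this⟩
  have top : ∀ k, ∃ w, (ψ w).1 = k := fun k => by
    have : commutator K ≤ ((MonoidHom.fst _ _).comp ψ).range := by
      rw [commutator_def, Subgroup.commutator_le]
      rintro a - b -
      obtain ⟨u, hu⟩ := on a
      obtain ⟨v, hv⟩ := on b
      refine ⟨u * v * u⁻¹ * v⁻¹, ?_⟩
      rw [map_mul, map_mul, map_mul, map_inv, map_inv]
      change (ψ u).1 * (ψ v).1 * (ψ u).1⁻¹ * (ψ v).1⁻¹ = _
      have i := inv_eq_of_mul_eq_one_right tt
      rcases hu with rfl | rfl <;> rcases hv with rfl | rfl <;>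
        simp only [commutatorElement_def, mul_inv_rev, i, mul_assoc, ← ct, tt, mul_one]
    exact this (hp.commutator_eq_top ▸ Subgroup.mem_top k)
  obtain rfl : z = t := z2.resolve_left fun e => by
    obtain ⟨w, hw⟩ := top t
    rcases key w (hw ▸ (πk t).2 (.inr rfl)) with k | k <;> rw [k] at hw
    exacts [t1 hw.symm, t1 (hw.symm.trans e)]
  have uq : ∀ u v, (ψ u).1 = (ψ v).1 ↔ (ψ u).2 = (ψ v).2 := fun u v => by
    have k1 := ψ2 (u⁻¹ * v)
    have k2 := key (u⁻¹ * v)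
    rw [map_mul, map_inv] at k1 k2
    rw [← inv_mul_eq_one, ← inv_mul_eq_one (a := (ψ u).2)]
    change ((ψ u)⁻¹ * ψ v).1 = 1 ↔ ((ψ u)⁻¹ * ψ v).2 = 1
    generalize (ψ u)⁻¹ * ψ v = s at k1 k2
    constructor <;> intro k
    · rcases k2 (by rw [k, map_one]) with rfl | rfl
      exacts [rfl, (t1 k).elim]
    · rcases k2 ((πk _).2 (h.ker.1 (k ▸ k1))) with rfl | rfl
      exacts [rfl, (twoM.choose_spec.one.x_ne k).elim]
  choose! ω hω using fun a (ha : a * tM tau = tM tau * a) => show ∃ w, (ψ w).2 = a by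
    obtain ⟨k, rk⟩ := h.down a ha
    obtain ⟨w, rfl⟩ := top k
    rcases h.symm.uq (ψ2 w) rk with e | e
    exacts [⟨w, e.symm⟩, ⟨w * w2, by rw [map_mul, z1, e]; rfl⟩]
  refine ⟨z, fun a => (ψ (ω a)).1, ⟨fun {a b} ha hb => ?_, fun {a b} ha hb e => ?_, ?_⟩, fun k => ?_⟩
  · rw [← Prod.fst_mul, ← map_mul, uq, hω _ (cm_mul ha hb), map_mul, Prod.snd_mul, hω _ ha, hω _ hb]
  · rwa [uq, hω _ ha, hω _ hb] at e
  · exact ((uq _ _).2 ((hω _ rfl).trans (congrArg Prod.snd z1).symm)).trans (congrArg Prod.fst z1)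
  · obtain ⟨w, rfl⟩ := top k
    exact ⟨_, h.cm' (ψ2 w), (uq _ _).2 (hω _ (h.cm' (ψ2 w)))⟩

end H10.Mon.MG.MB
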