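import Mathlib
import Cfsg.Agent.H0.BSM

/-!
# Two cases in the determination of the centraliser of a standard `2.B`
-/

set_option autoImplicit false
set_option linter.all false

namespace H10.Mon.MG

variable {M G : Type*} [Group M] [Group G] [Finite M] [Finite G] {x y γ : M} {p : ZMod 2 → C → M}
  {eO eD s0 : G0} {t : G} {ι : M → G} {K : Subgroup G}

namespace K9

variable (S : St x t ι K)
include S

theorem tK : t ∈ K := (S.memK t).2 fun _ ha => S.toEm.cm ha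

theorem Kt {k : G} (hk : k ∈ K) : k * t = t * k := (S.hx ▸ (S.memK k).1 hk x rfl).symm

theorem cK {a : M} (ha : a * x = x * a) {k : G} (hk : k ∈ K) : Commute (ι a) k := (S.memK k).1 hk a ha

variable (H : Two x y p γ)
include H

theorem tt : t * t = 1 := by rw [← S.hx, ← S.mul rfl rfl, H.xx, S.toEm.one]

theorem LK {a : M} (ha : a * x = x * a) (h : ι a ∈ K) : a = 1 ∨ a = x :=
  H.cenH ha fun b hb => (S.toEm.comm hb ha).1 (cK S hb h)

theorem T1 {u g : G} (hu : u ∈ K) (u1 : u ≠ 1) (u2 : u * u = 1 ∨ u * u = t) (h : g * u * g⁻¹ ∈ K) :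
    g * t = t * g := by
  rcases u2 with e | e
  · exact S.tight u hu e u1 g h
  · exact S.tight t (tK S) (tt S H) (fun e => H.x_ne ((S.toEm.eq_one rfl).1 (S.hx.trans e))) g
      (by rw [← e, ← conj_mul]; exact mul_mem h h)

/-- The components of commuting elements commute modulo the centre. -/
theorem cm2 {a b : M} (ha : a * x = x * a) (hb : b * x = x * b) {k l : G} (hk : k ∈ K) (hl : l ∈ K)
    (h : ι a * k * (ι b * l) = ι b * l * (ι a * k)) :
    (a * b * a⁻¹ = b ∧ k * l * k⁻¹ = l) ∨ (a * b * a⁻¹ = b * x ∧ k * l * k⁻¹ = l * t) := by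
  have E := S.toEm
  have c := cm_mul (cm_inv hb) (cm_conj ha hb)
  have e : ι (b⁻¹ * (a * b * a⁻¹)) * (k * l * k⁻¹) = l := by
    rw [E.mul (cm_inv hb) (cm_conj ha hb), E.inv hb, E.conj ha hb, mul_assoc, inv_mul_eq_iff_eq_mul,
      ← mul_inv_eq_iff_eq_mul.2 h]
    calc _ = ι a * ι b * ((ι a)⁻¹ * (k * l * k⁻¹)) := by group
      _ = ι a * (ι b * k) * l * k⁻¹ * (ι a)⁻¹ := by
        rw [(cK S ha (mul_mem (mul_mem hk hl) (inv_mem hk))).inv_left.eq]; group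
      _ = _ := by rw [(cK S hb hk).eq]; group
  rcases LK S H c (by
    rw [eq_mul_inv_of_mul_eq e]
    exact mul_mem hl (inv_mem (mul_mem (mul_mem hk hl) (inv_mem hk)))) with f | f <;> rw [f] at e
  · rw [E.one, one_mul] at e
    exact .inl ⟨(inv_mul_eq_one.1 f).symm, e⟩
  · refine .inr ⟨inv_mul_eq_iff_eq_mul.1 f, ?_⟩
    rw [Kt S hl]
    conv_rhs => rw [← e, S.hx, ← mul_assoc, tt S H, one_mul]

end K9

open K9

theorem St.caseY' (S : St x t ι K) (H : Two x y p γ)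
    (h : ∃ k ∈ K, k ≠ 1 ∧ k ≠ t ∧ (k * k = 1 ∨ k * k = t)) {g k : G} (hk : k ∈ K)
    (e : g * t * g⁻¹ = ι y * k) : False := by
  have E := S.toEm
  have O := H.one
  have ng : g⁻¹ * t ≠ t * g⁻¹ := fun c => by
    rw [mul_assoc, ← c, mul_inv_cancel_left] at e
    rcases LK S H O.yx (by rw [eq_mul_inv_of_mul_eq e.symm]; exact mul_mem (tK S) (inv_mem hk)) with f | f
    exacts [H.s.y_ne f, O.y_ne_x f]
  have dec : ∀ u, u * (ι y * k) = ι y * k * u → ∃ b, ∃ l ∈ K, b * x = x * b ∧ g⁻¹ * u * g⁻¹⁻¹ = ι b * l :=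
    fun u hu => S.dec _ (by
      rw [← e] at hu
      calc _ = g⁻¹ * (u * (g * t * g⁻¹)) * g := by group
        _ = _ := by rw [hu]; group)
  let D : Subgroup (M × M) :=
    { carrier := {z | (z.1 * x = x * z.1 ∧ z.1 * y = y * z.1) ∧ z.2 * x = x * z.2 ∧
        ∃ l ∈ K, g⁻¹ * ι z.1 * g⁻¹⁻¹ = ι z.2 * l}
      one_mem' := ⟨⟨cm_one, cm_one⟩, cm_one, 1, one_mem _, by
        change _ * ι 1 * _ = ι 1 * _; rw [E.one]; group⟩
      mul_mem' := by
        rintro a b ⟨⟨a1, a2⟩, a3, l, l1, a4⟩ ⟨⟨b1, b2⟩, b3, m, m1, b4⟩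
        refine ⟨⟨cm_mul a1 b1, cm_mul a2 b2⟩, cm_mul a3 b3, _, mul_mem l1 m1, ?_⟩
        rw [Prod.fst_mul, Prod.snd_mul, E.mul a1 b1, E.mul a3 b3, ← conj_mul, a4, b4,
          (cK S b3 l1).symm.mul_mul_mul_comm]
      inv_mem' := by
        rintro a ⟨⟨a1, a2⟩, a3, l, l1, a4⟩
        refine ⟨⟨cm_inv a1, cm_inv a2⟩, cm_inv a3, _, inv_mem l1, ?_⟩
        rw [Prod.fst_inv, Prod.snd_inv, E.inv a1, E.inv a3, ← conj_inv, a4, (cK S a3 l1).eq, mul_inv_rev] }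
  let π1 := (MonoidHom.fst M M).comp D.subtype
  let π2 := (MonoidHom.snd M M).comp D.subtype
  have r1 : π1.range = Subgroup.centralizer {x} ⊓ Subgroup.centralizer {y} := by
    ext a
    rw [Subgroup.mem_inf, Subgroup.mem_centralizer_singleton_iff, Subgroup.mem_centralizer_singleton_iff]
    refine ⟨by rintro ⟨z, rfl⟩; exact z.2.1, fun ha => ?_⟩
    obtain ⟨b, l, l1, b1, b2⟩ := dec (ι a)
      ((show Commute _ _ from (E.comm ha.1 O.yx).2 ha.2).mul_right (cK S ha.1 hk))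
    exact ⟨⟨(a, b), ha, b1, l, l1, b2⟩, rfl⟩
  have k1 : 2 ∣ Nat.card π1.ker := by
    have : (1, x) ∈ D := ⟨⟨cm_one, cm_one⟩, rfl, t, tK S, by
      change _ * ι 1 * _ = ι x * _; rw [E.one, E.hx, tt S H]; group⟩
    have o : orderOf (⟨⟨_, this⟩, rfl⟩ : π1.ker) = 2 := orderOf_eq_prime
      (Subtype.ext (Subtype.ext (Prod.ext (one_pow 2) ((pow_two x).trans H.xx))))
      fun e => H.x_ne (congrArg (·.1.1.2) e)
    exact o ▸ orderOf_dvd_natCard _
  have k2 : Nat.card π2.ker ∣ 2 := by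
    have xN : x ∉ π2.ker.map π1 := by
      rintro ⟨⟨⟨a, b⟩, _, _, l, l1, e1⟩, rfl, e2⟩
      rw [E.one, one_mul, show (a, 1).1 = x from e2, E.hx] at e1
      exact ng (T1 S H (tK S) (fun e => H.x_ne ((E.eq_one rfl).1 (S.hx.trans e))) (.inl (tt S H))
        (e1 ▸ l1))
    have hN := fun {a} => O.nsub (N := π2.ker.map π1) (g := a) (by rintro _ ⟨z, -, rfl⟩; exact z.2.1) (by
      rintro a a1 a2 _ ⟨z, hz, rfl⟩
      obtain ⟨w, rfl⟩ : a ∈ π1.range := r1 ▸ ⟨Subgroup.mem_centralizer_singleton_iff.2 a1,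
        Subgroup.mem_centralizer_singleton_iff.2 a2⟩
      exact ⟨_, π2.normal_ker.conj_mem z hz w, by rw [map_mul, map_mul, map_inv]⟩) xN
    have ex : ∀ {a b : π2.ker}, π1 a = π1 b → a = b := fun {a b} e =>
      Subtype.ext (Subtype.ext (Prod.ext e (a.2.trans b.2.symm)))
    have yx : ∀ {a b : π2.ker}, π1 a = y → π1 b = y * x → False := fun {a b} e f =>
      xN ⟨_, (a * b).2, by
        rw [Subgroup.coe_mul, map_mul, e, f, ← mul_assoc, H.s.yy, one_mul]⟩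
    by_cases c : ∃ a : π2.ker, a ≠ 1
    · obtain ⟨a, ha⟩ := c
      refine dvd_of_eq ((Nat.card_eq_two_iff' 1).2 ⟨a, ha, fun b hb => ?_⟩)
      rcases (hN ⟨_, a.2, rfl⟩).resolve_left fun e => ha (ex e) with e | e <;>
        rcases (hN ⟨_, b.2, rfl⟩).resolve_left fun e => hb (ex e) with f | f
      exacts [ex (f.trans e.symm), (yx e f).elim, (yx f e).elim, ex (f.trans e.symm)]
    · push Not at c
      rw [Nat.card_eq_one_iff_unique.2 ⟨⟨fun a b => (c a).trans (c b).symm⟩, ⟨1⟩⟩]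
      exact one_dvd _
  obtain ⟨n, n1, n2⟩ := O.big (S := π2.range) (by rintro _ ⟨z, rfl⟩; exact z.2.2.1) (by
    have c1 := π1.ker.index_mul_card
    have c2 := π2.ker.index_mul_card
    rw [Subgroup.index_ker] at c1 c2
    rw [← r1]
    refine Nat.dvd_of_mul_dvd_mul_right two_pos ((mul_dvd_mul_left _ k1).trans ?_)
    rw [c1, ← c2]
    exact mul_dvd_mul_left _ k2)
  have key : ∀ u ∈ K, u * (ι y * k) = ι y * k * u → ∃ l ∈ K,
      g⁻¹ * u * g⁻¹⁻¹ = l ∨ g⁻¹ * u * g⁻¹⁻¹ = ι (n * y * n⁻¹) * l := fun u hu c => by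
    obtain ⟨b, l, l1, b1, b2⟩ := dec u c
    have := O.cent (u := n⁻¹ * b * n) (fun s d hd => by
      obtain ⟨⟨⟨a, _⟩, a1, a2, m, m1, a3⟩, rfl⟩ := n2 s d hd
      have := cm2 S H b1 a2 l1 m1 (by rw [← b2, ← a3, conj_mul, conj_mul, (cK S a1.1 hu).eq])
      rw [show ∀ v, n⁻¹ * b * n * v * (n⁻¹ * b * n)⁻¹ = n⁻¹ * (b * (n * v * n⁻¹) * b⁻¹) * n⁻¹⁻¹ from
        fun v => by group]
      rcases this with f | f <;> rw [f.1]
      exacts [.inl (by group), .inr (by rw [cj_mul (cm_inv n1)]; group)])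
      (cm_mul (cm_mul (cm_inv n1) b1) n1)
    rw [b2, show b = n * (n⁻¹ * b * n) * n⁻¹ by group]
    have nx := mul_inv_eq_iff_eq_mul.2 n1
    rcases this with f | f | f | f <;> rw [f]
    · exact ⟨l, l1, .inl (by rw [mul_one, mul_inv_cancel, E.one, one_mul])⟩
    · exact ⟨l, l1, .inr rfl⟩
    · exact ⟨_, mul_mem (tK S) l1, .inl (by rw [nx, E.hx])⟩
    · exact ⟨_, mul_mem (tK S) l1, .inr (by
        rw [cj_mul n1, E.mul (cm_conj n1 O.yx) rfl, E.hx, mul_assoc])⟩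
  have t1 : t ≠ 1 := fun e => H.x_ne ((E.eq_one rfl).1 (S.hx.trans e))
  obtain ⟨j, j0, j1, j2, j3, j4⟩ : ∃ j ∈ K, j ≠ 1 ∧ j ≠ t ∧ (j * j = 1 ∨ j * j = t) ∧
      j * (ι y * k) = ι y * k * j := by
    by_cases c : k = 1 ∨ k = t
    · obtain ⟨j, j0, j1, j2, j3⟩ := h
      refine ⟨j, j0, j1, j2, j3, (cK S O.yx j0).symm.mul_right ?_⟩
      rcases c with rfl | rfl
      exacts [Commute.one_right _, Kt S j0]
    · refine ⟨k, hk, fun e => c (.inl e), fun e => c (.inr e), .inl ?_,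
        (cK S O.yx hk).symm.mul_right (Commute.refl _)⟩
      have := sq_of_cj (cj_of e) (tt S H)
      rwa [(cK S O.yx hk).symm.mul_mul_mul_comm, ← E.mul O.yx O.yx, H.s.yy, E.one, one_mul] at this
  obtain ⟨l, l1, f | f⟩ := key j j0 j4
  · exact ng (T1 S H j0 j1 j3 (f ▸ l1))
  obtain ⟨m, m1, f' | f'⟩ := key t (tK S) ((cK S O.yx (tK S)).symm.mul_right (Kt S hk).symm)
  · exact ng (T1 S H (tK S) t1 (.inl (tt S H)) (f' ▸ m1))
  have c := cm_conj n1 O.yx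
  refine ng (T1 S H (mul_mem j0 (tK S))
    (fun e => j2 (by rw [← mul_one j, ← tt S H, ← mul_assoc, e, one_mul]))
    (by rwa [(show Commute j t from Kt S j0).symm.mul_mul_mul_comm, tt S H, mul_one]) ?_)
  rw [← conj_mul, f, f', (cK S c l1).symm.mul_mul_mul_comm, ← E.mul c c, conj_mul, H.s.yy, mul_one,
    mul_inv_cancel, E.one, one_mul]
  exact mul_mem l1 m1

theorem St.caseC' (S : St x t ι K) (H : Two x y p γ) (L : LF eO eD s0)
    (all : ∀ g a, ∀ k ∈ K, a * x = x * a → g * t * g⁻¹ = ι a * k → g * t * g⁻¹ ≠ t → a * a = x)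
    {g : G} (h1 : g * t * g⁻¹ ≠ t) (h2 : g * t * g⁻¹ * t = t * (g * t * g⁻¹)) : False := by
  have E := S.toEm
  have O := H.one
  have back : ∀ {g u : G}, u * (g * t * g⁻¹) = g * t * g⁻¹ * u → g⁻¹ * u * g * t = t * (g⁻¹ * u * g) :=
    fun {g u} hu => calc _ = g⁻¹ * (u * (g * t * g⁻¹)) * g := by group
      _ = _ := by rw [hu]; group
  have main : ∀ g : G, g * t * g⁻¹ ≠ t → g * t * g⁻¹ * t = t * (g * t * g⁻¹) →
      ∃ a, ∃ k ∈ K, ∃ b, ∃ l ∈ K, a * x = x * a ∧ g⁻¹ * t * g = ι a * k ∧ k * k = t ∧ b * x = x * b ∧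
        g * k * g⁻¹ = ι b * l ∧ g * t * g⁻¹ = ι (b * b) * (l * l) ∧ b * b * (b * b) = x := by
    intro g h1 h2
    obtain ⟨a, k, k1, a1, a2⟩ := S.dec _ (back h2.symm)
    have a3 := all g⁻¹ a k k1 a1 (by rwa [inv_inv]) fun e => h1 (by
      conv_lhs => rw [← e]
      group)
    have k2 : k * k = t := by
      have := sq_of_cj (cj_of (a := g⁻¹) (g' := ι a * k) (by rwa [inv_inv])) (tt S H)
      rw [(cK S a1 k1).symm.mul_mul_mul_comm, ← E.mul a1 a1, a3, E.hx] at this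
      rw [← one_mul (k * k), ← tt S H, mul_assoc, this, mul_one]
    obtain ⟨b, l, l1, b1, b2⟩ := S.dec (g * k * g⁻¹)
      (calc _ = g * (k * (g⁻¹ * t * g)) * g⁻¹ := by group
        _ = g * (g⁻¹ * t * g * k) * g⁻¹ := by rw [a2, ← mul_assoc k, ← (cK S a1 k1).eq]
        _ = _ := by group)
    have e : g * t * g⁻¹ = ι (b * b) * (l * l) := by
      rw [← k2, ← conj_mul, b2, (cK S b1 l1).symm.mul_mul_mul_comm, E.mul b1 b1]
    exact ⟨a, k, k1, b, l, l1, a1, a2, k2, b1, b2, e, all g _ _ (mul_mem l1 l1) (cm_mul b1 b1) e h1⟩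
  obtain ⟨a, k, k1, b, l, l1, a1, a2, k2, b1, b2, e, b4⟩ := main g h1 h2
  obtain ⟨n, n1, n2⟩ := O.syl (P := Subgroup.zpowers b) (pg_of 3 (by
    rintro _ ⟨j, rfl⟩
    rw [← zpow_natCast, ← zpow_mul, mul_comm, zpow_mul, zpow_natCast,
      show b ^ 2 ^ 3 = b * b * (b * b) * (b * b * (b * b)) by
        rw [show 2 ^ 3 = 8 from rfl]; simp only [pow_succ, pow_zero, one_mul, mul_assoc], b4, H.xx,
      one_zpow])) (by rintro _ ⟨j, rfl⟩; exact (show Commute b x from b1).zpow_left j)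
  obtain ⟨κ, hκ⟩ := H.s.up _ (n2 b (Subgroup.mem_zpowers b))
  have V := (Rel.view (q := p) n⁻¹).2 (by rwa [inv_inv])
  have r2 := hκ.mul hκ
  have r4 := r2.mul r2
  have nx := mul_inv_eq_iff_eq_mul.2 n1
  rw [conj_mul] at r2
  rw [conj_mul, conj_mul, b4, nx] at r4
  have u4 := H.s.rel_uniq r4 (H.hx ▸ H.s.rel_q 0 c0.1)
  have claim : ∀ c, co κ • co κ • c = c → ep (κ * κ) c = 0 → co κ • c = c := fun c c1 c2 => by
    have c3 : pl c c0.1 = 0 := by
      have := (u4 c).1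
      rwa [ep_mul, map_mul, mul_smul, c1, zz2, ep_qe, eq_comm, add_comm] at this
    have w1 : n⁻¹ * p 0 c * n⁻¹⁻¹ * x = x * (n⁻¹ * p 0 c * n⁻¹⁻¹) := cm_conj (cm_inv n1) (O.cm_x.2 c3)
    have w2 : n⁻¹ * p 0 c * n⁻¹⁻¹ * (b * b) = b * b * (n⁻¹ * p 0 c * n⁻¹⁻¹) := by
      have := r2 0 c
      rw [c2, map_mul, mul_smul, c1, add_zero] at this
      conv_lhs => rw [← this]
      group
    suffices n⁻¹ * p 0 c * n⁻¹⁻¹ * b = b * (n⁻¹ * p 0 c * n⁻¹⁻¹) from (H.s.cm_q hκ (t := 0)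
      (calc _ = n * (b * (n⁻¹ * p 0 c * n⁻¹⁻¹)) * n⁻¹ := by group
        _ = _ := by rw [← this]; group)).1
    generalize n⁻¹ * p 0 c * n⁻¹⁻¹ = w at w1 w2
    obtain ⟨a', k', k3, a3, a4⟩ := S.dec _ (back (g := g) (u := ι w) (e ▸
      (show Commute _ _ from (E.comm w1 (cm_mul b1 b1)).2 w2).mul_right (cK S w1 (mul_mem l1 l1))))
    have e1 : ι w * (g * k * g⁻¹) * (ι w)⁻¹ = g * (k' * k * k'⁻¹) * g⁻¹ :=
      calc _ = g * (g⁻¹ * ι w * g * k * (g⁻¹ * ι w * g)⁻¹) * g⁻¹ := by group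
        _ = g * (ι a' * (k' * k * k'⁻¹) * (ι a')⁻¹) * g⁻¹ := by rw [a4]; group
        _ = _ := by rw [(cK S a3 (mul_mem (mul_mem k3 k1) (inv_mem k3))).eq, mul_inv_cancel_right]
    have e2 : ι w * (g * k * g⁻¹) * (ι w)⁻¹ = ι (w * b * w⁻¹) * l := by
      rw [b2, E.conj w1 b1, mul_assoc _ (ι w)⁻¹, (cK S w1 l1).inv_left.eq]; group
    rcases cm2 S H a3 a1 k3 k1 (by
      rw [← a4, ← a2]
      calc _ = g⁻¹ * (ι w * t) * g := by group
        _ = _ := by rw [E.cm w1]; group) with f | f <;> rw [f.2] at e1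
    · rw [e2, b2, mul_left_inj] at e1
      exact mul_inv_eq_iff_eq_mul.1 (E.inj (cm_conj w1 b1) b1 e1)
    · rw [e2, ← conj_mul, b2, (cK S b1 l1).eq, ← (cK S (cm_conj w1 b1) l1).symm.eq, mul_assoc l,
        mul_right_inj, ← inv_mul_eq_iff_eq_mul, ← E.inv b1, ← E.mul (cm_inv b1) (cm_conj w1 b1)] at e1
      have c := cm_mul (cm_inv b1) (cm_conj w1 b1)
      have := all g _ 1 (one_mem _) c (by rw [e1, mul_one]) h1
      refine (H.x_ne ((E.eq_one rfl).1 ?_)).elim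
      rw [← this, E.mul c c, e1]
      exact sq_of_cj (cj_of rfl) (tt S H)
  obtain ⟨s, c, f⟩ := H.s.inQ r2 (by
    rw [map_mul]
    refine ord4 L (fun c => ?_) fun c d c1 d1 => ?_
    · have := (u4 c).2
      rw [co_qe] at this
      rw [← this]
      simp only [map_mul, pow_succ, pow_zero, one_mul, mul_assoc]
    · have := ep_add (κ * κ) c d
      rw [map_mul, mul_smul, mul_smul, c1, d1, add_assoc, zz2, add_zero] at this
      rcases z2 (ep (κ * κ) c) with e1 | e1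
      · exact .inl (claim c c1 e1)
      rcases z2 (ep (κ * κ) d) with e2 | e2
      · exact .inr (.inl (claim d d1 e2))
      · exact .inr (.inr (claim _ (by rw [smul_add, smul_add, c1, d1]) (by rw [this, e1, e2]; rfl))))
  have := H.s.sq s c
  rw [← f, conj_mul, b4, nx, ← H.hx] at this
  exact isS_ne (isS_val c0) (H.s.inj this).2

end H10.Mon.MG
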