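import Mathlib
import Cfsg.Agent.H9.CG
import Cfsg.Agent.H9.U62P
import Cfsg.Agent.H9.CG3
import Cfsg.Agent.H29.Cover
import Cfsg.Agent.S0280

set_option autoImplicit false
set_option maxRecDepth 100000
set_option Elab.async false
set_option linter.all false

namespace H9.U62M

open H29 H9.MX

def P : Par := ⟨6, 5, 2, 1, 1, 1, 24, 1, 1,
  (nat_lit 0x7c000001f0000007c000001f0000007c000001f),
  (nat_lit 0x3fffffff),
  (nat_lit 0x7bdef7bdef7bdef7bdef7bdef7bdef7bdef7bdef7bdef),
  (nat_lit 0x84210842108421084210842108421084210842108421),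
  (nat_lit 0x80000000100000000200000000400000000800000001)⟩
theorem P_ok : P.OK := Par.ok_of (by decide +kernel)
noncomputable def l : List MM := [⟨(nat_lit 0x80000000100000000200000000400000000800000001), (nat_lit 0x0)⟩,
 ⟨(nat_lit 0x80000000100000000200000000400000000800000001), (nat_lit 0x0)⟩,
 ⟨(nat_lit 0x200802008421080000802108021080200002108420), (nat_lit 0x4010042008020004010042008020004010042008020)⟩,
 ⟨(nat_lit 0x4000002000000000200000000400000000800000001), (nat_lit 0x0)⟩,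
 ⟨(nat_lit 0x2000000000200000000400000000800000001), (nat_lit 0x4000002000000000000000000000000000000000000)⟩,
 ⟨(nat_lit 0x4210002008400084010002108000000000800000001), (nat_lit 0x0)⟩,
 ⟨(nat_lit 0x80000000100000000000800008021000200000008420), (nat_lit 0x10040008020000010040008020)⟩,
 ⟨(nat_lit 0x200042008420080000042108020084210000100420), (nat_lit 0x4010842008001004010842008001080200042108420)⟩,
 ⟨(nat_lit 0x80000000100000000010840008021000210040008420), (nat_lit 0x0)⟩,
 ⟨(nat_lit 0x80000000100000000000000008000000000800000001), (nat_lit 0x10000008000000000000000000)⟩]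
noncomputable def lt : List MM := [⟨(nat_lit 0x80000000100000000200000000400000000800000001), (nat_lit 0x0)⟩,
 ⟨(nat_lit 0x80000000100000000200000000400000000800000001), (nat_lit 0x0)⟩,
 ⟨(nat_lit 0x4210840000401084010840100001084210040100400), (nat_lit 0x4010042008020004010042008020004010042008020)⟩,
 ⟨(nat_lit 0x4000002000000000200000000400000000800000001), (nat_lit 0x0)⟩,
 ⟨(nat_lit 0x4000000000000000200000000400000000800000001), (nat_lit 0x4000002000000000000000000000000000000000000)⟩,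
 ⟨(nat_lit 0x4210002008400084010002108000000000800000001), (nat_lit 0x0)⟩,
 ⟨(nat_lit 0x80000000100000000010840000001000210040000400), (nat_lit 0x10040008020000010040008020)⟩,
 ⟨(nat_lit 0x4210800000421084010800100021004010042008000), (nat_lit 0x4010842008001004010842008001080200042108420)⟩,
 ⟨(nat_lit 0x80000000100000000010840008021000210040008420), (nat_lit 0x0)⟩,
 ⟨(nat_lit 0x80000000100000000010000000000000000800000001), (nat_lit 0x10000008000000000000000000)⟩]
def I : Interp P F4 (Fin 6) := interp4 (Equiv.refl _) P_ok ⟨rfl, rfl, rfl⟩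
theorem card : Nat.card (Cfsg.PSU 6 F4 2) = 9196830720 := by
  have := Cfsg.Agent.S0280.result (F := F4) (q := 2) F4.card 6 (by norm_num)
  simp only [Finset.prod_range_succ, Finset.prod_range_zero] at this
  norm_num [show Even 4 by decide, show ¬ Even 5 by decide, show ¬ Even 3 by decide] at this
  omega
theorem iso : Nonempty (PG U62A.nl ≃* Cfsg.PSU 6 F4 2) := by
  obtain ⟨e, he⟩ := exists_SU (q := 2) I (l := l) (by decide +kernel)
    (det_eq_one I (by decide +kernel) (ords := [2, 2, 2, 2, 2, 2, 2, 2, 2, 2]) (m := 3) (by rw [F4.card]) (by decide +kernel))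
    frob4 frob4_eq (d0 := 1) (d1 := 1) (by decide) (lt := lt) (by decide +kernel)
  exact U62.equivT (ivOK_map (QuotientGroup.mk' _) (he.ivOK (by decide +kernel)))
    (he.rels_quot (by decide +kernel))
    ⟨[7], by decide, he.quot_ne_one (v := [8]) (i := 1) (j := 4) (by decide +kernel)⟩ card
theorem cardH : Nat.card (gen Fi22.e1 Fi22U.hcols) = 2 * 9196830720 := Fi22.cm.card_sub Fi22.card.1
def RH : List (List ℕ) := [[2, 3, 2, 3, 2, 3], [3, 4, 3, 4, 3, 4], [3, 7, 3, 7, 3, 7], [4, 5, 4, 5, 4, 5], [5, 6, 5, 6, 5, 6], [5, 9, 5, 9, 5, 9], [7, 8, 7, 8, 7, 8], [8, 9, 8, 9, 8, 9], [2, 3, 4, 5, 6, 7, 8, 2, 3, 4, 5, 6, 7, 8, 2, 3, 4, 5, 6, 7, 8, 2, 3, 4, 5, 6, 7, 8, 2, 3, 4, 5, 6, 7, 8, 2, 3, 4, 5, 6, 7, 8, 2, 3, 4, 5, 6, 7, 8, 2, 3, 4, 5, 6, 7, 8, 2, 3, 4, 5, 6, 7, 8], [2, 3, 4, 7, 8, 9, 2, 3, 4, 7, 8, 9, 2, 3, 4, 7, 8, 9, 2, 3, 4, 7, 8, 9, 2, 3, 4, 7, 8, 9, 0]]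
theorem hRH : ∀ r ∈ RH, ev Fi22.e1 r = 1 := rels_of_faithful Fi22.card.2 Fi22.hρ
  (rels_of_chk (k := 12) Fi22U.hn (by decide) U62P.hivN (allN_true.1 (by decide +kernel)))
theorem cover : Cfsg.IsNonsplitDoubleCover (gen Fi22.e1 Fi22U.hcols) (Cfsg.PSU 6 F4 2) := by
  obtain ⟨f, hf⟩ := U62P.surj
  obtain ⟨g⟩ := iso
  have : Finite (Cfsg.PSU 6 F4 2) := Nat.finite_of_card_ne_zero (by rw [card]; norm_num)
  have := U62.simpleS
  have := g.symm.isSimpleGroup
  exact nonsplit_of_surj (g.toMonoidHom.comp f) (g.surjective.comp hf)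
    (center_eq_bot_of_simple (by rw [card]; norm_num)) (by rw [cardH, card])
    (no_index_two hRH (by decide +kernel) (cert := nth [] [[0, 3, 5, 6, 9], [], [1, 4, 6, 8], [0, 1, 4, 6, 8], [0, 4, 6, 8], [0, 3, 4, 6, 8], [0, 3, 6, 8], [0, 1, 2, 4, 6, 8], [0, 1, 2, 4, 8], [0, 3, 4, 5, 6, 8]]) (by decide +kernel))

end H9.U62M
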