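import Mathlib
import Cfsg.Agent.H9.J4A.C0
import Cfsg.Agent.H9.J4A.C1
import Cfsg.Agent.H9.J4A.C2
import Cfsg.Agent.H9.J4A.C3
import Cfsg.Agent.H9.J4A.V0
import Cfsg.Agent.H9.J4A.V1
import Cfsg.Agent.H9.J4A.V2
import Cfsg.Agent.H9.J4A.V3

set_option autoImplicit false
set_option maxRecDepth 100000
set_option Elab.async false
set_option linter.all false

namespace H9.J4A

open Cfsg H29 H9.MX H9.DC

theorem upto {G : Type} [Group G] {X : Ctx G} (h : X.OK C) : X.Upto C 4932 :=
  (h.next (h.next (h.next (h.next (h.next (h.next (h.next (h.next (h.next (h.next (h.next Ctx.upto_zero c0) c1) c2) c3) c4) c5) c6) c7) c8) c9) c10)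
def ol : List ℕ := [1, 3795, 318780, 5100480, 1912680, 81607680, 15301440, 40803840, 1275120, 478170, 7650720, 2550240, 12241152, 2550240, 212520, 967680, 53130, 11385, 26565, 1771]
theorem cov {G : Type} [Group G] {X : Ctx G} (h : X.OK C)
    (hT : ∀ g ∈ X.N, g ∈ TS 3 → X.φ' g * X.t = X.t * X.φ' g)
    (hi : ((TS 3).subgroupOf X.N).index ≤ 3795) : ∀ j, 0 < j → j < 20 → X.Cov C 20 j := by
  intro j h0 h1
  interval_cases j
  · exact Ctx.cov_of_chkU (by decide) hT hi (upto h) (by decide) cov1
  · exact Ctx.cov_of_chkU (by decide) hT hi (upto h) (by decide) cov2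
  · exact Ctx.cov_of_chkU (by decide) hT hi (upto h) (by decide) cov3
  · exact Ctx.cov_of_chkU (by decide) hT hi (upto h) (by decide) cov4
  · exact Ctx.cov_of_chkU (by decide) hT hi (upto h) (by decide) cov5
  · exact Ctx.cov_of_chkU (by decide) hT hi (upto h) (by decide) cov6
  · exact Ctx.cov_of_chkU (by decide) hT hi (upto h) (by decide) cov7
  · exact Ctx.cov_of_chkU (by decide) hT hi (upto h) (by decide) cov8
  · exact Ctx.cov_of_chkU (by decide) hT hi (upto h) (by decide) cov9
  · exact Ctx.cov_of_chkU (by decide) hT hi (upto h) (by decide) cov10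
  · exact Ctx.cov_of_chkU (by decide) hT hi (upto h) (by decide) cov11
  · exact Ctx.cov_of_chkU (by decide) hT hi (upto h) (by decide) cov12
  · exact Ctx.cov_of_chkU (by decide) hT hi (upto h) (by decide) cov13
  · exact Ctx.cov_of_chkU (by decide) hT hi (upto h) (by decide) cov14
  · exact Ctx.cov_of_chkU (by decide) hT hi (upto h) (by decide) cov15
  · exact Ctx.cov_of_chkU (by decide) hT hi (upto h) (by decide) cov16
  · exact Ctx.cov_of_chkU (by decide) hT hi (upto h) (by decide) cov17
  · exact Ctx.cov_of_chkU (by decide) hT hi (upto h) (by decide) cov18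
  · exact Ctx.cov_of_chkU (by decide) hT hi (upto h) (by decide) cov19
theorem orb {G : Type} [Group G] {X : Ctx G} (h : X.OK C) (hN : Nat.card X.N ≤ 244823040) :
    ∀ j < 20, (X.O C j).ncard ≤ nth 0 ol j := by
  intro j h1
  interval_cases j
  · exact h.ncard_O_zero
  · exact Ctx.ncard_O_le (upto h) hN st1
  · exact Ctx.ncard_O_le (upto h) hN st2
  · exact Ctx.ncard_O_le (upto h) hN st3
  · exact Ctx.ncard_O_le (upto h) hN st4
  · exact Ctx.ncard_O_le (upto h) hN st5
  · exact Ctx.ncard_O_le (upto h) hN st6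
  · exact Ctx.ncard_O_le (upto h) hN st7
  · exact Ctx.ncard_O_le (upto h) hN st8
  · exact Ctx.ncard_O_le (upto h) hN st9
  · exact Ctx.ncard_O_le (upto h) hN st10
  · exact Ctx.ncard_O_le (upto h) hN st11
  · exact Ctx.ncard_O_le (upto h) hN st12
  · exact Ctx.ncard_O_le (upto h) hN st13
  · exact Ctx.ncard_O_le (upto h) hN st14
  · exact Ctx.ncard_O_le (upto h) hN st15
  · exact Ctx.ncard_O_le (upto h) hN st16
  · exact Ctx.ncard_O_le (upto h) hN st17
  · exact Ctx.ncard_O_le (upto h) hN st18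
  · exact Ctx.ncard_O_le (upto h) hN st19
theorem sum_ol : ∑ j ∈ Finset.range 20, nth 0 ol j = 173067389 := by decide +kernel

end H9.J4A
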