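import Mathlib
import Cfsg.Agent.H9.J4M
import Cfsg.Agent.H9.J4A
import Cfsg.Agent.H9.J4B
import Cfsg.Agent.H9.J4C

set_option autoImplicit false
set_option maxRecDepth 100000
set_option Elab.async false
set_option linter.all false

namespace H9.J4

open Cfsg H29 H9.MX H9.DC

/-- The setting for the coset enumerations. -/
noncomputable def X (H : Subgroup G) (t : G) : Ctx G := ⟨Nb, φ, H, t⟩
theorem good3 (H : Subgroup G) (t : G) : ∀ c ∈ cl3, (X H t).good c := gi3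
theorem ψ_let (H : Subgroup G) (t : G) (c : ℕ) (hc : c ≠ 3) : P.e c = (X H t).ψ (nth idP cl3 c) := by
  have key : ∀ c (hc : c ∈ [0, 1, 2]), P.e c = (X H t).ψ (nth idP cl3 c) := fun c hc => by
    rw [← φ_e c hc]; exact (Ctx.φ'_mem (X := X H t) _).symm
  match c, hc with
  | 0, _ => exact key 0 (by simp)
  | 1, _ => exact key 1 (by simp)
  | 2, _ => exact key 2 (by simp)
  | c + 4, _ => rw [PData.e_eq_one (show 4 ≤ c + 4 by omega)]; exact Ctx.ψ_id.symm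
theorem ψ_word (H : Subgroup G) (t : G) : ∀ w : List ℕ, (∀ c ∈ w, c ≠ 3) →
    (X H t).good (evalW cl3 w) ∧ (X H t).ψ (evalW cl3 w) = ev P.e w
  | [], _ => ⟨Ctx.good_id, Ctx.ψ_id⟩
  | c :: w, h => by
    have e : evalW cl3 (c :: w) = mulF (nth idP cl3 c) (evalW cl3 w) := by
      rw [nth_eq, mulF_eq]; exact force_eq _ _
    obtain ⟨h1, h2⟩ := ψ_word H t w fun c hc => h c (List.mem_cons_of_mem _ hc)
    have h3 : (X H t).good (nth idP cl3 c) := nth_forall Ctx.good_id (good3 H t) c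
    rw [e, Ctx.ψ_mul h3 h1, h2, ← ψ_let H t c (h c (by simp)), ev_cons]
    exact ⟨h3.mul h1, rfl⟩
theorem tok_all {K : Type} [Group K] {Y : Ctx K} {cl : List ℕ} (hcl : ∀ c ∈ cl, Y.good c) {e : ℕ → K}
    (h3 : e 3 = Y.t) (he : ∀ c, c ≠ 3 → e c = Y.ψ (nth idP cl c)) {iv : ℕ → ℕ} (hiv : IvOK e iv)
    {R : List (List ℕ)} (hR : ∀ r ∈ R, ev e r = 1) {tm : List (ℕ × List ℕ × ℕ)} {rs : List (ℕ × ℕ × ℕ)}
    (h : (allN tm.length fun i => parse cl (rotW iv R (nth (0, 0, 0) rs i).1 (nth (0, 0, 0) rs i).2.1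
      (nth (0, 0, 0) rs i).2.2) fun p ms => eqL (p :: ms) (idP :: (nth (0, [], 0) tm i).1 ::
        ((nth (0, [], 0) tm i).2.1 ++ [(nth (0, [], 0) tm i).2.2]))) = true) : ∀ τ ∈ tm, Y.TOK τ := by
  intro τ hτ
  obtain ⟨i, hi, rfl⟩ := List.getElem_of_mem hτ
  have := Ctx.tok_of_word hcl h3 (fun c _ => he c) (ev_rotW hiv hR _ _ _) (allN_true.1 h i hi)
  rwa [nth_eq, List.getD_eq_getElem _ _ hi] at this
theorem gens_CT (H : Subgroup G) (t : G) {ws : List (List ℕ)} {g0 : List ℕ}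
    (h1 : ∀ w ∈ ws, (∀ c ∈ w, c ≠ 3) ∧ ev P.e w * t = t * ev P.e w) (h2 : ws.map (evalW cl3) = g0) :
    GensIn g0 (X H t).CT := by
  intro c hc
  rw [← h2] at hc
  obtain ⟨w, hw, rfl⟩ := List.mem_map.1 hc
  obtain ⟨h3, h4⟩ := ψ_word H t w (h1 w hw).1
  refine ⟨h3.1, h3.2, ?_⟩
  have := (h1 w hw).2
  rw [← h4] at this
  exact this
theorem base3 (H : Subgroup G) (t : G) (hN : ∀ n, φ n ∈ H) {C : Cfg} (p0 : nth [] C.paths 0 = [])
    {f : ℕ} (h : and2 (memL (fa f) (idP :: cl3)) (isSt f 0) = true) : (X H t).Valid C f := by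
  rw [and2_true] at h
  exact Ctx.valid_zero hN p0 (List.forall_mem_cons.2 ⟨Ctx.good_id, good3 H t⟩ _ (memL_true.1 h.1)) h.2
theorem tt : P.e 3 * P.e 3 = 1 := mul_eq_one_iff_eq_inv.2 (hiv0 3)
def uw : List ℕ := [1, 0, 1, 0, 2, 0, 2, 0, 1, 0, 1, 0, 1]
def RA : List (List ℕ) := [[1, 0, 1, 0, 2, 0, 1, 0, 2, 3, 1, 0, 2, 0, 1, 0, 2, 0, 1, 0, 1, 0, 2, 0, 1, 0, 2, 3, 1, 0, 2, 0, 1, 0, 2, 0, 1, 0, 1, 0, 2, 0, 1, 0, 2, 3, 1, 0, 2, 0, 1, 0, 2, 0], [1, 0, 1, 0, 1, 0, 1, 1, 0, 1, 0, 1, 0, 1, 1, 0, 1, 0, 1, 0, 1, 3, 2, 2, 0, 2, 0, 2, 0, 2, 0, 2, 0, 2, 0, 2, 2, 0, 2, 0, 2, 0, 3, 0, 1, 0, 1, 0, 1, 1, 0, 1, 0, 1, 0, 1, 0, 1, 0, 1, 0, 1, 1, 1, 0, 1, 0, 1, 0, 1, 1, 0, 1, 0, 1, 0, 1, 1, 0, 1, 0, 1, 0, 1, 3, 2, 2, 0, 2, 0, 2, 0, 2, 0, 2, 0, 2, 0, 2, 2, 0, 2, 0, 2, 0, 3, 0, 1, 0, 1, 0, 1, 1, 0, 1, 0, 1, 0, 1, 0, 1, 0, 1, 0, 1, 1]]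
theorem hRA : ∀ r ∈ RA, ev P.e r = 1 := rels_sub hR (by decide +kernel)
theorem blk3 (H : Subgroup G) : (∀ g ∈ Nb, g ∈ TS 3 →
    (X H (P.e 3)).φ' g * P.e 3 = P.e 3 * (X H (P.e 3)).φ' g) ∧ ((TS 3).subgroupOf Nb).index ≤ 3795 := by
  have key : ∀ w, ev P.e (3 :: (invW (ivOf [0, 2, 1, 3]) w ++ 3 :: w)) = 1 →
      ev P.e w * P.e 3 = P.e 3 * ev P.e w := fun w h => by
    rw [ev_cons, ev_append, ev_invW hiv0, ev_cons] at h
    have h3 := tt
    generalize ev P.e w = a at *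
    generalize P.e 3 = t at *
    calc a * t = a * t * (t * (a⁻¹ * (t * a))) := by rw [h, mul_one]
      _ = a * (t * t) * (a⁻¹ * (t * a)) := by group
      _ = t * a := by rw [h3]; group
  have h := rels_sub (R' := [[0], uw].map fun w => 3 :: (invW (ivOf [0, 2, 1, 3]) w ++ 3 :: w)) hR
    (by decide +kernel)
  exact Ctx.blk (X := X H (P.e 3)) (mc := 32158741832599334818444825911386904) (c0 := 64512) (by decide +kernel)
    (gens_CT H _ (ws := [[0], uw]) (g0 := [635298756326989702480773699161167873, 216948339606734666187319329534067251])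
      (fun w hw => ⟨by revert w; decide, key w (h _ (List.mem_map_of_mem hw))⟩) (by decide +kernel))
    (by decide +kernel) (ch := [(0, 24, [[1, 0, 1, 0, 1], [1, 0, 1, 1, 0, 1, 0]]),
 (8, 16, [[1, 1], [0, 0, 1, 0]]),
 (16, 8, [[1, 0], [0, 0, 1, 0, 1]]),
 (1, 7, [[1, 0, 1]]),
 (2, 3, [])])
    (by decide +kernel) (by decide) (le_index_of_chkU gi3 (by decide) J4H.idx3) card_Nb.le
theorem okB : (X φ.range (P.e 3)).OK J4B.C where
  hN := fun n => ⟨n, rfl⟩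
  tt := tt
  hT := Ctx.hT_code (β := 3) (by decide +kernel) (blk3 _).1
  tm := tok_all (good3 _ _) rfl (ψ_let _ _) hiv0 hRA (rs := J4B.rs) (by decide +kernel)
  base := fun b hb => base3 φ.range _ (fun n => ⟨n, rfl⟩) rfl
    (allL_true.1 (show (H29.allL J4B.C.base fun f => and2 (memL (fa f) (idP :: cl3)) (isSt f 0)) = true by
      decide +kernel) b hb)
  p0 := rfl
  p1 := by decide +kernel
def sw : List ℕ := [1, 0, 1, 0, 2, 0, 2, 0, 2, 0, 2, 3, 1, 0, 1, 0, 1, 0, 1, 0, 2, 0, 1, 0, 1, 0, 2, 0, 2, 0, 2, 0, 2, 3, 1, 0, 1, 0, 1, 0, 1, 0, 2, 0, 1, 0, 1, 0, 2, 0, 2, 0, 2, 0, 2, 3, 1, 0, 1, 0, 1, 0, 1, 0, 2, 0]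
def nw : List ℕ := [0, 1, 0, 1, 0, 2, 0, 2, 0, 2, 0, 1, 0, 1, 0, 2, 0]
noncomputable def s2 : List ℕ := nw ++ (sw ++ invW (ivOf [0, 2, 1, 3]) nw)
def sx : List (List ℕ) := [[2, 0, 2, 0, 1, 0, 2, 0, 2, 0, 1, 0, 2, 0, 1, 0, 2, 0, 2, 0, 1, 0], [1, 0, 2]]
def rw1 : List ℕ := [0, 1, 0, 2, 0, 1, 0, 1, 0, 2, 0]
def rw2 : List ℕ := [2, 0, 1, 0, 1, 0, 2, 0, 1, 0, 2, 0, 1, 0, 2, 0, 1, 0, 1, 0, 1]
noncomputable def RB : List (List ℕ) := [s2 ++ s2] ++ (sx.map fun w =>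
  s2 ++ (w ++ (invW (ivOf [0, 2, 1, 3]) s2 ++ invW (ivOf [0, 2, 1, 3]) w))) ++
  [powW 3 (s2 ++ rw1), powW 3 (s2 ++ rw2)]
theorem trB : (allN 5 fun i => parse cl3 (nth [] RB i) fun p ms =>
    J4B.C.walk 685 (fun j _ => Nat.beq j 0) ms 0 p (nth 0 J4B.xs i)) = true := by decide +kernel
theorem mB1 : Q.chkRel l4 (RB.take 3) = true := by decide +kernel
theorem mB2 : Q.chkRel l4 (RB.drop 3) = true := by decide +kernel
theorem hRB : ∀ r ∈ RB, ev P.e r = 1 := by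
  intro r hr
  have h1 : val (ev P.e r) = 1 := by
    rw [← List.take_append_drop 3 RB, List.mem_append] at hr
    rw [hm.val_ev Q_ok, ← GF2.Par.mat_one Q_ok]
    rcases hr with hr | hr
    · exact congrArg _ (H29.beq_true.1 (allL_true.1 mB1 r hr))
    · exact congrArg _ (H29.beq_true.1 (allL_true.1 mB2 r hr))
  obtain ⟨i, hi, rfl⟩ := List.getElem_of_mem hr
  refine eq_one_of_mem ?_ h1
  have := okB.trace (J4B.upto okB) (good3 _ _) rfl (fun c _ => ψ_let _ _ c) (allN_true.1 trB i hi)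
  rwa [nth_eq, List.getD_eq_getElem _ _ hi] at this
/-- The involution `s`, conjugated so that its centraliser fixes the standard sextet. -/
noncomputable def s' : G := ev P.e s2
theorem ss : s' * s' = 1 := by rw [s', ← ev_append]; exact hRB _ (by simp [RB])
/-- The letters with `s'` in the place of `t`. -/
noncomputable def eC (c : ℕ) : G := if c = 3 then s' else P.e c
theorem ev_eC : ∀ w : List ℕ, (∀ c ∈ w, c ≠ 3) → ev eC w = ev P.e w := fun w h =>
  ev_congr fun c hc => if_neg (h c hc)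
theorem hivC : IvOK eC (ivOf [0, 2, 1, 3]) := fun c => by
  match c with
  | 0 => exact hiv0 0
  | 1 => exact hiv0 1
  | 2 => exact hiv0 2
  | 3 => exact eq_inv_of_mul_eq_one_left ss
  | c + 4 => exact (if_neg (show ¬ c + 4 = 3 by omega)).trans ((hiv0 (c + 4)).trans
      (congrArg _ (if_neg (show ¬ c + 4 = 3 by omega)).symm))
noncomputable def RC : List (List ℕ) := [powW 3 (3 :: rw1), powW 3 (3 :: rw2)]
theorem hRC : ∀ r ∈ RC, ev eC r = 1 := by
  have key : ∀ w, (∀ c ∈ w, c ≠ 3) → ev P.e (powW 3 (s2 ++ w)) = 1 → ev eC (powW 3 (3 :: w)) = 1 :=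
    fun w h1 h2 => by
      rw [ev_powW, ev_append] at h2
      rw [ev_powW, ev_cons, ev_eC w h1]
      exact h2
  simp only [RC, List.forall_mem_cons]
  exact ⟨key _ (by decide) (hRB _ (by simp [RB])), key _ (by decide) (hRB _ (by simp [RB])), by simp⟩
theorem comm_sx : ∀ w ∈ sx, (∀ c ∈ w, c ≠ 3) ∧ ev P.e w * s' = s' * ev P.e w := fun w hw => by
  refine ⟨by revert w; decide, ?_⟩
  have := hRB _ (List.mem_append_left _ (List.mem_append_right _ (List.mem_map_of_mem hw)))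
  rw [ev_append, ev_append, ev_append, ev_invW hiv0, ev_invW hiv0, ← mul_assoc, ← mul_inv_rev,
    mul_inv_eq_one] at this
  exact this.symm
theorem blk2 (H : Subgroup G) : (∀ g ∈ Nb, g ∈ TS 2 →
    (X H s').φ' g * s' = s' * (X H s').φ' g) ∧ ((TS 2).subgroupOf Nb).index ≤ 1771 :=
  Ctx.blk (X := X H s') (mc := 37517422943757356578653004082738076) (c0 := 138240) (by decide +kernel)
    (gens_CT H _ (g0 := [940765672627881973482142488433543793, 297507823897791892168827165355782574]) comm_sx (by decide +kernel))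
    (by decide +kernel) (ch := [(0, 24, [[0, 0, 1, 0, 1, 0, 0], [1, 0, 1, 0, 1, 0, 1]]),
 (4, 20, [[1, 1, 1, 0], [1, 0, 1, 1, 0, 1], [0, 1, 1, 1, 0, 0, 0]]),
 (8, 16, [[0, 2, 0], [1, 1, 2], [2, 1, 0, 0]]),
 (12, 9, [[2, 0, 1]]),
 (2, 2, [])])
    (by decide +kernel) (by decide) (le_index_of_chkU gi3 (by decide) J4H.idx2) card_Nb.le
theorem okC : (X φ.range s').OK J4C.C where
  hN := fun n => ⟨n, rfl⟩
  tt := ss
  hT := Ctx.hT_code (β := 2) (by decide +kernel) (blk2 _).1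
  tm := tok_all (good3 _ _) (e := eC) rfl (fun c hc => (if_neg hc).trans (ψ_let _ _ c hc)) hivC hRC
    (rs := J4C.rs) (by decide +kernel)
  base := fun b hb => base3 φ.range _ (fun n => ⟨n, rfl⟩) rfl
    (allL_true.1 (show (H29.allL J4C.C.base fun f => and2 (memL (fa f) (idP :: cl3)) (isSt f 0)) = true by
      decide +kernel) b hb)
  p0 := rfl
  p1 := by decide +kernel
theorem card_range : Nat.card φ.range = 244823040 := by
  rw [← card_Nb]; exact (Nat.card_congr (MonoidHom.ofInjective φ_inj).toEquiv).symm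
theorem bdN : Bd φ.range 244823040 :=
  ⟨Nat.finite_of_card_ne_zero (by rw [card_range]; norm_num), card_range.le⟩
/-- The subgroup of shape `2^11 : M24`. -/
noncomputable def HH : Subgroup G := gen (wE P.e [[0], [1], sw]) [0, 1, 2]
theorem N_le_HH : φ.range ≤ HH := by
  rw [range_φ, ← gen01]
  refine gen_le.2 fun c hc => ?_
  simp only [List.mem_cons, List.not_mem_nil, or_false] at hc
  rcases hc with rfl | rfl
  · simpa [wE, nth, HH] using mem_gen (e := wE P.e [[0], [1], sw]) (l := [0, 1, 2]) (c := 0) (by simp)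
  · simpa [wE, nth, HH] using mem_gen (e := wE P.e [[0], [1], sw]) (l := [0, 1, 2]) (c := 1) (by simp)
theorem s_mem : ev P.e sw ∈ HH := mem_gen (e := wE P.e [[0], [1], sw]) (l := [0, 1, 2]) (c := 2) (by simp)
theorem word_mem {w : List ℕ} (h : ∀ c ∈ w, c ∈ [0, 1, 2]) : ev P.e w ∈ φ.range := range_φ ▸ ev_mem_gen h
theorem s'_eq : s' = ev P.e nw * ev P.e sw * (ev P.e nw)⁻¹ := by
  rw [s', s2, ev_append, ev_append, ev_invW hiv0, mul_assoc]
theorem HH_eq : HH = Subgroup.closure (Set.range φ ∪ {s'}) := by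
  have h1 : φ.range ≤ Subgroup.closure (Set.range φ ∪ {s'}) := fun g hg =>
    Subgroup.subset_closure (Or.inl hg)
  have h2 := word_mem (w := nw) (by decide)
  refine le_antisymm (gen_le.2 fun c hc => ?_) ((Subgroup.closure_le _).2 ?_)
  · simp only [List.mem_cons, List.not_mem_nil, or_false] at hc
    rcases hc with rfl | rfl | rfl
    · exact h1 (word_mem (w := [0]) (by decide))
    · exact h1 (word_mem (w := [1]) (by decide))
    · have : wE P.e [[0], [1], sw] 2 = (ev P.e nw)⁻¹ * s' * ev P.e nw := by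
        rw [s'_eq]; show ev P.e sw = _; group
      rw [this]
      exact Subgroup.mul_mem _ (Subgroup.mul_mem _ (Subgroup.inv_mem _ (h1 h2))
        (Subgroup.subset_closure (Or.inr rfl))) (h1 h2)
  · rintro g (hg | rfl)
    · exact N_le_HH hg
    · rw [s'_eq]
      exact HH.mul_mem (HH.mul_mem (N_le_HH h2) s_mem) (HH.inv_mem (N_le_HH h2))
theorem bdH : Bd HH (2048 * 244823040) :=
  HH_eq ▸ okC.bd (by decide) (J4C.cov okC (blk2 _).1 (blk2 ⊤).2) (J4C.orb okC card_Nb.le) bdN J4C.sum_ol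
theorem okA : (X HH (P.e 3)).OK J4A.C where
  hN := fun n => N_le_HH ⟨n, rfl⟩
  tt := tt
  hT := Ctx.hT_code (β := 3) (by decide +kernel) (blk3 _).1
  tm := tok_all (good3 _ _) rfl (ψ_let _ _) hiv0 hRA (rs := J4A.rs) (by decide +kernel)
  base := by
    simp only [show J4A.C.base = J4A.base from rfl, J4A.base, List.forall_mem_cons]
    refine ⟨base3 _ _ (fun n => N_le_HH ⟨n, rfl⟩) rfl (by decide +kernel),
      base3 _ _ (fun n => N_le_HH ⟨n, rfl⟩) rfl (by decide +kernel),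
      base3 _ _ (fun n => N_le_HH ⟨n, rfl⟩) rfl (by decide +kernel),
      Ctx.valid_sub (fun n => N_le_HH ⟨n, rfl⟩) tt (by decide +kernel) (good3 _ _) rfl
        (fun c _ => ψ_let _ _ c) s_mem (by decide +kernel), by simp⟩
  p0 := rfl
  p1 := by decide +kernel
theorem closure_top : Subgroup.closure (Set.range φ ∪ {P.e 3}) = ⊤ := by
  rw [eq_top_iff, ← top]
  refine gen_le.2 fun c hc => ?_
  by_cases h : c = 3
  · exact Subgroup.subset_closure (Or.inr (h ▸ rfl))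
  · exact Subgroup.subset_closure (Or.inl (by
      have := word_mem (w := [c]) (by simp at hc ⊢; omega)
      simpa using this))
theorem covA : ∀ j, 0 < j → j < 20 → (X HH (P.e 3)).Cov J4A.C 20 j := J4A.cov okA (blk3 _).1 (blk3 ⊤).2
theorem bdG : Finite G ∧ Nat.card G ≤ 173067389 * (2048 * 244823040) :=
  (okA.bd (by decide) covA (J4A.orb okA card_Nb.le) bdH J4A.sum_ol).of_top closure_top
instance finG : Finite G := bdG.1

end H9.J4
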