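import Mathlib
import Cfsg.Agent.H29.Cert

/-!
# Group-theoretic lemmas for the fourth Janko group
-/

set_option autoImplicit false

namespace H9.JL

open H29 Subgroup
open scoped Pointwise

variable {Γ : Type*} [Group Γ]

theorem card_modEq {L : Subgroup Γ} [Finite L] {g : Γ} (hg : g ∈ normalizer (L : Set Γ)) {p : ℕ}
    [Fact p.Prime] (h : g ^ p = 1) :
    Nat.card L ≡ Nat.card ↥(L ⊓ centralizer {g}) [MOD p] := by
  have h1 : zpowers g ≤ normalizer (L : Set Γ) := zpowers_le.2 hg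
  have h2 : IsPGroup p (zpowers g) := by
    rintro ⟨_, k, rfl⟩
    refine ⟨1, Subtype.ext ?_⟩
    show (g ^ k) ^ (p ^ 1) = 1
    rw [pow_one, ← zpow_natCast, ← zpow_mul, mul_comm, zpow_mul, zpow_natCast, h, one_zpow]
  let _ := MulDistribMulAction.compHom L (L.normalizerMonoidHom.comp (inclusion h1))
  refine (h2.card_modEq_card_fixedPoints L).trans ?_
  have key : ∀ (a : zpowers g) (x : L), ((a • x : L) : Γ) = a * x * (a : Γ)⁻¹ := fun _ _ => rfl
  rw [Nat.card_congr (β := ↥(L ⊓ centralizer {g}))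
    ⟨fun x => ⟨x.1.1, x.1.2, mem_centralizer_singleton_iff.2 (by
        have := congrArg Subtype.val (x.2 ⟨g, mem_zpowers g⟩)
        rw [key, mul_inv_eq_iff_eq_mul] at this
        exact this.symm)⟩,
      fun x => ⟨⟨x.1, x.2.1⟩, fun a => Subtype.ext (by
        rw [key, mul_inv_eq_iff_eq_mul]
        obtain ⟨_, k, rfl⟩ := a
        exact (Commute.zpow_right (mem_centralizer_singleton_iff.1 x.2.2) k).symm)⟩,
      fun _ => rfl, fun _ => rfl⟩]

theorem comm_gen {e : ℕ → Γ} {l : List ℕ} (h : ∀ a ∈ l, ∀ b ∈ l, e a * e b = e b * e a) :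
    ∀ x ∈ gen e l, ∀ y ∈ gen e l, x * y = y * x := by
  have : IsMulCommutative (gen e l) := isMulCommutative_closure (by
    rintro _ ⟨a, ha, rfl⟩ _ ⟨b, hb, rfl⟩; exact h a ha b hb)
  exact fun x hx y hy => setLike_mul_comm hx hy

theorem pow_gen {e : ℕ → Γ} {l : List ℕ} (h : ∀ a ∈ l, ∀ b ∈ l, e a * e b = e b * e a) {n : ℕ}
    (h2 : ∀ a ∈ l, e a ^ n = 1) : ∀ x ∈ gen e l, x ^ n = 1 := by
  intro x hx
  induction hx using closure_induction with
  | mem x hx => obtain ⟨a, ha, rfl⟩ := hx; exact h2 a ha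
  | one => simp
  | mul x y hx hy h3 h4 => rw [Commute.mul_pow (comm_gen h x hx y hy), h3, h4, one_mul]
  | inv x _ h3 => rw [inv_pow, h3, inv_one]

theorem pg_of_pow {L : Subgroup Γ} {p : ℕ} (h : ∀ x ∈ L, x ^ p = 1) : IsPGroup p L :=
  fun x => ⟨1, Subtype.ext (by simpa using h x x.2)⟩

theorem pg_zpowers {g : Γ} {p : ℕ} (h : g ^ p = 1) : IsPGroup p (zpowers g) := pg_of_pow <| by
  rintro _ ⟨k, rfl⟩
  show (g ^ k) ^ p = 1
  rw [← zpow_natCast, ← zpow_mul, mul_comm, zpow_mul, zpow_natCast, h, one_zpow]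

theorem norm_gen [Finite Γ] {e : ℕ → Γ} {l : List ℕ} {g : Γ}
    (h : ∀ c ∈ l, g * e c * g⁻¹ ∈ gen e l) : g ∈ normalizer (gen e l : Set Γ) := by
  have : gen e l ≤ (gen e l).comap (MulAut.conj g).toMonoidHom := gen_le.2 h
  exact mem_normalizer_fintype fun n hn => this hn

theorem card_sup {V N : Subgroup Γ} (hn : N ≤ normalizer (V : Set Γ)) (hd : V ⊓ N = ⊥) :
    Nat.card ↥(V ⊔ N) = Nat.card V * Nat.card N := by
  rw [← Nat.card_prod, ← Nat.card_range_of_injective (mul_injective_of_disjoint (disjoint_iff.2 hd))]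
  refine Nat.card_congr (Equiv.setCongr ?_)
  rw [coe_mul_of_right_le_normalizer_left V N hn]
  ext x
  simp [Set.mem_mul]

theorem exists_mul {V N : Subgroup Γ} (hn : N ≤ normalizer (V : Set Γ)) {g : Γ} (hg : g ∈ V ⊔ N) :
    ∃ v ∈ V, ∃ n ∈ N, v * n = g := by
  have : g ∈ (V : Set Γ) * (N : Set Γ) := by
    rw [← coe_mul_of_right_le_normalizer_left V N hn]; exact hg
  exact Set.mem_mul.1 this

theorem simple_dich {N K : Subgroup Γ} [IsSimpleGroup N] (h : N ≤ normalizer (K : Set Γ)) :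
    K ⊓ N = ⊥ ∨ N ≤ K := by
  have : (K.subgroupOf N).Normal := ⟨fun a ha b => (mem_normalizer_iff.1 (h b.2) _).1 ha⟩
  rcases IsSimpleGroup.eq_bot_or_eq_top_of_normal _ this with h1 | h1
  · exact Or.inl (disjoint_iff.1 (subgroupOf_eq_bot.1 h1))
  · exact Or.inr (subgroupOf_eq_top.1 h1)

theorem two_pow_mod {k j : ℕ} (h : 2 ^ k ≡ 2 ^ j [MOD 23]) (hj : j < k) : j + 11 ≤ k := by
  obtain ⟨d, rfl⟩ := Nat.exists_eq_add_of_lt hj
  have h1 : 2 ^ j * 2 ^ (d + 1) ≡ 2 ^ j * 1 [MOD 23] := by rwa [← pow_add, ← add_assoc, mul_one]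
  have h2 := Nat.ModEq.cancel_left_of_coprime (Nat.Coprime.pow_right j (by norm_num)) h1
  by_contra h3
  have : d < 10 := by omega
  interval_cases d <;> simp [Nat.ModEq] at h2

/-- An elementary abelian `2`-group with a simple group of automorphisms that has an element of
order `23`. -/
structure VN (V N : Subgroup Γ) (g s : Γ) : Prop where
  comm : ∀ x ∈ V, ∀ y ∈ V, x * y = y * x
  two : IsPGroup 2 V
  norm : N ≤ normalizer (V : Set Γ)
  simple : IsSimpleGroup N
  gN : g ∈ N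
  g23 : g ^ 23 = 1
  sV : s ∈ V
  ne : s * g ≠ g * s

namespace VN

variable [Finite Γ] {V N : Subgroup Γ} {g s : Γ}

theorem step (h : VN V N g s) {L : Subgroup Γ} (hL : L ≤ V) (hg : g ∈ normalizer (L : Set Γ))
    (h1 : ¬ L ≤ centralizer {g}) : 2048 * Nat.card ↥(L ⊓ centralizer {g}) ∣ Nat.card L := by
  have : Fact (Nat.Prime 23) := ⟨by norm_num⟩
  have h2 := card_modEq hg h.g23
  obtain ⟨k, hk⟩ := IsPGroup.iff_card.1 (h.two.to_le hL)
  obtain ⟨j, hj⟩ := IsPGroup.iff_card.1 (h.two.to_le (inf_le_left.trans hL : L ⊓ centralizer {g} ≤ V))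
  have h3 : Nat.card ↥(L ⊓ centralizer {g}) < Nat.card L := by
    by_contra h4
    exact h1 (inf_eq_left.1 (eq_of_le_of_card_ge inf_le_left (not_lt.1 h4)))
  rw [hk, hj] at h2 h3 ⊢
  have := two_pow_mod h2 ((Nat.pow_lt_pow_iff_right (by norm_num)).1 h3)
  rw [show 2048 = 2 ^ 11 from rfl, ← pow_add]
  exact pow_dvd_pow _ (by omega)

theorem not_le (h : VN V N g s) : ¬ V ≤ centralizer {g} := fun h1 =>
  h.ne (mem_centralizer_singleton_iff.1 (h1 h.sV))

theorem dvd (h : VN V N g s) : 2048 ∣ Nat.card V :=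
  (dvd_mul_right _ _).trans (h.step le_rfl (h.norm h.gN) h.not_le)

theorem inf_eq (h : VN V N g s) : V ⊓ N = ⊥ := by
  have := h.simple
  exact (simple_dich h.norm).resolve_right fun h1 => h.ne (h.comm _ h.sV _ (h1 h.gN))

theorem card_sup (h : VN V N g s) : Nat.card ↥(V ⊔ N) = Nat.card V * Nat.card N :=
  JL.card_sup h.norm h.inf_eq

theorem le_norm (h : VN V N g s) : V ⊔ N ≤ normalizer (V : Set Γ) := sup_le le_normalizer h.norm

theorem cent_eq (h : VN V N g s) (hV : Nat.card V ≤ 2048) : V ⊓ centralizer {g} = ⊥ := by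
  have h1 := Nat.le_of_dvd Nat.card_pos (h.step le_rfl (h.norm h.gN) h.not_le)
  exact (card_le_one_iff_eq_bot _).1 (by omega)

/-- A normal subgroup meeting `V N` contains `N` or `s`. -/
theorem normal (h : VN V N g s) (hV : Nat.card V ≤ 2048) {K : Subgroup Γ} [hK : K.Normal]
    (h1 : K ⊓ (V ⊔ N) ≠ ⊥) : N ≤ K ∨ s ∈ K := by
  by_cases h2 : K ⊓ V = ⊥
  · exfalso
    refine h1 (eq_bot_iff.2 fun l hl => ?_)
    obtain ⟨v, hv, n, hn, rfl⟩ := exists_mul h.norm hl.2
    have k1 : ∀ u ∈ V, u * (v * n) = v * n * u := fun u hu => by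
      have k2 : u * (v * n) * u⁻¹ * (v * n)⁻¹ ∈ K ⊓ V := by
        refine ⟨K.mul_mem (hK.conj_mem _ hl.1 u) (K.inv_mem hl.1), ?_⟩
        have := (mem_normalizer_iff.1 (h.le_norm hl.2) _).1 (V.inv_mem hu)
        have k0 : u * (v * n) * u⁻¹ * (v * n)⁻¹ ∈ V := by simpa only [mul_assoc] using V.mul_mem hu this
        exact k0
      rw [h2, mem_bot] at k2
      rw [← mul_inv_eq_one, ← k2]; group
    have k3 : n ∈ centralizer (V : Set Γ) := fun u hu => by
      have := k1 u hu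
      rw [← mul_assoc, h.comm u hu v hv, mul_assoc, mul_assoc] at this
      exact mul_left_cancel this
    have := h.simple
    have k4 : N ≤ normalizer (centralizer (V : Set Γ) : Set Γ) := fun a ha => by
      refine mem_normalizer_fintype fun c hc u hu => ?_
      have := hc _ ((mem_normalizer_iff''.1 (h.norm ha) u).1 hu)
      calc u * (a * c * a⁻¹) = a * (a⁻¹ * u * a * c) * a⁻¹ := by group
        _ = a * c * a⁻¹ * u := by rw [this]; group
    rcases simple_dich k4 with k5 | k5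
    · have k6 : n = 1 := mem_bot.1 (k5 ▸ (⟨k3, hn⟩ : n ∈ centralizer (V : Set Γ) ⊓ N))
      rw [k6, mul_one] at hl ⊢
      exact h2 ▸ ⟨hl.1, hv⟩
    · exact absurd (k5 h.gN s h.sV) h.ne
  · right
    have k1 : g ∈ normalizer ((K ⊓ V : Subgroup Γ) : Set Γ) := mem_normalizer_fintype fun a ha =>
      ⟨hK.conj_mem _ ha.1 g, (mem_normalizer_iff.1 (h.norm h.gN) _).1 ha.2⟩
    have k2 := h.step inf_le_right k1 fun k3 => h2 (eq_bot_iff.2 fun a ha =>
      h.cent_eq hV ▸ ⟨ha.2, k3 ha⟩)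
    have k3 := Nat.le_of_dvd Nat.card_pos ((dvd_mul_right _ _).trans k2)
    have k4 : K ⊓ V = V := eq_of_le_of_card_ge inf_le_right (hV.trans k3)
    exact (k4.ge h.sV).1

end VN

/-- An extraspecial group of order `p ^ 3` given by generators. -/
structure Heis (p : ℕ) (a b z : Γ) : Prop where
  pa : a ^ p = 1
  pb : b ^ p = 1
  pz : z ^ p = 1
  za : z * a = a * z
  zb : z * b = b * z
  ab : a * b = z * (b * a)
  ne : z ≠ 1

namespace Heis

variable [Finite Γ] {p : ℕ} [Fact p.Prime] {a b z : Γ}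

theorem exists_sub (h : Heis p a b z) : ∃ B : Subgroup Γ, IsPGroup p B ∧ a ∈ B ∧ b ∈ B ∧ z ∈ B ∧
    ∀ x ∈ B, z * x = x * z := by
  let e : ℕ → Γ := fun c => if c = 0 then z else a
  have h1 : IsPGroup p (gen e [0, 1]) := pg_of_pow (pow_gen (by simp [e, h.za]) (by simp [e, h.pa, h.pz]))
  have hz : z ∈ gen e [0, 1] := mem_gen (e := e) (c := 0) (by simp)
  have ha : a ∈ gen e [0, 1] := mem_gen (e := e) (c := 1) (by simp)
  have h2 : b ∈ normalizer (gen e [0, 1] : Set Γ) := norm_gen (by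
    have k1 : b * z * b⁻¹ = z := by rw [← h.zb]; group
    have k2 : b * a * b⁻¹ = z⁻¹ * a := by
      rw [mul_inv_eq_iff_eq_mul, mul_assoc, h.ab]; group
    simp only [List.forall_mem_cons, e]
    exact ⟨by simpa [k1] using hz, by simpa [k2] using mul_mem (inv_mem hz) ha, by simp⟩)
  refine ⟨gen e [0, 1] ⊔ zpowers b, h1.to_sup_of_normal_left' (pg_zpowers h.pb) (zpowers_le.2 h2),
    mem_sup_left ha, mem_sup_right (mem_zpowers b), mem_sup_left hz, fun x hx => ?_⟩
  have : gen e [0, 1] ⊔ zpowers b ≤ centralizer {z} := sup_le (gen_le.2 (by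
    simp [e, mem_centralizer_singleton_iff, h.za]))
    (zpowers_le.2 (mem_centralizer_singleton_iff.2 h.zb.symm))
  exact (mem_centralizer_singleton_iff.1 (this hx)).symm

theorem not_comm (h : Heis p a b z) : a * b ≠ b * a := fun h1 => h.ne (by
  have := h.ab
  rw [h1] at this
  exact (mul_eq_right.1 this.symm))

theorem dvd_card (h : Heis p a b z) {B : Subgroup Γ} (hB : IsPGroup p B) (ha : a ∈ B) (hb : b ∈ B) :
    p ^ 3 ∣ Nat.card B := by
  obtain ⟨k, hk⟩ := IsPGroup.iff_card.1 hB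
  rw [hk]
  refine pow_dvd_pow _ (not_lt.1 fun h1 => h.not_comm ?_)
  have : IsMulCommutative B := by
    interval_cases k
    · have : Subsingleton B := (Nat.card_eq_one_iff_unique.1 hk).1
      infer_instance
    · have := isCyclic_of_prime_card (hk.trans (pow_one p))
      infer_instance
    · exact IsPGroup.isMulCommutative_of_card_eq_prime_sq hk
  exact setLike_mul_comm ha hb

theorem dvd (h : Heis p a b z) : p ^ 3 ∣ Nat.card Γ := by
  obtain ⟨B, h1, h2, h3, -⟩ := h.exists_sub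
  exact (h.dvd_card h1 h2 h3).trans (card_subgroup_dvd_card B)

end Heis

theorem le_of_normal_pg [Finite Γ] {p k : ℕ} [Fact p.Prime] {P B : Subgroup Γ} [P.Normal]
    (hP : IsPGroup p P) (hB : IsPGroup p B) (h1 : p ^ k ∣ Nat.card B)
    (h2 : ¬ p ^ (k + 1) ∣ Nat.card Γ) : P ≤ B ∧ Nat.card B = p ^ k := by
  obtain ⟨n, hn⟩ := IsPGroup.iff_card.1 (hP.to_sup_of_normal_left hB)
  have h3 : n ≤ k := not_lt.1 fun h3 =>
    h2 ((pow_dvd_pow p h3).trans (hn ▸ card_subgroup_dvd_card _))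
  have h4 : Nat.card ↥(P ⊔ B) ≤ p ^ k := hn ▸ Nat.pow_le_pow_right (Fact.out : p.Prime).pos h3
  have h5 := Nat.le_of_dvd Nat.card_pos h1
  have h6 : B = P ⊔ B := eq_of_le_of_card_ge le_sup_right (h4.trans h5)
  exact ⟨h6 ▸ le_sup_left, le_antisymm (h6 ▸ h4) h5⟩

theorem mem_of_prime_card {B A : Subgroup Γ} {p : ℕ} [Fact p.Prime] (hB : Nat.card B = p)
    (h : A ≤ B) (h1 : A ≠ ⊥) : A = B := by
  have : Finite B := Nat.finite_of_card_ne_zero (hB ▸ (Fact.out : p.Prime).ne_zero)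
  rcases (Nat.dvd_prime Fact.out).1 (hB ▸ card_dvd_of_le h) with h2 | h2
  · exact absurd (card_eq_one.1 h2) h1
  · exact eq_of_le_of_card_ge h (by omega)

/-- A central subgroup of order a power of `p`, when the Sylow subgroups have order `p`. -/
theorem central_prime [Finite Γ] {p : ℕ} [Fact p.Prime] {P : Subgroup Γ} (hP : IsPGroup p P)
    (hc : P ≤ center Γ) (h1 : P ≠ ⊥) (h2 : ¬ p ^ 2 ∣ Nat.card Γ) {g : Γ} (hg : g ^ p = 1)
    (x : Γ) : x * g = g * x := by
  by_cases h3 : g = 1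
  · simp [h3]
  have : P.Normal := ⟨fun a ha b => by rw [mem_center_iff.1 (hc ha) b]; simpa using ha⟩
  have h4 : Nat.card (zpowers g) = p := by rw [Nat.card_zpowers, orderOf_eq_prime hg h3]
  have h5 := (le_of_normal_pg (k := 1) hP (pg_zpowers hg) (by rw [h4, pow_one]) h2).1
  exact mem_center_iff.1 (hc ((mem_of_prime_card h4 h5 h1).ge (mem_zpowers g))) x

theorem central_heis [Finite Γ] {p : ℕ} [Fact p.Prime] {P : Subgroup Γ} (hP : IsPGroup p P)
    (hc : P ≤ center Γ) (h1 : P ≠ ⊥) (h2 : ¬ p ^ 4 ∣ Nat.card Γ) {a b z : Γ} (h : Heis p a b z)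
    (x : Γ) : x * z = z * x := by
  have : P.Normal := ⟨fun a ha b => by rw [mem_center_iff.1 (hc ha) b]; simpa using ha⟩
  obtain ⟨B, hB, ha, hb, hz, hz'⟩ := h.exists_sub
  obtain ⟨h3, h4⟩ := le_of_normal_pg hP hB (h.dvd_card hB ha hb) h2
  have hp : p.Prime := Fact.out
  have k1 : Nat.card (center B) ≤ p := by
    by_contra k2
    obtain ⟨j, hj, k3⟩ := (Nat.dvd_prime_pow hp).1 (h4 ▸ card_subgroup_dvd_card (center B))
    have k4 := card_eq_card_quotient_mul_card_subgroup (center B)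
    have k5 : 2 ≤ j := not_lt.1 fun k5 => k2 (k3 ▸ (Nat.pow_le_pow_right hp.pos
      (Nat.le_of_lt_succ k5)).trans (pow_one p).le)
    have : IsCyclic (B ⧸ center B) := by
      refine isCyclic_of_card_dvd_prime (p := p) ?_
      rw [h4, k3] at k4
      interval_cases j
      · exact dvd_of_eq (Nat.eq_of_mul_eq_mul_right (pow_pos hp.pos 2) (by rw [← k4]; ring))
      · rw [Nat.eq_of_mul_eq_mul_right (pow_pos hp.pos 3) (k4.symm.trans (one_mul _).symm)]
        exact one_dvd _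
    have := isMulCommutative_of_isCyclic_quotient_center_self B
    exact h.not_comm (setLike_mul_comm ha hb)
  have k2 : Nat.card ↥((center B).map B.subtype) ≤ p := by rwa [card_subtype]
  have k3 : zpowers z ≤ (center B).map B.subtype := zpowers_le.2
    ⟨⟨z, hz⟩, mem_center_iff.2 fun y => Subtype.ext (hz' y y.2).symm, rfl⟩
  have k4 : Nat.card (zpowers z) = p := by rw [Nat.card_zpowers, orderOf_eq_prime h.pz h.ne]
  have k5 := eq_of_le_of_card_ge k3 (by omega)
  have k6 : P ≤ zpowers z := k5 ▸ fun c hc' =>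
    ⟨⟨c, h3 hc'⟩, mem_center_iff.2 fun y => Subtype.ext (mem_center_iff.1 (hc hc') y), rfl⟩
  exact mem_center_iff.1 (hc ((mem_of_prime_card k4 k6 h1).ge (mem_zpowers z))) x

def divs : List ℕ := ([1, 11, 121].flatMap fun a => [1, 29].flatMap fun b => [1, 31].flatMap fun c =>
  [1, 37].flatMap fun d => [1, 43].map fun e => a * (b * (c * (d * e))))

theorem mem_divs {k : ℕ} (h : k ∣ 173067389) : k ∈ divs := by
  rw [show 173067389 = 11 ^ 2 * (29 * (31 * (37 * 43))) from rfl] at h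
  obtain ⟨a, _, ha, h1, rfl⟩ := (Nat.dvd_mul).1 h
  obtain ⟨b, _, hb, h2, rfl⟩ := (Nat.dvd_mul).1 h1
  obtain ⟨c, _, hc, h3, rfl⟩ := (Nat.dvd_mul).1 h2
  obtain ⟨d, e, hd, he, rfl⟩ := (Nat.dvd_mul).1 h3
  obtain ⟨i, hi, rfl⟩ := (Nat.dvd_prime_pow (by norm_num)).1 ha
  simp only [divs, List.mem_flatMap, List.mem_map]
  refine ⟨11 ^ i, by interval_cases i <;> simp, b, ?_, c, ?_, d, ?_, e, ?_, rfl⟩
  · simpa using (Nat.dvd_prime (by norm_num)).1 hb
  · simpa using (Nat.dvd_prime (by norm_num)).1 hc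
  · simpa using (Nat.dvd_prime (by norm_num)).1 hd
  · simpa using (Nat.dvd_prime (by norm_num)).1 he

theorem exists_prime : ∀ k ∈ divs, k ≠ 1 → ∃ p ∈ [11, 29, 31, 37, 43], p ∣ k ∧
    ∀ d ∈ divs, d ∣ k → d % p = 1 % p → d = 1 := by decide +kernel

theorem pow_divs : ∀ p ∈ [11, 29, 31, 37, 43], ∀ d ∈ divs, ∀ d' ∈ divs, d ∣ p ^ 30 → d' ∣ d →
    d % 23 = d' % 23 → d ≤ d' := by decide +kernel

/-- A normal subgroup whose order divides the index has a normal `p`-subgroup centralised by any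
element of order `23`. -/
theorem exists_normal [Finite Γ] {K : Subgroup Γ} [K.Normal] (h : Nat.card K ∣ 173067389)
    (h1 : K ≠ ⊥) {g : Γ} (hg : g ^ 23 = 1) : ∃ p ∈ [11, 29, 31, 37, 43], ∃ P : Subgroup Γ,
      P.Normal ∧ IsPGroup p P ∧ P ≠ ⊥ ∧ g ∈ centralizer (P : Set Γ) := by
  obtain ⟨p, hp, h2, h3⟩ := exists_prime _ (mem_divs h) fun h2 => h1 (card_eq_one.1 h2)
  have hp' : p.Prime := (by norm_num : ∀ p ∈ [11, 29, 31, 37, 43], Nat.Prime p) p hp
  have := Fact.mk hp'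
  obtain ⟨S⟩ : Nonempty (Sylow p K) := inferInstance
  have h4 : Nat.card (Sylow p K) ∣ Nat.card K := S.card_dvd_index.trans (index_dvd_card _)
  have h5 := h3 _ (mem_divs (h4.trans h)) h4 (card_sylow_modEq_one p K)
  have : Subsingleton (Sylow p K) := (Nat.card_eq_one_iff_unique.1 h5).1
  have h6 : IsPGroup p ((S : Subgroup K).map K.subtype) := S.2.map _
  have h7 : Nat.card ((S : Subgroup K).map K.subtype) ∣ 173067389 :=
    (card_dvd_of_le (map_subtype_le _)).trans h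
  have hP : ((S : Subgroup K).map K.subtype).Normal := inferInstance
  refine ⟨p, hp, _, hP, h6, fun h8 => ?_, ?_⟩
  · rw [map_eq_bot_iff_of_injective _ K.subtype_injective] at h8
    exact S.ne_bot_of_dvd_card h2 h8
  · generalize (S : Subgroup K).map K.subtype = P at *
    have : Fact (Nat.Prime 23) := ⟨by norm_num⟩
    have k1 := card_modEq (L := P) (by rw [normalizer_eq_top]; trivial) hg
    obtain ⟨n, hn⟩ := IsPGroup.iff_card.1 h6
    have k2 : n ≤ 30 := not_lt.1 fun k2 => by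
      have k3 := Nat.le_of_dvd (by norm_num) h7
      have : 2 ^ 30 ≤ p ^ n := (Nat.pow_le_pow_left hp'.two_le _).trans (Nat.pow_le_pow_right hp'.pos k2.le)
      omega
    have k3 := card_dvd_of_le (inf_le_left : P ⊓ centralizer {g} ≤ P)
    have k4 := pow_divs p hp _ (mem_divs h7) _ (mem_divs (k3.trans h7)) (hn ▸ pow_dvd_pow p k2) k3 k1
    have k5 := inf_eq_left.1 (eq_of_le_of_card_ge inf_le_left k4)
    exact fun a ha => mem_centralizer_singleton_iff.1 (k5 ha)

end H9.JL
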