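import Mathlib
import Cfsg.Agent.H9.J4G
import Cfsg.Agent.H9.J4X
import Cfsg.Agent.H9.J4L
import Cfsg.Prelude.Def_Sporadic

/-!
# The order and the simplicity of the fourth Janko group
-/

set_option autoImplicit false
set_option maxRecDepth 100000
set_option linter.all false

namespace H9.J4

open Cfsg H29 H9.MX H9.DC H9.JL Subgroup

theorem _root_.H9.GF2.Mod.ivOK {P : GF2.Par} {Γ : Type*} [Group Γ]
    {v : Γ →* Matrix (Fin P.n) (Fin P.n) (ZMod 2)} {e : ℕ → Γ} {l ivl : List ℕ} (h : P.OK)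
    (hm : GF2.Mod P v e l) (inj : Function.Injective v) (hi : P.IvTo l ivl l.length)
    (hl : ivl.length ≤ l.length) : IvOK e (ivOf ivl) := fun c => by
  refine eq_inv_of_mul_eq_one_left (inj ?_)
  rw [map_mul, hm, hm, map_one]
  by_cases hc : c < l.length
  · exact hi c hc
  · rw [ivOf, nth_default _ (by omega), GF2.Par.lets, nth_default _ (by omega), GF2.Par.mat_one h,
      one_mul]

/-- The letters with the new definitions. -/
noncomputable def eX : ℕ → G := extE P.e 4 defs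

theorem hmX : GF2.Mod Q val eX lX := by
  obtain ⟨σ, h1, h2⟩ := GF2.exists_GL Q_ok ivX (by decide)
  refine h1.ext Q_ok Units.val_injective hx h2 (h1.rels Q_ok Units.val_injective cDef) (by decide)
    fun c hc => Units.ext ?_
  refine (hm c).trans (Eq.trans ?_ (h1 c).symm)
  interval_cases c <;> rfl

theorem eX_lt {c : ℕ} (h : c < 4) : eX c = P.e c := extE_lt _ _ _ h

theorem ev_eX {w : List ℕ} (h : ∀ c ∈ w, c < 4) : ev eX w = ev P.e w :=
  ev_congr fun c hc => eX_lt (h c hc)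

theorem eX_def (j : ℕ) : eX (4 + 2 * j) = ev eX (nth [] defs j) := (isExt_extE _ (chkExt_wf hx)).even j

theorem hivX : IvOK eX (ivOf ivl) := ivOK_extE hiv0 hx

theorem genX : gen eX [0, 1, 2] = φ.range :=
  (gen_congr fun c hc => eX_lt (by revert c; decide)).trans range_φ.symm

section

variable {Γ : Type} [Group Γ] [Finite Γ] {v : Γ →* Matrix (Fin Q.n) (Fin Q.n) (ZMod 2)} {e : ℕ → Γ}
  (hm : GF2.Mod Q v e lX) (inj : Function.Injective v)

include hm inj

theorem pows : (e 0 * e 1) ^ 23 = 1 ∧ e 10 ^ 11 = 1 ∧ e 12 ^ 11 = 1 ∧ e 14 ^ 11 = 1 ∧ e 16 ^ 29 = 1 ∧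
    e 18 ^ 31 = 1 ∧ e 20 ^ 37 = 1 ∧ e 22 ^ 43 = 1 ∧ e 50 ^ 10 = 1 ∧ e 1 ^ 3 = 1 := by
  simpa [RP, ev_powW] using hm.rels Q_ok inj cP

theorem ncomm : e 0 * e 14 ≠ e 14 * e 0 ∧ e 0 * e 16 ≠ e 16 * e 0 ∧ e 0 * e 18 ≠ e 18 * e 0 ∧
    e 0 * e 20 ≠ e 20 * e 0 ∧ e 0 * e 22 ≠ e 22 * e 0 ∧ e 0 * e 1 ≠ e 1 * e 0 :=
  ⟨by simpa using hm.ne Q_ok n11, by simpa using hm.ne Q_ok n29, by simpa using hm.ne Q_ok n31,
    by simpa using hm.ne Q_ok n37, by simpa using hm.ne Q_ok n43, by simpa using hm.ne Q_ok n3⟩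

theorem heis : Heis 11 (e 10) (e 12) (e 14) := by
  have h1 := pows hm inj
  have h2 := hm.eqs Q_ok inj cZ
  simp only [List.forall_mem_cons, ev_cons, ev_nil, mul_one] at h2
  exact ⟨h1.2.1, h1.2.2.1, h1.2.2.2.1, h2.1, h2.2.1, h2.2.2.1,
    fun h => (ncomm hm inj).1 (by simp [h])⟩

theorem tau_comm : ∀ a ∈ taus, ∀ b ∈ taus, e a * e b = e b * e a := fun a ha b hb => by
  simpa using hm.eqs Q_ok inj cComm _ (List.mem_flatMap.2 ⟨a, ha, List.mem_map.2 ⟨b, hb, rfl⟩⟩)

theorem tau_sq : ∀ a ∈ taus, e a ^ 2 = 1 := fun a ha => by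
  simpa [ev_powW] using hm.rels Q_ok inj cSq _ (List.mem_map.2 ⟨a, ha, rfl⟩)

theorem vn (hs : IsSimpleGroup (gen e [0, 1, 2])) :
    VN (gen e taus) (gen e [0, 1, 2]) (e 0 * e 1) (e 28) := by
  have hi := hm.ivOK Q_ok inj ivX (by decide)
  have i0 : e 0 = (e 0)⁻¹ := hi 0
  have i1 : e 2 = (e 1)⁻¹ := hi 1
  have h0 : e 0 ∈ normalizer (gen e taus : Set Γ) := norm_gen fun a ha => by
    have := hm.eqs Q_ok inj cN0 _ (List.mem_map.2 ⟨a, ha, rfl⟩)
    simp only [ev_cons, ev_nil, mul_one] at this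
    rw [← i0, mul_assoc, this]
    exact ev_mem_gen ((by decide +kernel : ∀ a ∈ taus, ∀ c ∈ nth [] ws0 a, c ∈ taus) a ha)
  have h1 : e 1 ∈ normalizer (gen e taus : Set Γ) := norm_gen fun a ha => by
    have := hm.eqs Q_ok inj cN1 _ (List.mem_map.2 ⟨a, ha, rfl⟩)
    simp only [ev_cons, ev_nil, mul_one] at this
    rw [← i1, mul_assoc, this]
    exact ev_mem_gen ((by decide +kernel : ∀ a ∈ taus, ∀ c ∈ nth [] ws1 a, c ∈ taus) a ha)
  refine ⟨comm_gen (tau_comm hm inj), pg_of_pow (pow_gen (tau_comm hm inj) (tau_sq hm inj)),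
    gen_le.2 ?_, hs, mul_mem (mem_gen (by simp)) (mem_gen (by simp)), (pows hm inj).1,
    mem_gen (by decide), by simpa [mul_assoc] using hm.ne Q_ok n23⟩
  simp only [List.forall_mem_cons]
  exact ⟨h0, h1, i1 ▸ inv_mem h1, by simp⟩

theorem dvd_card (hs : IsSimpleGroup (gen e [0, 1, 2]))
    (hc : Nat.card (gen e [0, 1, 2]) = 244823040) : 86775571046077562880 ∣ Nat.card Γ := by
  have h1 := vn hm inj hs
  have h2 : 2048 * 244823040 ∣ Nat.card Γ := by
    refine Dvd.dvd.trans ?_ (card_subgroup_dvd_card (gen e taus ⊔ gen e [0, 1, 2]))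
    rw [h1.card_sup, hc]
    exact Nat.mul_dvd_mul_right h1.dvd _
  have key : ∀ (p : ℕ) (g : Γ), p.Prime → g ^ p = 1 → e 0 * g ≠ g * e 0 → p ∣ Nat.card Γ :=
    fun p g hp h3 h4 => by
      have := Fact.mk hp
      exact orderOf_eq_prime h3 (fun h => h4 (by simp [h])) ▸ orderOf_dvd_natCard g
  obtain ⟨-, -, -, -, p1, p2, p3, p4, -⟩ := pows hm inj
  obtain ⟨-, q1, q2, q3, q4, -⟩ := ncomm hm inj
  have : Fact (Nat.Prime 11) := ⟨by norm_num⟩
  rw [show 86775571046077562880 = 45581598720 * 11 ^ 3 * 29 * 31 * 37 * 43 from rfl]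
  refine Nat.Coprime.mul_dvd_of_dvd_of_dvd (by norm_num) ?_ (key _ _ (by norm_num) p4 q4)
  refine Nat.Coprime.mul_dvd_of_dvd_of_dvd (by norm_num) ?_ (key _ _ (by norm_num) p3 q3)
  refine Nat.Coprime.mul_dvd_of_dvd_of_dvd (by norm_num) ?_ (key _ _ (by norm_num) p2 q2)
  refine Nat.Coprime.mul_dvd_of_dvd_of_dvd (by norm_num) ?_ (key _ _ (by norm_num) p1 q1)
  exact Nat.Coprime.mul_dvd_of_dvd_of_dvd (by norm_num) (Dvd.dvd.trans (by norm_num) h2)
    (heis hm inj).dvd

end

theorem simple_range {Γ : Type} [Group Γ] {f : Nb →* Γ} (h : Function.Injective f) :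
    IsSimpleGroup f.range := (MonoidHom.ofInjective h).symm.isSimpleGroup

theorem le_card_range : 86775571046077562880 ≤ Nat.card ρ.range := by
  have h1 : Function.Injective (ρ.rangeRestrict.comp φ) := fun a b h =>
    val_φ_inj (congrArg (fun x : ρ.range => x.1.val) h)
  have h2 : gen (fun c => ρ.rangeRestrict (eX c)) [0, 1, 2] = (ρ.rangeRestrict.comp φ).range := by
    rw [← map_gen, genX, MonoidHom.map_range]
  have : Finite ρ.range := Finite.of_surjective _ ρ.rangeRestrict_surjective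
  refine Nat.le_of_dvd Nat.card_pos (dvd_card (v := (Units.coeHom _).comp ρ.range.subtype)
    (e := fun c => ρ.rangeRestrict (eX c)) hmX
    (Units.val_injective.comp Subtype.val_injective) (h2 ▸ simple_range h1) ?_)
  rw [h2, ← card_Nb]
  exact (Nat.card_congr (MonoidHom.ofInjective h1).toEquiv).symm

theorem ρ_inj : Function.Injective ρ := by
  have h1 := bdG.2
  have h2 := le_card_range
  have : Function.Bijective ρ.rangeRestrict := (Nat.bijective_iff_surjective_and_card _).2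
    ⟨ρ.rangeRestrict_surjective, le_antisymm (by omega)
      (Nat.card_le_card_of_surjective _ ρ.rangeRestrict_surjective)⟩
  exact fun a b h => this.1 (Subtype.ext h)

theorem val_inj : Function.Injective val := Units.val_injective.comp ρ_inj

theorem card_G : Nat.card G = 86775571046077562880 :=
  le_antisymm bdG.2 (le_card_range.trans (Nat.card_le_card_of_surjective _ ρ.rangeRestrict_surjective))

/-- The normal subgroup of order `2 ^ 11`. -/
noncomputable def V : Subgroup G := gen eX taus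

theorem e28 : eX 28 = s' := by
  have h1 : eX 24 = ev P.e sw := (eX_def 10).trans (ev_eX (by decide))
  have h2 : eX 26 = ev P.e nw := (eX_def 11).trans (ev_eX (by decide))
  have h3 : eX 28 = ev eX [26, 24, 27] := eX_def 12
  have h4 : eX 27 = (eX 26)⁻¹ := hivX 26
  simp [h3, s'_eq, h1, h2, h4, mul_assoc]

theorem hvn : VN V φ.range (eX 0 * eX 1) s' := by
  have := vn hmX val_inj (genX ▸ simple_range φ_inj)
  rwa [genX, e28] at this

theorem HH_sup : HH = V ⊔ φ.range := by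
  refine le_antisymm ?_ (sup_le ?_ N_le_HH)
  · rw [HH_eq, closure_le]
    rintro g (hg | rfl)
    · exact mem_sup_right hg
    · exact mem_sup_left hvn.sV
  · have h0 : ∀ c ∈ [0, 1, 2], eX c ∈ HH := fun c hc => N_le_HH (genX ▸ mem_gen hc)
    have h1 : eX 28 ∈ HH := by rw [e28, HH_eq]; exact subset_closure (Or.inr rfl)
    have key : ∀ j, j ≤ 10 → eX (28 + 2 * j) ∈ HH := fun j => by
      induction j using Nat.strong_induction_on with
      | _ j ih =>
        intro hj
        rcases Nat.eq_zero_or_pos j with rfl | h2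
        · exact h1
        rw [show 28 + 2 * j = 4 + 2 * (12 + j) by ring, eX_def]
        refine ev_mem fun c hc => ?_
        rcases (by decide +kernel : ∀ j ≤ 10, 0 < j → ∀ c ∈ nth [] defs (12 + j),
          c ∈ [0, 1, 2] ∨ ∃ i < j, c = 28 + 2 * i) j hj h2 c hc with h3 | ⟨i, h3, rfl⟩
        · exact h0 c h3
        · exact ih i h3 (by omega)
    refine gen_le.2 fun c hc => ?_
    obtain ⟨j, hj, rfl⟩ := (by decide : ∀ c ∈ taus, ∃ j ≤ 10, c = 28 + 2 * j) c hc
    exact key j hj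

theorem card_V : Nat.card V = 2048 := by
  have h1 := bdH.2
  rw [HH_sup, hvn.card_sup, card_range] at h1
  have h2 := Nat.le_of_dvd Nat.card_pos hvn.dvd
  omega

theorem card_HH : Nat.card HH = 501397585920 := by rw [HH_sup, hvn.card_sup, card_range, card_V]

theorem index_HH : HH.index = 173067389 := by
  have := HH.card_mul_index
  rw [card_HH, card_G] at this
  omega

theorem top_of_N {K : Subgroup G} [K.Normal] (h : φ.range ≤ K) : K = ⊤ := by
  rw [eq_top_iff, ← closure_top, closure_le]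
  rintro g (hg | rfl)
  · exact h hg
  · have h1 : eX 20 = ev eX [0, 2, 3] := eX_def 8
    have h2 := (pows hmX val_inj).2.2.2.2.2.2.1
    rw [h1, show [0, 2, 3] = [0, 2] ++ [3] from rfl, ev_append, ev_cons eX 3, ev_nil, mul_one,
      eX_lt (by norm_num : 3 < 4)] at h2
    exact mem_of_coprime (h (genX ▸ ev_mem_gen (by decide))) (by rw [sq, tt]) h2 (by norm_num)

theorem top_of_inf {K : Subgroup G} [hK : K.Normal] (h : K ⊓ HH ≠ ⊥) : K = ⊤ := by
  refine top_of_N ((hvn.normal card_V.le (HH_sup ▸ h)).elim id fun h1 => ?_)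
  have h2 : eX 50 = ev eX [3, 2, 28, 1, 3, 1] := eX_def 23
  have i1 : eX 2 = (eX 1)⁻¹ := hivX 1
  have i3 : eX 3 = (eX 3)⁻¹ := hivX 3
  obtain ⟨-, -, -, -, -, -, -, -, p1, p2⟩ := pows hmX val_inj
  have h3 : eX 50 = (eX 3 * eX 2) * s' * (eX 3 * eX 2)⁻¹ * eX 1 := by
    simp [h2, i1, ← i3, e28, mul_assoc]
  have h4 : eX 1 ∈ K := mem_of_coprime (hK.conj_mem _ h1 _) p2 (h3 ▸ p1) (by norm_num)
  have := hvn.simple
  refine (simple_dich (K := K) (by rw [normalizer_eq_top]; exact le_top)).resolve_left fun h5 => ?_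
  have h6 : eX 1 = 1 := mem_bot.1 (h5 ▸ ⟨h4, genX ▸ mem_gen (by simp)⟩)
  exact (ncomm hmX val_inj).2.2.2.2.2 (by simp [h6])

instance simple_G : IsSimpleGroup G where
  exists_pair_ne := ⟨_, _, (ncomm hmX val_inj).1⟩
  eq_bot_or_eq_top_of_normal K hK := by
    by_contra h
    rw [not_or] at h
    have h1 : K ⊓ HH = ⊥ := by by_contra h1; exact h.2 (top_of_inf h1)
    have h2 : Nat.card K ∣ 173067389 := by
      have h3 := card_subgroup_dvd_card (K ⊔ HH)
      rw [JL.card_sup (by rw [normalizer_eq_top]; exact le_top) h1, card_HH, card_G,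
        show 86775571046077562880 = 173067389 * 501397585920 from rfl] at h3
      exact Nat.dvd_of_mul_dvd_mul_right (by norm_num) h3
    obtain ⟨p, hp, S, hS, h3, h4, h5⟩ := exists_normal h2 h.1 hvn.g23
    have h6 : centralizer (S : Set G) = ⊤ := top_of_inf fun h6 => hvn.ne (by
      rw [mem_bot.1 (h6 ▸ ⟨h5, N_le_HH hvn.gN⟩ : eX 0 * eX 1 ∈ (⊥ : Subgroup G))]; simp)
    have h7 : S ≤ center G := fun c hc => mem_center_iff.2 fun g =>
      ((h6 ▸ mem_top g : g ∈ centralizer (S : Set G)) c hc).symm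
    obtain ⟨-, -, -, -, p1, p2, p3, p4, -⟩ := pows hmX val_inj
    obtain ⟨q0, q1, q2, q3, q4, -⟩ := ncomm hmX val_inj
    have := Fact.mk ((by norm_num : ∀ p ∈ [11, 29, 31, 37, 43], Nat.Prime p) p hp)
    simp only [List.mem_cons, List.not_mem_nil, or_false] at hp
    rcases hp with rfl | rfl | rfl | rfl | rfl
    · exact q0 (central_heis h3 h7 h4 (by rw [card_G]; norm_num) (heis hmX val_inj) _)
    · exact q1 (central_prime h3 h7 h4 (by rw [card_G]; norm_num) p1 _)
    · exact q2 (central_prime h3 h7 h4 (by rw [card_G]; norm_num) p2 _)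
    · exact q3 (central_prime h3 h7 h4 (by rw [card_G]; norm_num) p3 _)
    · exact q4 (central_prime h3 h7 h4 (by rw [card_G]; norm_num) p4 _)

theorem isJ4 : IsJ4 G := ⟨simple_G, card_G⟩

theorem isJ4_range_of {A B : Type*} [Group A] [Group B] {f : A →* B} (h : Function.Injective f)
    (h1 : IsJ4 A) : IsJ4 f.range := by
  have := h1.1
  exact ⟨(MonoidHom.ofInjective h).symm.isSimpleGroup,
    (Nat.card_congr (MonoidHom.ofInjective h).toEquiv).symm.trans h1.2⟩

theorem exists_GL : ∃ H : Subgroup (GL (Fin Q.n) (ZMod 2)), IsJ4 H := ⟨_, isJ4_range_of ρ_inj isJ4⟩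

end H9.J4
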