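import Mathlib
import Cfsg.Agent.H0.BSM0
import Cfsg.Agent.H0.W5

/-!
# A Monster that contains the centraliser of an involution is everything
-/

set_option autoImplicit false
set_option linter.all false

namespace H10.Mon.MG.MB

theorem ncl {h0 : G0} (hn : ¬ Ac h0 1) (K : Subgroup G0) (h1 : neg1 ∈ K)
    (h2 : ∀ u, u * h0 * u⁻¹ ∈ K) (h : G0) : h ∈ K := by
  have n1 : neg1 ∈ K.normalCore := fun u => by
    rwa [Subgroup.mem_center_iff.1 neg1_mem_center, mul_inv_cancel_right]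
  rcases normal_G0 K.normalCore n1 with e | e
  · refine (hn fun c => ?_).elim
    rcases (eq_of_card_two e n1).1 (show h0 ∈ K.normalCore from h2) with e | e <;> rw [e]
    rw [neg1_smul_C, one_smul]
  · exact K.normalCore_le (e ▸ Subgroup.mem_top h)

theorem irrC {eO eD s0 : G0} (L : LF eO eD s0) (W : AddSubgroup C) (h1 : ∀ h : G0, ∀ c ∈ W, h • c ∈ W)
    (h2 : ∀ c ∈ W, ¬ IsS c) {c : C} (hc : c ∈ W) : c = 0 := by
  have k : ∀ c ∈ W, bb c c = 0 → c = 0 := fun c hc b => by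
    by_contra n
    obtain ⟨h, rfl⟩ := typ4 n b (h2 c hc)
    obtain ⟨e, e0, e1, e2⟩ := exists_sh2
    obtain ⟨h', e'⟩ := typ4 (c := e + Om) (fun e0 => e1 (by rw [add_eq_zero_C.1 e0, Om_fst]))
      (by rw [bb_add_self, bb_isS e0, bb_fst Om_fst, pl_Om, e2]; rfl) (sh2_Om e0 e1 e2)
    have hO : Om ∈ W := by simpa using h1 h⁻¹ _ hc
    have := W.add_mem (e' ▸ h1 h' _ hO) hO
    rw [add_assoc, cc2, add_zero] at this
    exact h2 _ this e0
  have f : ∀ h : G0, h • c = c := ncl (h0 := eO) (K := MulAction.stabilizer G0 c) (fun a => by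
      obtain ⟨d, -, hd⟩ := L.oE eO (by simp)
      exact hd (.inl ((a d).trans (one_smul _ _)))) (neg1_smul_C c) fun u => by
    have := k _ (W.add_mem (h1 u⁻¹ c hc) (h1 eO _ (h1 u⁻¹ c hc))) (by
      rw [bb_add_self, bb_smul_self eO, zz2, L.oP, add_zero])
    rw [MulAction.mem_stabilizer_iff, mul_smul, mul_smul, ← add_eq_zero_C.1 this, smul_inv_smul]
  have g : ∀ d e, IsS d → IsS e → pl c d = pl c e := fun d e hd he => by
    obtain ⟨h, k⟩ := trans_S (toS d hd) (toS e he)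
    rw [← show h • d = e from congrArg Subtype.val k, ← pl_smul h c d, f]
  obtain ⟨v, hv⟩ := five
  have z : ∀ d, IsS d → pl c d = 0 := fun d hd => by
    have := pl_add c (v 0 + v 1) (v 1 + v 2)
    rwa [add_assoc, ← add_assoc (v 1), cc2, zero_add, ← g d _ hd (hv 0 1 (by decide)),
      ← g d _ hd (hv 1 2 (by decide)), ← g d _ hd (hv 0 2 (by decide)), zz2] at this
  rcases perp_perp (e := c) fun d hd => span_cA
    { carrier := {d | pl c d = 0}
      zero_mem' := pl_zero c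
      add_mem' := fun {a b} ha hb => by rw [Set.mem_setOf_eq, pl_add, ha, hb, add_zero]
      neg_mem' := fun {a} ha => by rwa [neg_eq_iff_add_eq_zero.2 (cc2 a)] }
    (fun d hd => z d hd.1) hd with e | e
  · exact e
  · exact (h2 c hc (e ▸ isS_val c0)).elim

variable {M : Type*} [Group M] {x y γ : M} {p : ZMod 2 → C → M} {eO eD s0 : G0}

theorem noB (H : Two x y p γ) (L : LF eO eD s0) {h : M} {k : GT} (hk : Rel p h k) (hA : IsConj x h)
    {d e : C} (d1 : IsS (d + co k • d)) (d2 : IsS (e + co k • e))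
    (d3 : IsS (d + co k • d + (e + co k • e))) (B : Subgroup M) (b1 : ∀ b ∈ B, b * y = y * b)
    (b2 : ∀ s c, IsS c → p s c ∉ B)
    (b3 : ∀ f, IsConj x f → f * y = y * f → ∃ s c, IsS c ∧ p s c * f ∈ B) : False := by
  have i := H.s.i2_of hk (.inl (sq_of_cj hA H.xx))
  have n : ∀ u, ∃ b ∈ B, ∃ l, Rel p b l ∧ Ac (co l) u := ncl (h0 := co k)
    (K := { carrier := {u | ∃ b ∈ B, ∃ l, Rel p b l ∧ Ac (co l) u}
            one_mem' := ⟨1, one_mem _, 1, Rel.one, fun c => by rw [map_one]⟩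
            mul_mem' := by
              rintro _ _ ⟨g, g1, k, g2, g3⟩ ⟨g', g1', k', g2', g3'⟩
              exact ⟨_, mul_mem g1 g1', _, g2.mul g2', fun c => by
                rw [map_mul, mul_smul, mul_smul, g3', g3]⟩
            inv_mem' := by
              rintro a ⟨g, g1, k, g2, g3⟩
              exact ⟨_, inv_mem g1, _, g2.inv, fun c => by
                rw [map_inv, inv_smul_eq_iff, g3, smul_inv_smul]⟩ })
    (fun a => isS_ne d1 (by rw [a, one_smul, cc2]))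
    ⟨1, one_mem _, 1, Rel.one, fun c => by rw [map_one, one_smul, neg1_smul_C]⟩ fun u => by
      obtain ⟨a, l, ha, rfl⟩ := H.s.lift u
      obtain ⟨s, c, -, e⟩ := b3 _ (hA.trans (cj_of rfl)) (H.s.rel_cm (ha.conj hk))
      exact ⟨_, e, _, (H.s.rel_q s c).mul (ha.conj hk), fun c => by
        rw [map_mul, co_qe, one_mul, map_mul, map_mul, map_inv]⟩
  have w : ∀ s c, p s c ∈ B → c = 0 := fun s c hc => irrC L
    { carrier := {c | ∃ s, p s c ∈ B}
      zero_mem' := ⟨0, H.s.zero ▸ one_mem _⟩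
      add_mem' := fun ⟨_, a⟩ ⟨_, b⟩ => ⟨_, H.s.mul _ _ _ _ ▸ mul_mem a b⟩
      neg_mem' := fun {a} ha => by rwa [neg_eq_iff_add_eq_zero.2 (cc2 a)] }
    (by
      rintro u c ⟨s, hc⟩
      obtain ⟨b, b1, l, l1, l2⟩ := n u
      exact ⟨_, l2 c ▸ l1 s c ▸ mul_mem (mul_mem b1 hc) (inv_mem b1)⟩)
    (fun c ⟨s, hc⟩ hs => b2 s c hs hc) ⟨s, hc⟩
  obtain ⟨s, c, c1, c2⟩ := b3 h hA (H.s.rel_cm hk)
  have z : ∀ d, IsS (c + (d + co k • d)) := fun d => by
    obtain ⟨r, e⟩ := H.s.qconj hk i 0 0 d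
    rw [H.s.zero, mul_one, zero_add] at e
    obtain ⟨s', c', c3, c4⟩ := b3 _ (hA.trans (cj_of e)) (H.s.rel_cm (hk.mul (H.s.rel_q _ _)))
    have := mul_mem c4 (inv_mem c2)
    rw [show ∀ u v w : M, u * (h * v) * (w * h)⁻¹ = u * (h * v * h⁻¹) * w⁻¹ from fun u v w => by group,
      hk, im_fix i, H.s.q_inv, H.s.mul, H.s.mul] at this
    rwa [add_comm, ← add_eq_zero_C.1 ((add_assoc _ _ _).symm.trans (w _ _ this))]
  obtain ⟨u, hu⟩ := trans_S (toS c c1) c0
  have hu : u • c = c0.1 := congrArg Subtype.val hu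
  have z' : ∀ d, IsS (u • (d + co k • d) + c0.1) := fun d => by
    rw [← hu, ← smul_add, add_comm]; exact (z d).smul u
  refine no_tri (d1.smul u) (z' d) (d2.smul u) (z' e) (by rw [← smul_add]; exact d3.smul u) ?_
  have := z' (d + e)
  rwa [smul_add (co k), add_add_add_comm, smul_add] at this

variable {G : Type*} [Group G] [Finite G]

theorem dihx {Ω : Type*} [MulAction G Ω] {a f : G} (ha : a * a = 1) {ω ω' : Ω} (h1 : a • ω = ω)
    (h2 : f • ω' = ω') (ua : ∀ ω', a • ω' = ω' → ω' = ω) (uf : ∀ ω, f • ω = ω → ω = ω') (hf : f * f = 1) :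
    ∃ m : ℕ, ((a * f) ^ m * a * ((a * f) ^ m)⁻¹) • ω' = ω' ∧
      ((a * f) ^ m * a * ((a * f) ^ m)⁻¹ * f) • ω = ω := by
  classical
  set r := a * f with hr
  have e1 : H0.cj a r = r⁻¹ := by
    rw [hr, H0.cj, ← mul_assoc, ha, one_mul, mul_inv_rev, inv_eq_of_mul_eq_one_right hf]
  have e2 : ∀ j : ℕ, a * r ^ j = (r ^ j)⁻¹ * a := fun j => by
    rw [← inv_pow, ← e1, H0.cj, conj_pow, inv_mul_cancel_right]
  have ex : ∃ j, 0 < j ∧ r ^ j • ω = ω := ⟨_, orderOf_pos r, by rw [pow_orderOf_eq_one, one_smul]⟩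
  obtain ⟨k0, k1⟩ := Nat.find_spec ex
  obtain ⟨m, e | e⟩ := Nat.even_or_odd' (Nat.find ex) <;> rw [e] at k0 k1
  · refine (Nat.find_min ex (m := m) (by omega) ⟨by omega, ua _ ?_⟩).elim
    rw [← mul_smul, e2, mul_smul, h1, inv_smul_eq_iff, ← mul_smul, ← pow_add, ← two_mul, k1]
  · have : r ^ m • ω = ω' := uf _ (by
      rw [show f = a * r by rw [hr, ← mul_assoc, ha, one_mul], ← mul_smul, mul_assoc, ← pow_succ', e2,
        mul_smul, h1, inv_smul_eq_iff, ← mul_smul, ← pow_add, show m + 1 + m = 2 * m + 1 by ring, k1])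
    refine ⟨m, by rw [← this, mul_smul, inv_smul_smul, mul_smul, h1], ?_⟩
    rw [show r ^ m * a * (r ^ m)⁻¹ = _ from H0.cj_pow_inv e1 m, mul_assoc, ← hr, ← pow_succ, k1]

theorem onto [Finite M] (H : Two x y p γ) (L : LF eO eD s0) {h : M} {k : GT} (hk : Rel p h k)
    (hA : IsConj x h) {d e : C} (d1 : IsS (d + co k • d)) (d2 : IsS (e + co k • e))
    (d3 : IsS (d + co k • d + (e + co k • e))) {Φ : M →* G} (inj : Function.Injective Φ)
    (sur : ∀ g, g * Φ x = Φ x * g → g ∈ Φ.range) (nc : ¬ IsConj (Φ x) (Φ y)) :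
    Function.Surjective Φ := by
  have cl : ∀ {u a}, u = x ∨ u = y → IsConj (Φ u) (Φ a) → IsConj u a := fun {u a} hu c => by
    have u1 : u * u = 1 ∧ u ≠ 1 := by
      rcases hu with rfl | rfl
      exacts [⟨H.xx, H.x_ne⟩, ⟨H.s.yy, H.s.y_ne⟩]
    have := H.classes L (t := a) (inj (by
      rw [map_mul, map_one]; exact sq_of_cj c (by rw [← map_mul, u1.1, map_one]))) (by
        rintro rfl
        rw [map_one, isConj_one_left, map_eq_one_iff _ inj] at c
        exact u1.2 c)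
    rcases hu with rfl | rfl
    · exact this.resolve_right fun e => nc (c.trans (Φ.map_isConj e).symm)
    · exact this.resolve_left fun e => nc ((Φ.map_isConj e).trans c.symm)
  have back : ∀ {u g}, u = x ∨ u = y → (∀ g, g * Φ u = Φ u * g → g ∈ Φ.range) →
      g * Φ u * g⁻¹ ∈ Φ.range → g ∈ Φ.range := by
    rintro u g hu h ⟨a, ha⟩
    obtain ⟨m, rfl⟩ := isConj_iff.1 (cl hu (cj_of ha.symm))
    have := mul_mem (⟨m, rfl⟩ : Φ m ∈ Φ.range) (h ((Φ m)⁻¹ * g) (mul_inv_eq_iff_eq_mul.1 (by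
      rw [mul_inv_rev, ← mul_assoc, mul_assoc _ g, mul_assoc _ (g * _), ← ha, map_mul, map_mul, map_inv]
      group)))
    rwa [mul_inv_cancel_left] at this
  have st : ∀ a g : G, a • (g : G ⧸ Φ.range) = g ↔ g⁻¹ * a * g ∈ Φ.range := fun a g => by
    rw [MulAction.Quotient.smul_coe, smul_eq_mul, eq_comm, QuotientGroup.eq, mul_assoc]
  have st1 : ∀ a : G, a • ((1 : G) : G ⧸ Φ.range) = (1 : G) ↔ a ∈ Φ.range := fun a => by
    rw [st, inv_one, one_mul, mul_one]
  have U : ∀ {a}, IsConj (Φ x) a → ∀ {ω ω' : G ⧸ Φ.range}, a • ω = ω → a • ω' = ω' → ω' = ω := by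
    intro a ha
    obtain ⟨g, rfl⟩ := isConj_iff.1 ha
    suffices ∀ ω : G ⧸ Φ.range, (g * Φ x * g⁻¹) • ω = ω → ω = g from
      fun {_ _} h h' => (this _ h').trans (this _ h).symm
    intro ω
    induction ω using QuotientGroup.induction_on with
    | H u => exact fun h => QuotientGroup.eq.2 (back (.inl rfl) sur (by
        simpa only [mul_inv_rev, inv_inv, mul_assoc] using (st _ _).1 h))
  have xx : Φ x * Φ x = 1 := by rw [← map_mul, H.xx, map_one]
  have yy : Φ y * Φ y = 1 := by rw [← map_mul, H.s.yy, map_one]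
  have cy : ∀ g, g * Φ y = Φ y * g → g ∈ Φ.range := fun g hg => by
    by_contra hn
    refine noB H L hk hA d1 d2 d3 (Subgroup.centralizer {y} ⊓
      (MulAction.stabilizer G (g : G ⧸ Φ.range)).comap Φ)
      (fun b hb => Subgroup.mem_centralizer_singleton_iff.1 hb.1) (fun s c hc hb => hn ?_)
      fun f f1 f2 => ?_
    · simpa using QuotientGroup.eq.1 (U (Φ.map_isConj (H.qA s hc)) hb.2 ((st1 _).2 ⟨_, rfl⟩))
    have A : IsConj (Φ x) (g * Φ x * g⁻¹) := cj_of rfl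
    have a1 : (g * Φ x * g⁻¹) • (g : G ⧸ Φ.range) = g := (st _ _).2 ⟨x, by group⟩
    have a2 := (st1 (Φ f)).2 ⟨f, rfl⟩
    obtain ⟨m, m1, m2⟩ := dihx (sq_of_cj A xx) a1 a2 (fun _ => U A a1)
      (fun _ => U (Φ.map_isConj f1) a2) (sq_of_cj (Φ.map_isConj f1) xx)
    have c1 := cm_conj hg (by rw [← map_mul, H.one.xy, map_mul] : Φ x * Φ y = _)
    have c2 := cm_pow (cm_mul c1 (by rw [← map_mul, f2, map_mul] : Φ f * Φ y = _)) m
    obtain ⟨a, ha⟩ := (st1 _).1 m1
    have ay : a * y = y * a := inj (by rw [map_mul, map_mul, ha]; exact cm_conj c2 c1)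
    have A1 : IsConj x a := cl (.inl rfl) (A.trans (cj_of ha.symm))
    have A2 : IsConj x (a * y) := cl (.inl rfl) ((Φ.map_isConj H.one.A_yx).trans
      ((cj_of (a := g) rfl).trans (cj_of (by
        rw [← H.one.xy, map_mul, map_mul, cj_mul hg, cj_mul c2, ha]))))
    obtain ⟨h0, kh, sh, e0, P⟩ := H.exists_h L
    rcases H.cls L P ay (sq_of_cj A1 H.xx) with ⟨s, c, rfl⟩ | b | b
    · exact ⟨s, c, H.isS_of A1, Subgroup.mem_centralizer_singleton_iff.2 (cm_mul ay f2),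
        Subgroup.mem_comap.2 (by rw [map_mul, ha]; exact m2)⟩
    · rcases b.t2 H.s.yy (H.h_ab P) with b | b
      exacts [(H.nAB A2 b.2).elim, (H.nAB A1 b.1).elim]
    · exact (H.nAB A1 b.1).elim
  intro g
  refine back (.inr rfl) cy ?_
  rcases H0.dih xx (sq_of_cj (cj_of (a := g) rfl) yy) with ⟨l, -, e⟩ | ⟨z, -, -, z1, z2, z3, z4, -⟩
  · exact (nc ((cj_of e).trans (cj_of rfl).symm)).elim
  obtain ⟨a, rfl⟩ := sur z z3
  have : ∀ u, IsConj u a → (∀ g, g * Φ u = Φ u * g → g ∈ Φ.range) → g * Φ y * g⁻¹ ∈ Φ.range := by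
    intro u hu h
    obtain ⟨m, rfl⟩ := isConj_iff.1 hu
    have := h ((Φ m)⁻¹ * (g * Φ y * g⁻¹) * Φ m) (by
      rw [map_mul, map_mul, map_inv] at z4
      calc _ = (Φ m)⁻¹ * (g * Φ y * g⁻¹ * (Φ m * Φ u * (Φ m)⁻¹)) * Φ m := by group
        _ = _ := by rw [← z4.eq]; group)
    have := mul_mem (mul_mem (⟨m, rfl⟩ : Φ m ∈ Φ.range) this) (inv_mem ⟨m, rfl⟩)
    simpa only [mul_assoc, mul_inv_cancel_left, mul_inv_cancel, mul_one] using this
  exact (H.classes L (t := a) (inj (by rw [map_mul, z2, map_one]))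
    (by rintro rfl; exact z1 Φ.map_one)).elim (this _ · sur) (this _ · cy)

end H10.Mon.MG.MB
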