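import Mathlib
import Cfsg.Agent.H9.M24b

/-! Families of sets modelled on subsets of the 24 points, and their automorphism groups. -/

set_option autoImplicit false
set_option linter.unusedSectionVars false

namespace H9

open Cfsg Finset MulAction
open scoped symmDiff Pointwise

variable {α β γ : Type*} [Fintype α] [DecidableEq α] [Fintype β] [DecidableEq β]
  [Fintype γ] [DecidableEq γ]

/-- `ι` identifies `α` with `Ω` and `B` with the members of `𝓑` inside `Ω`. -/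
structure IsModel (B : Set (Finset α)) (Ω : Finset γ) (𝓑 : Set (Finset γ)) (ι : α ↪ γ) : Prop where
  range : ∀ p, p ∈ Set.range ι ↔ p ∈ Ω
  mem : ∀ b : Finset α, b ∈ B ↔ b.map ι ∈ 𝓑

theorem exists_embedding (Ω : Finset γ) (h : Fintype.card α = Ω.card) :
    ∃ ι : α ↪ γ, ∀ p, p ∈ Set.range ι ↔ p ∈ Ω := by
  have e : α ≃ Ω := Fintype.equivOfCardEq (by simpa using h)
  refine ⟨e.toEmbedding.trans (Function.Embedding.subtype _), fun p => ⟨?_, fun hp => ?_⟩⟩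
  · rintro ⟨a, rfl⟩
    exact (e a).2
  · exact ⟨e.symm ⟨p, hp⟩, by simp⟩

theorem exists_map_eq {Ω : Finset γ} {ι : α ↪ γ} (h : ∀ p, p ∈ Set.range ι ↔ p ∈ Ω)
    (s : Finset γ) (hs : s ⊆ Ω) : ∃ b : Finset α, b.map ι = s := by
  refine ⟨univ.filter fun a => ι a ∈ s, ?_⟩
  ext p
  simp only [mem_map, mem_filter, mem_univ, true_and]
  constructor
  · rintro ⟨a, ha, rfl⟩; exact ha
  · intro hp
    obtain ⟨a, rfl⟩ := (h p).2 (hs hp)
    exact ⟨a, hp, rfl⟩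

theorem map_subset_of_range {Ω : Finset γ} {ι : α ↪ γ} (h : ∀ p, p ∈ Set.range ι ↔ p ∈ Ω)
    (b : Finset α) : b.map ι ⊆ Ω := by
  intro p hp
  obtain ⟨a, -, rfl⟩ := mem_map.1 hp
  exact (h _).1 ⟨a, rfl⟩

theorem IsModel.iso {B : Set (Finset α)} {B' : Set (Finset β)} {Ω : Finset γ}
    {𝓑 : Set (Finset γ)} {ι : α ↪ γ} {ι' : β ↪ γ} (h : IsModel B Ω 𝓑 ι)
    (h' : IsModel B' Ω 𝓑 ι') :
    ∃ e : α ≃ β, (∀ a, ι' (e a) = ι a) ∧ ∀ b : Finset α, b ∈ B ↔ b.image e ∈ B' := by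
  have hr : Set.range ι = Set.range ι' := by
    ext p; rw [h.range, h'.range]
  let e : α ≃ β := (Equiv.ofInjective ι ι.injective).trans
    ((Equiv.setCongr hr).trans (Equiv.ofInjective ι' ι'.injective).symm)
  have he : ∀ a, ι' (e a) = ι a := fun a => by
    simp [e, Equiv.apply_ofInjective_symm]
  refine ⟨e, he, fun b => ?_⟩
  rw [h.mem, h'.mem]
  have : (b.image e).map ι' = b.map ι := by
    ext p
    simp only [mem_map, mem_image]
    constructor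
    · rintro ⟨_, ⟨a, ha, rfl⟩, rfl⟩
      exact ⟨a, ha, (he a).symm⟩
    · rintro ⟨a, ha, rfl⟩
      exact ⟨e a, ⟨a, ha, rfl⟩, he a⟩
  rw [this]

theorem setSystemIso_of_equiv {B : Set (Finset α)} {B' : Set (Finset β)} (e : α ≃ β)
    (h : ∀ b : Finset α, b ∈ B ↔ b.image e ∈ B') : SetSystemIso B B' := by
  refine ⟨e, ?_⟩
  ext c
  constructor
  · rintro ⟨b, hb, rfl⟩
    exact (h b).1 hb
  · intro hc
    have : (c.image e.symm).image e = c := by simp [Finset.image_image]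
    exact ⟨c.image e.symm, (h _).2 (this.symm ▸ hc), this⟩

theorem IsModel.setSystemIso {B : Set (Finset α)} {B' : Set (Finset β)} {Ω : Finset γ}
    {𝓑 : Set (Finset γ)} {ι : α ↪ γ} {ι' : β ↪ γ} (h : IsModel B Ω 𝓑 ι)
    (h' : IsModel B' Ω 𝓑 ι') : SetSystemIso B B' := by
  obtain ⟨e, -, he⟩ := h.iso h'
  exact setSystemIso_of_equiv e he

theorem mem_setSystemAut {B : Set (Finset α)} {g : Equiv.Perm α} :
    g ∈ setSystemAut B ↔ ∀ b ∈ B, g • b ∈ B := by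
  rw [mem_stabilizer_iff]
  constructor
  · intro h s hs
    have : g • s ∈ g • B := Set.smul_mem_smul_set hs
    rwa [h] at this
  · intro h
    refine Set.eq_of_subset_of_ncard_le ?_ ?_ (Set.toFinite _)
    · rintro _ ⟨s, hs, rfl⟩
      exact h s hs
    · rw [Set.ncard_smul_set]

theorem map_smul_of {ι : α ↪ γ} {τ : Equiv.Perm α} {g : Equiv.Perm γ}
    (h : ∀ a, ι (τ a) = g (ι a)) (b : Finset α) : (τ • b).map ι = g • b.map ι := by
  ext p
  simp only [mem_map, Finset.mem_smul_finset, Equiv.Perm.smul_def]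
  constructor
  · rintro ⟨_, ⟨a, ha, rfl⟩, rfl⟩
    exact ⟨ι a, ⟨a, ha, rfl⟩, (h a).symm⟩
  · rintro ⟨_, ⟨a, ha, rfl⟩, rfl⟩
    exact ⟨τ a, ⟨a, ha, rfl⟩, h a⟩

/-- restriction to `α` of the permutations preserving the range of `ι`. -/
theorem exists_res {Ω : Finset γ} {ι : α ↪ γ} (hr : ∀ p, p ∈ Set.range ι ↔ p ∈ Ω)
    (G : Subgroup (Equiv.Perm γ)) (hΩ : ∀ g ∈ G, g • Ω = Ω) :
    ∃ φ : G →* Equiv.Perm α, ∀ g a, ι (φ g a) = (g : Equiv.Perm γ) (ι a) := by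
  have h1 : ∀ g : G, ∀ x, (g : Equiv.Perm γ) x ∈ Set.range ι ↔ x ∈ Set.range ι := by
    intro g x
    rw [hr, hr]
    conv_lhs => rw [← hΩ g g.2]
    exact Finset.smul_mem_smul_finset_iff _
  let j := Equiv.ofInjective ι ι.injective
  let r : G → Equiv.Perm α := fun g => j.trans (((g : Equiv.Perm γ).subtypePerm (h1 g)).trans j.symm)
  have hr : ∀ g a, ι (r g a) = (g : Equiv.Perm γ) (ι a) := fun g a => by
    simp [r, j, Equiv.apply_ofInjective_symm]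
  refine ⟨MonoidHom.mk' r fun g h => ?_, hr⟩
  ext a
  apply ι.injective
  simp [hr]

/-- extension by the identity outside the range of `ι`. -/
theorem exists_extend {Ω : Finset γ} {ι : α ↪ γ} (hr : ∀ p, p ∈ Set.range ι ↔ p ∈ Ω)
    (τ : Equiv.Perm α) :
    ∃ g : Equiv.Perm γ, (∀ a, ι (τ a) = g (ι a)) ∧ ∀ x, x ∉ Ω → g x = x := by
  classical
  refine ⟨τ.extendDomain (Equiv.ofInjective ι ι.injective), fun a => ?_, fun x hx => ?_⟩
  · exact (Equiv.Perm.extendDomain_apply_image τ (Equiv.ofInjective ι ι.injective) a).symm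
  · exact Equiv.Perm.extendDomain_apply_not_subtype _ _ (fun h => hx ((hr x).1 h))

theorem IsModel.aut {B : Set (Finset α)} {Ω : Finset γ} {𝓑 : Set (Finset γ)} {ι : α ↪ γ}
    (h : IsModel B Ω 𝓑 ι) (G : Subgroup (Equiv.Perm γ)) (hΩ : ∀ g ∈ G, g • Ω = Ω)
    (h𝓑 : ∀ g ∈ G, ∀ s ⊆ Ω, s ∈ 𝓑 → g • s ∈ 𝓑)
    (hf : ∀ g ∈ G, (∀ x ∈ Ω, g x = x) → g = 1)
    (hind : ∀ τ : Equiv.Perm γ, (∀ x, x ∉ Ω → τ x = x) → (∀ s ⊆ Ω, s ∈ 𝓑 → τ • s ∈ 𝓑) →
      ∃ g ∈ G, ∀ x ∈ Ω, g x = τ x) :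
    ∃ φ : G ≃* setSystemAut B, ∀ g a, ι ((φ g : Equiv.Perm α) a) = (g : Equiv.Perm γ) (ι a) := by
  obtain ⟨φ, hφ⟩ := exists_res h.range G hΩ
  have hmem : ∀ g, φ g ∈ setSystemAut B := by
    intro g
    rw [mem_setSystemAut]
    intro b hb
    rw [h.mem, map_smul_of (hφ g)]
    exact h𝓑 g g.2 _ (map_subset_of_range h.range b) ((h.mem b).1 hb)
  refine ⟨MulEquiv.ofBijective (φ.codRestrict _ hmem) ⟨?_, ?_⟩, hφ⟩
  · rw [injective_iff_map_eq_one]
    intro g hg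
    have hg' : φ g = 1 := congrArg Subtype.val hg
    apply Subtype.ext
    apply hf g g.2
    intro x hx
    obtain ⟨a, rfl⟩ := (h.range x).2 hx
    rw [← hφ, hg']; rfl
  · rintro ⟨τ, hτ⟩
    obtain ⟨τ', h1, h2⟩ := exists_extend h.range τ
    obtain ⟨g, hg, e⟩ := hind τ' h2 (by
      intro s hs hs'
      obtain ⟨b, rfl⟩ := exists_map_eq h.range s hs
      rw [← map_smul_of h1, ← h.mem]
      exact mem_setSystemAut.1 hτ b ((h.mem b).2 hs'))
    refine ⟨⟨g, hg⟩, Subtype.ext ?_⟩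
    ext a
    apply ι.injective
    change ι (φ ⟨g, hg⟩ a) = _
    rw [hφ, h1]
    exact e _ ((h.range _).1 ⟨a, rfl⟩)

theorem multiply_of_model {A : Subgroup (Equiv.Perm α)} {Ω : Finset γ} {ι : α ↪ γ}
    (hr : ∀ p, p ∈ Set.range ι ↔ p ∈ Ω) {G : Subgroup (Equiv.Perm γ)} (φ : G ≃* A)
    (hφ : ∀ g a, ι ((φ g : Equiv.Perm α) a) = (g : Equiv.Perm γ) (ι a)) {bs : List γ}
    (ht : TransL G (Ω : Set γ) bs) {n : ℕ} (hn : bs.length = n) :
    IsMultiplyPretransitive A α n := by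
  rw [isMultiplyPretransitive_iff]
  intro x y
  obtain ⟨g, hg, h⟩ := ht.tuple hn (ι ∘ x) (ι ∘ y) (ι.injective.comp x.injective)
    (ι.injective.comp y.injective) (fun i => (hr _).1 ⟨_, rfl⟩) (fun i => (hr _).1 ⟨_, rfl⟩)
  refine ⟨φ ⟨g, hg⟩, ?_⟩
  ext1 i
  apply ι.injective
  exact (hφ ⟨g, hg⟩ (x i)).trans (h i)

theorem sharp_of_model {A : Subgroup (Equiv.Perm α)} {Ω : Finset γ} {ι : α ↪ γ}
    (hr : ∀ p, p ∈ Set.range ι ↔ p ∈ Ω) {G : Subgroup (Equiv.Perm γ)} (φ : G ≃* A)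
    (hφ : ∀ g a, ι ((φ g : Equiv.Perm α) a) = (g : Equiv.Perm γ) (ι a)) {n : ℕ}
    (hs : ∀ x : Fin n → γ, Function.Injective x → (∀ i, x i ∈ Ω) → ∀ g ∈ G,
      (∀ i, g (x i) = x i) → g = 1) (x : Fin n ↪ α) : stabilizer A x = ⊥ := by
  rw [eq_bot_iff]
  intro a ha
  obtain ⟨g, rfl⟩ := φ.surjective a
  have : g = 1 := Subtype.ext (hs (ι ∘ x) (ι.injective.comp x.injective)
    (fun i => (hr _).1 ⟨_, rfl⟩) g g.2 (fun i => by
      rw [Function.comp_apply, ← hφ]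
      congr 1
      exact congrArg (fun y : Fin n ↪ α => y i) ha))
  rw [this, map_one]
  exact Subgroup.one_mem _

end H9
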