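import Mathlib
import Cfsg.Agent.H9.UniqCode
import Cfsg.Agent.H9.Model

/-! Uniqueness of the Golay code and of the Steiner systems S(5,8,24), S(4,7,23), S(3,6,22). -/

set_option autoImplicit false
set_option linter.unusedSectionVars false

namespace H9

open Cfsg Finset MulAction
open scoped symmDiff Pointwise

theorem inSpan_sound {K : List ℕ} {x : ℕ} (h : inSpan K x = true) : ∃ m, lin K m = x := by
  rw [inSpan, Bool.not_eq_true', ← Bool.not_eq_true, treeAll_iff] at h
  push Not at h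
  obtain ⟨m, -, hm⟩ := h
  exact ⟨m, (beq_iff _ _).1 (by simpa using hm)⟩

theorem basL_span12 : ∀ b ∈ basL, ∃ m, lin K12 m = b := by
  have : allL basL (inSpan K12) = true := by decide +kernel
  exact fun b hb => inSpan_sound ((allL_iff _ _).1 this b hb)

theorem GoodCode.of_K12 {C : Set (Finset GolayPt)} (hC : GoodCode C)
    (h : ∀ r ∈ K12, ofMask r ∈ C) : ∀ s ∈ GC, s ∈ C := by
  intro s hs
  obtain ⟨m, hm, rfl⟩ := exists_cw_of_mem hs
  rw [(cw_facts hm).1]
  apply hC.lin
  intro b hb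
  obtain ⟨m, rfl⟩ := basL_span12 b hb
  exact hC.lin _ h m

theorem golay_le {C : Set (Finset GolayPt)} (hC : GoodCode C)
    (hcov : ∀ S : Finset GolayPt, (∀ i ∈ [23], pt i ∈ S) → S.card = 5 →
      ∃ b ∈ C, S ⊆ b ∧ b.card = 8) :
    ∃ σ : Equiv.Perm GolayPt, σ (pt 23) = pt 23 ∧ ∀ s ∈ GC, σ • s ∈ C := by
  obtain ⟨σ, h1, h2⟩ := state12 hC hcov
  exact ⟨σ, h1 23 (by simp), (hC.comap σ).of_K12 h2⟩

/-- In a code with 4096 words every 5-set lies in a word of weight 8. -/
theorem GoodCode.cover {C : Set (Finset GolayPt)} (hC : GoodCode C) (hn : C.ncard = 4096)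
    (S : Finset GolayPt) (hS : S.card = 5) : ∃ b ∈ C, S ⊆ b ∧ b.card = 8 := by
  classical
  obtain ⟨R, hR, hRc⟩ : ∃ R : Finset (Finset GolayPt),
      (∀ u, u ∈ R ↔ u.card = 1 ∨ u.card = 3) ∧ R.card = 2048 := by
    refine ⟨powersetCard 1 univ ∪ powersetCard 3 univ, fun u => by simp [mem_powersetCard], ?_⟩
    rw [card_union_of_disjoint (Finset.pairwise_disjoint_powersetCard univ (by norm_num)),
      card_powersetCard, card_powersetCard, card_univ, card_golayPt]
    decide +kernel
  let E : Finset (Finset GolayPt) := {∅, {pt 0}}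
  have hE' : ∀ e ∈ E, ∀ e' ∈ E, e.card % 2 = e'.card % 2 → e = e' := by
    simp [E]
  have hEc : E.card = 2 := card_pair (singleton_ne_empty _).symm
  have par : ∀ s t : Finset GolayPt, (s ∆ t).card % 2 = (s.card + t.card) % 2 := fun s t => by
    have := card_symmDiff_add s t; omega
  let D := R ×ˢ (C.toFinite.toFinset ×ˢ E)
  let f : Finset GolayPt × Finset GolayPt × Finset GolayPt → Finset GolayPt :=
    fun x => x.1 ∆ x.2.1 ∆ x.2.2
  have hinj : Set.InjOn f D := by
    rintro ⟨u, c, e⟩ h ⟨u', c', e'⟩ h' hf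
    simp only [D, coe_product, Set.mem_prod, mem_coe, Set.Finite.mem_toFinset, hR] at h h'
    simp only [f] at hf
    have h1 := hC.wt c h.2.1
    have h2 := hC.wt c' h'.2.1
    have he : e = e' := by
      apply hE' e h.2.2 e' h'.2.2
      have := congrArg (fun s => s.card % 2) hf
      have p1 := par (u ∆ c) e
      have p2 := par u c
      have p3 := par (u' ∆ c') e'
      have p4 := par u' c'
      omega
    subst he
    have hf' : u ∆ c = u' ∆ c' := symmDiff_left_injective e hf
    have h3 : u ∆ u' = c ∆ c' := by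
      calc u ∆ u' = (u ∆ c) ∆ (u' ∆ c) := by
            rw [symmDiff_symmDiff_symmDiff_comm, symmDiff_self, symmDiff_bot]
        _ = c ∆ c' := by
            rw [hf', symmDiff_symmDiff_symmDiff_comm, symmDiff_self, bot_symmDiff, symmDiff_comm]
    have h4 := hC.wt _ (hC.add _ h.2.1 _ h'.2.1)
    have h5 := card_symmDiff_add u u'
    rw [← h3] at h4
    have h6 : (u ∆ u').card = 0 := by omega
    have hu : u = u' := symmDiff_eq_bot.1 (card_eq_zero.1 h6)
    subst hu
    rw [symmDiff_right_injective u hf']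
  have hcard : (D.image f).card = Fintype.card (Finset GolayPt) := by
    rw [card_image_of_injOn hinj, card_product, card_product, hRc,
      ← Set.ncard_eq_toFinset_card C, hn, Fintype.card_finset, card_golayPt, hEc]
    rfl
  have : S ∈ D.image f := by rw [Finset.eq_univ_of_card _ hcard]; exact mem_univ S
  obtain ⟨⟨u, c, e⟩, h, hf⟩ := mem_image.1 this
  simp only [D, mem_product, Set.Finite.mem_toFinset, hR] at h
  simp only [f] at hf
  have h1 := hC.wt c h.2.1
  have he : e = ∅ := by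
    apply hE' e h.2.2 ∅ (by simp [E])
    have p1 := par (u ∆ c) e
    have p2 := par u c
    rw [hf] at p1
    rw [card_empty]
    omega
  subst he
  have hc : c = u ∆ S := by
    rw [← hf, show u ∆ c ∆ ∅ = u ∆ c from symmDiff_bot _, symmDiff_symmDiff_cancel_left]
  have h5 := card_symmDiff_add u S
  rw [← hc] at h5
  have h6 : (u ∩ S).card ≤ u.card := card_le_card inter_subset_left
  have h7 : (u ∩ S).card = 0 := by omega
  refine ⟨c, h.2.1, ?_, by omega⟩
  intro x hx
  rw [hc, Finset.mem_symmDiff]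
  refine Or.inr ⟨hx, fun hu => ?_⟩
  have : x ∈ u ∩ S := mem_inter.2 ⟨hu, hx⟩
  simp [card_eq_zero.1 h7] at this

theorem golay_unique_sets {C : Set (Finset GolayPt)} (hC : GoodCode C) (hn : C.ncard = 4096) :
    ∃ σ : Equiv.Perm GolayPt, ∀ s, s ∈ GC ↔ σ • s ∈ C := by
  obtain ⟨σ, -, h⟩ := golay_le hC (fun S _ hS => hC.cover hn S hS)
  refine ⟨σ, fun s => ⟨h s, fun hs => ?_⟩⟩
  have : σ • GC = C := by
    refine Set.eq_of_subset_of_ncard_le ?_ ?_ (Set.toFinite _)
    · rintro _ ⟨s, hs, rfl⟩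
      exact h s hs
    · rw [Set.ncard_smul_set, hn, ncard_GC_all]
  rw [← this] at hs
  exact Set.smul_mem_smul_set_iff.1 hs

theorem golay_code_unique (C : Submodule (ZMod 2) (Fin 24 → ZMod 2))
    (hdim : Module.finrank (ZMod 2) C = 12) (h4 : ∀ w ∈ C, 4 ∣ hammingNorm w)
    (hno4 : ∀ w ∈ C, hammingNorm w ≠ 4) : ∃ e : Fin 24 ≃ GolayPt,
      ∀ w : GolayPt → ZMod 2, w ∈ golayCode ↔ (fun i => w (e i)) ∈ C := by
  let F : Finset GolayPt → Fin 24 → ZMod 2 := fun s i => ind s (ptEquiv.symm i)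
  have hn : ∀ s, hammingNorm (F s) = s.card := by
    intro s
    apply Finset.card_bij (fun i _ => ptEquiv.symm i)
    · intro i hi
      by_contra h
      simp [F, ind, h] at hi
    · intro i _ j _ h
      exact ptEquiv.symm.injective h
    · intro p hp
      exact ⟨ptEquiv p, by simp [F, ind, hp], by simp⟩
  have hG : GoodCode {s | F s ∈ C} := by
    refine ⟨?_, fun s hs t ht => ?_, fun s hs => ?_⟩
    · change F ∅ ∈ C
      simp only [F, ind_empty]
      exact C.zero_mem
    · change F _ ∈ C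
      simp only [F, ind_symmDiff]
      exact C.add_mem hs ht
    · rw [← hn]
      exact ⟨Nat.mod_eq_zero_of_dvd (h4 _ hs), hno4 _ hs⟩
  have hF : Function.Bijective F := by
    constructor
    · intro s t h
      rw [← support_ind s, ← support_ind t]
      congr 1
      ext p
      simpa [F] using congrFun h (ptEquiv p)
    · intro w
      exact ⟨support₂ fun p => w (ptEquiv p), by ext i; simp [F]⟩
  have hc : {s | F s ∈ C}.ncard = 4096 := by
    have : {s | F s ∈ C} = F ⁻¹' (C : Set _) := rfl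
    rw [this, Set.ncard_preimage_of_injective_subset_range hF.1 (by rw [hF.2.range_eq]; simp)]
    change Nat.card C = _
    rw [Module.natCard_eq_pow_finrank (K := ZMod 2), hdim, Nat.card_zmod]
    rfl
  obtain ⟨σ, hσ⟩ := golay_unique_sets hG hc
  refine ⟨ptEquiv.symm.trans σ⁻¹, fun w => ?_⟩
  rw [← support_mem_GC, hσ]
  change F _ ∈ C ↔ _
  have : F (σ • support₂ w) = fun i => w ((ptEquiv.symm.trans σ⁻¹) i) := by
    ext i
    conv_rhs => rw [← ind_support w]
    simp only [F, ind, ← Finset.inv_smul_mem_iff]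
    rfl
  rw [this]

/-- the closure of a family under symmetric difference. -/
inductive Span (F : Set (Finset GolayPt)) : Finset GolayPt → Prop
  | empty : Span F ∅
  | step {b s : Finset GolayPt} : b ∈ F → Span F s → Span F (b ∆ s)

theorem Span.of_mem {F : Set (Finset GolayPt)} {b : Finset GolayPt} (hb : b ∈ F) : Span F b := by
  have := Span.step hb Span.empty
  rwa [show b ∆ ∅ = b from symmDiff_bot b] at this

theorem Span.add {F : Set (Finset GolayPt)} {s t : Finset GolayPt} (hs : Span F s)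
    (ht : Span F t) : Span F (s ∆ t) := by
  induction hs with
  | empty => rwa [show ∅ ∆ t = t from bot_symmDiff t]
  | step hb _ ih => rw [symmDiff_assoc]; exact Span.step hb ih

theorem Span.orth {F : Set (Finset GolayPt)} {w s : Finset GolayPt}
    (hw : ∀ b ∈ F, (w ∩ b).card % 2 = 0) (hs : Span F s) : (w ∩ s).card % 2 = 0 := by
  induction hs with
  | empty => simp
  | step hb _ ih =>
    rw [inter_symmDiff_parity]
    have := hw _ hb
    omega

theorem Span.good {F : Set (Finset GolayPt)} (h8 : ∀ b ∈ F, b.card = 8)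
    (hev : ∀ b ∈ F, ∀ c ∈ F, (b ∩ c).card % 2 = 0) (h4 : ∀ s, Span F s → s.card ≠ 4) :
    GoodCode {s | Span F s} := by
  refine ⟨Span.empty, fun s hs t ht => Span.add hs ht, fun s hs => ⟨?_, h4 s hs⟩⟩
  induction hs with
  | empty => simp
  | @step b s hb hs ih =>
    have h1 := card_symmDiff_add b s
    have h2 := Span.orth (hev b hb) hs
    have h3 := h8 b hb
    omega

theorem card_inter_smul (σ : Equiv.Perm GolayPt) (s t : Finset GolayPt) :
    (s ∩ σ⁻¹ • t).card = (t ∩ σ • s).card := by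
  rw [← card_smul_finset σ, Finset.smul_finset_inter, smul_inv_smul, inter_comm]

theorem orth_lin {w : Finset GolayPt} (K : List ℕ) (h : ∀ r ∈ K, (w ∩ ofMask r).card % 2 = 0)
    (m : ℕ) : (w ∩ ofMask (lin K m)).card % 2 = 0 :=
  lin_induction (fun n => (w ∩ ofMask n).card % 2 = 0) (by simp [ofMask_zero])
    (fun a b ha hb => by rw [ofMask_xor, inter_symmDiff_parity]; omega) K h m

theorem mem_GC_of_orth_K12 {w : Finset GolayPt} (h : ∀ r ∈ K12, (w ∩ ofMask r).card % 2 = 0) :
    w ∈ GC := by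
  apply mem_GC_of_even
  intro o ho
  obtain ⟨m, hm, rfl⟩ := exists_cw_of_mem ho.1
  rw [(cw_facts hm).1, inter_comm]
  apply orth_lin
  intro b hb
  obtain ⟨m, rfl⟩ := basL_span12 b hb
  exact orth_lin _ h m

/-- the pair of points 23 and 0. -/
def pair0 : ℕ := 8388609

theorem pair0_eq : ofMask pair0 = {pt 23, pt 0} := by decide

theorem GC_or_of_orth_K11 {w : Finset GolayPt} (h : ∀ r ∈ K11, (w ∩ ofMask r).card % 2 = 0) :
    w ∈ GC ∨ w ∆ ofMask pair0 ∈ GC := by
  by_cases h1 : (w ∩ ofMask 14688364).card % 2 = 0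
  · exact Or.inl (mem_GC_of_orth_K12 (List.forall_mem_cons.2 ⟨h1, h⟩))
  · right
    apply mem_GC_of_orth_K12
    have h2 : ∀ r ∈ K11, pc (r &&& pair0) = 2 := by decide +kernel
    have h3 : pc (14688364 &&& pair0) = 1 := by decide +kernel
    refine List.forall_mem_cons.2 ⟨?_, fun r hr => ?_⟩
    · rw [inter_comm, inter_symmDiff_parity, ← ofMask_and, card_ofMask, h3, inter_comm]
      omega
    · rw [inter_comm, inter_symmDiff_parity, ← ofMask_and, card_ofMask, h2 r hr, inter_comm]
      have := h r hr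
      omega

theorem octad_of_orth_K11 {w : Finset GolayPt} (h : ∀ r ∈ K11, (w ∩ ofMask r).card % 2 = 0)
    (h8 : w.card = 8) (hP : ofMask pair0 ⊆ w) : w ∈ octads := by
  rcases GC_or_of_orth_K11 h with h | h
  · exact ⟨h, h8⟩
  · have h1 := card_of_mem_GC h
    have h2 := card_symmDiff_add w (ofMask pair0)
    rw [inter_eq_right.2 hP, card_ofMask, show pc pair0 = 2 by decide +kernel] at h2
    omega

variable {α : Type*} [Fintype α] [DecidableEq α]

theorem card_map_union {P : Finset GolayPt} {ι : α ↪ GolayPt}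
    (hr : ∀ p, p ∈ Set.range ι ↔ p ∈ Pᶜ) (b : Finset α) :
    (b.map ι ∪ P).card = b.card + P.card := by
  rw [card_union_of_disjoint, card_map]
  exact Finset.disjoint_left.2 fun x hx => mem_compl.1 (map_subset_of_range hr b hx)

theorem card_inter_map_union {P : Finset GolayPt} {ι : α ↪ GolayPt}
    (hr : ∀ p, p ∈ Set.range ι ↔ p ∈ Pᶜ) (W : Finset GolayPt) :
    ∃ w : Finset α, W.card = w.card + (W ∩ P).card ∧
      ∀ b : Finset α, (W ∩ (b.map ι ∪ P)).card = (b ∩ w).card + (W ∩ P).card := by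
  obtain ⟨w, hw⟩ := exists_map_eq hr (W \ P) (fun x hx => mem_compl.2 (mem_sdiff.1 hx).2)
  refine ⟨w, by rw [← card_map ι, hw, card_sdiff_add_card_inter], fun b => ?_⟩
  have hd := map_subset_of_range hr b
  rw [← card_map ι, Finset.map_inter, hw, ← card_union_of_disjoint]
  · congr 1
    ext x
    have := @hd x
    simp only [mem_inter, mem_union, mem_sdiff, mem_compl] at this ⊢
    tauto
  · rw [Finset.disjoint_left]
    intro x hx hx'
    simp only [mem_inter, mem_sdiff] at hx hx'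
    tauto

/-- From an embedding under which all extended blocks become octads to a model. -/
theorem isModel_of_octads {t k : ℕ} {B : Set (Finset α)} (hB : IsSteinerSystem t k B)
    {P : Finset GolayPt} (ht : t + P.card = 5) {ι : α ↪ GolayPt}
    (hr : ∀ p, p ∈ Set.range ι ↔ p ∈ Pᶜ) (h : ∀ b ∈ B, b.map ι ∪ P ∈ octads) :
    IsModel B Pᶜ {s | s ∪ P ∈ octads} ι := by
  refine ⟨hr, fun b => ⟨h b, fun hb => ?_⟩⟩
  have h8 := hb.2
  rw [card_map_union hr] at h8
  obtain ⟨u, hu, hut⟩ := Finset.exists_subset_card_eq (s := b) (n := t) (by omega)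
  obtain ⟨c, ⟨hc, huc⟩, -⟩ := hB.2 u hut
  have : c.map ι ∪ P = b.map ι ∪ P := by
    apply octad_eq_of_five (h c hc) hb
    rw [← ht, ← hut, ← card_map_union hr]
    apply card_le_card
    apply subset_inter <;> apply union_subset_union_left <;> exact map_subset_map.2 ‹_›
  have h2 : c = b := by
    ext a
    have h3 := congrArg (fun s => ι a ∈ s) this
    have h4 : ι a ∉ P := mem_compl.1 ((hr _).1 ⟨a, rfl⟩)
    simpa [h4] using h3
  exact h2 ▸ hc

theorem exists_block_meet {B : Set (Finset α)} {s w : Finset α} (hs : s ⊆ w) {n : ℤ}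
    (h : ((blk B fun c => s ⊆ c ∧ Disjoint (w \ s) c).card : ℤ) = n) (hn : n ≠ 0) :
    ∃ d ∈ B, d ∩ w = s := by
  have : (blk B fun c => s ⊆ c ∧ Disjoint (w \ s) c).card ≠ 0 := by omega
  obtain ⟨d, hd⟩ := Finset.card_ne_zero.1 this
  rw [mem_blk] at hd
  refine ⟨d, hd.1, Subset.antisymm (fun y hy => ?_) (subset_inter hd.2.1 hs)⟩
  by_contra hne
  exact Finset.disjoint_left.1 hd.2.2 (mem_sdiff.2 ⟨(mem_inter.1 hy).2, hne⟩) (mem_inter.1 hy).1

theorem exists_block_meet_le {t k : ℕ} {B : Set (Finset α)} (hB : IsSteinerSystem t k B)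
    (htk : t ≤ k) (w : Finset α) (hw : w.card ≤ t) (i : ℕ) (hi : i ≤ w.card)
    (hn : avoidNum (Fintype.card α) t k i (w.card - i) ≠ 0) : ∃ d ∈ B, (d ∩ w).card = i := by
  obtain ⟨s, hs, rfl⟩ := Finset.exists_subset_card_eq hi
  have h := steiner_avoid_le hB htk s (w \ s) disjoint_sdiff
    (by rw [card_sdiff_of_subset hs]; omega)
  rw [card_sdiff_of_subset hs] at h
  obtain ⟨d, hd, e⟩ := exists_block_meet hs h hn
  exact ⟨d, hd, by rw [e]⟩

theorem exists_block_meet_sub {t k : ℕ} {B : Set (Finset α)} (hB : IsSteinerSystem t k B)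
    (htk : t ≤ k) {b : Finset α} (hb : b ∈ B) (w : Finset α) (hw : w ⊆ b) (i : ℕ)
    (hi : i ≤ w.card)
    (hn : avoidNum (Fintype.card α) t k i (w.card - i) ≠ 0) : ∃ d ∈ B, (d ∩ w).card = i := by
  obtain ⟨s, hs, rfl⟩ := Finset.exists_subset_card_eq hi
  have h := steiner_avoid hB htk hb s (w \ s) disjoint_sdiff (hs.trans hw) (sdiff_subset.trans hw)
  rw [card_sdiff_of_subset hs] at h
  obtain ⟨d, hd, e⟩ := exists_block_meet hs h hn
  exact ⟨d, hd, by rw [e]⟩

/-- the common part of the three uniqueness proofs. -/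
theorem ext_good {t k : ℕ} {B : Set (Finset α)} (hB : IsSteinerSystem t k B)
    {P : Finset GolayPt} (ht : t + P.card = 5) (hk : k + P.card = 8) {ι : α ↪ GolayPt}
    (hr : ∀ p, p ∈ Set.range ι ↔ p ∈ Pᶜ)
    (hev : ∀ b ∈ B, ∀ c ∈ B, ((b ∩ c).card + P.card) % 2 = 0)
    (h4 : ∀ (w : Finset α) (e : ℕ), e ≤ P.card → (P.card = 2 → e % 2 = 0) → w.card + e = 4 →
      ∃ b ∈ B, ((b ∩ w).card + e) % 2 = 1) :
    GoodCode {s | Span {x | ∃ b ∈ B, x = b.map ι ∪ P} s} ∧
    (∀ S : Finset GolayPt, P ⊆ S → S.card = 5 →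
      ∃ b ∈ {s | Span {x | ∃ b ∈ B, x = b.map ι ∪ P} s}, S ⊆ b ∧ b.card = 8) ∧
    ∀ b ∈ B, ∀ s, Span {x | ∃ b ∈ B, x = b.map ι ∪ P} s → ((b.map ι ∪ P) ∩ s).card % 2 = 0 := by
  have hev' : ∀ x ∈ {x | ∃ b ∈ B, x = b.map ι ∪ P}, ∀ y ∈ {x | ∃ b ∈ B, x = b.map ι ∪ P},
      (x ∩ y).card % 2 = 0 := by
    rintro _ ⟨b, hb, rfl⟩ _ ⟨c, hc, rfl⟩
    rw [← Finset.inter_union_distrib_right, ← Finset.map_inter, card_map_union hr]
    exact hev b hb c hc
  refine ⟨Span.good ?_ hev' fun W hW hW4 => ?_, fun S hPS hS => ?_,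
    fun b hb s hs => Span.orth (hev' _ ⟨b, hb, rfl⟩) hs⟩
  · rintro _ ⟨b, hb, rfl⟩
    rw [card_map_union hr, hB.1 b hb, hk]
  · obtain ⟨w, h1, h2⟩ := card_inter_map_union hr W
    obtain ⟨b, hb, h3⟩ := h4 w (W ∩ P).card (card_le_card inter_subset_right) (fun hP => by
      rw [inter_comm]
      apply Span.orth _ hW
      rintro _ ⟨b, -, rfl⟩
      rw [inter_eq_left.2 subset_union_right, hP]) (by omega)
    have := Span.orth (hev' _ ⟨b, hb, rfl⟩) hW
    rw [inter_comm, h2] at this
    omega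
  · obtain ⟨u, hu⟩ := exists_map_eq hr (S \ P) (fun x hx => mem_compl.2 (mem_sdiff.1 hx).2)
    obtain ⟨c, ⟨hc, huc⟩, -⟩ := hB.2 u (by
      rw [← card_map ι, hu, card_sdiff_of_subset hPS]; omega)
    refine ⟨_, Span.of_mem ⟨c, hc, rfl⟩, ?_, by rw [card_map_union hr, hB.1 c hc, hk]⟩
    rw [← sdiff_union_of_subset hPS, ← hu]
    exact union_subset_union_left (map_subset_map.2 huc)

theorem range_trans {P : Finset GolayPt} {ι : α ↪ GolayPt} (hr : ∀ p, p ∈ Set.range ι ↔ p ∈ P)
    (σ : Equiv.Perm GolayPt) (hσ : σ • P = P) :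
    ∀ p, p ∈ Set.range (ι.trans (σ⁻¹ : Equiv.Perm GolayPt).toEmbedding) ↔ p ∈ P := by
  intro p
  conv_rhs => rw [← Finset.smul_mem_smul_finset_iff σ, hσ, ← hr]
  constructor
  · rintro ⟨a, rfl⟩
    exact ⟨a, by simp⟩
  · rintro ⟨a, ha⟩
    exact ⟨a, by simp [ha]⟩

theorem map_trans_eq (ι : α ↪ GolayPt) (σ : Equiv.Perm GolayPt) (b : Finset α) :
    b.map (ι.trans σ.toEmbedding) = σ • b.map ι := by
  ext p
  simp [Finset.mem_smul_finset]

theorem model_of_23 {t k : ℕ} {B : Set (Finset α)} (hB : IsSteinerSystem t k B)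
    {P : Finset GolayPt} (hP : P = ∅ ∨ P = {pt 23}) (hα : Fintype.card α + P.card = 24)
    (ht : t + P.card = 5) (hk : k + P.card = 8)
    (hev : ∀ b ∈ B, ∀ c ∈ B, ((b ∩ c).card + P.card) % 2 = 0)
    (h4 : ∀ (w : Finset α) (e : ℕ), e ≤ P.card → (P.card = 2 → e % 2 = 0) → w.card + e = 4 →
      ∃ b ∈ B, ((b ∩ w).card + e) % 2 = 1) :
    ∃ ι, IsModel B Pᶜ {s | s ∪ P ∈ octads} ι := by
  obtain ⟨ι, hr⟩ := exists_embedding (α := α) Pᶜ (by rw [card_compl, card_golayPt]; omega)
  obtain ⟨h1, h2, h3⟩ := ext_good hB ht hk hr hev h4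
  obtain ⟨σ, hσ, h⟩ := golay_le h1 (fun S hS => h2 S (by
    rcases hP with rfl | rfl
    · exact empty_subset _
    · simpa using hS))
  have hσP : σ • P = P := by
    rcases hP with rfl | rfl
    · exact Finset.smul_finset_empty _
    · rw [Finset.smul_finset_singleton]; exact congrArg _ hσ
  refine ⟨_, isModel_of_octads hB ht (range_trans hr σ (by rw [smul_compl', hσP])) fun b hb => ?_⟩
  have e : b.map (ι.trans (σ⁻¹ : Equiv.Perm GolayPt).toEmbedding) ∪ P = σ⁻¹ • (b.map ι ∪ P) := by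
    rw [map_trans_eq, Finset.smul_finset_union, inv_smul_eq_iff.2 hσP.symm]
  rw [e]
  refine ⟨mem_GC_of_even _ fun o ho => ?_, ?_⟩
  · rw [card_inter_smul]
    exact h3 b hb _ (h o ho.1)
  · rw [card_smul_finset, card_map_union hr, hB.1 b hb, hk]

theorem model24 (hα : Fintype.card α = 24) {B : Set (Finset α)} (hB : IsSteinerSystem 5 8 B) :
    ∃ ι, IsModel B univ octads ι := by
  have := model_of_23 hB (Or.inl rfl) (by simpa) rfl rfl
    (fun b hb c hc => by simpa using s5824_even hα hB hb hc) (fun w e he _ h => by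
      have : e = 0 := by simpa using he
      subst this
      exact s5824_odd_small hα hB w (by omega) (by omega))
  simpa using this

theorem model23 (hα : Fintype.card α = 23) {B : Set (Finset α)} (hB : IsSteinerSystem 4 7 B) :
    ∃ ι, IsModel B {pt 23}ᶜ {s | s ∪ {pt 23} ∈ octads} ι := by
  refine model_of_23 hB (Or.inr rfl) (by simpa) rfl rfl (fun b hb c hc => ?_) (fun w e he _ h => ?_)
  · by_cases h : b = c
    · subst h; rw [inter_self, hB.1 b hb]; rfl
    · have := s4723_inter hα hB hb hc h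
      rw [card_singleton]; omega
  · rw [card_singleton] at he
    obtain ⟨d, hd, h⟩ := exists_block_meet_le hB (by norm_num) w (by omega) (1 - e) (by omega) (by
      rw [hα, show w.card = 4 - e by omega]
      interval_cases e <;> decide +kernel)
    exact ⟨d, hd, by omega⟩

theorem model22 (hα : Fintype.card α = 22) {B : Set (Finset α)} (hB : IsSteinerSystem 3 6 B) :
    ∃ ι, IsModel B (ofMask pair0)ᶜ {s | s ∪ ofMask pair0 ∈ octads} ι := by
  have hP : (ofMask pair0).card = 2 := by decide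
  obtain ⟨ι, hr⟩ := exists_embedding (α := α) (ofMask pair0)ᶜ
    (by rw [card_compl, card_golayPt]; omega)
  have hev : ∀ b ∈ B, ∀ c ∈ B, (b ∩ c).card % 2 = 0 := fun b hb c hc => by
    by_cases h : b = c
    · subst h; rw [inter_self, hB.1 b hb]
    · have := s3622_inter hα hB hb hc h
      omega
  obtain ⟨h1, h2, h3⟩ := ext_good hB (by omega) (by omega) hr
    (fun b hb c hc => by have := hev b hb c hc; omega) (fun w e he he2 h => by
      have he2 := he2 hP
      by_cases h0 : e = 2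
      · obtain ⟨d, hd, h⟩ := exists_block_meet_le hB (by norm_num) w (by omega) 1 (by omega) (by
          rw [hα, show w.card = 2 by omega]; decide +kernel)
        exact ⟨d, hd, by omega⟩
      · have hw : w.card = 4 := by omega
        obtain ⟨u, hu, hu3⟩ := Finset.exists_subset_card_eq (s := w) (n := 3) (by omega)
        obtain ⟨d, ⟨hd, hud⟩, -⟩ := hB.2 u hu3
        have h5 := card_le_card (subset_inter hud hu)
        by_cases h6 : (d ∩ w).card = 3
        · exact ⟨d, hd, by omega⟩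
        have h7 : w ⊆ d := by
          rw [← inter_eq_right]
          apply eq_of_subset_of_card_le inter_subset_right
          omega
        obtain ⟨d, hd, h⟩ := exists_block_meet_sub hB (by norm_num) hd w h7 1 (by omega) (by
          rw [hα, hw]; decide +kernel)
        exact ⟨d, hd, by omega⟩)
  obtain ⟨σ, hσ, h⟩ := state11 h1 (fun S hS => h2 S (by
    rw [pair0_eq]
    simpa [insert_subset_iff] using hS))
  have hσP : σ • ofMask pair0 = ofMask pair0 := by
    rw [pair0_eq, Finset.smul_finset_insert, Finset.smul_finset_singleton]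
    exact congrArg₂ _ (hσ 23 (by simp)) (congrArg _ (hσ 0 (by simp)))
  refine ⟨_, isModel_of_octads hB (by omega) (range_trans hr σ (by rw [smul_compl', hσP]))
    fun b hb => ?_⟩
  have e : b.map (ι.trans (σ⁻¹ : Equiv.Perm GolayPt).toEmbedding) ∪ ofMask pair0 =
      σ⁻¹ • (b.map ι ∪ ofMask pair0) := by
    rw [map_trans_eq, Finset.smul_finset_union, inv_smul_eq_iff.2 hσP.symm]
  apply octad_of_orth_K11 _ _ subset_union_right
  · intro r hr
    rw [e, inter_comm, card_inter_smul]
    exact h3 b hb _ (h r hr)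
  · rw [e, card_smul_finset, card_map_union hr, hB.1 b hb, hP]

end H9
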