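import Mathlib
import Cfsg.Prelude.Def_Sporadic
import Cfsg.Agent.H9.UniqDesign

/-! Automorphism groups of S(5,8,24), S(4,7,23), S(3,6,22). -/

set_option autoImplicit false
set_option linter.unusedSectionVars false

namespace H9

open Cfsg Finset MulAction
open scoped symmDiff Pointwise

theorem goodCode_GC : GoodCode GC :=
  ⟨empty_mem_GC, fun _ hs _ ht => symmDiff_mem_GC hs ht, fun s hs => by
    have := card_of_mem_GC hs; omega⟩

theorem mem_M24_of_K12 {g : Equiv.Perm GolayPt} (h : ∀ r ∈ K12, g • ofMask r ∈ GC) : g ∈ M24 :=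
  mem_M24_iff.2 ((goodCode_GC.comap g).of_K12 h)

theorem K12_facts : ∀ r ∈ K12, ofMask r ∈ octads ∧ pt 23 ∈ ofMask r := by
  have : ∀ r ∈ K12, isOct r = true ∧ r.testBit 23 = true := by decide +kernel
  exact fun r hr => ⟨mem_octads_of_isOct (this r hr).1, (pt_mem_ofMask (by decide)).2 (this r hr).2⟩

theorem K11_facts : ∀ r ∈ K11, ofMask r ∈ octads ∧ ofMask pair0 ⊆ ofMask r := by
  have : ∀ r ∈ K11, isOct r = true ∧ pair0 &&& r = pair0 := by decide +kernel
  exact fun r hr => ⟨mem_octads_of_isOct (this r hr).1,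
    (ofMask_subset_iff (by decide)).2 (this r hr).2⟩

theorem smul_of_ext {τ : Equiv.Perm GolayPt} {P : Finset GolayPt} (h1 : ∀ x, x ∉ Pᶜ → τ x = x)
    (h2 : ∀ s ⊆ Pᶜ, s ∈ {s | s ∪ P ∈ octads} → τ • s ∈ {s | s ∪ P ∈ octads})
    {o : Finset GolayPt} (ho : o ∈ octads) (hP : P ⊆ o) : τ • o ∈ octads ∧ τ • P = P := by
  have hτ : τ • P = P := by
    apply eq_of_subset_of_card_le
    · intro x hx
      obtain ⟨y, hy, rfl⟩ := Finset.mem_smul_finset.1 hx
      rw [Equiv.Perm.smul_def, h1 y (by simpa using hy)]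
      exact hy
    · rw [card_smul_finset]
  have := h2 (o \ P) (fun x hx => mem_compl.2 (mem_sdiff.1 hx).2)
    (by rw [Set.mem_ofPred_eq, sdiff_union_of_subset hP]; exact ho)
  rw [Set.mem_ofPred_eq] at this
  refine ⟨?_, hτ⟩
  rw [← sdiff_union_of_subset hP, Finset.smul_finset_union, hτ]
  exact this

theorem ext_smul {g : Equiv.Perm GolayPt} (hg : g ∈ M24) {P : Finset GolayPt} (hP : g • P = P)
    (s : Finset GolayPt) (hs : s ∈ {s | s ∪ P ∈ octads}) : g • s ∈ {s | s ∪ P ∈ octads} := by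
  rw [Set.mem_ofPred_eq, ← hP, ← Finset.smul_finset_union]
  exact (smul_mem_octads_iff hg).2 hs

variable {α : Type*} [Fintype α] [DecidableEq α]

theorem aut24 {B : Set (Finset α)} {ι : α ↪ GolayPt} (h : IsModel B univ octads ι) :
    ∃ φ : M24 ≃* setSystemAut B,
      ∀ g a, ι ((φ g : Equiv.Perm α) a) = (g : Equiv.Perm GolayPt) (ι a) :=
  h.aut M24 (fun _ _ => Finset.smul_finset_univ) (fun _ hg _ _ hs => (smul_mem_octads_iff hg).2 hs)
    (fun _ _ h => Equiv.ext fun x => h x (mem_univ x))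
    (fun τ _ h => ⟨τ, mem_M24_of_octads fun o ho => h o (subset_univ _) ho, fun _ _ => rfl⟩)

theorem compl23 : ({pt 23}ᶜ : Finset GolayPt) = ofMask 8388607 := by decide

theorem compl_pair0 : (ofMask pair0)ᶜ = ofMask 8388606 := by decide

theorem aut23 {B : Set (Finset α)} {ι : α ↪ GolayPt}
    (h : IsModel B {pt 23}ᶜ {s | s ∪ {pt 23} ∈ octads} ι) :
    ∃ φ : Stab [23] [] ≃* setSystemAut B,
      ∀ g a, ι ((φ g : Equiv.Perm α) a) = (g : Equiv.Perm GolayPt) (ι a) := by
  have h0 : ∀ g ∈ Stab [23] [], g • ({pt 23} : Finset GolayPt) = {pt 23} := fun g hg => by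
    rw [Finset.smul_finset_singleton]; exact congrArg _ (hg.2.1 23 (by simp))
  refine h.aut _ (fun g hg => by rw [smul_compl', h0 g hg])
    (fun g hg s _ hs => ext_smul hg.1 (h0 g hg) s hs) ?_ ?_
  · rw [compl23]
    exact faithful_of _ stab7_bot (by decide)
  · intro τ h1 h2
    refine ⟨τ, ⟨mem_M24_of_K12 fun r hr => ?_, by simpa using h1 (pt 23) (by simp), by simp⟩,
      fun _ _ => rfl⟩
    exact (smul_of_ext h1 h2 (K12_facts r hr).1 (by simpa using (K12_facts r hr).2)).1.1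

theorem swap_smul_of_both {a b : GolayPt} {s : Finset GolayPt} (ha : a ∈ s) (hb : b ∈ s) :
    Equiv.swap a b • s = s := by
  ext x
  rw [← Finset.inv_smul_mem_iff, Equiv.swap_inv, Equiv.Perm.smul_def, Equiv.swap_apply_def]
  split_ifs with h1 h2 <;> simp_all

theorem swap_smul_of_one {a b : GolayPt} {s : Finset GolayPt} (ha : a ∈ s) (hb : b ∉ s) :
    Equiv.swap a b • s = s ∆ {a, b} := by
  ext x
  rw [← Finset.inv_smul_mem_iff, Equiv.swap_inv, Equiv.Perm.smul_def, Equiv.swap_apply_def,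
    Finset.mem_symmDiff]
  split_ifs with h1 h2 <;> simp_all

theorem faithful22 : ∀ g ∈ M24, (∀ x ∈ (ofMask pair0)ᶜ, g x = x) → g = 1 := by
  intro g hg h
  ext1 x
  refine fixRun_sound hg [(23, 12656663, 14688364), (0, 8536111, 8536111)] 8388606
    (compl_pair0 ▸ h) x ?_
  rw [show fixRun [(23, 12656663, 14688364), (0, 8536111, 8536111)] 8388606 = 16777215 by
    decide +kernel, ofMask_full]
  exact mem_univ x

theorem aut22 {B : Set (Finset α)} {ι : α ↪ GolayPt}
    (h : IsModel B (ofMask pair0)ᶜ {s | s ∪ ofMask pair0 ∈ octads} ι) :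
    ∃ φ : Stab [] [pair0] ≃* setSystemAut B,
      ∀ g a, ι ((φ g : Equiv.Perm α) a) = (g : Equiv.Perm GolayPt) (ι a) := by
  have h0 : ∀ g ∈ Stab [] [pair0], g • ofMask pair0 = ofMask pair0 := fun g hg =>
    hg.2.2 _ (by simp)
  refine h.aut _ (fun g hg => by rw [smul_compl', h0 g hg])
    (fun g hg s _ hs => ext_smul hg.1 (h0 g hg) s hs) (fun g hg => faithful22 g hg.1) ?_
  intro τ h1 h2
  have hτ : τ • ofMask pair0 = ofMask pair0 :=
    (smul_of_ext h1 h2 oct0_mem (by decide)).2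
  have horth : ∀ s ∈ GC, ∀ r ∈ K11, ((τ⁻¹ • s) ∩ ofMask r).card % 2 = 0 := by
    intro s hs r hr
    rw [inter_comm, card_inter_smul]
    exact even_inter_of_mem_GC hs (smul_of_ext h1 h2 (K11_facts r hr).1 (K11_facts r hr).2).1.1
  have hsub : ∀ r ∈ K11, ofMask pair0 ⊆ τ⁻¹ • ofMask r := by
    intro r hr
    rw [Finset.subset_smul_finset_iff, inv_inv, hτ]
    exact (K11_facts r hr).2
  have h11 : ∀ r ∈ K11, τ⁻¹ • ofMask r ∈ GC := fun r hr =>
    (octad_of_orth_K11 (horth _ (K11_facts r hr).1.1)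
      (by rw [card_smul_finset, (K11_facts r hr).1.2]) (hsub r hr)).1
  rcases GC_or_of_orth_K11 (horth _ (K12_facts 14688364 (by decide)).1.1) with h3 | h3
  · have : τ⁻¹ ∈ M24 := mem_M24_of_K12 (List.forall_mem_cons.2 ⟨h3, h11⟩)
    exact ⟨τ, ⟨by simpa using M24.inv_mem this, by simp, by simpa using hτ⟩, fun _ _ => rfl⟩
  · have : Equiv.swap (pt 23) (pt 0) * τ⁻¹ ∈ M24 := by
      refine mem_M24_of_K12 (List.forall_mem_cons.2 ⟨?_, fun r hr => ?_⟩)
      · rw [mul_smul, swap_smul_of_one, ← pair0_eq]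
        · exact h3
        · rw [Finset.mem_inv_smul_finset_iff, Equiv.Perm.smul_def, h1 _ (by decide)]; decide
        · rw [Finset.mem_inv_smul_finset_iff, Equiv.Perm.smul_def, h1 _ (by decide)]; decide
      · rw [mul_smul, swap_smul_of_both (hsub r hr (by decide)) (hsub r hr (by decide))]
        exact h11 r hr
    refine ⟨τ * Equiv.swap (pt 23) (pt 0), ⟨by simpa using M24.inv_mem this, by simp, ?_⟩, ?_⟩
    · simp only [List.mem_singleton, forall_eq]
      rw [mul_smul, swap_smul_of_both (by decide) (by decide), hτ]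
    · intro x hx
      rw [Equiv.Perm.mul_apply, Equiv.swap_apply_of_ne_of_ne]
      · rintro rfl; exact absurd hx (by decide)
      · rintro rfl; exact absurd hx (by decide)

theorem card_pair0 : Nat.card (Stab [] [pair0]) = 887040 := by
  have h := card_eq_orbit_mul M24 (ofMask pair0)
  have hP : (ofMask pair0).card = 2 := by decide
  have e : {y | ∃ g ∈ M24, g • ofMask pair0 = y} = (powersetCard 2 (univ : Finset GolayPt) : Set _) := by
    ext y
    simp only [Set.mem_ofPred_eq, mem_coe, mem_powersetCard, subset_univ, true_and]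
    exact ⟨fun ⟨g, _, h⟩ => by rw [← h, card_smul_finset, hP],
      fun hy => M24_trans_finset (by omega) (by omega)⟩
  rw [e, Set.ncard_coe_finset, card_powersetCard, card_univ, card_golayPt, card_M24,
    show Nat.choose 24 2 = 276 by decide] at h
  rw [← Stab_cons_set, Stab_nil]
  omega

theorem s2_le_pair0 : Stab [0, 23] [] ≤ Stab [] [pair0] := by
  intro g hg
  refine ⟨hg.1, by simp, ?_⟩
  simp only [List.mem_singleton, forall_eq]
  rw [pair0_eq, Finset.smul_finset_insert, Finset.smul_finset_singleton]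
  exact congrArg₂ _ (hg.2.1 23 (by simp)) (congrArg _ (hg.2.1 0 (by simp)))

theorem steiner24_aut (hα : Fintype.card α = 24) {B : Set (Finset α)}
    (hB : IsSteinerSystem 5 8 B) :
    IsM24 (setSystemAut B) ∧ IsMultiplyPretransitive (setSystemAut B) α 5 := by
  obtain ⟨ι, h⟩ := model24 hα hB
  obtain ⟨φ, hφ⟩ := aut24 h
  refine ⟨⟨simple_of_equiv ⟨φ.symm⟩ simple_M24, card_of_equiv ⟨φ.symm⟩ card_M24⟩, ?_⟩
  exact multiply_of_model h.range φ hφ (by simpa [Stab_nil, ofMask_full] using tr0) rfl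

theorem steiner23_aut (hα : Fintype.card α = 23) {B : Set (Finset α)}
    (hB : IsSteinerSystem 4 7 B) :
    IsM23 (setSystemAut B) ∧ IsMultiplyPretransitive (setSystemAut B) α 4 := by
  obtain ⟨ι, h⟩ := model23 hα hB
  obtain ⟨φ, hφ⟩ := aut23 h
  refine ⟨⟨simple_of_equiv ⟨φ.symm⟩ simple_s1, card_of_equiv ⟨φ.symm⟩ card_s1⟩, ?_⟩
  exact multiply_of_model h.range φ hφ (compl23 ▸ tr1) rfl

theorem steiner22_aut (hα : Fintype.card α = 22) {B : Set (Finset α)}
    (hB : IsSteinerSystem 3 6 B) :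
    Nat.card (setSystemAut B) = 887040 ∧ IsMultiplyPretransitive (setSystemAut B) α 3 ∧
      ∃ H : Subgroup (setSystemAut B), H.index = 2 ∧ IsM22 H := by
  obtain ⟨ι, h⟩ := model22 hα hB
  obtain ⟨φ, hφ⟩ := aut22 h
  have hc := card_of_equiv ⟨φ.symm⟩ card_pair0
  refine ⟨hc, multiply_of_model h.range φ hφ (compl_pair0 ▸ tr2.mono s2_le_pair0) rfl, ?_⟩
  let H := ((Stab [0, 23] []).subgroupOf (Stab [] [pair0])).map φ.toMonoidHom
  have e : H ≃* Stab [0, 23] [] :=
    (φ.subgroupMap _).symm.trans (Subgroup.subgroupOfEquivOfLe s2_le_pair0)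
  have h1 : Nat.card H = 443520 := card_of_equiv ⟨e⟩ card_s2
  refine ⟨H, ?_, simple_of_equiv ⟨e⟩ simple_s2, h1⟩
  have := H.index_mul_card
  rw [h1, hc] at this
  omega

end H9
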