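import Mathlib
import Cfsg.Agent.H9.AutDesign

/-! The block graph and the point-block graph of an `S(3,6,22)`; uniqueness of the strongly
regular graph with parameters `(100,22,0,6)`. -/

set_option autoImplicit false
set_option linter.unusedSectionVars false

namespace H9

open Cfsg Finset MulAction Sum
open scoped Pointwise

/-- instance-free form of `SimpleGraph.IsSRGWith`. -/
structure SRG {V : Type*} (G : SimpleGraph V) (n k l m : ℕ) : Prop where
  card : Nat.card V = n
  deg : ∀ v, {w | G.Adj v w}.ncard = k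
  adj : ∀ v w, G.Adj v w → {u | G.Adj v u ∧ G.Adj w u}.ncard = l
  nadj : ∀ v w, v ≠ w → ¬ G.Adj v w → {u | G.Adj v u ∧ G.Adj w u}.ncard = m

theorem srg_iff {V : Type*} [Fintype V] {G : SimpleGraph V} [DecidableRel G.Adj] {n k l m : ℕ} :
    G.IsSRGWith n k l m ↔ SRG G n k l m := by
  have h1 : ∀ v, G.degree v = {w | G.Adj v w}.ncard := fun v => by
    rw [← G.card_neighborSet_eq_degree, Set.fintypeCard_eq_ncard]; rfl
  have h2 : ∀ v w, Fintype.card (G.commonNeighbors v w) = {u | G.Adj v u ∧ G.Adj w u}.ncard :=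
    fun v w => by rw [Set.fintypeCard_eq_ncard]; rfl
  constructor
  · intro h
    exact ⟨by rw [Nat.card_eq_fintype_card, h.card], fun v => h1 v ▸ h.regular v,
      fun v w a => h2 v w ▸ h.of_adj v w a, fun v w a b => h2 v w ▸ h.of_not_adj a b⟩
  · intro h
    exact ⟨by rw [← Nat.card_eq_fintype_card, h.card], fun v => (h1 v).trans (h.deg v),
      fun v w a => (h2 v w).trans (h.adj v w a), fun v w a b => (h2 v w).trans (h.nadj v w a b)⟩

section Counts

variable {α : Type*} [Fintype α] [DecidableEq α] {B : Set (Finset α)}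

theorem s22_card (hα : Fintype.card α = 22) (hB : IsSteinerSystem 3 6 B) : B.ncard = 77 := by
  have := steiner_block_count hB
  rw [hα, show Nat.choose 22 3 = 1540 by decide, show Nat.choose 6 3 = 20 by decide] at this
  omega

theorem s22_pt (hα : Fintype.card α = 22) (hB : IsSteinerSystem 3 6 B) (a : α) :
    (blk B fun b => a ∈ b).card = 21 := by
  have := steiner_lam_le hB (by norm_num) {a} (by simp)
  rw [hα, card_singleton, show lam 22 3 6 1 = 21 by decide] at this
  simpa using this

theorem s22_pair (hα : Fintype.card α = 22) (hB : IsSteinerSystem 3 6 B) {a a' : α} (h : a ≠ a') :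
    (blk B fun b => a ∈ b ∧ a' ∈ b).card = 5 := by
  have := steiner_lam_le hB (by norm_num) {a, a'} (by rw [card_pair h]; omega)
  rw [hα, card_pair h, show lam 22 3 6 2 = 5 by decide] at this
  simpa [insert_subset_iff] using this

theorem s22_disj (hα : Fintype.card α = 22) (hB : IsSteinerSystem 3 6 B) {b : Finset α}
    (hb : b ∈ B) : (blk B fun c => Disjoint b c).card = 16 := by
  have h := steiner_meet hB (by norm_num) hb ∅ (empty_subset _)
  rw [hα, show avoidNum 22 3 6 (∅ : Finset α).card (6 - (∅ : Finset α).card) = 16 from by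
    rw [card_empty]; decide +kernel, ncard_eq_blk] at h
  simp only [← disjoint_iff_inter_eq_empty] at h
  exact_mod_cast h

theorem s22_pt_disj (hα : Fintype.card α = 22) (hB : IsSteinerSystem 3 6 B) {b : Finset α}
    (hb : b ∈ B) {a : α} (ha : a ∉ b) : (blk B fun c => a ∈ c ∧ Disjoint b c).card = 6 := by
  have h := blk_avoid B {a} b
  have h1 : ∀ u ∈ b.powerset, (-1 : ℤ) ^ u.card * (blk B fun c => {a} ∪ u ⊆ c).card =
      (fun n : ℕ => (-1 : ℤ) ^ n * (if n ≤ 2 then lam 22 3 6 (n + 1) else 0 : ℕ)) u.card := by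
    intro u hu
    have hu' := mem_powerset.1 hu
    have hau : a ∉ u := fun h => ha (hu' h)
    dsimp only
    congr 2
    split_ifs with h2
    · rw [steiner_lam_le hB (by norm_num) _ (by rw [← insert_eq, card_insert_of_notMem hau]; omega),
        ← insert_eq, card_insert_of_notMem hau, hα]
    · rw [card_eq_zero, eq_empty_iff_forall_notMem]
      intro c hc
      rw [mem_blk, union_subset_iff] at hc
      have := card_le_card (subset_inter hu' hc.2.2)
      rw [← steiner_eq_of_le hB hb hc.1 (by omega)] at hc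
      exact ha (by simpa using hc.2.1)
  rw [sum_congr rfl h1, Finset.sum_powerset_apply_card
    (fun n : ℕ => (-1 : ℤ) ^ n * (if n ≤ 2 then lam 22 3 6 (n + 1) else 0 : ℕ)), hB.1 b hb] at h
  simp only [singleton_subset_iff] at h
  have : ((blk B fun c => a ∈ c ∧ Disjoint b c).card : ℤ) = 6 := h.trans (by decide +kernel)
  exact_mod_cast this

theorem s22_two (hα : Fintype.card α = 22) (hB : IsSteinerSystem 3 6 B) {b c : Finset α}
    (hb : b ∈ B) (hc : c ∈ B) (hbc : b ≠ c) :
    (blk B fun d => Disjoint b d ∧ Disjoint c d).card = if Disjoint b c then 0 else 4 := by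
  classical
  set D := blk B fun d => Disjoint b d with hD
  have h1 : ∑ d ∈ D, (c ∩ d).card = (c \ b).card * 6 := by
    rw [← Finset.sum_card_inter (B := D) (s := c \ b) (n := 6)]
    · refine sum_congr rfl fun d hd => ?_
      congr 1
      ext x
      have := (mem_blk.1 hd).2
      simp only [mem_inter, mem_sdiff]
      exact ⟨fun h => ⟨⟨h.1, fun h' => disjoint_left.1 this h' h.2⟩, h.2⟩, fun h => ⟨h.1.1, h.2⟩⟩
    · intro a ha
      rw [← s22_pt_disj hα hB hb (mem_sdiff.1 ha).2]
      congr 1
      ext d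
      simp only [mem_filter, hD, mem_blk]
      tauto
  have h2 : ∀ d ∈ D, ((c ∩ d).card : ℤ) =
      2 - (if Disjoint c d then 2 else 0) + if c = d then 4 else 0 := by
    intro d hd
    by_cases h : c = d
    · subst h
      have := hB.1 c hc
      rw [inter_self, this, if_neg, if_pos rfl]
      · rfl
      · rw [disjoint_self]
        rintro rfl
        simp at this
    · rcases s3622_inter hα hB hc (mem_blk.1 hd).1 h with h3 | h3
      · rw [h3, if_pos (disjoint_iff_inter_eq_empty.2 (card_eq_zero.1 h3)), if_neg h]; rfl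
      · rw [h3, if_neg, if_neg h]
        · rfl
        · intro h4
          rw [disjoint_iff_inter_eq_empty.1 h4] at h3
          simp at h3
  have h3 : ((∑ d ∈ D, (c ∩ d).card : ℕ) : ℤ) = _ := (Nat.cast_sum _ _).trans (sum_congr rfl h2)
  have h4 : D.filter (fun d => Disjoint c d) = blk B fun d => Disjoint b d ∧ Disjoint c d := by
    ext d
    simp only [mem_filter, hD, mem_blk]
    tauto
  rw [h1, sum_add_distrib, sum_sub_distrib, sum_ite_eq, ← sum_filter, h4, sum_const, sum_const,
    s22_disj hα hB hb] at h3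
  have h5 := card_sdiff_add_card_inter c b
  have h6 := hB.1 c hc
  have h7 : c ∈ D ↔ Disjoint b c := by simp [hD, mem_blk, hc]
  simp only [h7] at h3
  split_ifs at h3 ⊢ with h
  · rw [inter_comm, disjoint_iff_inter_eq_empty.1 h, card_empty] at h5
    simp at h3
    omega
  · rcases s3622_inter hα hB hc hb hbc.symm with h8 | h8
    · rw [card_eq_zero, inter_comm, ← disjoint_iff_inter_eq_empty] at h8
      exact absurd h8 h
    · simp at h3
      omega

theorem ncard_subtype_blk (B : Set (Finset α)) (P : B → Prop) (Q : Finset α → Prop)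
    (h : ∀ b, P b ↔ Q b) : {b | P b}.ncard = (blk B Q).card := by
  rw [← ncard_eq_blk, ← Set.ncard_image_of_injective _ Subtype.val_injective]
  congr 1
  ext b
  constructor
  · rintro ⟨c, hc, rfl⟩
    exact ⟨c.2, (h c).1 hc⟩
  · rintro ⟨h1, h2⟩
    exact ⟨⟨b, h1⟩, (h _).2 h2, rfl⟩

theorem ne_of_disjoint (h0 : ∅ ∉ B) {b c : B} (h : Disjoint (b : Finset α) c) : b ≠ c := by
  rintro rfl
  rw [disjoint_self] at h
  exact h0 ((show (b : Finset α) = ∅ from h) ▸ b.2)

theorem empty_notMem_of_steiner {t k : ℕ} (hB : IsSteinerSystem t (k + 1) B) : ∅ ∉ B :=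
  fun h => by simpa using hB.1 _ h

theorem blockGraph_adj (h0 : ∅ ∉ B) (b c : B) :
    (blockGraph B).Adj b c ↔ Disjoint (b : Finset α) c := by
  rw [blockGraph, SimpleGraph.fromRel_adj]
  exact ⟨fun h => h.2.elim id fun h => Disjoint.symm h, fun h => ⟨ne_of_disjoint h0 h, Or.inl h⟩⟩

theorem blockGraph_srg (hα : Fintype.card α = 22) (hB : IsSteinerSystem 3 6 B) :
    SRG (blockGraph B) 77 16 0 4 := by
  have h0 := empty_notMem_of_steiner hB
  refine ⟨s22_card hα hB, fun b => ?_, fun b c h => ?_, fun b c h h' => ?_⟩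
  · rw [← s22_disj hα hB b.2]
    exact ncard_subtype_blk B _ _ fun c => blockGraph_adj h0 b c
  · rw [ncard_subtype_blk B _ (fun d => Disjoint (b : Finset α) d ∧ Disjoint (c : Finset α) d)
      fun d => and_congr (blockGraph_adj h0 b d) (blockGraph_adj h0 c d),
      s22_two hα hB b.2 c.2 (Subtype.coe_ne_coe.2 h.ne), if_pos ((blockGraph_adj h0 b c).1 h)]
  · rw [ncard_subtype_blk B _ (fun d => Disjoint (b : Finset α) d ∧ Disjoint (c : Finset α) d)
      fun d => and_congr (blockGraph_adj h0 b d) (blockGraph_adj h0 c d),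
      s22_two hα hB b.2 c.2 (Subtype.coe_ne_coe.2 h), if_neg (mt (blockGraph_adj h0 b c).2 h')]

end Counts

section Adj

variable {α : Type*} {B : Set (Finset α)}

@[simp] theorem pb_nn : ¬ (pointBlockGraph B).Adj none none := SimpleGraph.irrefl _
@[simp] theorem pb_np (a : α) : (pointBlockGraph B).Adj none (some (inl a)) := by
  simp [pointBlockGraph, pointBlockRel]
@[simp] theorem pb_pn (a : α) : (pointBlockGraph B).Adj (some (inl a)) none := (pb_np a).symm
@[simp] theorem pb_nb (b : B) : ¬ (pointBlockGraph B).Adj none (some (inr b)) := by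
  simp [pointBlockGraph, pointBlockRel]
@[simp] theorem pb_bn (b : B) : ¬ (pointBlockGraph B).Adj (some (inr b)) none :=
  fun h => pb_nb b h.symm
@[simp] theorem pb_pp (a a' : α) : ¬ (pointBlockGraph B).Adj (some (inl a)) (some (inl a')) := by
  simp [pointBlockGraph, pointBlockRel]
@[simp] theorem pb_pb (a : α) (b : B) :
    (pointBlockGraph B).Adj (some (inl a)) (some (inr b)) ↔ a ∈ (b : Finset α) := by
  simp [pointBlockGraph, pointBlockRel]
@[simp] theorem pb_bp (a : α) (b : B) :
    (pointBlockGraph B).Adj (some (inr b)) (some (inl a)) ↔ a ∈ (b : Finset α) := by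
  rw [SimpleGraph.adj_comm, pb_pb]

end Adj

section Counts

variable {α : Type*} [Fintype α] [DecidableEq α] {B : Set (Finset α)}

theorem pb_bb (h0 : ∅ ∉ B) (b c : B) :
    (pointBlockGraph B).Adj (some (inr b)) (some (inr c)) ↔ Disjoint (b : Finset α) c := by
  rw [pointBlockGraph, SimpleGraph.fromRel_adj]
  exact ⟨fun h => h.2.elim id fun h => Disjoint.symm h, fun h => ⟨by simpa using ne_of_disjoint h0 h, Or.inl h⟩⟩

theorem ncard_pb (P : Option (α ⊕ B) → Prop) [Decidable (P none)] (s : Finset α)
    (Q : Finset α → Prop) (h1 : ∀ a, P (some (inl a)) ↔ a ∈ s)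
    (h2 : ∀ b, P (some (inr b)) ↔ Q b) :
    {v | P v}.ncard = (if P none then 1 else 0) + s.card + (blk B Q).card := by
  classical
  have : Fintype B := Fintype.ofFinite _
  have e : ∀ {V : Type _} [Fintype V] (R : V → Prop), {v | R v}.ncard =
      ∑ v, if R v then 1 else 0 := fun R => by
    rw [Finset.sum_boole, Nat.cast_id, ← Set.ncard_coe_finset]
    congr 1
    ext v; simp
  rw [e, Fintype.sum_option, Fintype.sum_sum_type, ← e, ← e, ncard_subtype_blk B _ Q h2,
    ← Set.ncard_coe_finset s, add_assoc]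
  congr 3
  ext a
  exact h1 a

theorem blk_false (B : Set (Finset α)) : (blk B fun _ => False).card = 0 := by
  simp [blk]

theorem pb_srg (hα : Fintype.card α = 22) (hB : IsSteinerSystem 3 6 B) :
    SRG (pointBlockGraph B) 100 22 0 6 := by
  classical
  have h0 := empty_notMem_of_steiner hB
  have hnb : ∀ b : B, {u | (pointBlockGraph B).Adj none u ∧
      (pointBlockGraph B).Adj (some (inr b)) u}.ncard = 6 := fun b => by
    rw [ncard_pb _ b (fun _ => False) (by simp) (by simp), blk_false, hB.1 _ b.2]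
    simp
  have hpb : ∀ (a : α) (b : B), {u | (pointBlockGraph B).Adj (some (inl a)) u ∧
      (pointBlockGraph B).Adj (some (inr b)) u}.ncard =
        (blk B fun c => a ∈ c ∧ Disjoint (b : Finset α) c).card := fun a b => by
    rw [ncard_pb _ ∅ (fun c => a ∈ c ∧ Disjoint (b : Finset α) c) (by simp) (by simp [pb_bb h0])]
    simp
  have hbb : ∀ b c : B, b ≠ c → {u | (pointBlockGraph B).Adj (some (inr b)) u ∧
      (pointBlockGraph B).Adj (some (inr c)) u}.ncard = ((b : Finset α) ∩ c).card +
        if Disjoint (b : Finset α) c then 0 else 4 := fun b c hbc => by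
    rw [ncard_pb _ (b ∩ c) (fun d => Disjoint (b : Finset α) d ∧ Disjoint (c : Finset α) d)
      (by simp) (by simp [pb_bb h0]), s22_two hα hB b.2 c.2 (Subtype.coe_ne_coe.2 hbc)]
    simp
  have hnp : ∀ a : α, {u | (pointBlockGraph B).Adj none u ∧
      (pointBlockGraph B).Adj (some (inl a)) u}.ncard = 0 := fun a => by
    rw [ncard_pb _ ∅ (fun _ => False) (by simp) (by simp), blk_false]
    simp
  have hz : ∀ (a : α) (b : B), a ∈ (b : Finset α) →
      (blk B fun c => a ∈ c ∧ Disjoint (b : Finset α) c).card = 0 := fun a b h => by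
    rw [card_eq_zero, eq_empty_iff_forall_notMem]
    exact fun c hc => disjoint_left.1 (mem_blk.1 hc).2.2 h (mem_blk.1 hc).2.1
  refine ⟨?_, ?_, ?_, ?_⟩
  · rw [Finite.card_option, Nat.card_sum, Nat.card_eq_fintype_card, hα, Nat.card_coe_set_eq,
      s22_card hα hB]
  · rintro (_ | a | b)
    · rw [ncard_pb _ univ (fun _ => False) (by simp) (by simp), blk_false, card_univ, hα]
      simp
    · rw [ncard_pb _ ∅ (fun b => a ∈ b) (by simp) (by simp), s22_pt hα hB]
      simp
    · rw [ncard_pb _ b (fun c => Disjoint (b : Finset α) c) (by simp) (pb_bb h0 b),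
        s22_disj hα hB b.2, hB.1 _ b.2]
      simp
  · rintro (_ | a | b) (_ | a' | c) h
    · simp at h
    · exact hnp a'
    · simp at h
    · simpa only [and_comm] using hnp a
    · simp at h
    · rw [hpb, hz _ _ (by simpa using h)]
    · simp at h
    · simp only [and_comm (a := (pointBlockGraph B).Adj (some (inr b)) _)]
      rw [hpb, hz _ _ (by simpa using h)]
    · have := (pb_bb h0 _ _).1 h
      rw [hbb _ _ (ne_of_disjoint h0 this), if_pos this, disjoint_iff_inter_eq_empty.1 this]
      rfl
  · rintro (_ | a | b) (_ | a' | c) h h'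
    · simp at h
    · simp at h'
    · exact hnb c
    · simp at h'
    · rw [ncard_pb _ ∅ (fun b => a ∈ b ∧ a' ∈ b) (by simp) (by simp),
        s22_pair hα hB (by simpa using h)]
      simp
    · rw [hpb, s22_pt_disj hα hB c.2 (by simpa using h')]
    · simpa only [and_comm] using hnb b
    · simp only [and_comm (a := (pointBlockGraph B).Adj (some (inr b)) _)]
      rw [hpb, s22_pt_disj hα hB b.2 (by simpa using h')]
    · have h1 : b ≠ c := by simpa using h
      rw [pb_bb h0] at h'
      rw [hbb _ _ h1, if_neg h', (s3622_inter hα hB b.2 c.2 (Subtype.coe_ne_coe.2 h1)).resolve_left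
        (fun h => h' (disjoint_iff_inter_eq_empty.2 (card_eq_zero.1 h)))]

end Counts

section Unique

variable {V : Type*} {G : SimpleGraph V}

theorem ncard_eq_sum {V : Type*} [Fintype V] (R : V → Prop) [DecidablePred R] :
    ({v | R v}.ncard : ℤ) = ∑ v, if R v then 1 else 0 := by
  rw [Finset.sum_boole, ← Set.ncard_coe_finset]
  congr 2
  ext v; simp

/-- the variance argument: in a triangle-free strongly regular graph, the number of common
neighbours of three mutually non-adjacent vertices is constant when the moments allow it. -/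
theorem SRG.three {n k m : ℕ} (h : SRG G n k 0 m) [Finite V] (c : ℤ)
    (hc : (m : ℤ) * k + m * (m - 1) * m - 2 * c * (m * k) + c ^ 2 * n =
      2 * (m - c) ^ 2 + (2 * k - m) * c ^ 2)
    {v w u : V} (hvw : v ≠ w) (h1 : ¬ G.Adj v w) (huv : u ≠ v) (huw : u ≠ w) (h2 : ¬ G.Adj v u)
    (h3 : ¬ G.Adj w u) : ({x | G.Adj v x ∧ G.Adj w x ∧ G.Adj u x}.ncard : ℤ) = c := by
  classical
  have := Fintype.ofFinite V
  set T : Finset V := univ.filter fun x => G.Adj v x ∧ G.Adj w x with hT
  have hTc : T.card = m := by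
    rw [← h.nadj v w hvw h1, ← Set.ncard_coe_finset]
    congr 1
    ext x; simp [hT]
  have hno : ∀ a b x, G.Adj a b → G.Adj a x → ¬ G.Adj b x := fun a b x hab hax hbx => by
    have := h.adj a b hab
    rw [Set.ncard_eq_zero] at this
    exact (this ▸ (⟨hax, hbx⟩ : x ∈ {u | G.Adj a u ∧ G.Adj b u}) : x ∈ (∅ : Set V))
  let A : V → V → ℤ := fun a y => if G.Adj a y then 1 else 0
  let f : V → ℤ := fun y => ∑ a ∈ T, A a y
  have hdeg : ∀ a, ∑ y, A a y = k := fun a => by rw [← h.deg a, ncard_eq_sum]
  have s1 : ∑ y, f y = m * k := by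
    rw [sum_comm, sum_congr rfl fun a _ => hdeg a, sum_const, hTc, nsmul_eq_mul]
  have s2 : ∑ y, f y ^ 2 = m * k + m * (m - 1) * m := by
    simp only [f, sq, Finset.sum_mul_sum]
    rw [sum_comm]
    have : ∀ a ∈ T, ∑ y, ∑ b ∈ T, A a y * A b y = k + (m - 1) * m := by
      intro a ha
      rw [sum_comm, ← add_sum_erase _ _ ha]
      congr 1
      · rw [← hdeg a]
        exact sum_congr rfl fun y _ => by simp only [A]; split_ifs <;> simp
      · rw [sum_congr rfl (g := fun _ => (m : ℤ)), sum_const, card_erase_of_mem ha, hTc,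
          nsmul_eq_mul, Nat.cast_pred (hTc ▸ card_pos.2 ⟨a, ha⟩)]
        intro b hb
        rw [← h.nadj a b (ne_of_mem_erase hb).symm (fun hab => hno v a b (mem_filter.1 ha).2.1
          (mem_filter.1 (mem_of_mem_erase hb)).2.1 hab), ncard_eq_sum]
        exact sum_congr rfl fun y _ => by simp only [A]; split_ifs <;> simp_all
    rw [sum_congr rfl this, sum_const, hTc, nsmul_eq_mul]
    ring
  let g : V → ℤ := fun y => (f y - c) ^ 2 - (if y = v then (m - c) ^ 2 else 0) -
    (if y = w then (m - c) ^ 2 else 0) - c ^ 2 * (A v y + A w y - if y ∈ T then 1 else 0)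
  have hf0 : ∀ y, G.Adj v y ∨ G.Adj w y → f y = 0 := fun y hy => sum_eq_zero fun a ha => by
    rcases hy with hy | hy
    · exact if_neg (hno v a y (mem_filter.1 ha).2.1 hy)
    · exact if_neg (hno w a y (mem_filter.1 ha).2.2 hy)
  have hfv : f v = m := by
    rw [← hTc, card_eq_sum_ones, Nat.cast_sum]
    exact sum_congr rfl fun a ha => if_pos (mem_filter.1 ha).2.1.symm
  have hfw : f w = m := by
    rw [← hTc, card_eq_sum_ones, Nat.cast_sum]
    exact sum_congr rfl fun a ha => if_pos (mem_filter.1 ha).2.2.symm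
  have hg : ∀ y, 0 ≤ g y := by
    intro y
    simp only [g, A, hT, mem_filter, mem_univ, true_and]
    by_cases e1 : y = v
    · subst e1
      simp [hfv, hvw, G.adj_comm w y, h1]
    by_cases e2 : y = w
    · subst e2
      simp [hfw, e1, h1]
    by_cases e3 : G.Adj v y <;> by_cases e4 : G.Adj w y <;> simp [e1, e2, e3, e4, hf0, sq_nonneg]
  have hs : ∑ y, g y = 0 := by
    have e : ∀ y, (f y - c) ^ 2 = f y ^ 2 - 2 * c * f y + c ^ 2 := fun y => by ring
    have hn : (univ : Finset V).card = n := by rw [card_univ, ← Nat.card_eq_fintype_card, h.card]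
    simp only [g, e, sum_sub_distrib, sum_add_distrib, ← mul_sum, s1, s2, hdeg, sum_const, hn,
      sum_ite_eq', mem_univ, if_true, sum_ite_mem, univ_inter, hTc, nsmul_eq_mul]
    linear_combination hc
  have := (sum_eq_zero_iff_of_nonneg fun y _ => hg y).1 hs u (mem_univ u)
  simp only [g, A, hT, mem_filter, mem_univ, true_and, huv, huw, h2, h3, if_false, false_and,
    sub_zero, add_zero, mul_zero] at this
  rw [← sub_eq_zero.1 (pow_eq_zero_iff two_ne_zero |>.1 this), ncard_eq_sum]
  simp only [f, hT, sum_filter, A]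
  exact sum_congr rfl fun y _ => by
    by_cases e1 : G.Adj v y <;> by_cases e2 : G.Adj w y <;> simp [e1, e2, G.adj_comm u y]

theorem SRG.no_triangle {n k m : ℕ} (h : SRG G n k 0 m) [Finite V] {a b x : V} (hab : G.Adj a b)
    (hax : G.Adj a x) : ¬ G.Adj b x := fun hbx => by
  have := h.adj a b hab
  rw [Set.ncard_eq_zero] at this
  exact (this ▸ (⟨hax, hbx⟩ : x ∈ {u | G.Adj a u ∧ G.Adj b u}) : x ∈ (∅ : Set V))

theorem SRG.ncard_far {n k l m : ℕ} (h : SRG G n k l m) [Finite V] (v : V) :
    {w | w ≠ v ∧ ¬ G.Adj v w}.ncard + k + 1 = n := by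
  rw [← h.card, ← h.deg v, ← Set.ncard_univ, ← Set.ncard_union_eq,
    ← Set.ncard_insert_of_notMem (a := v)]
  · congr 1
    ext w
    by_cases e : w = v <;> simp [e, em']
  · simp
  · exact Set.disjoint_left.2 fun w h1 h2 => h1.2 h2

theorem srg100_model (h : SRG G 100 22 0 6) [Finite V] (v : V) :
    ∃ B : Set (Finset {x // G.Adj v x}), IsSteinerSystem 3 6 B ∧
      ∃ e : G ≃g pointBlockGraph B, e v = none := by
  classical
  have := Fintype.ofFinite V
  let β : V → Finset {x // G.Adj v x} := fun w => univ.filter fun x => G.Adj w x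
  have hβ : ∀ (w) (P : V → Prop), ((β w).filter fun x => P x.1).card =
      {x | G.Adj v x ∧ G.Adj w x ∧ P x}.ncard := fun w P => by
    rw [← Set.ncard_coe_finset, ← Set.ncard_image_of_injective _ Subtype.val_injective]
    congr 1
    ext x
    simp [β, and_assoc, and_comm, and_left_comm]
  have h6 : ∀ w, w ≠ v → ¬ G.Adj v w → (β w).card = 6 := fun w h1 h2 => by
    have := hβ w fun _ => True
    rw [filter_true] at this
    simpa [this] using h.nadj v w h1.symm h2
  have hi : ∀ w u, w ≠ v → ¬ G.Adj v w → u ≠ v → ¬ G.Adj v u → u ≠ w →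
      (β w ∩ β u).card = if G.Adj w u then 0 else 2 := fun w u h1 h2 h3 h4 h5 => by
    have e : β w ∩ β u = (β w).filter fun x => G.Adj u x.1 := by ext x; simp [β]
    rw [e, hβ]
    split_ifs with h7
    · rw [Set.ncard_eq_zero, Set.eq_empty_iff_forall_notMem]
      exact fun x hx => h.no_triangle h7 hx.2.1 hx.2.2
    · exact_mod_cast h.three 2 (by norm_num) h1.symm h2 h3 h5 h4 h7
  have hinj : Set.InjOn β {w | w ≠ v ∧ ¬ G.Adj v w} := fun w hw u hu e => by
    by_contra h5
    have := hi w u hw.1 hw.2 hu.1 hu.2 (Ne.symm h5)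
    rw [← e, inter_self, h6 w hw.1 hw.2] at this
    split_ifs at this <;> omega
  let B := β '' {w | w ≠ v ∧ ¬ G.Adj v w}
  have hB : IsSteinerSystem 3 6 B := by
    apply steiner_of_packing
    · rintro _ ⟨w, hw, rfl⟩
      exact h6 w hw.1 hw.2
    · rintro _ ⟨w, hw, rfl⟩ _ ⟨u, hu, rfl⟩ h3
      by_contra h5
      have := hi w u hw.1 hw.2 hu.1 hu.2 (by rintro rfl; exact h5 rfl)
      split_ifs at this <;> omega
    · have h1 := h.ncard_far v
      have h2 : Fintype.card {x // G.Adj v x} = 22 := by
        rw [← Nat.card_eq_fintype_card]; exact h.deg v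
      rw [hinj.ncard_image, h2, show Nat.choose 22 3 = 1540 by decide,
        show Nat.choose 6 3 = 20 by decide]
      omega
  have h0 := empty_notMem_of_steiner hB
  let γ : B → V := fun b => b.2.choose
  have hγ : ∀ b, (γ b ≠ v ∧ ¬ G.Adj v (γ b)) ∧ β (γ b) = b := fun b => b.2.choose_spec
  let f : Option ({x // G.Adj v x} ⊕ B) → V := fun o => o.elim v (Sum.elim Subtype.val γ)
  have hpb : ∀ (a : {x // G.Adj v x}) (b : B), G.Adj (γ b) a ↔ a ∈ (b : Finset _) := fun a b => by
    rw [← (hγ b).2]; simp [β]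
  have hf : Function.Bijective f := by
    constructor
    · rintro (_ | a | b) (_ | a' | c) e
      · rfl
      · exact absurd e a'.2.ne
      · exact absurd e (hγ c).1.1.symm
      · exact absurd e a.2.ne'
      · rw [Subtype.ext e]
      · exact absurd ((show (a : V) = γ c from e) ▸ a.2) (hγ c).1.2
      · exact absurd e (hγ b).1.1
      · exact absurd ((show γ b = (a' : V) from e) ▸ a'.2) (hγ b).1.2
      · rw [Subtype.ext ((hγ b).2.symm.trans ((congrArg β e).trans (hγ c).2))]
    · intro w
      by_cases h1 : w = v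
      · exact ⟨none, h1.symm⟩
      by_cases h2 : G.Adj v w
      · exact ⟨some (inl ⟨w, h2⟩), rfl⟩
      · exact ⟨some (inr ⟨β w, w, ⟨h1, h2⟩, rfl⟩), hinj (hγ _).1 ⟨h1, h2⟩ (hγ _).2⟩
  let e : pointBlockGraph B ≃g G := ⟨Equiv.ofBijective f hf, by
    rintro (_ | a | b) (_ | a' | c)
    · simp
    · simpa [f] using a'.2
    · simpa [f] using (hγ c).1.2
    · simpa [f] using a.2.symm
    · simpa [f] using h.no_triangle a.2 a'.2
    · simpa [f, G.adj_comm] using hpb a c
    · simpa [f, G.adj_comm] using (hγ b).1.2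
    · simpa [f] using hpb a' b
    · rw [pb_bb h0]
      change G.Adj (γ b) (γ c) ↔ _
      by_cases hbc : b = c
      · subst hbc
        exact ⟨fun h => absurd rfl h.ne, fun h => absurd rfl (ne_of_disjoint h0 h)⟩
      · have := hi _ _ (hγ b).1.1 (hγ b).1.2 (hγ c).1.1 (hγ c).1.2 (fun e => hbc
          (Subtype.ext ((hγ b).2.symm.trans ((congrArg β e.symm).trans (hγ c).2))))
        rw [(hγ b).2, (hγ c).2] at this
        rw [disjoint_iff_inter_eq_empty, ← card_eq_zero, this]
        split_ifs with h7 <;> simp [h7]⟩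
  exact ⟨B, hB, e.symm, e.symm_apply_eq.2 rfl⟩

end Unique

section Iso

variable {α β : Type*} [DecidableEq α] [DecidableEq β] {B : Set (Finset α)} {B' : Set (Finset β)}

/-- the bijection on blocks induced by an isomorphism of set systems. -/
def blockEquiv (e : α ≃ β) (h : ∀ b : Finset α, b ∈ B ↔ b.image e ∈ B') : B ≃ B' where
  toFun b := ⟨b.1.image e, (h _).1 b.2⟩
  invFun c := ⟨c.1.image e.symm, (h _).2 (by simp [Finset.image_image])⟩
  left_inv b := by ext1; simp [Finset.image_image]
  right_inv b := by ext1; simp [Finset.image_image]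

/-- the isomorphism of point-block graphs induced by an isomorphism of set systems. -/
def pbIso (e : α ≃ β) (h : ∀ b : Finset α, b ∈ B ↔ b.image e ∈ B') :
    pointBlockGraph B ≃g pointBlockGraph B' where
  toEquiv := Equiv.optionCongr (Equiv.sumCongr e (blockEquiv e h))
  map_rel_iff' := by
    rintro (_ | a | b) (_ | a' | c) <;> try (simp [blockEquiv]; done)
    simp [blockEquiv, pointBlockGraph, pointBlockRel, Finset.disjoint_image e.injective,
      (Finset.image_injective e.injective).eq_iff, Subtype.ext_iff]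

@[simp] theorem pbIso_none (e : α ≃ β) (h : ∀ b : Finset α, b ∈ B ↔ b.image e ∈ B') :
    pbIso e h none = none := rfl

@[simp] theorem pbIso_pt (e : α ≃ β) (h : ∀ b : Finset α, b ∈ B ↔ b.image e ∈ B') (a : α) :
    pbIso e h (some (inl a)) = some (inl (e a)) := rfl

@[simp] theorem pbIso_blk (e : α ≃ β) (h : ∀ b : Finset α, b ∈ B ↔ b.image e ∈ B') (b : B) :
    pbIso e h (some (inr b)) = some (inr ⟨b.1.image e, (h _).1 b.2⟩) := rfl

theorem _root_.Cfsg.SetSystemIso.exists_equiv (h : SetSystemIso B B') :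
    ∃ e : α ≃ β, ∀ b : Finset α, b ∈ B ↔ b.image e ∈ B' := by
  obtain ⟨e, rfl⟩ := h
  exact ⟨e, fun b => ((Finset.image_injective e.injective).mem_set_image).symm⟩

end Iso

/-- any two strongly regular graphs with parameters `(100,22,0,6)` are isomorphic, with a
prescribed image of one vertex. -/
theorem srg100_iso {V W : Type*} [Finite V] [Finite W] {G : SimpleGraph V} {H : SimpleGraph W}
    (hG : SRG G 100 22 0 6) (hH : SRG H 100 22 0 6) (v : V) (w : W) :
    ∃ e : G ≃g H, e v = w := by
  classical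
  have := Fintype.ofFinite V
  have := Fintype.ofFinite W
  obtain ⟨B, hB, e, he⟩ := srg100_model hG v
  obtain ⟨B', hB', e', he'⟩ := srg100_model hH w
  obtain ⟨ι, h⟩ := model22 (by rw [← Nat.card_eq_fintype_card]; exact hG.deg v) hB
  obtain ⟨ι', h'⟩ := model22 (by rw [← Nat.card_eq_fintype_card]; exact hH.deg w) hB'
  obtain ⟨f, -, hf⟩ := h.iso h'
  refine ⟨e.trans ((pbIso f hf).trans e'.symm), ?_⟩
  change e'.symm (pbIso f hf (e v)) = w
  rw [he, pbIso_none, ← he', RelIso.symm_apply_apply]

end H9
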