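import Mathlib
import Cfsg.Agent.H9.HSGraph

/-! The automorphism group of the Higman-Sims graph. -/

set_option autoImplicit false
set_option linter.unusedSectionVars false

namespace H9

open Cfsg Finset MulAction Sum
open scoped Pointwise

theorem card_sylow_of {G : Type*} [Group G] [Finite G] {p : ℕ} [hp : Fact p.Prime] (P : Sylow p G)
    (n m : ℕ) (h : Nat.card G = p ^ n * m) (hm : ¬ p ∣ m) : Nat.card P = p ^ n := by
  rw [P.card_eq_multiplicity, h, Nat.factorization_mul (pow_ne_zero _ hp.out.ne_zero)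
    (by rintro rfl; simp at hm), Finsupp.add_apply, Nat.factorization_eq_zero_of_not_dvd hm,
    hp.out.factorization_pow]
  simp

section Rank3

variable {Γ X : Type*} [Group Γ] [MulAction Γ X]

/-- the point stabiliser of `x` has orbits `{x}`, `O₁`, `O₂`. -/
structure Rank3 (Γ : Type*) {X : Type*} [Group Γ] [MulAction Γ X] (x : X) (O₁ O₂ : Set X) :
    Prop where
  trans : ∀ y, ∃ g : Γ, g • x = y
  cover : ∀ y, y = x ∨ y ∈ O₁ ∨ y ∈ O₂
  not₁ : x ∉ O₁
  not₂ : x ∉ O₂
  tr₁ : ∀ y ∈ O₁, ∀ z ∈ O₁, ∃ g : Γ, g • x = x ∧ g • y = z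
  tr₂ : ∀ y ∈ O₂, ∀ z ∈ O₂, ∃ g : Γ, g • x = x ∧ g • y = z

theorem Rank3.normal_trans [Finite X] [FaithfulSMul Γ X] {x : X} {O₁ O₂ : Set X}
    (h : Rank3 Γ x O₁ O₂) (h1 : ¬ O₁.ncard + 1 ∣ Nat.card X) (h2 : ¬ O₂.ncard + 1 ∣ Nat.card X)
    (N : Subgroup Γ) [hN : N.Normal] (hne : N ≠ ⊥) : orbit N x = Set.univ := by
  have : IsPretransitive Γ X := ⟨fun y z => by
    obtain ⟨g, rfl⟩ := h.trans y
    obtain ⟨k, rfl⟩ := h.trans z
    exact ⟨k * g⁻¹, by simp [mul_smul]⟩⟩
  have hd := (IsBlock.orbit_of_normal (N := N) x).ncard_dvd_card ⟨x, mem_orbit_self x⟩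
  have hs : ∀ {O : Set X}, (∀ y ∈ O, ∀ z ∈ O, ∃ g : Γ, g • x = x ∧ g • y = z) →
      O ⊆ orbit N x ∨ ∀ y ∈ O, y ∉ orbit N x := by
    intro O hO
    by_contra hc
    push Not at hc
    obtain ⟨h3, y, hy, ⟨n, rfl⟩⟩ := hc
    refine h3 fun z hz => ?_
    obtain ⟨g, hg, rfl⟩ := hO _ hy z hz
    refine ⟨⟨g * n * g⁻¹, hN.conj_mem _ n.2 g⟩, ?_⟩
    change (g * n * g⁻¹) • x = g • (n : Γ) • x
    rw [mul_smul, mul_smul, inv_smul_eq_iff.2 hg.symm]
  rcases hs h.tr₁ with a | a <;> rcases hs h.tr₂ with b | b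
  · rw [Set.eq_univ_iff_forall]
    intro y
    rcases h.cover y with rfl | hy | hy
    exacts [mem_orbit_self _, a hy, b hy]
  · have : orbit N x = insert x O₁ := by
      apply Set.Subset.antisymm
      · intro y hy
        rcases h.cover y with rfl | hy' | hy'
        exacts [Or.inl rfl, Or.inr hy', absurd hy (b y hy')]
      · exact Set.insert_subset (mem_orbit_self _) a
    rw [this, Set.ncard_insert_of_notMem h.not₁] at hd
    exact absurd hd h1
  · have : orbit N x = insert x O₂ := by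
      apply Set.Subset.antisymm
      · intro y hy
        rcases h.cover y with rfl | hy' | hy'
        exacts [Or.inl rfl, absurd hy (a y hy'), Or.inr hy']
      · exact Set.insert_subset (mem_orbit_self _) b
    rw [this, Set.ncard_insert_of_notMem h.not₂] at hd
    exact absurd hd h2
  · exfalso
    apply hne
    rw [eq_bot_iff]
    intro n hn
    refine eq_of_smul_eq_smul (α := X) fun y => ?_
    obtain ⟨g, rfl⟩ := h.trans y
    have hy : (g⁻¹ * n * g) • x ∈ orbit N x :=
      ⟨⟨g⁻¹ * n * g, by simpa using hN.conj_mem _ hn g⁻¹⟩, rfl⟩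
    rcases h.cover ((g⁻¹ * n * g) • x) with e | e | e
    · rw [one_smul]; exact (conj_smul_eq_iff g n x).1 e
    · exact absurd hy (a _ e)
    · exact absurd hy (b _ e)

theorem Rank3.simple100 [Finite X] [Finite Γ] [FaithfulSMul Γ X] {x : X} {O₁ O₂ : Set X}
    (h : Rank3 Γ x O₁ O₂) (hX : Nat.card X = 100) (h1 : O₁.ncard = 22) (h2 : O₂.ncard = 77)
    (hs : IsSimpleGroup (stabilizer Γ x)) : IsSimpleGroup Γ := by
  have ht : ∀ (N : Subgroup Γ) [N.Normal], N ≠ ⊥ →
      Nat.card N = 100 * Nat.card ↥(N ⊓ stabilizer Γ x) := fun N _ hne => by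
    have := h.normal_trans (by rw [h1, hX]; decide) (by rw [h2, hX]; decide) N hne
    rw [card_eq_orbit_mul N x, ← hX, ← Set.ncard_univ X, ← this]
    congr 2
    ext y
    exact ⟨fun ⟨g, hg, e⟩ => ⟨⟨g, hg⟩, e⟩, fun ⟨g, e⟩ => ⟨g, g.2, e⟩⟩
  have : Nontrivial Γ := (stabilizer Γ x).subtype_injective.nontrivial
  refine ⟨fun N hN => ?_⟩
  by_cases hN1 : N = ⊥
  · exact Or.inl hN1
  right
  have h3 := ht N hN1
  rcases hs.eq_bot_or_eq_top_of_normal (N.subgroupOf (stabilizer Γ x)) inferInstance with e | e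
  · exfalso
    rw [disjoint_iff.1 (Subgroup.subgroupOf_eq_bot.1 e), Subgroup.card_bot] at h3
    have : Fact (Nat.Prime 5) := ⟨by norm_num⟩
    obtain ⟨P⟩ : Nonempty (Sylow 5 N) := inferInstance
    have hP : Nat.card P = 25 := card_sylow_of P 2 4 h3 (by norm_num)
    have hi : (P : Subgroup N).index = 4 := by
      have := (P : Subgroup N).index_mul_card
      rw [hP] at this
      omega
    have hc : Nat.card (Sylow 5 N) = 1 := by
      have a := P.card_dvd_index
      have b := card_sylow_modEq_one 5 N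
      rw [hi] at a
      have := Nat.le_of_dvd (by norm_num) a
      rw [Nat.ModEq] at b
      omega
    have : Subsingleton (Sylow 5 N) := (Nat.card_eq_one_iff_unique.1 hc).1
    have := P.characteristic_of_subsingleton
    have h4 := ht ((P : Subgroup N).map N.subtype) (fun e => by
      have := congrArg (fun K : Subgroup Γ => Nat.card K) e
      simp only [Subgroup.card_subtype, hP, Subgroup.card_bot] at this
      omega)
    rw [Subgroup.card_subtype, hP] at h4
    omega
  · rw [Subgroup.subgroupOf_eq_top] at e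
    rw [inf_eq_right.2 e] at h3
    have h4 := ht ⊤ top_ne_bot
    rw [top_inf_eq, ← h3] at h4
    exact Subgroup.eq_top_of_card_eq _ (by rw [← h4, Subgroup.card_top])

end Rank3

variable {α : Type*} [Fintype α] [DecidableEq α] {B : Set (Finset α)}

theorem aut_image (τ : setSystemAut B) (b : Finset α) :
    b ∈ B ↔ b.image (τ : Equiv.Perm α) ∈ B :=
  ⟨fun h => mem_setSystemAut.1 τ.2 b h, fun h => by
    simpa using mem_setSystemAut.1 (τ⁻¹).2 ((τ : Equiv.Perm α) • b) h⟩

/-- automorphisms of the design act on the point-block graph. -/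
def pbHom (B : Set (Finset α)) : setSystemAut B →* (pointBlockGraph B ≃g pointBlockGraph B) :=
  MonoidHom.mk' (fun τ => pbIso τ.1 (aut_image τ)) fun σ τ => by
    ext1 v
    rcases v with _ | a | b
    · rfl
    · rfl
    · simp [RelIso.mul_apply, Finset.image_image]

theorem pbHom_apply (τ : setSystemAut B) : pbHom B τ = pbIso τ.1 (aut_image τ) := rfl

theorem pbHom_injective : Function.Injective (pbHom B) := by
  rw [injective_iff_map_eq_one]
  intro τ h
  ext a
  simpa [pbHom_apply] using congrArg (fun g => g (some (inl a))) h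

theorem pbHom_range : (pbHom B).range = stabilizer _ (none : Option (α ⊕ B)) := by
  apply le_antisymm
  · rintro _ ⟨τ, rfl⟩
    rfl
  intro g hg
  replace hg : g none = none := hg
  have h1 : ∀ a, ∃ a', g (some (inl a)) = some (inl a') := fun a => by
    have := g.map_rel_iff.2 (pb_np (B := B) a)
    rw [hg] at this
    rcases e : g (some (inl a)) with _ | a' | b <;> simp_all
  choose f hf using h1
  have hfi : Function.Injective f := fun a a' e => by
    exact inl.inj (Option.some.inj (g.injective ((hf a).trans (e ▸ (hf a').symm))))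
  let τ : Equiv.Perm α := Equiv.ofBijective f hfi.bijective_of_finite
  have h2 : ∀ b : B, ∃ c : B, g (some (inr b)) = some (inr c) ∧ (c : Finset α) = b.1.image τ := by
    intro b
    rcases e : g (some (inr b)) with _ | a' | c
    · simpa using g.injective (e.trans hg.symm)
    · obtain ⟨a, rfl⟩ := τ.surjective a'
      simpa using g.injective (e.trans (hf a).symm)
    · refine ⟨c, rfl, ?_⟩
      ext a'
      obtain ⟨a, rfl⟩ := τ.surjective a'
      rw [τ.injective.mem_finset_image, ← pb_pb, ← pb_pb, ← e, ← g.map_rel_iff (a := some (inl a)),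
        hf a]
      rfl
  refine ⟨⟨τ, mem_setSystemAut.2 fun b hb => ?_⟩, ?_⟩
  · obtain ⟨c, -, e⟩ := h2 ⟨b, hb⟩
    exact (e ▸ c.2 : b.image τ ∈ B)
  · ext1 v
    rcases v with _ | a | b
    · exact hg.symm
    · exact (hf a).symm
    · obtain ⟨c, e, e'⟩ := h2 b
      rw [e, pbHom_apply, pbIso_blk]
      simp only [← e']

theorem outer_inv : ∃ g ∈ Stab [] [pair0], g ^ 2 = 1 ∧
    (∀ p, p ∈ ofMask 6308804 ↔ p ∈ (ofMask pair0)ᶜ ∧ g p = p) ∧
    {s | s ∈ GC ∧ s.card = 8 ∧ ofMask pair0 ⊆ s ∧ g • s = s}.ncard = 21 := by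
  have hc : inStab [] [pair0] 29423494382232292802091177949137527 = true := by decide +kernel
  have hv := validP_of_inStab hc
  refine ⟨_, mem_Stab_of_inStab hc, pm_pow_eq_one hv (by decide +kernel), ?_, ?_⟩
  · simp only [pm_apply hv]
    decide +kernel
  · have h1 := ncard_GC (fun s => s.card = 8 ∧ ofMask pair0 ⊆ s ∧
        pm 29423494382232292802091177949137527 • s = s)
      (fun n => Nat.beq (pc n) 8 && Nat.beq (Nat.land pair0 n) pair0 &&
        Nat.beq (actM 29423494382232292802091177949137527 n) n) (fun m _ => by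
        rw [card_ofMask, ofMask_subset_iff (by decide), pm_smul_ofMask hv]
        simp only [Bool.and_eq_true, beq_iff, and_assoc]
        exact and_congr_right' (and_congr_right'
          ⟨ofMask_inj (actM_lt hv _) (cw_lt m), congrArg ofMask⟩))
    rwa [show treeCnt _ 12 = 21 by decide +kernel] at h1

theorem m22_sub (hα : Fintype.card α = 22) (hB : IsSteinerSystem 3 6 B) :
    ∃ M : Subgroup (setSystemAut B), IsM22 M ∧
      (∀ x y : Fin 3 → α, Function.Injective x → Function.Injective y →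
        ∃ τ ∈ M, ∀ i, (τ : Equiv.Perm α) (x i) = y i) ∧
      ∃ τ : setSystemAut B, τ ^ 2 = 1 ∧ (univ.filter fun a => (τ : Equiv.Perm α) a = a).card = 8 ∧
        (blk B fun b => b.image (τ : Equiv.Perm α) = b).card = 21 := by
  obtain ⟨ι, h⟩ := model22 hα hB
  obtain ⟨φ, hφ⟩ := aut22 h
  let H := ((Stab [0, 23] []).subgroupOf (Stab [] [pair0])).map φ.toMonoidHom
  have e : H ≃* Stab [0, 23] [] :=
    (φ.subgroupMap _).symm.trans (Subgroup.subgroupOfEquivOfLe s2_le_pair0)
  refine ⟨H, ⟨simple_of_equiv ⟨e⟩ simple_s2, card_of_equiv ⟨e⟩ card_s2⟩, ?_, ?_⟩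
  · intro x y hx hy
    obtain ⟨g, hg, e⟩ := tr2.tuple rfl (ι ∘ x) (ι ∘ y) (ι.injective.comp hx) (ι.injective.comp hy)
      (fun i => compl_pair0 ▸ (h.range _).1 ⟨_, rfl⟩) (fun i => compl_pair0 ▸ (h.range _).1 ⟨_, rfl⟩)
    exact ⟨φ ⟨g, s2_le_pair0 hg⟩, ⟨_, hg, rfl⟩, fun i => ι.injective ((hφ _ _).trans (e i))⟩
  obtain ⟨g, hg, hg2, hfix, h1⟩ := outer_inv
  refine ⟨φ ⟨g, hg⟩, ?_, ?_, ?_⟩
  · rw [← map_pow, ← map_one φ]
    congr 1
    exact Subtype.ext hg2
  · rw [← card_map ι, show 8 = (ofMask 6308804).card by decide]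
    congr 1
    ext p
    simp only [mem_map, mem_filter, mem_univ, true_and, ← ι.injective.eq_iff, hφ]
    rw [hfix, ← h.range]
    constructor
    · rintro ⟨a, h1, rfl⟩
      exact ⟨⟨a, rfl⟩, h1⟩
    · rintro ⟨⟨a, rfl⟩, h1⟩
      exact ⟨a, h1, rfl⟩
  · have hP : g • ofMask pair0 = ofMask pair0 := hg.2.2 _ (by simp)
    have hinj : Function.Injective fun b : Finset α => b.map ι ∪ ofMask pair0 := fun b c e => by
      ext a
      have h3 := congrArg (fun s => ι a ∈ s) e
      have h4 : ι a ∉ ofMask pair0 := mem_compl.1 ((h.range _).1 ⟨a, rfl⟩)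
      simpa only [mem_union, h4, or_false, mem_map', eq_iff_iff] using h3
    have h2 : ∀ b : Finset α, (b.image (φ ⟨g, hg⟩ : Equiv.Perm α)).map ι ∪
        ofMask pair0 = g • (b.map ι ∪ ofMask pair0) :=
      fun b => by rw [Finset.smul_finset_union, hP, ← map_smul_of (hφ ⟨g, hg⟩)]; rfl
    rw [← h1, ← ncard_eq_blk, ← Set.ncard_image_of_injective _ hinj]
    congr 1
    ext s
    constructor
    · rintro ⟨b, ⟨hb, e⟩, rfl⟩
      have := (h.mem b).1 hb
      exact ⟨this.1, this.2, subset_union_right, by rw [← h2, e]⟩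
    · rintro ⟨h3, h4, h5, h6⟩
      obtain ⟨b, hb⟩ := exists_map_eq h.range (s \ ofMask pair0)
        (fun x hx => mem_compl.2 (mem_sdiff.1 hx).2)
      have e : b.map ι ∪ ofMask pair0 = s := by rw [hb, sdiff_union_of_subset h5]
      exact ⟨b, ⟨(h.mem b).2 (e ▸ ⟨h3, h4⟩ : b.map ι ∪ ofMask pair0 ∈ octads),
        hinj ((h2 b).trans (by rw [e, h6]; exact e.symm))⟩, e⟩

theorem finite_pbAut : Finite (pointBlockGraph B ≃g pointBlockGraph B) :=
  Finite.of_injective _ RelIso.toEquiv_injective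

theorem card_pbAut (hα : Fintype.card α = 22) (hB : IsSteinerSystem 3 6 B) :
    Nat.card (pointBlockGraph B ≃g pointBlockGraph B) = 88704000 := by
  have h := pb_srg hα hB
  have h1 := card_eq_orbit_mul (⊤ : Subgroup (pointBlockGraph B ≃g pointBlockGraph B))
    (none : Option (α ⊕ B))
  rw [top_inf_eq, ← pbHom_range, Subgroup.card_top, ← Nat.card_congr
    (MonoidHom.ofInjective pbHom_injective).toEquiv, (steiner22_aut hα hB).1,
    Set.eq_univ_of_forall (s := {y | ∃ g ∈ ⊤, g • none = y}) (fun y => by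
      obtain ⟨e, he⟩ := srg100_iso h h none y
      exact ⟨e, trivial, he⟩), Set.ncard_univ, h.card] at h1
  exact h1

/-- the Higman-Sims group as the group of even automorphisms of the point-block graph. -/
theorem exists_hs (hα : Fintype.card α = 22) (hB : IsSteinerSystem 3 6 B) :
    ∃ H : Subgroup (pointBlockGraph B ≃g pointBlockGraph B), IsHS H := by
  classical
  have := finite_pbAut (B := B)
  have : Fintype B := Fintype.ofFinite _
  have h := pb_srg hα hB
  have h0 := empty_notMem_of_steiner hB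
  let s : (pointBlockGraph B ≃g pointBlockGraph B) →* ℤˣ :=
    Equiv.Perm.sign.comp (toPermHom _ (Option (α ⊕ B)))
  obtain ⟨M, hM, htr, τ, hτ2, hτ8, hτ21⟩ := m22_sub hα hB
  have hodd : s (pbHom B τ) = -1 := by
    have h1 : (toPermHom _ (Option (α ⊕ B)) (pbHom B τ)) ^ 2 = 1 := by
      rw [← map_pow, ← map_pow, hτ2, map_one, map_one]
    have h2 : Fintype.card (Function.fixedPoints (toPermHom _ (Option (α ⊕ B)) (pbHom B τ))) = 30 := by
      rw [Set.fintypeCard_eq_ncard]
      have := ncard_pb (fun v => pbHom B τ v = v) (univ.filter fun a => (τ : Equiv.Perm α) a = a)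
        (fun b => b.image (τ : Equiv.Perm α) = b) (by simp [pbHom_apply])
        (by simp [pbHom_apply, Subtype.ext_iff])
      rw [hτ8, hτ21, if_pos (by rfl)] at this
      exact this
    change Equiv.Perm.sign _ = _
    rw [Equiv.Perm.sign_of_pow_two_eq_one h1, h2, ← Nat.card_eq_fintype_card, h.card]
    rfl
  have hidx : ∀ K : Subgroup (pointBlockGraph B ≃g pointBlockGraph B), pbHom B τ ∈ K →
      Nat.card K = 2 * Nat.card ↥(s.ker ⊓ K) := by
    intro K hK
    have h1 : (s.comp K.subtype).range = ⊤ := by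
      rw [eq_top_iff]
      intro u _
      rcases Int.units_eq_one_or u with rfl | rfl
      · exact one_mem _
      · exact ⟨⟨_, hK⟩, hodd⟩
    have h2 := (s.comp K.subtype).ker.index_mul_card
    rw [Subgroup.index_ker, h1, Subgroup.card_top, Nat.card_eq_fintype_card, Fintype.card_units_int,
      ← MonoidHom.comap_ker, Subgroup.comap_subtype, ← Subgroup.inf_subgroupOf_right,
      Nat.card_congr (Subgroup.subgroupOfEquivOfLe inf_le_right).toEquiv] at h2
    exact h2.symm
  have hcard : Nat.card s.ker = 44352000 := by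
    have := hidx ⊤ trivial
    rw [Subgroup.card_top, card_pbAut hα hB, inf_top_eq] at this
    omega
  have hMk : ∀ σ ∈ M, pbHom B σ ∈ s.ker := by
    have := hM.1
    rcases this.eq_bot_or_eq_top_of_normal ((s.comp (pbHom B)).comp M.subtype).ker inferInstance
      with e | e
    · have h1 := Nat.card_le_card_of_injective _ ((MonoidHom.ker_eq_bot_iff _).1 e)
      rw [hM.2, Nat.card_eq_fintype_card, Fintype.card_units_int] at h1
      omega
    · intro σ hσ
      exact (e ▸ Subgroup.mem_top _ : (⟨σ, hσ⟩ : M) ∈ ((s.comp (pbHom B)).comp M.subtype).ker)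
  have hst : M.map (pbHom B) = s.ker ⊓ stabilizer _ (none : Option (α ⊕ B)) := by
    apply Subgroup.eq_of_le_of_card_ge
    · rintro _ ⟨σ, hσ, rfl⟩
      exact ⟨hMk σ hσ, rfl⟩
    · have := hidx (stabilizer _ (none : Option (α ⊕ B))) rfl
      rw [← pbHom_range, ← Nat.card_congr (MonoidHom.ofInjective pbHom_injective).toEquiv,
        (steiner22_aut hα hB).1, pbHom_range] at this
      rw [Subgroup.card_map_of_injective pbHom_injective, hM.2]
      omega
  refine ⟨s.ker, ?_, hcard⟩
  have hpt : ∀ a : α, ∃ x : Fin 3 → α, Function.Injective x ∧ x 0 = a := fun a => by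
    obtain ⟨e⟩ : Nonempty (Fin 3 ↪ α) := Function.Embedding.nonempty_of_card_le (by simp [hα])
    exact ⟨Equiv.swap (e 0) a ∘ e, (Equiv.injective _).comp e.injective, by simp⟩
  have hbl : ∀ b : B, ∃ x : Fin 3 → α, Function.Injective x ∧ ∀ i, x i ∈ (b : Finset α) := fun b => by
    obtain ⟨e⟩ : Nonempty (Fin 3 ↪ (b : Finset α)) :=
      Function.Embedding.nonempty_of_card_le (by simp [hB.1 _ b.2])
    exact ⟨Subtype.val ∘ e, Subtype.val_injective.comp e.injective, fun i => (e i).2⟩
  refine Rank3.simple100 (x := (none : Option (α ⊕ B))) (O₁ := Set.range (some ∘ inl))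
    (O₂ := Set.range (some ∘ inr)) ⟨fun y => ?_, ?_, by simp, by simp, ?_, ?_⟩ h.card ?_ ?_ ?_
  · obtain ⟨e, he⟩ := srg100_iso h h none y
    rcases Int.units_eq_one_or (s e) with h1 | h1
    · exact ⟨⟨e, h1⟩, he⟩
    · exact ⟨⟨e * pbHom B τ, by rw [MonoidHom.mem_ker, map_mul, h1, hodd]; rfl⟩, he⟩
  · rintro (_ | a | b) <;> simp
  · rintro _ ⟨a, rfl⟩ _ ⟨a', rfl⟩
    obtain ⟨x, hx, rfl⟩ := hpt a
    obtain ⟨y, hy, rfl⟩ := hpt a'
    obtain ⟨σ, hσ, e⟩ := htr x y hx hy
    exact ⟨⟨_, hMk σ hσ⟩, rfl, congrArg (fun a => some (inl a)) (e 0)⟩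
  · rintro _ ⟨b, rfl⟩ _ ⟨c, rfl⟩
    obtain ⟨x, hx, hb⟩ := hbl b
    obtain ⟨y, hy, hc⟩ := hbl c
    obtain ⟨σ, hσ, e⟩ := htr x y hx hy
    refine ⟨⟨_, hMk σ hσ⟩, rfl, congrArg (fun a => some (inr a)) (Subtype.ext ?_)⟩
    refine steiner_eq_of_le hB ((aut_image σ _).1 b.2) c.2 ?_
    refine le_trans (by rw [card_image_of_injective _ hy]; rfl) (card_le_card (s := univ.image y) ?_)
    intro z hz
    obtain ⟨i, -, rfl⟩ := mem_image.1 hz
    exact mem_inter.2 ⟨e i ▸ mem_image_of_mem _ (hb i), hc i⟩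
  · rw [Set.ncard_range_of_injective ((Option.some_injective _).comp inl_injective),
      Nat.card_eq_fintype_card, hα]
  · rw [Set.ncard_range_of_injective ((Option.some_injective _).comp inr_injective)]
    exact s22_card hα hB
  · have := hM.1
    obtain ⟨e⟩ := nonempty_equiv_of_conj (stabilizer s.ker (none : Option (α ⊕ B))) _
      (inf_le_left (b := stabilizer _ (none : Option (α ⊕ B)))) 1 (one_mem _)
      (by intro y; simp [mem_stabilizer_iff]; rfl)
    rw [← hst] at e
    exact (e.trans (M.equivMapOfInjective _ pbHom_injective).symm).isSimpleGroup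

end H9
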