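import Mathlib
import Cfsg.Agent.H9.HSAut

/-! Rank 3 groups of degree 100 with subdegrees 22 and 77. -/

set_option autoImplicit false
set_option linter.unusedSectionVars false

namespace H9

open Cfsg Finset MulAction Sum
open scoped Pointwise

section

variable {V W : Type*} {G : SimpleGraph V} {G' : SimpleGraph W}

/-- conjugation by an isomorphism of graphs. -/
def autConj (e : G ≃g G') : (G ≃g G) ≃* (G' ≃g G') where
  toFun g := (e.symm.trans g).trans e
  invFun g := (e.trans g).trans e.symm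
  left_inv g := by ext; simp
  right_inv g := by ext; simp
  map_mul' g h := by ext; simp [RelIso.mul_apply]

theorem eq_of_index_two {A : Type*} [Group A] [Finite A] {H K : Subgroup A} (hH : IsSimpleGroup H)
    (h2 : 2 < Nat.card H) (hA : Nat.card A = 2 * Nat.card H) (hK : Nat.card K = Nat.card H) :
    K = H := by
  have hi : K.index = 2 := by
    have := K.index_mul_card
    rw [hK, hA] at this
    exact Nat.eq_of_mul_eq_mul_right (by omega) this
  have := Subgroup.normal_of_index_eq_two hi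
  rcases hH.eq_bot_or_eq_top_of_normal (K.subgroupOf H) inferInstance with e | e
  · have h1 := Subgroup.relIndex_dvd_index_of_normal K H
    rw [Subgroup.relIndex, e, Subgroup.index_bot, hi] at h1
    have := Nat.le_of_dvd two_pos h1
    omega
  · exact (Subgroup.eq_of_le_of_card_ge (Subgroup.subgroupOf_eq_top.1 e) hK.le).symm

theorem srg100_aut [Finite V] (h : SRG G 100 22 0 6) :
    Nat.card (G ≃g G) = 88704000 ∧ ∃ H : Subgroup (G ≃g G), IsHS H := by
  classical
  have := Fintype.ofFinite V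
  obtain ⟨v⟩ := (Nat.card_pos_iff.1 (h.card ▸ (by norm_num : 0 < 100))).1
  obtain ⟨B, hB, e, -⟩ := srg100_model h v
  have hα : Fintype.card {x // G.Adj v x} = 22 := by
    rw [← Nat.card_eq_fintype_card]; exact h.deg v
  obtain ⟨H, hH⟩ := exists_hs hα hB
  refine ⟨by rw [Nat.card_congr (autConj e).toEquiv, card_pbAut hα hB],
    H.map (autConj e).symm.toMonoidHom, ?_⟩
  have f := ((autConj e).symm.subgroupMap H).symm
  exact ⟨simple_of_equiv ⟨f⟩ hH.1, card_of_equiv ⟨f⟩ hH.2⟩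

/-- a trace obstruction to strongly regular graphs. -/
theorem SRG.trace_cond [Finite V] {n k l m : ℕ} (h : SRG G n k l m) (R : Type) [CommRing R]
    [IsReduced R] (a c : R) (h1 : (k : R) - m + a ^ 2 = 0) (h2 : (l : R) - m + 2 * a = 0)
    (h3 : (m : R) + c ^ 2 * n + 2 * c * k + 2 * a * c = 0) : (n : R) * (a + c) = 0 := by
  classical
  have := Fintype.ofFinite V
  have hs := srg_iff.2 h
  set A := G.adjMatrix R
  let J : Matrix V V R := Matrix.of fun _ _ => 1
  have hn : Fintype.card V = n := hs.card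
  have e1 : A * J = (k : R) • J := by
    ext v w
    simp [A, J, hs.regular v]
  have e2 : J * A = (k : R) • J := by
    ext v w
    simp [A, J, hs.regular w]
  have e3 : J * J = (n : R) • J := by
    ext v w
    simp [J, Matrix.mul_apply, hn]
  have e4 : Gᶜ.adjMatrix R = J - 1 - A := by
    ext v w
    by_cases e : v = w
    · subst e; simp [A, J]
    · by_cases e' : G.Adj v w <;> simp [A, J, e, e']
  have e5 : A * A = (k : R) • 1 + (l : R) • A + (m : R) • (J - 1 - A) := by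
    rw [← sq, hs.matrix_eq, e4]
    simp only [Nat.cast_smul_eq_nsmul]
    rfl
  have e6 : (A + a • (1 : Matrix V V R) + c • J) ^ 2 = ((k : R) - m + a ^ 2) • 1 +
      ((l : R) - m + 2 * a) • A + ((m : R) + c ^ 2 * n + 2 * c * k + 2 * a * c) • J := by
    simp only [sq, mul_add, add_mul, Matrix.mul_smul, Matrix.smul_mul, e1, e2, e3, e5, mul_one,
      one_mul]
    module
  rw [h1, h2, h3, zero_smul, zero_smul, zero_smul, add_zero, add_zero] at e6
  have := (Matrix.isNilpotent_trace_of_isNilpotent ⟨2, e6⟩).eq_zero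
  rw [← this]
  simp [A, J, Matrix.trace, hn, add_mul, mul_comm]

theorem SRG.trace_dvd [Finite V] {n k l m : ℕ} (h : SRG G n k l m) (p : ℕ) (hp : p.Prime)
    (a c : ℤ) (h1 : (p : ℤ) ∣ k - m + a ^ 2) (h2 : (p : ℤ) ∣ l - m + 2 * a)
    (h3 : (p : ℤ) ∣ m + c ^ 2 * n + 2 * c * k + 2 * a * c) : (p : ℤ) ∣ n * (a + c) := by
  have := Fact.mk hp
  rw [← ZMod.intCast_zmod_eq_zero_iff_dvd] at *
  push_cast at *
  exact h.trace_cond (ZMod p) a c h1 h2 h3

theorem SRG.eq_hs [Finite V] {l m : ℕ} (h : SRG G 100 22 l m) : SRG G 100 22 0 6 := by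
  classical
  have := Fintype.ofFinite V
  obtain ⟨x⟩ := (Nat.card_pos_iff.1 (h.card ▸ (by norm_num : 0 < 100))).1
  obtain ⟨b, hb⟩ := Set.nonempty_of_ncard_ne_zero (s := {w | G.Adj x w}) (by rw [h.deg]; omega)
  have hsub : insert b {u | G.Adj x u ∧ G.Adj b u} ⊆ {w | G.Adj x w} :=
    Set.insert_subset hb fun u hu => hu.1
  have hc : (insert b {u | G.Adj x u ∧ G.Adj b u}).ncard = l + 1 := by
    rw [Set.ncard_insert_of_notMem (by simp), h.adj x b hb]
  have hl := Set.ncard_le_ncard hsub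
  rw [hc, h.deg] at hl
  have hp := (srg_iff.2 h).param_eq G (by norm_num)
  have : (l = 0 ∧ m = 6) ∨ (l = 7 ∧ m = 4) ∨ (l = 14 ∧ m = 2) ∨ (l = 21 ∧ m = 0) := by omega
  rcases this with ⟨rfl, rfl⟩ | ⟨rfl, rfl⟩ | ⟨rfl, rfl⟩ | ⟨rfl, rfl⟩
  · exact h
  · exact absurd (h.trace_dvd 3 (by norm_num) 0 (-1) (by decide) (by decide) (by decide)) (by decide)
  · exfalso
    obtain ⟨c, hc1, hc2⟩ := Set.exists_mem_notMem_of_ncard_lt_ncard
      (s := insert b {u | G.Adj x u ∧ G.Adj b u}) (t := {w | G.Adj x w}) (by rw [hc, h.deg]; omega)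
    simp only [Set.mem_insert_iff, Set.mem_ofPred_eq, not_or, not_and] at hc1 hc2
    have h1 := Set.ncard_union_add_ncard_inter {u | G.Adj x u ∧ G.Adj b u} {u | G.Adj x u ∧ G.Adj c u}
    have h2 := Set.ncard_le_ncard (s := {u | G.Adj x u ∧ G.Adj b u} ∪ {u | G.Adj x u ∧ G.Adj c u})
      (t := {w | G.Adj x w}) (fun u hu => hu.elim And.left And.left)
    have h3 := Set.ncard_le_ncard (s := {u | G.Adj x u ∧ G.Adj b u} ∩ {u | G.Adj x u ∧ G.Adj c u})
      (t := {u | G.Adj b u ∧ G.Adj c u}) (fun u hu => ⟨hu.1.2, hu.2.2⟩)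
    rw [h.nadj b c (Ne.symm hc2.1) (hc2.2 hc1)] at h3
    rw [h.adj x b hb, h.adj x c hc1] at h1
    rw [h.deg] at h2
    omega
  · exact absurd (h.trace_dvd 23 (by norm_num) 1 0 (by decide) (by decide) (by decide)) (by decide)

end

variable {Γ X : Type*} [Group Γ] [MulAction Γ X]

/-- the orbital graph of a rank 3 action with different subdegrees. -/
theorem Rank3.exists_srg [Finite X] {x : X} {O₁ O₂ : Set X} (h : Rank3 Γ x O₁ O₂)
    (hinv : ∀ g : Γ, g • x = x → ∀ y ∈ O₁, g • y ∈ O₁) (hlt : O₁.ncard < O₂.ncard)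
    (h0 : O₁.Nonempty) : ∃ (G : SimpleGraph X) (l m : ℕ), (∀ y, G.Adj x y ↔ y ∈ O₁) ∧
      (∀ (g : Γ) y z, G.Adj (g • y) (g • z) ↔ G.Adj y z) ∧ SRG G (Nat.card X) O₁.ncard l m := by
  classical
  have := Fintype.ofFinite X
  let R : X → X → Prop := fun y z => ∀ g : Γ, g • x = y → g⁻¹ • z ∈ O₁
  have hR : ∀ (g : Γ) y z, R y z → R (g • y) (g • z) := fun g y z h k hk => by
    have := h (g⁻¹ * k) (by rw [mul_smul, hk, inv_smul_smul])
    rwa [mul_inv_rev, inv_inv, mul_smul] at this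
  have hR' : ∀ (g : Γ) y z, R (g • y) (g • z) ↔ R y z := fun g y z =>
    ⟨fun h => by simpa using hR g⁻¹ _ _ h, hR g y z⟩
  have hx : ∀ y, R x y ↔ y ∈ O₁ := fun y =>
    ⟨fun h => by simpa using h 1 (one_smul _ _), fun hy g hg =>
      hinv _ (inv_smul_eq_iff.2 hg.symm) y hy⟩
  have hcount : ∀ (g : Γ) (P Q : X → Prop), (∀ u, P (g • u) ↔ Q u) →
      {u | P u}.ncard = {u | Q u}.ncard := fun g P Q hPQ => by
    rw [← Set.ncard_smul_set g {u | Q u}]
    congr 1
    ext u
    rw [Set.mem_smul_set_iff_inv_smul_mem, Set.mem_ofPred_eq, Set.mem_ofPred_eq, ← hPQ,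
      smul_inv_smul]
  have hdeg : ∀ y, {z | R y z}.ncard = O₁.ncard := fun y => by
    obtain ⟨g, rfl⟩ := h.trans y
    exact hcount g _ _ fun u => (hR' g x u).trans (hx u)
  have hin : {y | R y x}.ncard = O₁.ncard := by
    have h1 : ∑ y, ({z | R y z}.ncard : ℤ) = ∑ z, ({y | R y z}.ncard : ℤ) := by
      simp only [ncard_eq_sum]
      exact sum_comm
    have h2 : ∀ z, {y | R y z}.ncard = {y | R y x}.ncard := fun z => by
      obtain ⟨g, rfl⟩ := h.trans z
      exact hcount g _ _ fun u => hR' g u x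
    simp only [hdeg, h2, sum_const, card_univ, nsmul_eq_mul] at h1
    have h3 : (Fintype.card X : ℤ) ≠ 0 := by
      have : Nonempty X := ⟨x⟩
      exact_mod_cast Fintype.card_ne_zero
    exact_mod_cast (mul_left_cancel₀ h3 h1).symm
  have hirr : ∀ y, ¬ R y y := fun y => by
    obtain ⟨g, rfl⟩ := h.trans y
    rw [hR', hx]; exact h.not₁
  have hsym0 : {y | R y x} = O₁ := by
    refine Set.eq_of_subset_of_ncard_le (fun y hy => ?_) hin.ge
    rcases h.cover y with rfl | hy' | hy'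
    · exact absurd hy (hirr _)
    · exact hy'
    · exfalso
      have := Set.ncard_le_ncard (s := O₂) (t := {y | R y x}) (fun z hz => by
        obtain ⟨g, hg, rfl⟩ := h.tr₂ y hy' z hz
        have := hR g _ _ hy
        rwa [hg] at this)
      omega
  have hsym : ∀ y z, R y z → R z y := fun y z hyz => by
    obtain ⟨g, rfl⟩ := h.trans y
    obtain ⟨z, rfl⟩ := MulAction.surjective g z
    rw [hR', hx, ← hsym0] at hyz
    exact hR g _ _ hyz
  let G : SimpleGraph X := ⟨R, ⟨hsym⟩, ⟨hirr⟩⟩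
  obtain ⟨b, hb⟩ := h0
  obtain ⟨c, hc, hc'⟩ := Set.exists_mem_notMem_of_ncard_lt_ncard hlt
  have hpair : ∀ y z b, (∃ g : Γ, g • x = y ∧ g • b = z) →
      {u | R y u ∧ R z u}.ncard = {u | R x u ∧ R b u}.ncard := by
    rintro _ _ b ⟨g, rfl, rfl⟩
    exact hcount g _ _ fun u => by rw [hR', hR']
  refine ⟨G, {u | R x u ∧ R b u}.ncard, {u | R x u ∧ R c u}.ncard, hx, hR', rfl, hdeg,
    fun y z hyz => hpair y z b ?_, fun y z hne hyz => hpair y z c ?_⟩
  · obtain ⟨g, rfl⟩ := h.trans y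
    obtain ⟨z, rfl⟩ := MulAction.surjective g z
    obtain ⟨k, h1, rfl⟩ := h.tr₁ b hb z ((hx z).1 ((hR' g x z).1 hyz))
    exact ⟨g * k, by rw [mul_smul, h1], mul_smul _ _ _⟩
  · obtain ⟨g, rfl⟩ := h.trans y
    obtain ⟨z, rfl⟩ := MulAction.surjective g z
    have : z ∈ O₂ := by
      rcases h.cover z with rfl | hz | hz
      · exact absurd rfl hne
      · exact absurd (hR g _ _ ((hx z).2 hz)) hyz
      · exact hz
    obtain ⟨k, h1, rfl⟩ := h.tr₂ c hc z this
    exact ⟨g * k, by rw [mul_smul, h1], mul_smul _ _ _⟩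

theorem Rank3.faithful {x : X} {O₁ O₂ : Set X} (h : Rank3 Γ x O₁ O₂) (h1 : 1 < O₁.ncard)
    (hs : IsSimpleGroup (stabilizer Γ x)) : FaithfulSMul Γ X := by
  have : (toPermHom Γ X).ker = ⊥ := by
    rcases hs.eq_bot_or_eq_top_of_normal ((toPermHom Γ X).ker.subgroupOf (stabilizer Γ x))
      inferInstance with e | e
    · exact (Subgroup.subgroupOf_eq_bot.1 e).eq_bot_of_le fun g hg =>
        congrArg (fun σ : Equiv.Perm X => σ x) hg
    · obtain ⟨y, hy, z, hz, hne⟩ := (Set.one_lt_ncard (Set.finite_of_ncard_pos (by omega))).1 h1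
      obtain ⟨g, hg, rfl⟩ := h.tr₁ y hy z hz
      exact absurd (congrArg (fun σ : Equiv.Perm X => σ y) (Subgroup.subgroupOf_eq_top.1 e hg)).symm hne
  exact ⟨fun {g k} e => (MonoidHom.ker_eq_bot_iff _).1 this (Equiv.ext e)⟩

theorem Rank3.card_eq {x : X} {O₁ O₂ : Set X} (h : Rank3 Γ x O₁ O₂) :
    Nat.card Γ = Nat.card X * Nat.card (stabilizer Γ x) := by
  have := card_eq_orbit_mul (⊤ : Subgroup Γ) x
  rwa [top_inf_eq, Subgroup.card_top, Set.eq_univ_of_forall (s := {y | ∃ g ∈ ⊤, g • x = y})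
    (fun y => by simpa using h.trans y), Set.ncard_univ] at this

/-- the data of the Higman-Sims rank 3 action. -/
structure HSAction (Γ : Type*) {X : Type*} [Group Γ] [MulAction Γ X] (x : X) (O₁ O₂ : Set X) :
    Prop where
  rank3 : Rank3 Γ x O₁ O₂
  inv : ∀ g : Γ, g • x = x → ∀ y ∈ O₁, g • y ∈ O₁
  card : Nat.card X = 100
  card₁ : O₁.ncard = 22
  card₂ : O₂.ncard = 77
  stab : IsM22 (stabilizer Γ x)

theorem HSAction.isHS {x : X} {O₁ O₂ : Set X} (h : HSAction Γ x O₁ O₂) : IsHS Γ := by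
  have : Finite X := Nat.finite_of_card_ne_zero (by rw [h.card]; omega)
  have hc := h.rank3.card_eq
  rw [h.card, h.stab.2] at hc
  have : Finite Γ := Nat.finite_of_card_ne_zero (by omega)
  have := h.rank3.faithful (by rw [h.card₁]; omega) h.stab.1
  exact ⟨h.rank3.simple100 h.card h.card₁ h.card₂ h.stab.1, hc⟩

theorem HSAction.exists_hom {x : X} {O₁ O₂ : Set X} (h : HSAction Γ x O₁ O₂) :
    ∃ G : SimpleGraph X, SRG G 100 22 0 6 ∧ ∃ θ : Γ →* (G ≃g G), Function.Injective θ := by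
  have : Finite X := Nat.finite_of_card_ne_zero (by rw [h.card]; omega)
  have := h.rank3.faithful (by rw [h.card₁]; omega) h.stab.1
  obtain ⟨G, l, m, -, h2, h3⟩ := h.rank3.exists_srg h.inv (by rw [h.card₁, h.card₂]; omega)
    (Set.nonempty_of_ncard_ne_zero (by rw [h.card₁]; omega))
  rw [h.card, h.card₁] at h3
  refine ⟨G, h3.eq_hs, MonoidHom.mk' (fun g => ⟨toPerm g, h2 g _ _⟩) fun g k => ?_, ?_⟩
  · ext y; exact mul_smul g k y
  · intro g k e
    exact eq_of_smul_eq_smul (α := X) fun y => congrArg (fun σ : G ≃g G => σ y) e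

theorem HSAction.iso {Γ' X' : Type*} [Group Γ'] [MulAction Γ' X'] {x : X} {O₁ O₂ : Set X}
    {x' : X'} {O₁' O₂' : Set X'} (h : HSAction Γ x O₁ O₂) (h' : HSAction Γ' x' O₁' O₂') :
    Nonempty (Γ ≃* Γ') := by
  have : Finite X := Nat.finite_of_card_ne_zero (by rw [h.card]; omega)
  have : Finite X' := Nat.finite_of_card_ne_zero (by rw [h'.card]; omega)
  obtain ⟨G, hG, θ, hθ⟩ := h.exists_hom
  obtain ⟨G', hG', θ', hθ'⟩ := h'.exists_hom
  obtain ⟨e, -⟩ := srg100_iso hG hG' x x'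
  obtain ⟨hc, H, hH⟩ := srg100_aut hG'
  have : Finite (G' ≃g G') := Nat.finite_of_card_ne_zero (by omega)
  have h1 : Function.Injective ((autConj e).toMonoidHom.comp θ) := (autConj e).injective.comp hθ
  have f := MonoidHom.ofInjective h1
  have f' := MonoidHom.ofInjective hθ'
  rw [eq_of_index_two (K := MonoidHom.range _) hH.1 (by rw [hH.2]; omega) (by rw [hc, hH.2])
    (by rw [hH.2, ← Nat.card_congr f.toEquiv, h.isHS.2])] at f
  rw [eq_of_index_two (K := MonoidHom.range _) hH.1 (by rw [hH.2]; omega) (by rw [hc, hH.2])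
    (by rw [hH.2, ← Nat.card_congr f'.toEquiv, h'.isHS.2])] at f'
  exact ⟨f.trans f'.symm⟩

theorem hsAction_of_orbits [IsPretransitive Γ X] (hX : Nat.card X = 100) (a b c : X)
    (hs : IsM22 (stabilizer Γ a)) (hb : (orbit (stabilizer Γ a) b).ncard = 22)
    (hc : (orbit (stabilizer Γ a) c).ncard = 77) :
    HSAction Γ a (orbit (stabilizer Γ a) b) (orbit (stabilizer Γ a) c) := by
  have : Finite X := Nat.finite_of_card_ne_zero (by omega)
  have hn : ∀ y, 1 < (orbit (stabilizer Γ a) y).ncard → a ∉ orbit (stabilizer Γ a) y := by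
    intro y hy ha
    have : orbit (stabilizer Γ a) a = {a} :=
      Set.eq_singleton_iff_unique_mem.2 ⟨mem_orbit_self a, by rintro _ ⟨g, rfl⟩; exact g.2⟩
    rw [← orbit_eq_iff.2 ha, this] at hy
    simp at hy
  have htr : ∀ y : X, ∀ u ∈ orbit (stabilizer Γ a) y, ∀ v ∈ orbit (stabilizer Γ a) y,
      ∃ g : Γ, g • a = a ∧ g • u = v := by
    rintro y _ ⟨g, rfl⟩ _ ⟨k, rfl⟩
    refine ⟨(k * g⁻¹).1, (k * g⁻¹).2, ?_⟩
    change (k * g⁻¹) • g • y = k • y
    rw [mul_smul, inv_smul_smul]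
  have h1 := hn b (by omega)
  have h2 := hn c (by omega)
  refine ⟨⟨fun y => exists_smul_eq Γ a y, ?_, h1, h2, htr b, htr c⟩, ?_, hX, hb, hc, hs⟩
  · have hd : Disjoint (orbit (stabilizer Γ a) b) (orbit (stabilizer Γ a) c) := by
      rw [Set.disjoint_left]
      intro y hy hy'
      rw [← orbit_eq_iff.2 hy, orbit_eq_iff.2 hy'] at hb
      omega
    have := Set.eq_of_subset_of_ncard_le (Set.subset_univ (insert a (orbit (stabilizer Γ a) b ∪
      orbit (stabilizer Γ a) c))) (by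
        rw [Set.ncard_insert_of_notMem (by simp [h1, h2]), Set.ncard_union_eq hd, Set.ncard_univ]
        omega)
    intro y
    simpa using (this ▸ Set.mem_univ y : y ∈ insert a (orbit (stabilizer Γ a) b ∪ _))
  · rintro g hg _ ⟨k, rfl⟩
    exact ⟨⟨g, hg⟩ * k, mul_smul _ _ _⟩

end H9
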