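import Mathlib
import Cfsg.Agent.H19.B0
import Cfsg.Agent.H19.Z3
import Cfsg.Agent.H6.BB17

/-!
# Involutions centralising two short elements
-/

set_option autoImplicit false
set_option linter.all false

namespace H10.Mon.MG

namespace BE

open H6F

theorem n3 {W : AddSubgroup C} (h : 4 < Nat.card W) : ∃ r ∈ W, r ≠ 0 ∧ ¬ IsS r := by
  classical
  have k : ∀ s : Finset C, s.card ≤ 4 → ∃ r ∈ W, r ∉ s := fun s hs => by
    by_contra hn
    push Not at hn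
    have := Nat.card_le_card_of_injective (fun w : W => (⟨w, hn w w.2⟩ : s))
      fun a b e => Subtype.ext (congrArg Subtype.val e :)
    rw [Nat.card_eq_finsetCard] at this
    omega
  by_contra hn
  push Not at hn
  obtain ⟨a, a1, a2⟩ := k {0} (by simp)
  obtain ⟨b, b1, b2⟩ := k {0, a} (Finset.card_le_two.trans (by norm_num))
  obtain ⟨c, c1, c2⟩ := k {0, a, b, b + a} Finset.card_le_four
  simp only [Finset.mem_insert, Finset.mem_singleton, not_or] at a2 b2 c2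
  obtain ⟨g, e⟩ := trans_S (toS a (hn a a1 a2)) c0
  replace e : g • a = c0.1 := congrArg Subtype.val e
  have s : ∀ {u v}, u ∈ W → v ∈ W → u ≠ v → IsS (g • u + g • v) := fun {u v} h1 h2 h3 =>
    smul_add g u v ▸ (hn _ (add_mem h1 h2) fun e => h3 (add_eq_zero_C.1 e)).smul g
  refine no_tri ((hn b b1 b2.1).smul g) (e ▸ s b1 a1 b2.2) ((hn c c1 c2.1).smul g)
    (e ▸ s c1 a1 c2.2.1) (s b1 c1 (Ne.symm c2.2.2.1)) ?_
  rw [← e, add_right_comm, ← smul_add]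
  exact s (add_mem b1 a1) c1 (Ne.symm c2.2.2.2)

theorem card_map (W : AddSubgroup C) (f : C →+ C) {U V : AddSubgroup C} (h1 : ∀ c ∈ W, f c ∈ U)
    (h2 : ∀ c ∈ W, f c = 0 → c ∈ V) : Nat.card W ≤ Nat.card U * Nat.card V := by
  rw [← (f.ker.addSubgroupOf W).card_mul_index, mul_comm]
  refine Nat.mul_le_mul ?_ ?_
  · rw [show (f.ker.addSubgroupOf W).index = _ from AddSubgroup.relIndex_ker W f]
    exact AddSubgroup.card_le_of_le (by rintro _ ⟨c, hc, rfl⟩; exact h1 c hc)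
  · exact Nat.card_le_card_of_injective (fun c => ⟨c.1, h2 _ c.1.2 c.2⟩)
      fun a b e => Subtype.ext (Subtype.ext (congrArg Subtype.val e :))

theorem perpU (U : AddSubgroup C) :
    ∃ P : AddSubgroup C, (∀ c ∈ P, ∀ u ∈ U, pl u c = 0) ∧ 2 ^ 24 ≤ Nat.card U * Nat.card P := by
  let B : LinearMap.BilinForm (ZMod 2) C := bbL + bbL.flip
  let U' : Submodule (ZMod 2) C := AddSubgroup.toZModSubmodule 2 U
  have h := LinearMap.BilinForm.finrank_add_finrank_orthogonal (B := B)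
    (fun a b e => (add_comm _ _).trans e) U'
  refine ⟨(B.orthogonal U').toAddSubgroup, fun c hc u hu => hc u hu, ?_⟩
  have e1 : Nat.card U' = _ := Module.natCard_eq_pow_finrank (K := ZMod 2)
  have e2 : Nat.card (B.orthogonal U') = _ := Module.natCard_eq_pow_finrank (K := ZMod 2)
  have e3 : Nat.card C = _ := Module.natCard_eq_pow_finrank (K := ZMod 2)
  rw [← card_C, e3, show Nat.card U = _ from e1, show Nat.card (B.orthogonal U').toAddSubgroup = _ from e2,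
    ← pow_add, h, Nat.card_zmod]
  exact Nat.pow_le_pow_right (by norm_num) (Nat.le_add_right _ _)

variable {eO eD s0 h h' : G0} (L : LF eO eD s0) (h2 : ∀ c : C, h • h • c = c) (h1 : ¬ Ac h 1)
include L h2 h1

theorem big (W : AddSubgroup C) : Nat.card W ≤ Nat.card (W.map (N1 h)) * 2 ^ 17 :=
  (card_map W (N1 h) (U := W.map (N1 h)) (V := FixC h) (fun c hc => ⟨c, hc, rfl⟩) fun c _ e => N1_ker h ▸ e).trans
    (Nat.mul_le_mul_left _ (card_fix17 L h2 h1))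

theorem lin1 (k2 : ∀ c : C, h' • h' • c = c) (cm : ∀ c : C, h' • h • c = h • h' • c) {c c' : C}
    (f : h' • c = c) (f' : h' • c' = c') : ∃ d, pl d c = 0 ∧ pl d c' = 0 ∧
      h' • (d + h • d) = d + h • d ∧ d + h • d ≠ 0 ∧ ¬ IsS (d + h • d) := by
  have a1 := card_perp ⊤ c
  have a2 := card_perp (PerpC ⊤ c) c'
  have a3 := big L h2 h1 (PerpC (PerpC ⊤ c) c')
  rw [AddSubgroup.card_top, card_C] at a1
  set W := (PerpC (PerpC ⊤ c) c').map (N1 h)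
  have a4 := card_map W (N1 h') (U := W ⊓ FixC h') (V := W ⊓ FixC h') (fun r hr => ⟨add_mem hr (by
      obtain ⟨d, ⟨⟨-, d1⟩, d2⟩, rfl⟩ := hr
      exact ⟨h' • d, ⟨⟨trivial, by rw [← f, pl_smul, d1]⟩, by rw [← f', pl_smul, d2]⟩,
        show h' • d + h • h' • d = h' • (d + h • d) by rw [smul_add, cm]⟩),
      show h' • (r + h' • r) = r + h' • r by rw [smul_add, k2, add_comm]⟩)
    fun r hr e => ⟨hr, N1_ker h' ▸ e⟩
  obtain ⟨_, ⟨⟨d, ⟨⟨-, d1⟩, d2⟩, rfl⟩, r1⟩, r2⟩ := n3 (W := W ⊓ FixC h') (by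
    by_contra hn
    have := Nat.mul_le_mul (not_lt.1 hn) (not_lt.1 hn)
    omega)
  exact ⟨d, d1, d2, r1, r2⟩

theorem lin2 (hh : h ∈ N0) (c : C) :
    ∃ d, pl d c = 0 ∧ (d + h • d).1 = 0 ∧ d + h • d ≠ 0 ∧ ¬ IsS (d + h • d) := by
  let E : AddSubgroup C := (AddMonoidHom.fst _ _).ker
  let K := E.comap (N1 h)
  have a1 := card_perp K c
  have a2 := big L h2 h1 (PerpC K c)
  have a3 := card_le_two (W := (PerpC K c).map (N1 h)) (U := E.map (N1 h)) (by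
    have k : ∀ a ∈ E, a ∈ K := fun a ha => add_mem ha (fst_smul_zero hh ha)
    rintro _ ⟨a, ha, rfl⟩ _ ⟨b, hb, rfl⟩
    rcases z2 (pl a c) with e | e
    · exact .inl ⟨a, ⟨k a ha, e⟩, rfl⟩
    rcases z2 (pl b c) with e' | e'
    · exact .inr (.inl ⟨b, ⟨k b hb, e'⟩, rfl⟩)
    · exact .inr (.inr ⟨a + b, ⟨k _ (add_mem ha hb), by rw [pl_add', e, e']; rfl⟩, map_add _ _ _⟩))
  obtain ⟨P, p1, p2⟩ := perpU (E.map (N1 h))
  have a4 : Nat.card P ≤ Nat.card K := AddSubgroup.card_le_of_le fun d hd => by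
    change (d + h • d).1 = 0
    funext j
    have := p1 d hd _ ⟨(0, Pi.single j 1), rfl, rfl⟩
    change pl (_ + h • _) d = 0 at this
    rw [pl_add', ← pl_smul h (h • _), h2, ← pl_add] at this
    simpa [pl, bb] using this
  obtain ⟨_, ⟨d, ⟨d1, d2⟩, rfl⟩, r2⟩ := n3 (W := (PerpC K c).map (N1 h)) (by
    by_contra hn
    have := Nat.mul_le_mul (show Nat.card (E.map (N1 h)) ≤ 8 by omega) a4
    omega)
  exact ⟨d, d2, d1, r2⟩

end BE

variable {M : Type*} [Group M] {x y γ : M} {p : ZMod 2 → C → M} {eO eD s0 : G0}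

/-- `g a g⁻¹` lies in the extraspecial group. -/
def IQ (p : ZMod 2 → C → M) (g a : M) : Prop := ∃ t c, g * a * g⁻¹ = p t c

theorem IQ.mul (H : Sit y p) {g a b : M} : IQ p g a → IQ p g b → IQ p g (a * b)
  | ⟨_, _, e⟩, ⟨_, _, f⟩ => ⟨_, _, by rw [← conj_mul, e, f, H.mul]⟩

theorem IQ.cj (H : Sit y p) {g a n : M} (hn : n * y = y * n) : IQ p g a → IQ p (n * g) a
  | ⟨t, c, e⟩ => by
    obtain ⟨k, hk⟩ := H.up n hn
    exact ⟨_, _, Eq.trans (by rw [← e]; group) (hk t c)⟩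

theorem IQ.tr {g n a : M} (h : IQ p g (n * a * n⁻¹)) : IQ p (g * n) a := by
  simpa only [IQ, mul_assoc, mul_inv_rev] using h

theorem IQ.of {a : M} (h : ∃ t c, a = p t c) : IQ p 1 a := by simpa [IQ] using h

namespace Two

variable [Finite M] (H : Two x y p γ) (L : LF eO eD s0)
include H

theorem iq_sym {g : M} {t : ZMod 2} {c : C} (e : g * p t c * g⁻¹ = y) : IQ p g y := by
  obtain ⟨s, d, f⟩ := H.s.symQ (g := g⁻¹) (t := t) (c := c) (by rw [← e]; group)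
  exact ⟨s, d, by conv_lhs => rw [f]
                  group⟩

include L

theorem inQ2 {a : M} (hy : a * y = y * a) (h1 : IsConj x a) (h2 : IsConj x (a * y)) :
    ∃ t c, a = p t c := by
  obtain ⟨h, kh, sh, e, P⟩ := H.exists_h L
  rcases H.cls L P hy (sq_of_cj h1 H.xx) with k | k | k
  · exact k
  · rcases k.t2 H.s.yy (H.h_ab P) with k | k
    exacts [(H.nAB h2 k.2).elim, (H.nAB h1 k.1).elim]
  · exact (H.nAB h1 k.1).elim

theorem laA {a : M} {k : GT} (hk : Rel p a k) (h1 : IsConj x a) (n : ¬ ∃ t c, a = p t c) :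
    La k ∧ I2 k := by
  obtain ⟨h, kh, sh, e, P⟩ := H.exists_h L
  refine ⟨?_, H.s.i2_of hk (.inl (sq_of_cj h1 H.xx))⟩
  rcases H.cls L P (H.s.rel_cm hk) (sq_of_cj h1 H.xx) with k | k | k
  exacts [(n k).elim, H.la_of hk (k.t2 H.s.yy (H.h_ab P)), (H.nAB h1 k.1).elim]

theorem stepQ {a : M} {k : GT} (hk : Rel p a k) (h1 : IsConj x a) (n : ¬ ∃ t c, a = p t c) {d : C}
    (r0 : d + co k • d ≠ 0) (r1 : ¬ IsS (d + co k • d)) : ∃ s g, g * p s (d + co k • d) * g⁻¹ = y ∧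
      ∀ b, b * p 0 d = p 0 d * b → IsConj x (a * b) → IQ p g (a * b) := by
  obtain ⟨la, i2⟩ := H.laA L hk h1 n
  have b0 : bb (d + co k • d) (d + co k • d) = 0 := by
    rw [bb_add_self, bb_smul_self, zz2, zero_add, ← i2.ep_im, la _ (im_fix i2 d)]
  obtain ⟨s, e⟩ : ∃ s, a * p 0 d * a⁻¹ * (p 0 d)⁻¹ = p s (d + co k • d) :=
    ⟨_, by rw [hk, H.s.q_inv, H.s.mul, add_comm (co k • d)]⟩
  obtain ⟨g, hg⟩ := isConj_iff.1 (H.qB s r0 b0 r1).symm
  refine ⟨s, g, hg, fun b b1 b2 => ?_⟩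
  have e1 : a * b * p 0 d * (a * b)⁻¹ * (p 0 d)⁻¹ = p s (d + co k • d) := by
    rw [← e, mul_assoc a b, b1]; group
  have sq := sq_of_cj b2 H.xx
  have sr := H.s.sq0 s b0
  generalize a * b = u at *
  rw [inv_eq_of_mul_eq_one_right sq] at e1
  have e2 : u * p s (d + co k • d) = p 0 d * u * (p 0 d)⁻¹ := by
    rw [← e1, ← mul_assoc, ← mul_assoc, ← mul_assoc, sq, one_mul]
  have e3 : u * p s (d + co k • d) = p s (d + co k • d) * u := by
    have := sq_of_cj (cj_of e2.symm) sq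
    rw [← inv_eq_of_mul_eq_one_right this, mul_inv_rev, inv_eq_of_mul_eq_one_right sq,
      inv_eq_of_mul_eq_one_right sr]
  exact H.inQ2 L (by rw [← hg, conj_mul, conj_mul, e3]) (b2.trans (cj_of rfl))
    (b2.trans ((cj_of e2.symm).trans (cj_of (a := g) (by rw [← hg, conj_mul]))))

theorem st {b v : M} (hb : b * y = y * b) (h1 : IsConj x b) (n : ¬ ∃ t c, b = p t c) {s s' : ZMod 2}
    {c c' : C} (a1 : IsConj x (b * p s c)) (a2 : IsConj x (b * p s' c')) {l : GT} (hl : Rel p v l)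
    (la : La l ∧ I2 l) (v0 : v * b = b * v) (v1 : v * p s c = p s c * v)
    (v2 : v * p s' c' = p s' c' * v) : ∃ g, IQ p g y ∧ IQ p g b ∧ IQ p g (p s c) ∧ IQ p g (p s' c') ∧
      g * v * g⁻¹ * y = y * (g * v * g⁻¹) := by
  obtain ⟨k, hk⟩ := H.s.up b hb
  obtain ⟨d, d1, d2, d3, d4, d5⟩ := BE.lin1 L (fun c => ((H.laA L hk h1 n).2 c).2)
    (fun e => n (H.s.inQ hk e)) (fun c => (la.2 c).2) (fun c => by
      rw [← mul_smul, ← mul_smul, ← map_mul, ← map_mul]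
      exact (H.s.rel_uniq (hl.mul hk) (by rw [v0]; exact hk.mul hl) c).2)
    (H.s.cm_q hl v1).1 (H.s.cm_q hl v2).1
  obtain ⟨t, g, g1, g2⟩ := H.stepQ L hk h1 n d4 d5
  have q0 : IQ p g b := by simpa using g2 1 (by simp) (by simpa using h1)
  have k' : ∀ {s c}, pl d c = 0 → IsConj x (b * p s c) → IQ p g (p s c) := fun e a => by
    simpa [← mul_assoc, sq_of_cj h1 H.xx] using
      q0.mul H.s (g2 _ (H.s.cm_iff.2 (pl_comm _ _ ▸ e)) a)
  refine ⟨g, H.iq_sym g1, q0, k' d1 a1, k' d2 a2, ?_⟩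
  have := hl t (d + co k • d)
  rw [d3, la.1 _ d3, add_zero, mul_inv_eq_iff_eq_mul] at this
  rw [← g1, conj_mul, conj_mul, this]

theorem st1 {b : M} (hb : b * y = y * b) (h1 : IsConj x b) {s s' : ZMod 2}
    {c c' : C} (a1 : IsConj x (b * p s c)) (a2 : IsConj x (b * p s' c')) :
    ∃ g, IQ p g y ∧ IQ p g b ∧ IQ p g (p s c) ∧ IQ p g (p s' c') := by
  by_cases n : ∃ t c, b = p t c
  · exact ⟨1, .of ⟨_, _, H.s.one.symm⟩, .of n, .of ⟨_, _, rfl⟩, .of ⟨_, _, rfl⟩⟩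
  obtain ⟨g, g1, g2, g3, g4, -⟩ := H.st L hb h1 n a1 a2 Rel.one
    ⟨fun c _ => ep_one c, fun c => by simp [ep_one]⟩ (by simp) (by simp) (by simp)
  exact ⟨g, g1, g2, g3, g4⟩

theorem stB {b : M} (hb : b * y = y * b) (h1 : IsConj x b) {s t : ZMod 2} {c e : C}
    (a1 : IsConj x (b * p s c)) (a2 : IsConj y (p t e)) (cm : b * p t e = p t e * b) :
    ∃ g, IQ p g b ∧ IQ p g (p s c) ∧ IQ p g (p t e) := by
  by_cases e0 : e = 0
  · obtain ⟨g, g1, g2, g3, -⟩ := H.st1 L hb h1 a1 a1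
    subst e0
    rcases H.s.q0 t with f | f <;> rw [f] at a2 ⊢
    exacts [(H.s.y_ne (isConj_one_left.1 a2)).elim, ⟨g, g2, g3, g1⟩]
  by_cases n : ∃ t c, b = p t c
  · exact ⟨1, .of n, .of ⟨_, _, rfl⟩, .of ⟨_, _, rfl⟩⟩
  obtain ⟨h, rfl⟩ := typ4 e0 (H.bb_of (sq_of_cj a2 H.s.yy)) fun k => H.nAB (H.qA t k) a2
  obtain ⟨m, m1, m2⟩ := H.s.tr t 0 e0 h⁻¹
  rw [inv_smul_smul] at m2
  obtain ⟨l, hl⟩ := H.s.up m m1
  obtain ⟨k, hk⟩ := H.s.up _ (cm_conj m1 hb)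
  have n' : ¬ ∃ t c, m * b * m⁻¹ = p t c := fun ⟨t, c, e⟩ =>
    n ⟨_, _, Eq.trans (by rw [← e]; group) (hl.inv t c)⟩
  have h1' := h1.trans (cj_of (a := m) rfl)
  obtain ⟨d, d1, d2, d3, d4⟩ := BE.lin2 L (fun c => ((H.laA L hk h1' n').2 c).2)
    (fun e => n' (H.s.inQ hk e)) (H.s.mem_N0 hk (by rw [← m2, conj_mul, conj_mul, cm])) (co l • c)
  obtain ⟨r, g, g1, g2⟩ := H.stepQ L hk h1' n' d3 d4
  have q0 : IQ p g (m * b * m⁻¹) := by simpa using g2 1 (by simp) (by simpa using h1')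
  have q1 := q0.mul H.s (g2 (p (s + ep l c) (co l • c)) (H.s.cm_iff.2 (pl_comm _ _ ▸ d1))
    (by rw [← hl, conj_mul]; exact a1.trans (cj_of rfl)))
  rw [← mul_assoc, sq_of_cj h1' H.xx, one_mul, ← hl] at q1
  obtain ⟨u, f, -, e1⟩ := H.shared0 r d2
  obtain ⟨u', f', e2⟩ := H.iq_sym (g := g * γ) (t := u) (c := f) (by rw [← g1, e1]; group)
  exact ⟨g * m, q0.tr, q1.tr, IQ.tr ⟨u', f', by rw [m2, ← H.gy, ← e2]; group⟩⟩

theorem mfB {a b v : M} (ha : IsConj x a) (hb : IsConj x b) (hab : IsConj x (a * b))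
    (cm : a * b = b * a) (av : a * v = v * a) (bv : b * v = v * b) (hv : IsConj y v) :
    ∃ g, IQ p g a ∧ IQ p g b ∧ IQ p g v := by
  obtain ⟨m, hm⟩ := isConj_iff.1 hv.symm
  suffices ∀ a b, IsConj x a → IsConj x b → IsConj x (a * b) → a * b = b * a → a * y = y * a →
      b * y = y * b → ∃ g, IQ p g a ∧ IQ p g b ∧ IQ p g y by
    obtain ⟨g, g1, g2, g3⟩ := this _ _ (ha.trans (cj_of (a := m) rfl)) (hb.trans (cj_of (a := m) rfl))
      (by rw [conj_mul]; exact hab.trans (cj_of rfl)) (by rw [conj_mul, conj_mul, cm])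
      (by rw [← hm, conj_mul, conj_mul, av]) (by rw [← hm, conj_mul, conj_mul, bv])
    exact ⟨_, g1.tr, g2.tr, IQ.tr (hm ▸ g3)⟩
  intro a b ha hb hab cm ay by'
  by_cases n : ∃ t c, a = p t c
  · obtain ⟨t, c, rfl⟩ := n
    obtain ⟨g, g1, g2, g3, -⟩ := H.st1 L by' hb (cm ▸ hab) (cm ▸ hab)
    exact ⟨g, g3, g2, g1⟩
  by_cases n' : ∃ t c, b = p t c
  · obtain ⟨t, c, rfl⟩ := n'
    obtain ⟨g, g1, g2, g3, -⟩ := H.st1 L ay ha hab hab
    exact ⟨g, g2, g3, g1⟩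
  obtain ⟨l, hl⟩ := H.s.up b by'
  have z : IsConj x (a * p 0 0) := by rwa [H.s.zero, mul_one]
  obtain ⟨g, ⟨t, e, g1⟩, ⟨s, c, g2⟩, -, -, g3⟩ := H.st L ay ha n z z hl (H.laA L hl hb n') cm.symm
    (by simp [H.s.zero]) (by simp [H.s.zero])
  obtain ⟨u, u1, u2, u3⟩ := H.stB L g3 (hb.trans (cj_of rfl)) (s := s) (c := c)
    (by rw [← g2, conj_mul, ← cm]; exact hab.trans (cj_of rfl)) (cj_of g1)
    (by rw [← g1, conj_mul, conj_mul, by'])
  exact ⟨_, IQ.tr (g2 ▸ u2), u1.tr, IQ.tr (g1 ▸ u3)⟩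

theorem mfA0 {b v : M} (hb : IsConj x b) (hv : IsConj x v) (h1 : IsConj x (b * x))
    (h2 : IsConj x (v * x)) (h3 : IsConj x (v * b)) (vx : v * x = x * v) (cm : v * b = b * v)
    (by' : b * y = y * b) (vy : v * y = y * v) : ∃ g, IQ p g x ∧ IQ p g b ∧ IQ p g v := by
  have e := H.hx
  by_cases n : ∃ t c, b = p t c
  · obtain ⟨t, c, rfl⟩ := n
    obtain ⟨g, -, g1, g2, g3⟩ := H.st1 L vy hv (e.symm ▸ h2 : IsConj x (v * p 0 c0.1)) h3
    exact ⟨g, e ▸ g2, g3, g1⟩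
  by_cases n' : ∃ t c, v = p t c
  · obtain ⟨t, c, rfl⟩ := n'
    obtain ⟨g, -, g1, g2, g3⟩ := H.st1 L by' hb (e.symm ▸ h1 : IsConj x (b * p 0 c0.1)) (cm ▸ h3)
    exact ⟨g, e ▸ g2, g1, g3⟩
  obtain ⟨l, hl⟩ := H.s.up v vy
  have z : IsConj x (b * p 0 c0.1) := by rwa [e]
  obtain ⟨g, -, ⟨s, c, g1⟩, ⟨t, d, g2⟩, -, g3⟩ := H.st L by' hb n z z hl (H.laA L hl hv n') cm
    (by rwa [e]) (by rwa [e])
  rw [e] at g2
  obtain ⟨u, -, u1, u2, u3⟩ := H.st1 L g3 (hv.trans (cj_of rfl)) (s := s) (c := c) (s' := t) (c' := d)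
    (by rw [← g1, conj_mul]; exact h3.trans (cj_of rfl))
    (by rw [← g2, conj_mul]; exact h2.trans (cj_of rfl))
  exact ⟨_, IQ.tr (g2 ▸ u3), IQ.tr (g1 ▸ u2), u1.tr⟩

theorem mfA {b v : M} (hb : IsConj x b) (hv : IsConj x v) (h1 : IsConj x (b * x))
    (h2 : IsConj x (v * x)) (h3 : IsConj x (v * b)) (bx : b * x = x * b) (vx : v * x = x * v)
    (cm : v * b = b * v) : ∃ g, IQ p g x ∧ IQ p g b ∧ IQ p g v := by
  have bb := sq_of_cj hb H.xx
  have vv := sq_of_cj hv H.xx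
  have e1 : ∀ a, b * (b * a) = a := fun a => by rw [← mul_assoc, bb, one_mul]
  have e2 : ∀ a, v * (b * a) = b * (v * a) := fun a => by rw [← mul_assoc, cm, mul_assoc]
  obtain ⟨m, m1, m2⟩ := H.one.syl (P :=
    { carrier := {g | g = 1 ∨ g = b ∨ g = v ∨ g = b * v}
      one_mem' := .inl rfl
      mul_mem' := by
        rintro _ _ (rfl | rfl | rfl | rfl) (rfl | rfl | rfl | rfl) <;>
          simp [mul_assoc, e1, e2, cm, bb, vv]
      inv_mem' := by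
        rintro _ (rfl | rfl | rfl | rfl) <;>
          simp [inv_eq_of_mul_eq_one_right bb, inv_eq_of_mul_eq_one_right vv, cm] })
    (pg_of 1 (by rintro _ (rfl | rfl | rfl | rfl) <;> simp [pow_two, mul_assoc, e1, e2, bb, vv]))
    (by rintro _ (rfl | rfl | rfl | rfl); exacts [cm_one, bx, vx, cm_mul bx vx])
  have k : ∀ {u}, IsConj x u → IsConj x (m * u * m⁻¹) := fun h => h.trans (cj_of rfl)
  obtain ⟨g, g1, g2, g3⟩ := H.mfA0 L (k hb) (k hv) (cj_mul m1 ▸ k h1) (cj_mul m1 ▸ k h2)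
    (by rw [conj_mul]; exact k h3) (cm_conj m1 vx) (by rw [conj_mul, conj_mul, cm])
    (m2 b (.inr (.inl rfl))) (m2 v (.inr (.inr (.inl rfl))))
  exact ⟨_, IQ.tr ((mul_inv_eq_iff_eq_mul.2 m1).symm ▸ g1), g2.tr, g3.tr⟩

omit L [Finite M] in
theorem frK {w : C} (hw : AA w) {s : ZMod 2} {g : M} (g1 : IQ p g x) (g2 : IQ p g (p s w)) :
    ∃ n, n * y = y * n ∧ K2 x (p s w) (n * g) := by
  have O := H.one
  obtain ⟨t, c, e⟩ := g1
  obtain ⟨b, b1, b2⟩ := H.back (s := x) e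
  obtain ⟨r, d, f⟩ := g2.cj H.s b1
  obtain ⟨h, e1, e2⟩ := trAA (H.isS_of ((H.qA s hw.1).trans (cj_of f))) (H.isS_of (by
    rw [← O.mul_x r d, ← f, ← cj_mul b2, O.mul_x]; exact (H.qA _ hw.2).trans (cj_of rfl))) hw.1 hw.2
  obtain ⟨m, k, m1, rfl, m2⟩ := O.liftX e1
  have m3 := m1 r d
  rw [e2, ← f] at m3
  rcases z2_or s (r + ep k d) with a | a
  · exact ⟨m * b, cm_mul (H.s.rel_cm m1) b1, mul_assoc m b g ▸ cm_mul m2 b2,
      mul_inv_eq_iff_eq_mul.1 (by conv_rhs => rw [a, ← m3]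
                                  group)⟩
  · obtain ⟨u, u1, u2⟩ := exists_perp_one (isS_ne hw.1) fun e => isS_ne hw.2 (by rw [e, cc2])
    have := H.s.cj 0 (r + ep k d) w u
    rw [pl_comm, show pl w u = 1 from u2, ← a, ← m3] at this
    exact ⟨p 0 u * (m * b), cm_mul (H.s.cm _ _) (cm_mul (H.s.rel_cm m1) b1),
      by rw [mul_assoc (p 0 u), mul_assoc m]; exact cm_mul (O.cm_x.2 u1) (cm_mul m2 b2),
      mul_inv_eq_iff_eq_mul.1 (by conv_rhs => rw [← this]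
                                  group)⟩

/-- Every involution of `C(x, u)` is conjugate into the extraspecial group. -/
theorem mfE {w : C} (hw : AA w) {s : ZMod 2} {v : M} (hv : K2 x (p s w) v) (sq : v * v = 1) :
    ∃ a t c, K2 x (p s w) a ∧ a * v * a⁻¹ = p t c := by
  have O := H.one
  suffices ∃ g, IQ p g x ∧ IQ p g (p s w) ∧ IQ p g v by
    obtain ⟨g, g1, g2, g3⟩ := this
    obtain ⟨n, n1, n2⟩ := H.frK hw g1 g2
    obtain ⟨t, c, e⟩ := g3.cj H.s n1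
    exact ⟨_, t, c, n2, e⟩
  have ux : p s w * x = x * p s w := O.cm_x.2 hw.pl
  have hu := H.qA s hw.1
  have hux : IsConj x (p s w * x) := O.mul_x s w ▸ H.qA _ hw.2
  have uu := sq_of_cj hu H.xx
  have q1 : IQ p 1 x := .of ⟨_, _, H.hx.symm⟩
  have q2 : IQ p 1 (p s w) := .of ⟨_, _, rfl⟩
  generalize p s w = u at *
  have k : ∀ {v}, K2 x u v → v * v = 1 → IsConj x v ∨ ∃ g, IQ p g x ∧ IQ p g u ∧ IQ p g v :=
    fun {v} hv sq => by
      by_cases e : v = 1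
      · exact .inr ⟨1, q1, q2, .of ⟨_, _, e.trans H.s.zero.symm⟩⟩
      · exact (H.classes L sq e).imp_right
          (H.mfB L (IsConj.refl x) hu (ux ▸ hux) ux.symm hv.1.symm hv.2.symm)
  refine (k hv sq).elim (fun a0 => ?_) id
  rcases k (hv.mul ⟨rfl, ux.symm⟩) (by
    rw [(show Commute v x from hv.1).symm.mul_mul_mul_comm, sq, H.xx, mul_one]) with a1 | ⟨g, g1, g2, g3⟩
  swap
  · exact ⟨g, g1, g2, by simpa [mul_assoc, H.xx] using g3.mul H.s g1⟩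
  rcases k (hv.mul ⟨ux, rfl⟩) (by
    rw [(show Commute v u from hv.2).symm.mul_mul_mul_comm, sq, uu, mul_one]) with a2 | ⟨g, g1, g2, g3⟩
  · exact H.mfA L hu a0 hux a1 a2 ux hv.1 hv.2
  · exact ⟨g, g1, g2, by simpa [mul_assoc, uu] using g3.mul H.s g2⟩

end Two

end H10.Mon.MG
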