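import Mathlib
import Cfsg.Agent.H9.MB2

/-!
# The embedding of `C(x)` extends to the Monster
-/

set_option autoImplicit false
set_option linter.all false
set_option maxRecDepth 100000

namespace H10.Mon.MG.MB

open Cfsg H9 H29 Cfsg.Spor H10.YW H10.Mon.T H10.Mon.MS
open H10.Mon.Y hiding Nd lb

theorem oneM : One (tM tau) (zM tau) qM := twoM.choose_spec.one

theorem cm_cj {M : Type*} [Group M] {m u v : M} :
    m * u * m⁻¹ * (m * v * m⁻¹) = m * v * m⁻¹ * (m * u * m⁻¹) ↔ u * v = v * u := by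
  rw [conj_mul, conj_mul, mul_left_inj, mul_right_inj]

/-- The centraliser of the triangle. -/
def T3 (u : MM tau) : Prop := u * tM tau = tM tau * u ∧ u * xm .f1 = xm .f1 * u ∧ u * xm .d1 = xm .d1 * u

theorem cj_ax {l : GT} {s r : ZMod 2} {c d : S} (h : rho l (ax s c) = ax r d) {u v : MM tau}
    (hu : u.1 = tv s c) (hv : v.1 = tv r d) : rM l * u * (rM l)⁻¹ = v := Subtype.ext (by
  change rho l * u.1 * (rho l)⁻¹ = v.1
  rw [hu, hv, conj_tv (rho_mem_Aut l) h])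

variable {G : Type*} [Group G] {t : G} {ι : MM tau → G} {q : ZMod 2 → C → G}

/-- `z` acts as `m` on `Q` and on the centraliser of the triangle. -/
structure Pr (ι : MM tau → G) (q : ZMod 2 → C → G) (z : G) (m : MM tau) : Prop where
  rel : ∃ k, Rel q z k ∧ Rel qM m k
  iff : ∀ u, T3 (m * u * m⁻¹) ↔ T3 u
  act : ∀ u, T3 u → z * ι u * z⁻¹ = ι (m * u * m⁻¹)

theorem Pr.mul {z z' : G} {m m' : MM tau} (h : Pr ι q z m) (h' : Pr ι q z' m') :
    Pr ι q (z * z') (m * m') := by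
  have e : ∀ u, m * m' * u * (m * m')⁻¹ = m * (m' * u * m'⁻¹) * m⁻¹ := fun u => by group
  obtain ⟨k, a, b⟩ := h.rel
  obtain ⟨k', a', b'⟩ := h'.rel
  refine ⟨⟨_, a.mul a', b.mul b'⟩, fun u => by rw [e, h.iff, h'.iff], fun u hu => ?_⟩
  rw [e, ← h.act _ ((h'.iff u).2 hu), ← h'.act u hu]; group

theorem Pr.inv {z : G} {m : MM tau} (h : Pr ι q z m) : Pr ι q z⁻¹ m⁻¹ := by
  have e : ∀ u, m * (m⁻¹ * u * m⁻¹⁻¹) * m⁻¹ = u := fun u => by group
  obtain ⟨k, a, b⟩ := h.rel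
  refine ⟨⟨_, a.inv, b.inv⟩, fun u => by rw [← h.iff, e], fun u hu => ?_⟩
  have := h.act (m⁻¹ * u * m⁻¹⁻¹) (by rwa [← h.iff, e])
  rw [e] at this
  rw [← this]; group

variable (F : Fr (tM tau) (zM tau) t ι) (Q : Fq (tM tau) (zM tau) qM ι q)
include F Q

theorem q_y : q 1 0 = ι (zM tau) := Q.eq 1 0 (pl_zero' _)

theorem uniq {g g' : G} {k : GT} (h : Rel q g k) (h' : Rel q g' k) :
    g' = g ∨ g' = g * ι (zM tau) := by
  have r := h.inv.mul h'
  have c : ∀ s c, g⁻¹ * g' * q s c * (g⁻¹ * g')⁻¹ = q s c := fun s c => by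
    rw [r, inv_mul_cancel, ep_one, map_one, one_smul, add_zero]
  have c0' := c 0 c0.1
  rw [Q.eq _ _ (pl_self _), oneM.hx, F.hx] at c0'
  obtain ⟨a, a1, a2⟩ := F.sur _ (mul_inv_eq_iff_eq_mul.1 c0')
  have ay : a * zM tau = zM tau * a := (F.toEm.comm a1 oneM.yx).1 (by
    rw [a2, ← q_y F Q]; exact mul_inv_eq_iff_eq_mul.1 (c 1 0))
  obtain ⟨l, hl⟩ := sitM.up a ay
  rcases sitM.cent a fun s d => by
    have := Q.inj ((Q.rel a l a1 ay hl s d).symm.trans (a2 ▸ c s d))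
    rw [← mul_inv_eq_iff_eq_mul, hl, this.1, this.2]
    with rfl | rfl
  · rw [F.toEm.one, eq_comm, inv_mul_eq_one] at a2
    exact .inl a2.symm
  · exact .inr (by rw [a2, mul_inv_cancel_left])

theorem Pr.test {z : G} {m : MM tau} (h : Pr ι q z m) (hm : m * tM tau = tM tau * m) : z = ι m := by
  obtain ⟨k, a, b⟩ := h.rel
  refine (uniq F Q (Q.rel m k hm (sitM.rel_cm b) b) a).resolve_right fun e => ?_
  have ta : T3 (xm .a) := ⟨(mem_XX.1 (n_XX (by decide))).1, (mem_XX.1 (n_XX (by decide))).2,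
    xcm (by decide) (by decide) (.inl rfl)⟩
  have := h.act _ ta
  rw [e, F.toEm.conj hm ta.1, mul_inv_rev, ← mul_assoc, mul_left_inj, mul_assoc (ι m), mul_assoc (ι m),
    mul_right_inj, mul_inv_eq_iff_eq_mul, F.toEm.comm oneM.yx ta.1] at this
  obtain ⟨h1, h2, -⟩ := a_y
  rw [← this, mul_inv_cancel_right, left_eq_mul] at h1
  exact h2 h1

theorem relι {g : G} {k : GT} (h : Rel q g k) {s : ZMod 2} {c : C}
    (h1 : qM s c * tM tau = tM tau * qM s c)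
    (h2 : rM k * qM s c * (rM k)⁻¹ * tM tau = tM tau * (rM k * qM s c * (rM k)⁻¹)) :
    g * ι (qM s c) * g⁻¹ = ι (rM k * qM s c * (rM k)⁻¹) := by
  rw [rM_rel] at h2 ⊢
  rw [← Q.eq _ _ (oneM.cm_x.1 h1), ← Q.eq _ _ (oneM.cm_x.1 h2), h]

theorem exists_g (hB : IsB BabyMonster) (down : ∀ k, ∃ g, Rel q g k) {l : GT}
    (h1 : rM l * tM tau * (rM l)⁻¹ = xm .f1) (h2 : rM l * xm .f1 * (rM l)⁻¹ = tM tau) :
    ∃ g, Rel q g l ∧ ∀ u ∈ XX, g * ι u * g⁻¹ = ι (rM l * u * (rM l)⁻¹) := by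
  have E := F.toEm
  obtain ⟨g, hg⟩ := down l
  have mX : ∀ u ∈ XX, rM l * u * (rM l)⁻¹ ∈ XX := fun u hu => mem_XX.2
    ⟨h2 ▸ cm_cj.2 (mem_XX.1 hu).2, h1 ▸ cm_cj.2 (mem_XX.1 hu).1⟩
  have f1 : xm .f1 * tM tau = tM tau * xm .f1 := xm_f2 ▸ xcm (by decide) (by decide) (.inl rfl)
  have gt : g * t * g⁻¹ = ι (xm .f1) := by
    have := relι F Q hg (s := 0) (c := c0.1) (by rw [oneM.hx]) (by rw [oneM.hx, h1, f1])
    rwa [oneM.hx, h1, E.hx] at this
  choose! α a1 a2 using fun u (hu : u ∈ XX) => F.sur (g⁻¹ * ι (rM l * u * (rM l)⁻¹) * g) (by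
    have := (E.comm (mem_XX.1 (mX u hu)).1 f1).2 (mem_XX.1 (mX u hu)).2
    rw [← gt] at this
    calc _ = g⁻¹ * (ι (rM l * u * (rM l)⁻¹) * (g * t * g⁻¹)) * g := by group
      _ = _ := by rw [this]; group)
  rcases gens (α := α) (fun a ha b hb => E.inj (a1 _ (mul_mem ha hb)) (cm_mul (a1 a ha) (a1 b hb)) (by
      rw [E.mul (a1 a ha) (a1 b hb), a2 _ (mul_mem ha hb), a2 a ha, a2 b hb, ← conj_mul,
        E.mul (mem_XX.1 (mX a ha)).1 (mem_XX.1 (mX b hb)).1]; group))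
    (fun r c hc => E.inj (a1 _ hc) (mem_XX.1 hc).1 (by
      rw [a2 _ hc, ← relι F Q hg (mem_XX.1 hc).1 (mem_XX.1 (mX _ hc)).1]; group)) hB with h | h
  · exact ⟨g, hg, fun u hu => by
      conv_lhs => rw [← h u hu, a2 u hu]
      group⟩
  · refine ⟨g * (ι (zM tau))⁻¹, fun s c => ?_, fun u hu => ?_⟩
    · have : q 1 0 * q s c = q s c * q 1 0 := by
        rw [Q.mul, Q.mul, bb_zero_left, bb_zero_right, add_comm 1, add_comm 0 c]
      rw [← hg, ← q_y F Q]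
      calc _ = g * ((q 1 0)⁻¹ * (q s c * q 1 0)) * g⁻¹ := by group
        _ = _ := by rw [← this]; group
    · conv_lhs => rw [← h u hu, E.conj oneM.yx (a1 u hu), a2 u hu]
      group

theorem exists_hom (hB : IsB BabyMonster) (down : ∀ k, ∃ g, Rel q g k) :
    ∃ Φ : MM tau →* G, ∀ a, a * tM tau = tM tau * a → Φ a = ι a := by
  have E := F.toEm
  have e1 : (xm .f1).1 = _ := TH.xB_tv (.inl rfl)
  have e2 : (xm .d1).1 = _ := TH.xB_tv (.inr rfl)
  obtain ⟨l, l1, l2, l3⟩ := F1.tri TH.a01 TH.a02 TH.a12 TH.ne12 TH.a01.symm TH.a12 TH.a02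
    (add_comm c0.1 _ ▸ TH.ne12) 1 (TH.sN .f1) (TH.sN .d1) (TH.sN .f1) 1 (TH.sN .d1)
  obtain ⟨k, k1, k2, k3⟩ := F1.tri TH.a01 TH.a02 TH.a12 TH.ne12 TH.a02 TH.a01 TH.a12.symm
    (fun e => TH.ne12 (by rw [← e, ← add_assoc, cc2, zero_add])) 1 (TH.sN .f1) (TH.sN .d1) 1
    (TH.sN .d1) (TH.sN .f1)
  have w1 := cj_ax l1 (u := tM tau) rfl e1
  have w2 := cj_ax l2 (v := tM tau) e1 rfl
  have w3 := cj_ax l3 e2 e2
  have h1 := cj_ax k1 (u := tM tau) (v := tM tau) rfl rfl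
  have h2 := cj_ax k2 e1 e2
  have h3 := cj_ax k3 e2 e1
  obtain ⟨g, g1, g2⟩ := exists_g F Q hB down w1 w2
  have hx := mul_inv_eq_iff_eq_mul.1 h1
  have Pw : Pr ι q g (rM l) := ⟨⟨l, g1, rM_rel l⟩, fun u => by
    conv_lhs => rw [T3, ← w3, cm_cj, ← w1, cm_cj]
    conv_lhs => enter [1]; rw [← w2, cm_cj]
    exact and_left_comm, fun u hu => g2 u (mem_XX.2 ⟨hu.1, hu.2.1⟩)⟩
  have Ph : Pr ι q (ι (rM k)) (rM k) :=
    ⟨⟨k, Q.rel _ k hx (sitM.rel_cm (rM_rel k)) (rM_rel k), rM_rel k⟩, fun u => by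
      conv_lhs => rw [T3, ← h1, cm_cj, ← h2, cm_cj]
      conv_lhs => enter [2, 1]; rw [← h3, cm_cj]
      exact and_congr_right fun _ => and_comm, fun u hu => (E.conj hx hu.1).symm⟩
  generalize hw : rM l = w at *
  generalize hh : rM k = h at *
  let H : Subgroup (G × MM tau) :=
    { carrier := {z | z.2 * tM tau = tM tau * z.2 ∧ z.1 = ι z.2}
      one_mem' := ⟨cm_one, E.one.symm⟩
      mul_mem' := fun a b => ⟨cm_mul a.1 b.1, (congrArg₂ _ a.2 b.2).trans (E.mul a.1 b.1).symm⟩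
      inv_mem' := fun a => ⟨cm_inv a.1, (congrArg _ a.2).trans (E.inv a.1).symm⟩ }
  let K := H ⊔ Subgroup.zpowers (g, w)
  have hK : ∀ {a}, a * tM tau = tM tau * a → (ι a, a) ∈ K := fun ha => Subgroup.mem_sup_left ⟨ha, rfl⟩
  have wK : (g, w) ∈ K := Subgroup.mem_sup_right (Subgroup.mem_zpowers _)
  let π : K →* MM tau := (MonoidHom.snd _ _).comp K.subtype
  have on : Function.Surjective π := fun m => by
    obtain ⟨_, ⟨z, rfl⟩, e⟩ := Y.gen_M (H := ((MM tau).subtype.comp π).range.map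
      (MulAut.conj (wd (Y.W .f2))).toMonoidHom) (fun n hn => ⟨xB n, by
        by_cases k : n = .e2
        · have := xcm (n := n) (m := .f1) hn (by decide) (.inl (k ▸ rfl))
          rw [← w1] at this
          have h4 : w⁻¹ * xm n * w * tM tau = tM tau * (w⁻¹ * xm n * w) :=
            calc _ = w⁻¹ * (xm n * (w * tM tau * w⁻¹)) * w := by group
              _ = _ := by rw [this]; group
          refine ⟨⟨_, wK⟩ * ⟨_, hK h4⟩ * ⟨_, wK⟩⁻¹, ?_⟩
          exact congrArg Subtype.val (show w * (w⁻¹ * xm n * w) * w⁻¹ = xm n by group)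
        · exact ⟨⟨_, hK (a := xm n) (xm_f2 ▸ xcm hn (by decide) (by
            cases n <;> first | exact .inl rfl | exact .inr rfl | contradiction))⟩, rfl⟩,
        by rw [← Y.xU_ne hn]; simp [xB, mul_assoc]⟩)
      (mul_mem (mul_mem (wd_mem (Y.W .f2)) m.2) (inv_mem (wd_mem (Y.W .f2))))
    exact ⟨z, Subtype.ext ((MulAut.conj (wd (Y.W .f2))).injective e)⟩
  have bx : w⁻¹ * h⁻¹ * w⁻¹ * h * w * tM tau = tM tau * (w⁻¹ * h⁻¹ * w⁻¹ * h * w) := by
    refine mul_inv_eq_iff_eq_mul.1 ?_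
    calc _ = w⁻¹ * (h⁻¹ * (w⁻¹ * (h * (w * tM tau * w⁻¹) * h⁻¹) * w) * h) * w := by group
      _ = _ := by
        rw [w1, h2, mul_assoc w⁻¹ (xm .d1), ← mul_inv_eq_iff_eq_mul.1 w3, inv_mul_cancel_left, ← h2, ← w1]
        group
  have inj := T.Cv.injective
    { π := (MM tau).subtype.comp π, H := H.subgroupOf K, w := ⟨_, wK⟩, s1 := TH.sN .f1,
      s2 := TH.sN .d1, d1 := TH.dN .f1, d2 := TH.dN .d1
      mem := fun z => z.1.2.2
      onto := fun m hm => (on ⟨m, hm⟩).imp fun z e => congrArg Subtype.val e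
      inj := fun z hz e => Subtype.ext (Prod.ext (hz.2.trans ((congrArg ι (Subtype.ext e)).trans E.one))
        (Subtype.ext e))
      sub := fun z hz => fix_M _ z.1.2.2 (mul_inv_eq_iff_eq_mul.2 (congrArg Subtype.val hz.1))
      full := fun m hm e =>
        have : (⟨m, hm⟩ : MM tau) * tM tau = tM tau * ⟨m, hm⟩ :=
          Subtype.ext (mul_inv_eq_iff_eq_mul.1 (conj_tv (MM_le_Aut tri_tau hm) e))
        ⟨⟨_, hK this⟩, ⟨this, rfl⟩, rfl⟩
      gen := ?_, ww := ?_, w0 := hw ▸ l1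
      a01 := TH.a01, a02 := TH.a02, a12 := TH.a12, ne := TH.ne12, l2 := fun z hz e => ?_
      l3 := ⟨⟨_, hK hx⟩, ⟨hx, rfl⟩, hh ▸ k2, ⟨_, hK hx⟩, ⟨hx, rfl⟩, ⟨_, hK bx⟩, ⟨bx, rfl⟩,
        Subtype.ext (Prod.ext ?_ ?_)⟩ }
  · let e := MulEquiv.ofBijective π ⟨fun a b e => inj (congrArg Subtype.val e), on⟩
    refine ⟨((MonoidHom.fst _ _).comp K.subtype).comp e.symm.toMonoidHom, fun a ha => ?_⟩
    change (e.symm a).1.1 = ι a
    rw [show e.symm a = ⟨_, hK ha⟩ from e.symm_apply_eq.2 rfl]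
  · apply Subgroup.map_injective K.subtype_injective
    rw [Subgroup.map_sup, Subgroup.subgroupOf_map_subtype, inf_eq_left.2 le_sup_left,
      MonoidHom.map_zpowers, ← MonoidHom.range_eq_map, Subgroup.range_subtype]
    rfl
  · have : w * w * tM tau = tM tau * (w * w) := mul_inv_eq_iff_eq_mul.1 (by
      conv_rhs => rw [← w2, ← w1]
      group)
    exact ⟨this, (Pw.mul Pw).test F Q this⟩
  · have h1 : z.1.2 * xm .f1 * z.1.2⁻¹ = xm .f1 := Subtype.ext (by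
      change z.1.2.1 * (xm .f1).1 * z.1.2.1⁻¹ = _
      rw [e1]; exact conj_tv (MM_le_Aut tri_tau z.1.2.2) e)
    have h2 : w⁻¹ * z.1.2 * w ∈ XX := by
      rw [mem_XX, ← cm_cj (m := w), ← cm_cj (m := w) (v := xm .f1), w1, w2,
        show w * (w⁻¹ * z.1.2 * w) * w⁻¹ = z.1.2 by group]
      exact ⟨mul_inv_eq_iff_eq_mul.1 h1, hz.1⟩
    refine ⟨(mem_XX.1 h2).1, ?_⟩
    have := g2 _ h2
    rw [show w * (w⁻¹ * z.1.2 * w) * w⁻¹ = z.1.2 by group, ← show z.1.1 = ι z.1.2 from hz.2] at this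
    change g⁻¹ * z.1.1 * g = ι (w⁻¹ * z.1.2 * w)
    rw [← this]; group
  · change g⁻¹ * ι h * g = ι h * g * ι _
    rw [← ((((Pw.inv.mul Ph.inv).mul Pw.inv).mul Ph).mul Pw).test F Q bx]; group
  · change w⁻¹ * h * w = h * w * _
    group

end H10.Mon.MG.MB
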