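import Mathlib
import Cfsg.Agent.H9.BE1
import Cfsg.Agent.H19.B4
import Cfsg.Agent.H15.BF3

/-!
# The local data of an involution centraliser `2.²E₆(2).2`
-/

set_option autoImplicit false
set_option linter.all false

namespace H10.Mon.MG

namespace BE

theorem isoU {U : AddSubgroup C} (h : ∀ a ∈ U, ∀ b ∈ U, pl a b = 0) : Nat.card U ≤ 2 ^ 12 := by
  let B : LinearMap.BilinForm (ZMod 2) C := bbL + bbL.flip
  let U' : Submodule (ZMod 2) C := AddSubgroup.toZModSubmodule 2 U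
  have h1 := LinearMap.BilinForm.finrank_add_finrank_orthogonal (B := B)
    (fun a b e => (add_comm _ _).trans e) U'
  have h2 : B.orthogonal ⊤ = ⊥ :=
    eq_bot_iff.2 fun c hc => polar_nondeg fun d => (add_comm _ _).trans (hc d trivial)
  have h3 : Module.finrank (ZMod 2) U' ≤ Module.finrank (ZMod 2) (B.orthogonal U') :=
    Submodule.finrank_mono fun b hb a ha => h a ha b hb
  have e1 : Nat.card U' = _ := Module.natCard_eq_pow_finrank (K := ZMod 2)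
  have e3 : Nat.card C = _ := Module.natCard_eq_pow_finrank (K := ZMod 2)
  rw [card_C, Nat.card_zmod] at e3
  rw [h2, inf_bot_eq, finrank_bot, ← Nat.pow_right_injective le_rfl e3] at h1
  rw [show Nat.card U = _ from e1, Nat.card_zmod]
  exact Nat.pow_le_pow_right (by norm_num) (by omega)

theorem ex3 (w c : C) : ∃ a b, V0 w a ∧ V0 w b ∧ pl a c = 0 ∧ pl b c = 0 ∧ pl a b = 1 := by
  by_contra! hn
  have h1 := card_perp ⊤ c0.1
  have h2 := card_perp (PerpC ⊤ c0.1) w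
  have h3 := card_perp (PerpC (PerpC ⊤ c0.1) w) c
  have h4 := isoU (U := PerpC (PerpC (PerpC ⊤ c0.1) w) c) fun a ha b hb =>
    (z2 _).resolve_right (hn a b ⟨ha.1.1.2, ha.1.2⟩ ⟨hb.1.1.2, hb.1.2⟩ ha.2 hb.2)
  rw [AddSubgroup.card_top, card_C] at h1
  omega

theorem span4 (v : Fin 4 → C) : ∃ W : AddSubgroup C, Nat.card W ≤ 16 ∧ ∀ i, v i ∈ W := by
  let f := (Fintype.linearCombination (ZMod 2) v).toAddMonoidHom
  refine ⟨f.range, ?_, fun i => ⟨Pi.single i 1, by simp [f]⟩⟩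
  simpa using Nat.card_le_card_of_surjective _ f.rangeRestrict_surjective

theorem ex_rt2 {w r : C} (hw : AA w) (hr : Rt w r) : ∃ g, Fx2 w g ∧ pl r (g • r) = 1 := by
  by_contra! hn
  obtain ⟨e, e1, e2⟩ := dualV (hr.nsp hw)
  have := (spanA hw (PerpC ⊤ r) ⟨trivial, pl_comm _ _ ▸ (hr.v0 hw).1⟩ (fun a ha => by
    obtain ⟨r', r1, r2⟩ := ha.rt hw
    obtain ⟨g, g1, rfl⟩ := hr.tr hw r1
    exact ⟨trivial, by rw [← r2.pl (hr.v0 hw).1, pl_add', pl_comm, (z2 _).resolve_right (hn g g1),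
      pl_comm, (hr.v0 hw).2, add_zero]⟩) e1).2
  exact zero_ne_one (this.symm.trans e2)

theorem rk4 {eO eD s0 h : G0} (L : LF eO eD s0) (h2 : Ac (h * h) 1) {w : C} {W : AddSubgroup C}
    (hW : Nat.card W ≤ 16) (k : ∀ c, V0 w c → c + h • c ∈ W) : Ac h 1 := by
  refine fix18 L 1 (by rwa [pow_one, pow_two]) ?_
  have h1 := card_perp ⊤ c0.1
  have h2 := card_perp (PerpC ⊤ c0.1) w
  have h3 := card_map (PerpC (PerpC ⊤ c0.1) w) (H6F.N1 h) (V := FixC h)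
    (fun c hc => k c ⟨hc.1.2, hc.2⟩) fun c _ e => H6F.N1_ker h ▸ e
  have h4 := Nat.mul_le_mul_right (Nat.card (FixC h)) hW
  rw [AddSubgroup.card_top, card_C] at h1
  omega

end BE

variable {M G : Type*} [Group M] [Group G] {x y γ : M} {p : ZMod 2 → C → M} {eO eD s0 : G0} {w : C}
  {s : ZMod 2} {t : G} {ι : M → G}

/-- The subgroup `C(x, u)`. -/
def K2S (x u : M) : Subgroup M where
  carrier := {a | K2 x u a}
  one_mem' := K2.one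
  mul_mem' := K2.mul
  inv_mem' := K2.inv

theorem One.syl2 [Finite M] (H : One x y p) (hw : AA w) (L : LF eO eD s0) {P : Subgroup M}
    (hP : IsPGroup 2 P) (h : ∀ a ∈ P, K2 x (p s w) a) :
    ∃ n, K2 x (p s w) n ∧ ∀ a ∈ P, P3 x y (p s w) (n * a * n⁻¹) := by
  refine odd_idx (Q := H.s.Q ⊓ K2S x (p s w)) (H := P3S x y (p s w)) (L := K2S x (p s w))
    (H.s.pgQ.to_le inf_le_left) (by rintro _ ⟨⟨t, c, rfl⟩, k⟩; exact ⟨k.1, H.s.cm _ _, k.2⟩)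
    (fun a ha => ha.k2) (fun n hn T h1 h2 h3 => ?_) hP h
  have c1 : IsConj y (n⁻¹ * y * n) := cj_of (a := n⁻¹) (by rw [inv_inv])
  obtain ⟨t, c, e, k⟩ := H.cen3 hw L (a := n⁻¹ * y * n) (cm_mul (cm_mul (cm_inv hn.1) H.yx) hn.1)
    fun t c hc => .inl (by
      have := (h2 (h3 _ (h1 ⟨⟨t, c, rfl⟩, ((H.p3_q hw).2 hc).k2⟩))).2.1
      rw [mul_inv_eq_iff_eq_mul]
      calc _ = n⁻¹ * (y * (n * p t c * n⁻¹)) * n := by group
        _ = _ := by rw [← this]; group)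
  rcases k.cases hw with rfl | k
  · have := H.eq_y c1 (by rcases H.s.q0 t with f | f <;> simp [e, f])
    exact ⟨hn.1, by conv_lhs => rw [← this]
                    group, hn.2⟩
  · exact (H.nc ((H.qA t k).trans (e ▸ c1).symm)).elim

namespace Em2

section
variable {u : M} (E : Em2 x u t ι)
include E

/-- `ι` as a homomorphism. -/
def hm : K2S x u →* G := MonoidHom.mk' (fun a => ι a) fun a b => E.mul a.2 b.2

theorem one' : ι 1 = 1 := map_one E.hm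
theorem inv' {a : M} (ha : K2 x u a) : ι a⁻¹ = (ι a)⁻¹ := map_inv E.hm ⟨a, ha⟩
theorem pow' {a : M} (ha : K2 x u a) (n : ℕ) : ι (a ^ n) = ι a ^ n := map_pow E.hm ⟨a, ha⟩ n
theorem conj' {a b : M} (ha : K2 x u a) (hb : K2 x u b) : ι (a * b * a⁻¹) = ι a * ι b * (ι a)⁻¹ := by
  rw [E.mul (ha.mul hb) ha.inv, E.mul ha hb, E.inv' ha]
theorem ex' {a b : M} (ha : K2 x u a) (hb : K2 x u b) (e : ι a = ι b) : Ex x a b := by
  have := (E.ker (hb.inv.mul ha)).1 (by rw [E.mul hb.inv ha, E.inv' hb, e, inv_mul_cancel])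
  exact this.imp (fun k => (inv_mul_eq_one.1 k).symm) inv_mul_eq_iff_eq_mul.1
theorem cme {a b : M} (ha : K2 x u a) (hb : K2 x u b) (e : ι a * ι b = ι b * ι a) :
    Ex x (a * b * a⁻¹) b :=
  E.ex' (ha.conj hb) hb (by rw [E.conj' ha hb, e, mul_inv_cancel_right])
theorem cm' {a b : M} (ha : K2 x u a) (hb : K2 x u b) (e : a * b = b * a) :
    ι a * ι b = ι b * ι a := by rw [← E.mul ha hb, e, E.mul hb ha]

/-- The image of `ι`. -/
def IM : Subgroup G where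
  carrier := {g | Im2 x u ι g}
  one_mem' := ⟨1, K2.one, E.one'⟩
  mul_mem' := by rintro _ _ ⟨a, ha, rfl⟩ ⟨b, hb, rfl⟩; exact ⟨_, ha.mul hb, E.mul ha hb⟩
  inv_mem' := by rintro _ ⟨a, ha, rfl⟩; exact ⟨_, ha.inv, E.inv' ha⟩

theorem cmt (ux : u * x = x * u) {g : G} (h : g ∈ E.IM) : g * t = t * g := by
  obtain ⟨a, ha, rfl⟩ := h
  exact E.hu ▸ E.cm' ha ⟨ux, rfl⟩ ha.2

theorem nrm (ux : u * x = x * u) {g m : G} (hg : g * t = t * g) (h : m ∈ E.IM) : g * m * g⁻¹ ∈ E.IM := by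
  by_cases k : g ∈ E.IM
  · exact mul_mem (mul_mem k h) (inv_mem k)
  rcases E.idx (g * m) g⁻¹ (cm_mul hg (E.cmt ux h)) (cm_inv hg) with e | e | e
  exacts [(k ((E.IM.mul_mem_cancel_right h).1 e)).elim, (k (E.IM.inv_mem_iff.1 e)).elim, e]

end

variable (E : Em2 x (p s w) t ι) (O : One x y p) (hw : AA w)
include E O hw

theorem p3_of {a : M} (ha : K2 x (p s w) a) (e : ι a * ι y = ι y * ι a) : P3 x y (p s w) a :=
  ⟨ha.1, mul_inv_eq_iff_eq_mul.1 (O.eq_y (cj_of rfl) (.inr ((E.cme ha (O.p3_y hw).k2 e).imp_right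
    fun e => .inr e))), ha.2⟩

/-- The image of a part of the extraspecial group. -/
def RS (W : AddSubgroup C) : Subgroup G where
  carrier := {g | ∃ t c, V0 w c ∧ c ∈ W ∧ g = ι (p t c)}
  one_mem' := ⟨0, 0, V0.zero _, zero_mem _, by rw [O.s.zero, E.one']⟩
  mul_mem' := by
    rintro _ _ ⟨_, _, a, a', rfl⟩ ⟨_, _, b, b', rfl⟩
    exact ⟨_, _, a.add b, add_mem a' b', by
      rw [← E.mul ((O.p3_q hw).2 a).k2 ((O.p3_q hw).2 b).k2, O.s.mul]⟩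
  inv_mem' := by
    rintro _ ⟨_, _, a, a', rfl⟩
    exact ⟨_, _, a, a', by rw [← E.inv' ((O.p3_q hw).2 a).k2, O.s.q_inv]⟩

theorem wq (r : ZMod 2) {c : C} (h : Sp2 w c) : H15.BF.W t (ι y) (ι (p r c)) := by
  have ky := (O.p3_y hw (s := s)).k2
  have kx := (O.p3_x hw (s := s)).k2
  have ku : K2 x (p s w) (p s w) := ((O.p3_q hw).2 hw.v0w).k2
  have x1 : ι x = 1 := (E.ker kx).2 (.inr rfl)
  have k : ∀ {c r'}, V0 w c → ι (p r c) = ι (p r' c) ∨ ι (p r c) = ι (p r' c) * ι y := fun {c r'} h =>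
    (O.s.or_y r r' c).imp (congrArg ι) fun e => by rw [e, E.mul ((O.p3_q hw).2 h).k2 ky]
  unfold H15.BF.W
  rcases h with rfl | rfl | rfl | rfl
  · rcases k (r' := 0) (V0.zero w) with e | e <;> simp [e, O.s.zero, E.one']
  · rcases k (r' := 0) hw.v0c with e | e <;> simp [e, O.hx, x1]
  · rcases k (r' := s) hw.v0w with e | e <;> simp [e, E.hu]
  · rcases k (r' := 0 + s + bb c0.1 w) (hw.v0c.add hw.v0w) with e | e <;>
      rw [← O.s.mul, O.hx, E.mul kx ku, x1, one_mul, E.hu] at e <;> simp [e]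

theorem rk [Finite M] (L : LF eO eD s0) (hF4 : ∀ g, g * t = t * g →
      (∀ a, P3 x y (p s w) a → g * ι a = ι a * g) → Im2 x (p s w) ι g)
    {a : G} (h1 : a * t = t * a) (h2 : a * ι y = ι y * a) (h3 : a * a ∈ E.RS O hw ⊤)
    {W : AddSubgroup C} (hW : Nat.card W ≤ 16) (h0 : c0.1 ∈ W)
    (h4 : ∀ r ∈ E.RS O hw ⊤, a * r * a⁻¹ * r⁻¹ ∈ E.RS O hw W) : a ∈ E.RS O hw ⊤ := by
  have q := fun t {c} (h : V0 w c) => (O.p3_q hw (s := s) (t := t)).2 h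
  have ux := (q s hw.v0w).1
  obtain ⟨n, n1, n2, n3, n4⟩ := O.autP hw L (E.hp y) (κ := fun b => a * ι b * a⁻¹)
    ⟨fun ha hb => by rw [E.mul ha.k2 hb.k2, conj_mul], fun ha => conj_eq_one_iff.trans (E.ker ha.k2)⟩
    (fun b hb => by
      obtain ⟨c, c1, c2⟩ := E.nrm ux h1 ⟨b, hb.k2, rfl⟩
      exact ⟨c, E.p3_of O hw c1 (c2 ▸ cm_conj h2 (E.cm' hb.k2 (O.p3_y hw).k2 hb.2.1)), c2.symm⟩)
    (by rw [E.hu, h1, mul_inv_cancel_right])
  obtain ⟨k, hk⟩ := O.s.up n n2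
  have k0 := (O.rel_fix hk n1).1
  have k1 : Ec (co k • w) w := by rw [hk] at n3; exact (O.ex_q n3).1
  have v : ∀ {c}, V0 w c → V0 w (co k • c) := fun hc => (hc.smul k0).ec k1
  have nq : ∀ r {c}, V0 w c → a * ι (p r c) * a⁻¹ = ι (p (r + ep k c) (co k • c)) := fun r c hc => by
    rw [← hk]; exact n4 _ (q r hc)
  obtain ⟨r, d, rfl⟩ := O.s.inQ hk (BE.rk4 L (triv_of L hw (by rw [mul_smul, k0, k0]) fun c hc => by
      obtain ⟨r, d, d1, -, e⟩ := h3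
      have e1 := nq (0 + ep k c) (v hc)
      rw [← nq 0 hc, show a * (a * ι (p 0 c) * a⁻¹) * a⁻¹ = a * a * ι (p 0 c) * (a * a)⁻¹ by group, e,
        ← E.conj' (q r d1).k2 (q 0 hc).k2, O.s.cj] at e1
      rw [mul_smul]
      exact (O.ex_q (E.ex' (q _ hc).k2 (q _ (v (v hc))).k2 e1)).1.symm) hW
    fun c hc => by
      obtain ⟨r, d, d1, d2, e⟩ := h4 _ ⟨0, c, hc, trivial, rfl⟩
      rw [nq 0 hc, ← E.inv' (q 0 hc).k2, O.s.q_inv, ← E.mul (q _ (v hc)).k2 (q _ hc).k2, O.s.mul] at e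
      rw [add_comm]
      rcases (O.ex_q (E.ex' (q _ ((v hc).add hc)).k2 (q _ d1).k2 e)).1 with e | e <;> rw [e]
      exacts [d2, add_mem d2 h0])
  have d1 : V0 w d := ⟨O.cm_x.1 n1, by
    rw [O.s.cj] at n3; exact left_eq_add.1 ((O.ex_q n3).2 rfl).symm⟩
  have f : ∀ b, P3 x y (p s w) b → (ι (p r d))⁻¹ * a * ι b = ι b * ((ι (p r d))⁻¹ * a) := fun b hb => by
    have := n4 b hb
    rw [E.conj' (q r d1).k2 hb.k2] at this
    calc _ = (ι (p r d))⁻¹ * (a * ι b * a⁻¹) * a := by group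
      _ = _ := by rw [this]; group
  obtain ⟨m, m1, m2⟩ := hF4 _ (cm_mul (cm_inv (E.cmt ux ⟨_, (q r d1).k2, rfl⟩)) h1) f
  obtain ⟨r', c, rfl, c1⟩ := O.cen3 hw L m1.1 fun r c hc => E.cme m1 (q r hc).k2 (m2 ▸ f _ (q r hc))
  rw [eq_inv_mul_iff_mul_eq] at m2
  exact m2 ▸ mul_mem ⟨r, d, d1, trivial, rfl⟩ ⟨r', c, c1.v0 hw, trivial, rfl⟩

end Em2

theorem Em2.loc [Finite M] (E : Em2 x (p s w) t ι) (H : Two x y p γ) (L : LF eO eD s0) (hw : AA w)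
    (hb : ∀ v, K2 x (p s w) v → v * v ≠ x) (hF4 : ∀ g, g * t = t * g →
      (∀ a, P3 x y (p s w) a → g * ι a = ι a * g) → Im2 x (p s w) ι g) {r : C} (hr : Rt w r) :
    H15.BF.Loc t (ι y) (ι (p 0 r)) E.IM (E.RS H.one hw ⊤) := by
  have O := H.one
  have q := fun t {c} (h : V0 w c) => (O.p3_q hw (s := s) (t := t)).2 h
  have ux := (q s hw.v0w).1
  have ky := (O.p3_y hw (s := s)).k2
  have mR : ∀ t {c}, V0 w c → ι (p t c) ∈ E.RS O hw ⊤ := fun t c h => ⟨t, c, h, trivial, rfl⟩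
  have cq : ∀ {a b c d}, V0 w c → V0 w d → (ι (p a c) * ι (p b d) = ι (p b d) * ι (p a c) ↔ pl c d = 0) :=
    fun {a b c d} hc hd => ⟨fun e => by
      have := E.cme (q a hc).k2 (q b hd).k2 e
      rw [O.s.cj] at this
      exact left_eq_add.1 ((O.ex_q this).2 rfl).symm,
      fun e => E.cm' (q a hc).k2 (q b hd).k2 (O.s.cm_iff.2 e)⟩
  have v := hr.v0 hw
  obtain ⟨g, g1, g2⟩ := BE.ex_rt2 hw hr
  obtain ⟨a, k, a1, rfl, a2⟩ := O.liftP hw (s := s) g1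
  have v' : V0 w (co k • r) := g1.2 ▸ v.smul g1.1
  have nc : ι (p 0 r) * (ι a * ι (p 0 r) * (ι a)⁻¹) ≠ ι a * ι (p 0 r) * (ι a)⁻¹ * ι (p 0 r) := by
    rw [← E.conj' a2.k2 (q 0 v).k2, a1, Ne, cq v v', g2]
    exact one_ne_zero
  have Rz : ∀ r ∈ E.RS O hw ⊤, r * ι y = ι y * r := by
    rintro _ ⟨a, c, h, -, rfl⟩
    exact E.cm' (q a h).k2 ky (O.s.cm _ _)
  have RM : E.RS O hw ⊤ ≤ E.IM := by
    rintro _ ⟨a, c, h, -, rfl⟩
    exact ⟨_, (q a h).k2, rfl⟩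
  have nR : ∀ m ∈ E.IM, m * ι y = ι y * m → ∀ r ∈ E.RS O hw ⊤, m * r * m⁻¹ ∈ E.RS O hw ⊤ := by
    rintro _ ⟨m, hm, rfl⟩ e _ ⟨a, c, h, -, rfl⟩
    obtain ⟨b, d, d1, d2⟩ := O.conj3 hw (E.p3_of O hw hm e) a h
    rw [← E.conj' hm (q a h).k2, d2]
    exact mR b d1
  refine ⟨?_, fun e => ?_, by rw [← E.mul ky ky, O.s.yy, E.one'],
    fun e => ((E.ker ky).1 e).elim O.s.y_ne O.y_ne_x, fun e => ?_, E.hu ▸ mR s hw.v0w,
    O.s.one ▸ mR 1 (V0.zero w), mR 0 v, RM, fun m => E.cmt ux, fun g hg m => E.nrm ux hg,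
    fun g h a b c d => ((E.idx g h a b).resolve_left c).resolve_left d, Rz, nR, ?_, ?_, ?_, ?_,
    fun P h1 h2 => ?_, ?_, fun e => nc ?_, ⟨_, ⟨a, a2.k2, rfl⟩, E.cm' a2.k2 ky a2.2.1, nc⟩, ?_,
    fun a a1 a2 a3 => ?_⟩
  · rw [← E.hu, ← E.mul (q s hw.v0w).k2 (q s hw.v0w).k2, O.s.sq0 s (bb_isS hw.1), E.one']
  · rcases (E.ker (q s hw.v0w).k2).1 (E.hu.trans e) with e | e
    exacts [isS_ne hw.1 (O.s.inj (e.trans O.s.zero.symm)).2, hw.ne (O.s.inj (e.trans O.hx.symm)).2]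
  · rcases (O.ex_q (O.s.one ▸ E.ex' ky (q s hw.v0w).k2 (e.trans E.hu.symm) :
      Ex x (p 1 0) (p s w))).1 with e | e
    exacts [isS_ne hw.1 e.symm, isS_ne hw.2 e.symm]
  · rintro _ ⟨a, c, h, -, rfl⟩ _ ⟨b, d, k, -, rfl⟩
    rw [← E.mul (q a h).k2 (q b k).k2, ← E.mul (q b k).k2 (q a h).k2,
      ← E.mul ((q b k).mul (q a h)).k2 ky, O.s.mul, O.s.mul, add_comm d c]
    exact (O.s.or_y _ _ _).imp (congrArg ι) (congrArg ι)
  · rintro _ ⟨a, c, h, -, rfl⟩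
    rw [← E.mul (q a h).k2 (q a h).k2, O.s.sq]
    exact (O.s.q0 _).imp (fun e => by rw [e, E.one']) (congrArg ι)
  · rintro _ ⟨a, c, h, -, rfl⟩ k
    exact E.wq O hw a (perp2 fun d d1 d2 => (cq ⟨d1, d2⟩ h).1 (k _ (mR 0 ⟨d1, d2⟩)).symm)
  · rintro _ ⟨a, c, h, -, rfl⟩
    obtain ⟨d, e, d1, e1, d2, e2, f⟩ := BE.ex3 w c
    exact ⟨_, mR 0 d1, _, mR 0 e1, (cq d1 h).2 d2, (cq e1 h).2 e2, by
      rw [Ne, cq d1 e1, f]; exact one_ne_zero⟩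
  · obtain ⟨n, n1, n2⟩ := O.syl2 hw L (s := s) (P := (P.comap E.hm).map (K2S x (p s w)).subtype)
      (by
        rintro ⟨_, a, ha, rfl⟩
        obtain ⟨n, hn⟩ := h2 ⟨_, ha⟩
        refine ⟨n + 1, Subtype.ext ?_⟩
        change a.1 ^ 2 ^ (n + 1) = 1
        rw [pow_succ, pow_mul, pow_two]
        rcases (E.ker ((K2S ..).pow_mem a.2 (2 ^ n))).1 ((E.pow' a.2 _).trans (congrArg Subtype.val hn))
          with e | e <;> rw [e]
        exacts [mul_one _, O.xx]) (by rintro _ ⟨a, -, rfl⟩; exact a.2)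
    refine ⟨_, ⟨n, n1, rfl⟩, fun b hb => ?_⟩
    obtain ⟨b, b1, rfl⟩ := h1 hb
    have := n2 b ⟨⟨b, b1⟩, hb, rfl⟩
    rw [← E.conj' n1 b1]
    exact E.cm' this.k2 ky this.2.1
  · obtain ⟨g, hg⟩ := isConj_iff.1 (H.qB 0 hr.1 (hr.bb hw) hr.2.1).symm
    have k : ∀ {a c}, IsS c → IsS (c + r) → IQ p g (p a c) := fun {a c} h1 h2 =>
      H.inQ2 L (by rw [← hg, conj_mul, conj_mul, O.s.cm_iff.2 (by
          have := bb_add_self c r
          rwa [bb_isS h1, bb_isS h2, hr.bb hw, add_zero, zero_add, eq_comm] at this)]) ((H.qA a h1).trans (cj_of rfl))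
        (by rw [← hg, conj_mul, O.s.mul]; exact (H.qA _ h2).trans (cj_of rfl))
    obtain ⟨n, n1, n2⟩ := H.frK hw (O.hx ▸ k isS_c0 (add_comm r _ ▸ hr.2.2.1))
      (k (a := s) hw.1 (add_comm r _ ▸ hr.2.2.2.1))
    obtain ⟨b, d, e⟩ := (H.iq_sym hg).cj O.s n1
    refine ⟨_, ⟨_, n2.inv, rfl⟩, ?_, ?_⟩
    · rw [← E.conj' n2.inv ky, ← mul_inv_eq_iff_eq_mul.2 n1, ← hg]
      congr 1
      group
    · rw [E.inv' n2, inv_inv, ← E.conj' n2 ky, e]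
      have := e ▸ n2.conj ky
      exact mR b ⟨O.cm_x.1 this.1, O.s.cm_iff.1 this.2⟩
  · have := nR _ ⟨a, a2.k2, rfl⟩ (E.cm' a2.k2 ky a2.2.1) _ (mR 0 v)
    exact (e.cm (E.cmt ux (RM this)) (Rz _ this)).symm
  · rintro _ ⟨a, ha, rfl⟩ e
    obtain ⟨m, b, c, m1, m2⟩ := H.mfE L hw ha
      (((E.ker (ha.mul ha)).1 ((E.mul ha ha).trans e)).resolve_right (hb a ha))
    have := m2 ▸ m1.conj ha
    exact ⟨_, ⟨m, m1, rfl⟩, by
      rw [← E.conj' m1 ha, m2]; exact mR b ⟨O.cm_x.1 this.1, O.s.cm_iff.1 this.2⟩⟩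
  · rintro _ ⟨b1, c1, d1, -, rfl⟩ _ ⟨b2, c2, d2, -, rfl⟩ _ ⟨b3, c3, d3, -, rfl⟩ h
    obtain ⟨W, w1, w2⟩ := BE.span4 ![c0.1, c1, c2, c3]
    refine E.rk O hw L hF4 a1 a2 a3 w1 (w2 0) fun r hr => (Subgroup.closure_le _).2 ?_ (h r hr)
    rintro _ (rfl | rfl | rfl | rfl)
    exacts [⟨1, 0, V0.zero _, zero_mem _, by rw [O.s.one]⟩, ⟨_, _, d1, w2 1, rfl⟩,
      ⟨_, _, d2, w2 2, rfl⟩, ⟨_, _, d3, w2 3, rfl⟩]

end H10.Mon.MG
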