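import Mathlib
import Cfsg.Agent.H9.BE2

/-!
# Fusion for an involution centraliser `2.²E₆(2).2`
-/

set_option autoImplicit false
set_option linter.all false

namespace H10.Mon.MG

namespace BE

open Cfsg H9 H29

theorem no7 {a b c : C} (h1 : IsS a) (h2 : IsS b) (h3 : IsS c) (h4 : IsS (b + a)) (h5 : IsS (c + a))
    (h6 : IsS (b + c)) (h7 : IsS (b + c + a)) : False := by
  obtain ⟨g, e⟩ := trans_S (toS a h1) c0
  replace e : g • a = c0.1 := congrArg Subtype.val e
  refine no_tri (h2.smul g) ?_ (h3.smul g) ?_ ?_ ?_ <;> simp only [← e, ← smul_add]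
  exacts [h4.smul g, h5.smul g, h6.smul g, h7.smul g]

theorem ll0 {h : G0} (h2 : h * h = 1) {a b : L} (hb : sqNorm (b : V) = 32)
    (ab : dotInt (b : V) a = 16 ∨ dotInt (b : V) a = -16) (fa : h • a = a) (fb : h • kap b = kap b) {d : C}
    (e : kap a = d + h • d) (k : ∀ f : C, h • f = f → pl (kap b) f = 0) : pl d (kap b) = 1 := by
  obtain ⟨d, rfl⟩ := kap_surj d
  have f1 : h • b = b := by
    refine (eq_or_neg hb (by rw [co_norm, hb]; norm_num) (fb.symm.trans (smul_kap _ _))).resolve_right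
      fun f => ?_
    have := co_dot h b a
    rw [f, fa, AddSubgroup.coe_neg, dot_neg_left] at this
    omega
  rw [smul_kap, ← map_add] at e
  obtain ⟨l, hl⟩ := kap_eq.1 e
  have hh : h • h • d = d := by rw [← mul_smul, h2, one_smul]
  have f2 : h • l = l := by
    have e1 := congrArg (h • ·) hl
    simp only [co_sub, co_add, fa, hh, two_nsmul] at e1
    rw [add_comm (h • d), hl, two_nsmul] at e1
    refine Subtype.ext (funext fun i => ?_)
    have := congrFun (congrArg Subtype.val e1) i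
    simp only [AddSubgroup.coe_add, Pi.add_apply] at this
    omega
  have k1 := k (kap l) (by rw [smul_kap, f2])
  rw [pl, ← ip_kap, ip_apply, ZMod.intCast_zmod_eq_zero_iff_dvd] at k1
  have e2 := congrArg (fun v : L => dotInt (v : V) b) hl
  have e3 := co_dot h (h • d) b
  simp only [AddSubgroup.coe_add, AddSubgroup.coe_sub, two_nsmul, dot_add_left, dot_sub_left] at e2
  rw [hh, f1] at e3
  have e4 := dot8 b l
  have e5 := dot8 d b
  have e6 := dot_comm (b : V) l
  have e7 := dot_comm (b : V) a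
  refine (z2 _).resolve_left fun k2 => ?_
  rw [pl, ← ip_kap, ip_apply, ZMod.intCast_zmod_eq_zero_iff_dvd] at k2
  omega

theorem ll {h : G0} (h2 : ∀ c : C, h • h • c = c) {c w d : C} (hc : IsS c) (hw : IsS w)
    (hs : IsS (w + c)) (fc : h • c = c) (fw : h • w = w) (e : c = d + h • d)
    (k : ∀ f : C, h • f = f → pl w f = 0) : pl d w = 1 := by
  obtain ⟨a, ha, rfl⟩ := hc
  obtain ⟨b, hb, rfl⟩ := hw
  have ab := (LS.isS_add hb ha).1 hs
  have f := eq_or_neg ha (by rw [co_norm, ha]; norm_num) (fc.symm.trans (smul_kap _ _))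
  have hh : h * h = 1 := by
    refine (mem_center_G0.1 (center_of_fix fun c => (mul_smul _ _ _).trans (h2 c))).resolve_right
      fun e => leechEL.ne_neg (x := a) (fun e => by rw [e] at ha; simp [Cfsg.sqNorm] at ha) ?_
    rw [← neg1_smul, ← e, mul_smul]
    rcases f with f | f
    exacts [by rw [f, f], by rw [f, co_neg, f, neg_neg]]
  rcases f with f | f
  · exact ll0 hh hb ab f fw e k
  · refine ll0 (h := neg1 * h) ?_ hb ab (by rw [mul_smul, f, neg1_smul, neg_neg]) ?_ ?_ ?_ <;>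
      try simpa only [mul_smul, neg1_smul_C]
    rw [mul_assoc, ← mul_assoc h, neg1_comm, mul_assoc, hh, mul_one, neg1_mul_self]

end BE

variable {M G : Type*} [Group M] [Group G] {x y γ : M} {p : ZMod 2 → C → M} {eO eD s0 : G0} {w : C}
  {s : ZMod 2} {t : G} {ι : M → G}

namespace Two

variable [Finite M] (H : Two x y p γ) (L : LF eO eD s0)
include H L

theorem fb0 {a : M} {k : GT} (hk : Rel p a k) (h1 : IsConj x a) (n : ¬ ∃ t c, a = p t c) (hw : AA w)
    {r : ZMod 2} {d : C} (sq : a * p r d * (a * p r d) = x)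
    (cm : a * p r d * p s w = p s w * (a * p r d)) : False := by
  obtain ⟨la, i2⟩ := H.laA L hk h1 n
  have aa := sq_of_cj h1 H.xx
  have f1 : co k • w = w := by
    simpa [co_qe] using (H.s.cm_q (hk.mul (H.s.rel_q r d)) cm).1
  have c1 : a * p s w = p s w * a := by
    have := hk s w
    rwa [f1, la _ f1, add_zero, mul_inv_eq_iff_eq_mul] at this
  have c2 : p r d * p s w = p s w * p r d := by
    rwa [← mul_assoc, ← c1, mul_assoc, mul_assoc, mul_left_cancel_iff] at cm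
  obtain ⟨t, e⟩ : ∃ t, a * p r d * a⁻¹ * (p r d)⁻¹ = p t c0.1 := ⟨_, by
    rw [show a * p r d * a⁻¹ * (p r d)⁻¹ = a * p r d * (a⁻¹ * p r d) * (p r d * p r d)⁻¹ by group,
      inv_eq_of_mul_eq_one_right aa, sq, H.s.sq, H.s.q_inv, ← H.hx, H.s.mul, add_zero]⟩
  have e1 : p r d * a * (p r d)⁻¹ = a * p t c0.1 := by
    rw [← e, ← mul_assoc, ← mul_assoc, ← mul_assoc, aa, one_mul, inv_eq_of_mul_eq_one_right aa]
  have e2 : p r d * (a * p s w) * (p r d)⁻¹ = a * p t c0.1 * p s w := by rw [cj_mul c2, e1]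
  have A1 : IsConj x (a * p t c0.1) := h1.trans (cj_of e1)
  have A2 := H.qA t isS_c0
  have A3 := H.qA s hw.1
  have A4 : IsConj x (p t c0.1 * p s w) := H.s.mul _ _ _ _ ▸ H.qA _ (add_comm w _ ▸ hw.2)
  have c3 : p t c0.1 * p s w = p s w * p t c0.1 := H.s.cm_iff.2 hw.v0c.2
  have c4 : a * p t c0.1 = p t c0.1 * a := by
    rw [← inv_eq_of_mul_eq_one_right (sq_of_cj A1 H.xx), mul_inv_rev, inv_eq_of_mul_eq_one_right aa,
      inv_eq_of_mul_eq_one_right (sq_of_cj A2 H.xx)]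
  have uu := sq_of_cj A3 H.xx
  have st := H.st1 L (H.s.rel_cm hk) h1 A1 (s' := s) (c' := w)
  generalize p t c0.1 = X at *
  have k1 : ∀ {g b t c}, g * b * g⁻¹ = p t c → IsConj x b → IsS c := fun e h =>
    H.isS_of (h.trans (cj_of e))
  have k2 : ∀ {g b t c b' t' c'}, g * b * g⁻¹ = p t c → g * b' * g⁻¹ = p t' c' →
      ∃ u, g * (b * b') * g⁻¹ = p u (c + c') := fun e e' => ⟨_, by rw [← conj_mul, e, e', H.s.mul]⟩
  rcases H.classes L (t := a * p s w) (by
      rw [(show Commute a (p s w) from c1).symm.mul_mul_mul_comm, aa, uu, mul_one])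
    (fun e => n ⟨s, w, by rw [← mul_one a, ← uu, ← mul_assoc, e, one_mul]⟩) with A5 | B
  · obtain ⟨g, -, ⟨_, _, g1⟩, ⟨_, _, g2⟩, ⟨_, _, g3⟩⟩ := st A5
    obtain ⟨_, g4⟩ := k2 g1 g2
    obtain ⟨_, g5⟩ := k2 g2 g3
    obtain ⟨_, g6⟩ := k2 g1 g3
    obtain ⟨_, g7⟩ := k2 g4 g3
    exact BE.no7 (k1 g3 A3) (k1 g1 h1) (k1 g2 A2) (k1 g6 A5) (k1 g5 A4) (k1 g4 A1)
      (k1 g7 (A5.trans (cj_of e2)))
  · obtain ⟨g, hg⟩ := isConj_iff.1 B.symm
    have k3 : ∀ {b}, b * (a * p s w) = a * p s w * b → IsConj x b → IsConj x (b * (a * p s w)) →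
        IQ p g b := fun e h h' => H.inQ2 L (by rw [← hg, conj_mul, conj_mul, e]) (h.trans (cj_of rfl))
      (by rw [← hg, conj_mul]; exact h'.trans (cj_of rfl))
    have cX : X * (a * p s w) = a * p s w * X := (Commute.mul_right c4.symm c3 : Commute X _)
    have ca : a * (a * p s w) = a * p s w * a := (Commute.mul_right rfl c1 : Commute a _)
    obtain ⟨u, c, e⟩ := (k3 ca h1 (by rwa [← mul_assoc, aa, one_mul])).mul H.s
      (k3 (b := a * X) (Commute.mul_left ca cX : Commute _ _) A1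
        (by rwa [c4, mul_assoc, ← mul_assoc a, aa, one_mul]))
    rw [← mul_assoc a, aa, one_mul] at e
    have := H.qA (u + 1) (k1 e A2)
    rw [← H.s.mul_y, ← e, ← hg, conj_mul, ← mul_assoc X, ← c4, ← e2] at this
    exact H.nAB this (B.trans ((cj_of rfl).trans (cj_of rfl)))

/-- No element of `C(x, u)` squares to `x`. -/
theorem fb (hw : AA w) {v : M} (hv : K2 x (p s w) v) : v * v ≠ x := fun sq => by
  have O := H.one
  obtain ⟨n, n1, n2⟩ := O.syl2 hw L (s := s) (P := Subgroup.zpowers v) (pg_of 2 (by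
    rintro _ ⟨m, rfl⟩
    rw [← zpow_natCast, ← zpow_mul, mul_comm, zpow_mul, zpow_natCast, show 2 ^ 2 = 2 * 2 from rfl, pow_mul,
      pow_two v, sq, pow_two, H.xx, one_zpow]))
    fun a ha => (Subgroup.zpowers_le (H := K2S x (p s w))).2 hv ha
  have hv := n2 v (Subgroup.mem_zpowers v)
  replace sq : n * v * n⁻¹ * (n * v * n⁻¹) = x := by rw [conj_mul, sq, n1.1, mul_inv_cancel_right]
  generalize n * v * n⁻¹ = v at hv sq
  obtain ⟨k, hk⟩ := H.s.up v hv.2.1
  have f := O.fx2 hw hv hk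
  have r := fun c => H.s.rel_uniq (hk.mul hk) (by rw [sq, ← H.hx]; exact H.s.rel_q 0 c0.1) c
  simp only [ep_mul, ep_qe, map_mul, mul_smul, co_qe, one_smul] at r
  have h2 := fun c => (r c).2
  by_cases h3 : ∀ c, co k • c = c → pl w c = 0
  · obtain ⟨d, hd⟩ := LFt.im_of_perp h2 (c := c0.1) fun d hd => by
      have := (r d).1
      rw [hd, zz2] at this
      exact this.symm
    obtain ⟨e, he⟩ := LFt.im_of_perp h2 h3
    have a1 := BE.ll h2 isS_c0 hw.1 hw.2 f.1 f.2 hd h3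
    have a2 := (H.s.cm_q hk hv.2.2).2
    have a3 := bb_isS hw.1
    rw [he] at a1 a2 a3
    rw [ep_add, (r e).1, h2, add_assoc] at a2
    rw [bb_add_self, bb_smul_self, zz2, zero_add] at a3
    change pl c0.1 e + pl e (co k • e) = 0 at a2
    rw [a3, add_zero, hd, pl_add', ← LFt.pl_swap h2, ← pl_add, a1] at a2
    exact one_ne_zero a2
  have h4 : ∀ {s : G0}, (∀ c : C, s • c = c → ∃ d : C, c = d + s • d) → ¬ Cj (co k) s :=
    fun {s} F ⟨u, hu⟩ => h3 fun c hc => by
      have k' : ∀ c, co k • c = c → s • u • c = u • c := fun c hc => by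
        rw [← hu, mul_smul, mul_smul, inv_smul_smul, hc]
      obtain ⟨d, hd⟩ := F _ (k' w f.2)
      rw [← pl_smul u, hd, pl_comm, pl_im (k' c hc)]
  rcases L.cls _ h2 with a | ⟨u, hu⟩ | a | a
  · obtain ⟨t, c, rfl⟩ := H.s.inQ hk a
    rw [H.s.sq, ← H.hx] at sq
    exact c0_ne (H.s.inj sq).2.symm
  · obtain ⟨h, kh, sh, e, P⟩ := H.exists_h L
    obtain ⟨b, l, hb, rfl⟩ := H.s.lift u
    have r1 := hb.inv.conj P.rel
    obtain ⟨t, d, rfl⟩ := H.s.same r1 hk fun c => by
      rw [map_mul, map_mul, inv_inv, map_inv, mul_smul, mul_smul, P.ac, ← hu, mul_smul, mul_smul,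
        inv_smul_smul, inv_smul_smul]
    exact H.fb0 L r1 ((H.h_ab P).1.trans (cj_of rfl)) (fun ⟨t, c, e⟩ => H.notQ P.h0 P.h1 P.h2
      (P.eq.symm.trans (Eq.trans (by rw [← e]; group) (hb t c)))) hw sq hv.2.2
  exacts [h4 L.dF a, h4 L.sF a]

end Two

/-- Fusion of `t` and `t z`. -/
theorem Em2.fuse [Finite M] [Finite G] [IsSimpleGroup G] (E : Em2 x (p s w) t ι) (H : Two x y p γ)
    (L : LF eO eD s0) (hw : AA w) (hF4 : ∀ g, g * t = t * g →
      (∀ a, P3 x y (p s w) a → g * ι a = ι a * g) → Im2 x (p s w) ι g) :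
    ∃ b, b * t * b⁻¹ = t * ι y ∧ b * ι y * b⁻¹ = ι y := by
  obtain ⟨r, hr⟩ := hw.ex_rt
  exact (E.loc H L hw (fun v hv => H.fb L hw hv) hF4 hr).fuse

end H10.Mon.MG
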