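import Mathlib
import Cfsg.Agent.H9.HSRank3
import Cfsg.Agent.H10.Co0
import Cfsg.Agent.S1583
import Cfsg.Agent.S1584

/-! The rank 3 action of the Higman-Sims group on 100 Leech vectors. -/

set_option autoImplicit false

namespace H9

open Cfsg MulAction H10

/-- the second norm 6 vector. -/
def vW : L := -(vV + vU')

theorem norm_vW : sqNorm (vW : V) = 48 := by decide +kernel
theorem dot_vV_vW : dotInt (vV : V) (vW : V) = -32 := by decide +kernel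

/-- the Higman-Sims group inside `Co0`. -/
abbrev hsK : Subgroup G0 := Spor.HS.subgroupOf Co0

theorem mem_hsK (g : G0) : g ∈ hsK ↔ g • vV = vV ∧ g • vU' = vU' :=
  ⟨fun h => ⟨h.1.2, h.2⟩, fun h => ⟨⟨g.2, h.1⟩, h.2⟩⟩

theorem mem_hsK' (g : G0) : g ∈ hsK ↔ g • vV = vV ∧ g • vW = vW := by
  rw [mem_hsK, vW, co_neg, co_add, neg_inj]
  exact and_congr_right fun h => by rw [h, add_right_inj]

/-- the 100 vectors. -/
def hsX : SubMulAction hsK L where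
  carrier := {x | sqNorm (x : V) = 32 ∧ dotInt (vV : V) (x : V) = 24 ∧ dotInt (vW : V) (x : V) = -24}
  smul_mem' g x hx := by
    obtain ⟨h1, h2⟩ := (mem_hsK' g).1 g.2
    refine ⟨(co_norm g x).trans hx.1, ?_, ?_⟩
    · rw [← hx.2.1, ← co_dot g vV x, h1]; rfl
    · rw [← hx.2.2, ← co_dot g vW x, h2]; rfl

noncomputable instance hsAct : MulAction hsK hsX := SubMulAction.mulAction hsX

def hsx0 : hsX := ⟨-vU, by decide +kernel, by decide +kernel, by decide +kernel⟩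

theorem hs_action : HSAction hsK hsx0 {y | dotInt ((hsx0 : L) : V) ((y : L) : V) = 8}
    {y | y ≠ hsx0 ∧ dotInt ((hsx0 : L) : V) ((y : L) : V) ≠ 8} := by
  obtain ⟨h1, h2⟩ := Agent.S1583.result vV vW norm_vV norm_vW dot_vV_vW
  obtain ⟨h3, h4, h5⟩ := Agent.S1584.result vV vW hsx0 norm_vV norm_vW dot_vV_vW hsx0.2
  have h0 : dotInt ((hsx0 : L) : V) ((hsx0 : L) : V) ≠ 8 := by decide +kernel
  have h6 : ∀ y z : hsX, y ≠ hsx0 → z ≠ hsx0 → (dotInt ((hsx0 : L) : V) ((y : L) : V) = 8 ↔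
      dotInt ((hsx0 : L) : V) ((z : L) : V) = 8) → ∃ g : hsK, g • hsx0 = hsx0 ∧ g • y = z := by
    intro y z hy hz h
    obtain ⟨g, e1, e2, e3, e4⟩ := h5 y y.2 z z.2 (Subtype.coe_ne_coe.2 hy) (Subtype.coe_ne_coe.2 hz) h
    exact ⟨⟨g, (mem_hsK' g).2 ⟨e1, e2⟩⟩, Subtype.ext e3, Subtype.ext e4⟩
  refine ⟨⟨fun y => ?_, fun y => ?_, h0, by simp, fun y hy z hz => ?_, fun y hy z hz => ?_⟩,
    fun g hg y hy => ?_, h1, ?_, ?_, ?_⟩
  · obtain ⟨g, e1, e2, e3⟩ := h2 hsx0 hsx0.2 y y.2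
    exact ⟨⟨g, (mem_hsK' g).2 ⟨e1, e2⟩⟩, Subtype.ext e3⟩
  · simp only [Set.mem_ofPred_eq]
    tauto
  · exact h6 y z (by rintro rfl; exact h0 hy) (by rintro rfl; exact h0 hz) (iff_of_true hy hz)
  · exact h6 y z hy.1 hz.1 (iff_of_false hy.2 hz.2)
  · have : (g : G0) • (hsx0 : L) = hsx0 := congrArg Subtype.val hg
    rw [Set.mem_ofPred_eq, ← this]
    exact (co_dot g _ y).trans hy
  · refine Eq.trans ?_ h3
    rw [← Set.ncard_image_of_injective _ Subtype.val_injective]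
    congr 1
    ext y
    exact ⟨fun ⟨z, hz, e⟩ => e ▸ ⟨z.2, hz⟩, fun hy => ⟨⟨y, hy.1⟩, hy.2, rfl⟩⟩
  · rw [← h4, ← Set.ncard_image_of_injective _ Subtype.val_injective]
    congr 1
    ext y
    exact ⟨fun ⟨z, hz, e⟩ => e ▸ ⟨z.2, Subtype.coe_ne_coe.2 hz.1, hz.2⟩,
      fun hy => ⟨⟨y, hy.1⟩, ⟨Subtype.coe_ne_coe.1 hy.2.1, hy.2.2⟩, rfl⟩⟩
  · obtain ⟨e⟩ := equiv_M22 ((stabilizer hsK hsx0).map hsK.subtype) (fun g => by
      constructor
      · rintro ⟨k, hk, rfl⟩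
        have : (k : G0) • (-vU) = -vU := congrArg Subtype.val hk
        rw [co_neg, neg_inj] at this
        exact ⟨this, ((mem_hsK k).1 k.2).2, ((mem_hsK k).1 k.2).1⟩
      · rintro ⟨e1, e2, e3⟩
        exact ⟨⟨g, (mem_hsK g).2 ⟨e3, e2⟩⟩, Subtype.ext ((co_neg g vU).trans (congrArg _ e1)), rfl⟩)
    have f := ((stabilizer hsK hsx0).equivMapOfInjective _ hsK.subtype_injective).trans e.symm
    exact ⟨simple_of_equiv ⟨f⟩ simple_s2, card_of_equiv ⟨f⟩ card_s2⟩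

theorem HSAction.isoHS {Γ X : Type*} [Group Γ] [MulAction Γ X] {x : X} {O₁ O₂ : Set X}
    (h : HSAction Γ x O₁ O₂) : Spor.IsoHS Γ := by
  obtain ⟨e⟩ := @HSAction.iso _ _ _ _ hsK hsX _ hsAct _ _ _ _ _ _ h hs_action
  exact ⟨e.trans (Subgroup.subgroupOfEquivOfLe (inf_le_left.trans inf_le_left))⟩

end H9
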