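import Mathlib
import Cfsg.Agent.H9.CG
import Cfsg.Agent.H29.Cert

set_option autoImplicit false
set_option maxRecDepth 100000
set_option Elab.async false
set_option linter.all false

namespace H9.J4Z22

open H29 H9.MX

noncomputable def n0 : Net := ben 7 [(nat_lit 0xfd09a1a7fa33176a210),
 (nat_lit 0x71aca207cb4c8b3e282),
 (nat_lit 0x165cba6dbb26bc525a6),
 (nat_lit 0x1c107c78a8e9040d8064),
 (nat_lit 0xc27242d162a8856),
 (nat_lit 0x44a7c2d6788),
 (nat_lit 0x1eee)]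
noncomputable def n1 : Net := n0.rev
noncomputable def n2 : Net := ben 7 [(nat_lit 0xf11b8b51c9e8945e34c),
 (nat_lit 0xe6ec07708f04457710),
 (nat_lit 0x11016be5cb3022d29e0c),
 (nat_lit 0x20b3934c086111280fe),
 (nat_lit 0x3d31f4027e3f9a),
 (nat_lit 0x2d407c37ed),
 (nat_lit 0x13ff)]
noncomputable def n3 : Net := n2.rev
noncomputable def n4 : Net := ben 7 [(nat_lit 0xc3c303ffccc0c0cf01),
 (nat_lit 0x547afba441e11411500),
 (nat_lit 0x11cc9bd733871c2f0a08),
 (nat_lit 0xc0d853721f48802008c),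
 (nat_lit 0x86d88e500005880),
 (nat_lit 0xe1485690e14),
 (nat_lit 0xe14)]
noncomputable def n5 : Net := n4.rev
def ivl : List ℕ := [1, 0, 3, 2, 5, 4]
def R0 : List (List ℕ) := [[0, 0, 4, 2, 1, 3, 0, 4, 2, 1, 2, 0, 4, 3, 1, 4, 1, 4],
 [0, 2, 0, 2, 0, 3, 3, 1, 2, 2, 1, 3, 3]]
noncomputable def nl : List Net := [n0, n1, n2, n3, n4, n5]
theorem hn : NetsOK 77 (nth Net.nil nl) := netsOK_of_all (by decide +kernel)
theorem hiv : IvOK (sg (nth Net.nil nl)) (ivOf ivl) :=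
  ivOK_of_chk (k := 7) hn (by decide) (n := 6) (by decide) (by decide) (allN_true.1 (by decide +kernel))
theorem hR0 : ∀ r ∈ R0, ev (sg (nth Net.nil nl)) r = 1 :=
  rels_of_chk (k := 7) hn (by decide) hiv (allN_true.1 (by decide +kernel))

end H9.J4Z22
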