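import Mathlib
import Cfsg.Agent.H9.CG
import Cfsg.Agent.H9.J4Z22
import Cfsg.Agent.H29.Cert

set_option autoImplicit false
set_option maxRecDepth 100000
set_option Elab.async false
set_option linter.all false

namespace H9.J4Z22X

open H29 H9.MX

noncomputable def x6 : Net := ben 7 [(nat_lit 0x6c33d026fdb021bcbec),
 (nat_lit 0xfce511630ea52904c70),
 (nat_lit 0xf8aaa1b56e448f4c88),
 (nat_lit 0x10fcf8db03ea4800014),
 (nat_lit 0x19621fc210ec9a68),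
 (nat_lit 0x8420c90fbb2),
 (nat_lit 0x1ffe)]
noncomputable def x8 : Net := ben 7 [(nat_lit 0xfc5c03ff303cc0f0f0),
 (nat_lit 0xf0320a0f55a0500020),
 (nat_lit 0x112b00553b3377008900),
 (nat_lit 0x15150105a8f880d00048),
 (nat_lit 0xb857b95700004040),
 (nat_lit 0x6fbb8ff46fb),
 (nat_lit 0x6fb)]
noncomputable def x10 : Net := ben 7 [(nat_lit 0x1f9a283ac047f723a10),
 (nat_lit 0xad26c12cab75e6af110),
 (nat_lit 0x1156a613d112d51b0980),
 (nat_lit 0xb019013d1f1bf90c048),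
 (nat_lit 0x235131bf12699b2d),
 (nat_lit 0x124233de1e67),
 (nat_lit 0x1bef)]
noncomputable def x12 : Net := ben 7 [(nat_lit 0xffc3c30dc0f0f13fc10),
 (nat_lit 0x50aa5f55a55f5500500),
 (nat_lit 0x77bb40096b9989ae00),
 (nat_lit 0x9090c0c2336c2c2c0cc),
 (nat_lit 0x563d527d0c469c46),
 (nat_lit 0x103c67f5303c),
 (nat_lit 0x1ffe)]
noncomputable def x14 : Net := ben 7 [(nat_lit 0xffc3c30dc0f0f13fc10),
 (nat_lit 0x50aa5f55a55f5500500),
 (nat_lit 0x77bb40096b9989ae00),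
 (nat_lit 0x9090c0c2336c2c2c0cc),
 (nat_lit 0x563d527d0c469c46),
 (nat_lit 0x103c67f5303c),
 (nat_lit 0x1ffe)]
noncomputable def x16 : Net := ben 7 [(nat_lit 0x3ff00f00fec30c17f10),
 (nat_lit 0x2d28885da57727d8200),
 (nat_lit 0x462caa6b6d8aa40408),
 (nat_lit 0x1011c160e40abeba020),
 (nat_lit 0x4aec4aec102bd08b),
 (nat_lit 0x24056ec8c40),
 (nat_lit 0x1bef)]
noncomputable def x18 : Net := ben 7 [(nat_lit 0x30cfff0f0ff30c33000),
 (nat_lit 0xa5507a5af50f2fff200),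
 (nat_lit 0x114777996633000c444c),
 (nat_lit 0x151dc5c505e564640000),
 (nat_lit 0x42c746cf0000a0c8),
 (nat_lit 0x2d5011753d5),
 (nat_lit 0x6d5)]
noncomputable def x20 : Net := ben 7 [(nat_lit 0xe69fd72f95d52506707),
 (nat_lit 0x3c6b6090c3daa5a6060),
 (nat_lit 0x11890559a92ca293bc40),
 (nat_lit 0x41b90631086302300d6),
 (nat_lit 0x33a929f00a04bbc),
 (nat_lit 0x38ce947d1),
 (nat_lit 0x7e3)]
noncomputable def x22 : Net := ben 7 [(nat_lit 0x597e8e084924220d941),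
 (nat_lit 0x38deb8259871e062830),
 (nat_lit 0xfb68f55a60157206e),
 (nat_lit 0x110c1aca40a1641fc001),
 (nat_lit 0x22102e37168096dd),
 (nat_lit 0xa511231ff42),
 (nat_lit 0x1edf)]
noncomputable def ly : List Net := [x6, x8, x10, x12, x14, x16, x18, x20, x22]
noncomputable def nx : ℕ → Net := nth Net.nil (J4Z22.nl ++ dbl ly)
def ivx : List ℕ := [1, 0, 3, 2, 5, 4, 7, 6, 9, 8, 11, 10, 13, 12, 15, 14, 17, 16, 19, 18, 21, 20, 23, 22]
def defs : List (List ℕ) := [[1, 1, 2, 0, 3, 3, 3, 3, 1, 3, 0],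
 [1, 7, 1, 3, 7, 7, 3, 6, 1, 7, 7, 3],
 [0, 0, 7, 8, 7, 8, 0, 6, 2, 0, 6, 1],
 [11, 0, 2, 2, 6, 2, 8, 11, 6, 2, 0, 10, 0, 11, 3],
 [7, 9, 6, 6, 12, 9, 11, 7, 9, 12, 9, 13, 7],
 [7, 9, 11, 12, 7, 12, 8, 8, 11, 7, 15, 15],
 [7, 9, 1, 1, 3, 1, 3, 9, 9, 0, 9, 14, 2, 10, 2, 2, 0],
 [5, 0, 3, 5],
 [2, 2, 1, 5]]
theorem hext : chkExt 6 defs J4Z22.ivl ivx = true := by decide +kernel
theorem hn : NetsOK 77 nx := netsOK_ext J4Z22.hn (by decide +kernel)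
theorem hiv : IvOK (sg nx) (ivOf ivx) := ivOK_ext J4Z22.hiv hext rfl rfl
theorem hdef : ∀ r ∈ defRels defs 6, ev (sg nx) r = 1 :=
  rels_of_chk (k := 7) hn (by decide) hiv (allN_true.1 (by decide +kernel))
theorem ch : chkChain 77 7 nx [(0, 3, 77, [0, 2, 6, 8, 10, 12, 14, 16, 18]),
 (1, 2, 60, [6, 8, 10, 12, 14, 16, 18]),
 (49, 2, 12, [12, 14, 16, 18]),
 (72, 1, 8, [])] [0, 1, 2, 3, 4, 5, 6, 8, 10, 12, 14, 16, 18] = true := by decide +kernel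
theorem prim : Prim nx 77 [0, 2] [5, 20] := prim_of_chk (r1 := 6) (r2 := 4) hn (by decide +kernel)
theorem wit : ∀ r ∈ [powW 11 [22], powW 2 [4], powW 3 [22, 4]], ev (sg nx) r = 1 :=
  rels_of_chk (k := 7) hn (by decide) hiv (allN_true.1 (by decide +kernel))
theorem reach : Reach nx [0, 1, 2, 3, 4, 5] (bit 0) (ones 77) := reach_of_chk (r := 4) hn (by decide +kernel)
theorem map {G : Type} [Group G] {e : ℕ → G} {ρ : G →* Equiv.Perm ℕ}
    (h : ∀ c, ρ (e c) = sg (nth Net.nil J4Z22.nl) c) : ∀ c, ρ (extE e 6 defs c) = sg nx c :=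
  map_ext hext hiv hdef rfl rfl h

end H9.J4Z22X
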