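import Mathlib
import Cfsg.Agent.H9.CG
import Cfsg.Agent.H9.J4Z22X

set_option autoImplicit false
set_option maxRecDepth 100000
set_option Elab.async false
set_option linter.all false

namespace H9.J4Z22

open H29 H9.MX

theorem top : gen (pe J4Z22.nl) [0, 1, 2, 3, 4, 5] = ⊤ := pe_top (by decide +kernel)
theorem hivS : IvOK (pe J4Z22.nl) (ivOf [1, 0, 3, 2, 5, 4]) := ivOK_sub _ J4Z22.hiv
theorem hRS : ∀ r ∈ R0, ev (pe J4Z22.nl) r = 1 := rels_subE _ (rels_sub J4Z22.hR0 (by decide +kernel))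
theorem cardS (h : Finite (PG nl) ∧ Nat.card (PG nl) ≤ 443520) : Nat.card (PG J4Z22.nl) = 443520 :=
  (card_eq_of_chain J4Z22X.hn h (fun c _ => J4Z22X.map (pe_rho _) c) J4Z22X.ch
    (by decide +kernel)).1
theorem simpleS (h : Finite (PG nl) ∧ Nat.card (PG nl) ≤ 443520) : IsSimpleGroup (PG J4Z22.nl) :=
  simple_of_cert (q := 11) (m := 40320) J4Z22X.hn J4Z22X.prim
    (trans_of_reach (by decide) (PG_lt J4Z22.hn) (fun c _ => J4Z22X.map (pe_rho _) c) J4Z22X.reach)
    (J4Z22X.map (pe_rho _)) (PG_faithful J4Z22.hn) (cardS h) J4Z22X.wit (ivOK_extE hivS J4Z22X.hext)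
    (rels_extE hRS (by decide +kernel)) ((gen_extE _ _ (by decide)).trans top)
    (l := [(0, 7), (1, 0)]) (by decide +kernel) (by norm_num)
theorem le_card [Finite (PG nl)] : 443520 ≤ Nat.card (PG nl) :=
  (le_of_eq (by decide +kernel)).trans ((le_card_gen_of_chain J4Z22X.hn (PG_faithful hn)
    (fun c _ => J4Z22X.map (pe_rho _) c) J4Z22X.ch).trans (Subgroup.card_le_card_group _))

end H9.J4Z22
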