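import Mathlib
import Cfsg.Agent.H9.J4U
import Cfsg.Agent.H9.J4Z
import Cfsg.Agent.H9.J4Z22S
import Cfsg.Agent.H3.Extraspecial

/-!
# The centraliser of a central involution in the fourth Janko group
-/

set_option autoImplicit false
set_option maxRecDepth 100000
set_option linter.all false

namespace H9.J4

open Cfsg H29 H9.MX H9.DC H9.JL Subgroup
open scoped commutatorElement

theorem chain_ge {Γ : Type*} [Group Γ] [Finite Γ] {e : ℕ → Γ} {A : Subgroup Γ} :
    ∀ (l : List (ℕ × ℕ)) (K : Subgroup Γ), A ≤ K → (∀ p ∈ l, ∀ g ∈ A, g * e p.1 = e p.1 * g) →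
      (∀ p ∈ l, e p.2 ∈ K ∧ e p.2 * e p.1 ≠ e p.1 * e p.2) →
      l.Pairwise (fun p q => e q.2 * e p.1 = e p.1 * e q.2) → 2 ^ l.length * Nat.card A ≤ Nat.card K
  | [], K, h, _, _, _ => by simpa using card_le_of_le h
  | p :: l, K, h, h1, h2, h3 => by
    rw [List.pairwise_cons] at h3
    have ih := chain_ge l (K ⊓ centralizer {e p.1})
      (le_inf h fun g hg => mem_centralizer_singleton_iff.2 (h1 p (by simp) g hg))
      (fun q hq => h1 q (by simp [hq])) (fun q hq => ⟨⟨(h2 q (by simp [hq])).1,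
        mem_centralizer_singleton_iff.2 (h3.1 q hq)⟩, (h2 q (by simp [hq])).2⟩) h3.2
    obtain ⟨m, hm⟩ := card_dvd_of_le (inf_le_left : K ⊓ centralizer {e p.1} ≤ K)
    have h4 : m ≠ 1 := fun h4 => (h2 p (by simp)).2 (mem_centralizer_singleton_iff.1
      ((eq_of_le_of_card_ge inf_le_left (by rw [hm, h4, mul_one])).ge (h2 p (by simp)).1).2)
    have h5 : m ≠ 0 := fun h5 => Nat.card_pos.ne' (by rw [hm, h5, mul_zero] : Nat.card K = 0)
    rw [hm, List.length_cons, pow_succ, mul_right_comm]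
    exact Nat.mul_le_mul ih (by omega)

/-- The elements that normalise `Q` and centralise `d` modulo `Q`. -/
def cm {Γ : Type*} [Group Γ] (Q : Subgroup Γ) (d : Γ) : Subgroup Γ where
  carrier := {c | c ∈ normalizer (Q : Set Γ) ∧ c * d * c⁻¹ * d⁻¹ ∈ Q}
  one_mem' := ⟨one_mem _, by simp⟩
  mul_mem' := fun {a b} ha hb => ⟨mul_mem ha.1 hb.1, by
    convert mul_mem ((mem_normalizer_iff.1 ha.1 _).1 hb.2) ha.2 using 1; group⟩
  inv_mem' := fun {a} ha => ⟨inv_mem ha.1, by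
    convert (mem_normalizer_iff''.1 ha.1 _).1 (inv_mem ha.2) using 1; group⟩

theorem norm_sup {Γ : Type*} [Group Γ] [Finite Γ] {Q : Subgroup Γ} {d g : Γ}
    (h : g ∈ normalizer (Q : Set Γ)) (h1 : g * d * g⁻¹ ∈ Q ⊔ zpowers d) :
    g ∈ normalizer ((Q ⊔ zpowers d : Subgroup Γ) : Set Γ) := by
  have : Q ⊔ zpowers d ≤ (Q ⊔ zpowers d).comap (MulAut.conj g).toMonoidHom :=
    sup_le (fun a ha => mem_sup_left ((mem_normalizer_iff.1 h a).1 ha)) (zpowers_le.2 h1)
  exact mem_normalizer_fintype fun n hn => this hn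

theorem hivN : IvOK (sg (nth Net.nil J4Z22.nl)) (ivOf ivC) := fun c => by
  by_cases h : c < 6
  · rw [← J4Z22.hiv c, (by decide : ∀ c < 6, ivOf ivC c = ivOf J4Z22.ivl c) c h]
  · have h1 : 6 ≤ ivOf ivC c := by
      by_cases h2 : c < 36
      · exact (by decide : ∀ c < 36, ¬ c < 6 → 6 ≤ ivOf ivC c) c h2 h
      · rw [ivOf, nth_default _ (not_lt.1 h2)]; omega
    rw [sg_nth_eq_one (l := J4Z22.nl) h1, sg_nth_eq_one (l := J4Z22.nl) (not_lt.1 h), inv_one]

section

variable {Γ : Type} [Group Γ] [Finite Γ] {v : Γ →* Matrix (Fin Q.n) (Fin Q.n) (ZMod 2)} {e : ℕ → Γ}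
  (hm : GF2.Mod Q v e lC) (inj : Function.Injective v) (hz : ∀ g, g * e 10 = e 10 * g)

include hm inj

theorem zsq : ∀ a ∈ 10 :: lq, e a ^ 2 = 1 := fun a ha => by
  simpa [ev_powW] using hm.rels Q_ok inj cPow _ (List.mem_cons_of_mem _ (List.mem_map.2 ⟨a, ha, rfl⟩))

theorem zne : e 10 ≠ 1 := by simpa using hm.ne Q_ok nz

theorem com {a b : ℕ} (ha : a ∈ lq) (hb : b ∈ lq) :
    e a * e b = if (a, b) ∈ prs then e 10 * (e b * e a) else e b * e a := by
  have := hm.eqs Q_ok inj cCom _ (List.mem_flatMap.2 ⟨a, ha, List.mem_map.2 ⟨b, hb, rfl⟩⟩)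
  split_ifs at this ⊢ <;> simpa using this

include hz

theorem xs : H3.XS 2 (e 10) (gen e (10 :: lq)) ∧ Nat.card (gen e (10 :: lq)) = 2 ^ 13 := by
  have hN : (zpowers (e 10)).Normal := ⟨by
    rintro _ ⟨k, rfl⟩ g
    rw [(Commute.zpow_right (hz g) k).eq, mul_inv_cancel_right]; exact ⟨k, rfl⟩⟩
  let π := QuotientGroup.mk' (zpowers (e 10))
  have hπ : π (e 10) = 1 := (QuotientGroup.eq_one_iff _).2 (mem_zpowers _)
  have ho : orderOf (e 10) = 2 := orderOf_eq_prime (zsq hm inj 10 (by simp)) (zne hm inj)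
  have c1 : ∀ a ∈ lq, ∀ b ∈ lq, π (e a) * π (e b) = π (e b) * π (e a) := fun a ha b hb => by
    rw [← map_mul, com hm inj ha hb]
    split_ifs <;> simp only [map_mul, hπ, one_mul]
  have c2 : ∀ a ∈ lq, π (e a) ^ 2 = 1 := fun a ha => by
    rw [← map_pow, zsq hm inj a (List.mem_cons_of_mem _ ha), map_one]
  have c3 : gen e (10 :: lq) ≤ (gen (fun c => π (e c)) lq).comap π := gen_le.2 fun c hc => by
    rcases List.mem_cons.1 hc with rfl | hc
    · rw [mem_comap, hπ]; exact one_mem _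
    · exact mem_gen (e := fun c => π (e c)) hc
  have c4 : Nat.card (gen e (10 :: lq)) ≤ 2 * 2 ^ 12 := by
    refine (card_le_of_le c3).trans ?_
    have := QuotientGroup.card_preimage_mk (zpowers (e 10)) (gen (fun c => π (e c)) lq : Set _)
    rw [Nat.card_zpowers, ho] at this
    exact this.le.trans (Nat.mul_le_mul_left _ (GF2.card_gen_le c1 c2))
  have c5 := chain_ge (e := e) (A := gen e (10 :: lq) ⊓ centralizer (gen e (10 :: lq))) prs _ inf_le_left
    (fun p hp g hg => (hg.2 _ (mem_gen (by revert p; decide))).symm)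
    (fun p hp => ⟨mem_gen (by revert p; decide), fun h => zne hm inj (by
      have := com hm inj ((by decide : ∀ p ∈ prs, p.1 ∈ lq) p hp) ((by decide : ∀ p ∈ prs, p.2 ∈ lq) p hp)
      rw [if_pos hp, ← h] at this
      exact mul_eq_right.1 this.symm)⟩)
    (List.Pairwise.imp (R := fun p q : ℕ × ℕ => q.2 ∈ lq ∧ p.1 ∈ lq ∧ (q.2, p.1) ∉ prs)
      (fun h => by rw [com hm inj h.1 h.2.1, if_neg h.2.2]) (by decide))
  have c6 : zpowers (e 10) ≤ gen e (10 :: lq) ⊓ centralizer (gen e (10 :: lq)) :=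
    zpowers_le.2 ⟨mem_gen (by simp), fun g _ => hz g⟩
  have c7 := card_le_of_le c6
  rw [Nat.card_zpowers, ho] at c7
  change 2 ^ 12 * _ ≤ _ at c5
  have c8 := eq_of_le_of_card_ge c6 (by rw [Nat.card_zpowers, ho]; omega)
  refine ⟨⟨ho, mem_gen (by simp), fun x _ => (hz x).symm, fun x hx y hy => ?_, fun x hx => ?_,
    fun x hx h => c8.ge ⟨hx, fun y hy => (h y hy).symm⟩⟩, by omega⟩
  · rw [← QuotientGroup.eq_one_iff]
    change π _ = 1
    rw [map_commutatorElement, commutatorElement_eq_one_iff_mul_comm]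
    exact comm_gen c1 _ (c3 hx) _ (c3 hy)
  · rw [← QuotientGroup.eq_one_iff]
    change π _ = 1
    rw [map_pow]
    exact pow_gen c1 c2 _ (c3 hx)

theorem structure_C (hc : Nat.card Γ ≤ 21799895040) : ∃ Q N M : Subgroup Γ, Q.Normal ∧ N.Normal ∧
    Q ≤ N ∧ N ≤ M ∧ Nat.card Q = 2 ^ 13 ∧ IsExtraspecial 2 Q ∧ Nat.card N = 3 * 2 ^ 13 ∧ M.index = 2 ∧
    ∃ _ : (N.subgroupOf M).Normal, IsM22 (M ⧸ N.subgroupOf M) := by
  have hi := hm.ivOK Q_ok inj ivToC (by decide)
  obtain ⟨hx, hQ⟩ := xs hm inj hz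
  have hi' : ∀ g ∈ [0, 2, 4, 6, 8], e (g + 1) = (e g)⁻¹ := fun g hg => by
    rw [← hi g, (by decide : ∀ g ∈ [0, 2, 4, 6, 8], ivOf ivC g = g + 1) g hg]
  have n1 : ∀ g ∈ [0, 2, 4, 6, 8], e g ∈ normalizer (gen e (10 :: lq) : Set Γ) := fun g hg =>
    norm_gen fun a ha => by
      rcases List.mem_cons.1 ha with rfl | ha'
      · rw [hz, mul_inv_cancel_right]; exact mem_gen ha
      have := hm.eqs Q_ok inj cNQ _ (List.mem_flatMap.2 ⟨g, hg, List.mem_map.2 ⟨a, ha', rfl⟩⟩)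
      simp only [ev_cons, ev_nil, mul_one] at this
      rw [← hi' g hg, mul_assoc, this]
      exact ev_mem_gen ((by decide +kernel : ∀ g ∈ [0, 2, 4, 6, 8], ∀ a ∈ lq,
        ∀ c ∈ nth [] (nth [] wq g) a, c ∈ 10 :: lq) g hg a ha')
  have d3 : e 6 ^ 3 = 1 := by simpa [ev_powW] using hm.rels Q_ok inj cPow _ List.mem_cons_self
  have d1 : e 6 ≠ 1 := by simpa using hm.ne Q_ok nd
  have : Fact (Nat.Prime 3) := ⟨by norm_num⟩
  have d4 : Nat.card (zpowers (e 6)) = 3 := by rw [Nat.card_zpowers, orderOf_eq_prime d3 d1]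
  have d5 : gen e (10 :: lq) ⊓ zpowers (e 6) = ⊥ := inf_eq_bot_of_coprime (by rw [hQ, d4]; norm_num)
  have hN : Nat.card ↥(gen e (10 :: lq) ⊔ zpowers (e 6)) = 3 * 2 ^ 13 := by
    rw [JL.card_sup (zpowers_le.2 (n1 6 (by simp))) d5, hQ, d4, mul_comm]
  have nd' := hm.eqs Q_ok inj cND
  have i7 : e 7 = (e 6)⁻¹ := hi' 6 (by simp)
  have u1 : e 8 * e 6 * (e 8)⁻¹ * e 6 ∈ gen e (10 :: lq) := by
    have := nd' _ List.mem_cons_self
    simp only [ev_cons, ev_nil, mul_one] at this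
    rw [← hi' 8 (by simp), mul_assoc, mul_assoc, this]
    exact ev_mem_gen (by decide)
  have m1 : gen e LM ≤ cm (gen e (10 :: lq)) (e 6) := by
    refine (gen_sub_iv hi (l' := [0, 2, 4] ++ (6 :: 10 :: lq)) (by decide +kernel)).trans
      (gen_le.2 fun c hc => ?_)
    rcases List.mem_append.1 hc with hc | hc
    · have hc' : c ∈ [0, 2, 4, 6, 8] := by revert c; decide
      refine ⟨n1 c hc', ?_⟩
      have := nd' _ (List.mem_cons_of_mem _ (List.mem_map.2 ⟨c, hc, rfl⟩))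
      simp only [ev_cons, ev_nil, mul_one] at this
      rw [← hi' c hc', ← i7, mul_assoc, mul_assoc, this]
      exact ev_mem_gen ((by decide : ∀ g ∈ [0, 2, 4], ∀ c ∈ nth [] wd g, c ∈ 10 :: lq) c hc)
    rcases List.mem_cons.1 hc with rfl | hc
    · exact ⟨n1 6 (by simp), by simp⟩
    · refine ⟨le_normalizer (mem_gen hc), ?_⟩
      have := (mem_normalizer_iff.1 (n1 6 (by simp)) _).1 (inv_mem (mem_gen (e := e) hc))
      simpa only [mul_assoc] using mul_mem (mem_gen hc) this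
  have u2 : e 8 ∉ gen e LM := fun h => by
    have h1 : e 6 * e 6 ∈ gen e (10 :: lq) := by
      convert mul_mem (inv_mem (m1 h).2) u1 using 1; group
    have h2 : e 6 * e 6 = 1 := mem_bot.1 (d5 ▸ ⟨h1, mul_mem (mem_zpowers _) (mem_zpowers _)⟩)
    rw [pow_succ, sq, h2, one_mul] at d3
    exact d1 d3
  have hle : gen e (10 :: lq) ⊔ zpowers (e 6) ≤ gen e LM :=
    sup_le (gen_sub (by decide +kernel)) (zpowers_le.2 (mem_gen (by decide)))
  obtain ⟨f, hf⟩ := (GF2.tr_of_act Q_ok hm (by decide) J4Z22.hn cAct cDist).exists_hom hi hivN (by decide)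
  have hf1 : ∀ c (hc : c ∈ LM), f ⟨e c, mem_gen hc⟩ = sg (nth Net.nil J4Z22.nl) c := fun c hc => by
    simpa using hf [c] (by simpa using hc)
  have r1 : f.range = PG J4Z22.nl := by
    refine le_antisymm ?_ ((closure_le _).2 ?_)
    · rintro _ ⟨g, rfl⟩
      obtain ⟨w, hw, h3⟩ := exists_word hi (by decide) g.2
      rw [show g = ⟨ev e w, ev_mem_gen hw⟩ from Subtype.ext h3.symm, hf w hw]
      exact ev_mem fun c _ => mem_PG _ c
    · rintro _ ⟨c, rfl⟩
      by_cases h : c < 6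
      · exact ⟨_, hf1 c (by revert c; decide)⟩
      · rw [sg_nth_eq_one (l := J4Z22.nl) (not_lt.1 h)]; exact one_mem _
  have r2 : (gen e (10 :: lq) ⊔ zpowers (e 6)).subgroupOf (gen e LM) ≤ f.ker := by
    have : gen e (10 :: lq) ⊔ zpowers (e 6) ≤ f.ker.map (gen e LM).subtype := by
      refine sup_le (gen_le.2 fun c hc => ?_) (zpowers_le.2 ⟨⟨_, mem_gen (by decide)⟩, ?_, rfl⟩)
      · obtain ⟨h1, h2⟩ := (by decide : ∀ c ∈ 10 :: lq, c ∈ LM ∧ 6 ≤ c) c hc
        exact ⟨⟨_, mem_gen h1⟩, (hf1 c h1).trans (sg_nth_eq_one (l := J4Z22.nl) h2), rfl⟩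
      · exact (hf1 6 (by decide)).trans (sg_nth_eq_one (l := J4Z22.nl) le_rfl)
    intro g hg
    obtain ⟨a, ha, h1⟩ := this hg
    rwa [← Subtype.ext h1]
  have r3 : Finite (PG J4Z22.nl) := r1 ▸ Finite.of_surjective _ f.rangeRestrict_surjective
  have r4 := J4Z22.le_card
  have r5 := card_le_of_le r2
  rw [Nat.card_congr (subgroupOfEquivOfLe hle).toEquiv, hN] at r5
  have r6 := f.ker.card_mul_index
  rw [index_ker, r1] at r6
  have r7 := (gen e LM).card_mul_index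
  have r8 : (gen e LM).index ≠ 1 := fun h => u2 (index_eq_one.1 h ▸ mem_top _)
  have r9 : (gen e LM).index ≠ 0 := index_ne_zero_of_finite
  rw [← r6] at r7
  have s1 : (gen e LM).index = 2 ∧ Nat.card f.ker ≤ 3 * 2 ^ 13 ∧ Nat.card (PG J4Z22.nl) ≤ 443520 := by
    generalize (gen e LM).index = i at *
    generalize Nat.card f.ker = a at *
    generalize Nat.card (PG J4Z22.nl) = b at *
    rw [← r7] at hc
    refine ⟨?_, ?_, ?_⟩ <;> by_contra h
    · have : 24576 * 443520 * 3 ≤ a * b * i := Nat.mul_le_mul (Nat.mul_le_mul r5 r4) (by omega)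
      omega
    · have : 24577 * 443520 * 2 ≤ a * b * i := Nat.mul_le_mul (Nat.mul_le_mul (by omega) r4) (by omega)
      omega
    · have : 24576 * 443521 * 2 ≤ a * b * i := Nat.mul_le_mul (Nat.mul_le_mul r5 (by omega)) (by omega)
      omega
  have s2 := eq_of_le_of_card_ge r2 (by
    rw [Nat.card_congr (subgroupOfEquivOfLe hle).toEquiv, hN]; exact s1.2.1)
  have top : ∀ K : Subgroup Γ, gen e LM ≤ K → e 8 ∈ K → K = ⊤ := fun K h1 h2 => eq_top_iff.2 fun g _ => by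
    by_cases h : g ∈ gen e LM
    · exact h1 h
    · exact (K.mul_mem_cancel_right h2).1 (h1 ((mul_mem_iff_of_index_two s1.1).2 (iff_of_false h u2)))
  have N1 : (gen e (10 :: lq)).Normal :=
    normalizer_eq_top_iff.1 (top _ (fun g hg => (m1 hg).1) (n1 8 (by simp)))
  have N2 : (gen e (10 :: lq) ⊔ zpowers (e 6)).Normal := normalizer_eq_top_iff.1 (top _
    (fun g hg => norm_sup (m1 hg).1 (by
      simpa using mul_mem (mem_sup_left (m1 hg).2) (mem_sup_right (mem_zpowers (e 6)))))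
    (norm_sup (n1 8 (by simp)) (by
      simpa using mul_mem (mem_sup_left u1) (mem_sup_right (inv_mem (mem_zpowers (e 6)))))))
  refine ⟨_, _, _, N1, N2, le_sup_left, hle, hQ, hx.isExtraspecial fun h => ?_, hN, s1.1,
    inferInstance, ?_⟩
  · rw [← h, Nat.card_zpowers, hx.ord] at hQ
    norm_num at hQ
  · have φ := ((QuotientGroup.quotientMulEquivOfEq s2).trans (QuotientGroup.quotientKerEquivRange f)).trans
      (MulEquiv.subgroupCongr r1)
    have := J4Z22.simpleS ⟨r3, s1.2.2⟩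
    exact ⟨φ.isSimpleGroup, (Nat.card_congr φ.toEquiv).trans (J4Z22.cardS ⟨r3, s1.2.2⟩)⟩

end

/-- The letters with elements of the centraliser. -/
noncomputable def eZ : ℕ → G := extE eX 52 defsZ

theorem hmZ : GF2.Mod Q val eZ lZ := by
  obtain ⟨σ, h1, h2⟩ := GF2.exists_GL Q_ok ivToZ (by decide)
  refine h1.ext Q_ok Units.val_injective hxZ h2 (h1.rels Q_ok Units.val_injective cDefZ) (by decide)
    fun c hc => Units.ext ?_
  refine (hmX c).trans (Eq.trans ?_ (h1 c).symm)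
  rw [lZ, List.append_assoc, GF2.Par.lets, GF2.Par.lets,
    nth_append_left _ _ _ (show c < lX.length from hc)]

theorem hmC : GF2.Mod Q val (fun c => eZ (56 + c)) lC := fun c => by
  rw [hmZ, lZ, GF2.Par.lets, GF2.Par.lets]
  exact congrArg _ (nth_append_right _ _ _ c)

theorem eZ66 : eZ 66 = s' := by
  have h1 : eZ 66 = ev eZ [28] := (isExt_extE _ (chkExt_wf hxZ)).even 7
  rw [h1, ev_cons, ev_nil, mul_one, eZ, extE_lt _ _ _ (by norm_num), e28]

theorem mem_cent (c : ℕ) : eZ (56 + c) ∈ centralizer {s'} := by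
  rw [mem_centralizer_singleton_iff]
  by_cases h : c < 36
  · simpa [eZ66] using hmC.eqs Q_ok val_inj cCen _ (List.mem_map.2 ⟨c, List.mem_range.2 h, rfl⟩)
  · have : eZ (56 + c) = 1 := hmC.eq_one Q_ok val_inj (not_lt.1 h)
    simp [this]

theorem result : ∃ z : G, orderOf z = 2 ∧ ∃ Q N M : Subgroup (centralizer ({z} : Set G)),
    Q.Normal ∧ N.Normal ∧ Q ≤ N ∧ N ≤ M ∧ Nat.card Q = 2 ^ 13 ∧ IsExtraspecial 2 Q ∧
    Nat.card N = 3 * 2 ^ 13 ∧ M.index = 2 ∧
    ∃ _ : (N.subgroupOf M).Normal, IsM22 (M ⧸ N.subgroupOf M) :=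
  ⟨s', orderOf_eq_prime (by rw [sq, ss]) fun h => hvn.ne (by simp [h]),
    structure_C (v := val.comp (centralizer {s'}).subtype) (e := fun c => ⟨_, mem_cent c⟩) hmC
      (val_inj.comp Subtype.val_injective)
      (fun g => Subtype.ext (by
        show g.1 * eZ 66 = eZ 66 * g.1
        rw [eZ66]; exact mem_centralizer_singleton_iff.1 g.2)) card_cent⟩

end H9.J4
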