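import Mathlib
import Cfsg.Agent.H9.J4W
import Cfsg.Agent.H9.J4U
import Cfsg.Agent.H9.Bits

/-!
# Coordinates on the subgroup `2 ^ 11` of the presented group `J₄`
-/

set_option autoImplicit false
set_option maxRecDepth 100000
set_option Elab.async false
set_option linter.all false

namespace H9.R

open Cfsg H29 H9.MX H9.DC H9.J4 H9.JL Subgroup

/-- The sublist selected by the bits of a number. -/
noncomputable def mw (l : List ℕ) : ℕ → List ℕ :=
  List.rec (motive := fun _ => ℕ → List ℕ) (fun _ => [])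
    (fun c _ ih m => Bool.rec (ih (Nat.div m 2)) (c :: ih (Nat.div m 2)) (Nat.beq (Nat.mod m 2) 1)) l

theorem mw_cons (c : ℕ) (l : List ℕ) (m : ℕ) :
    mw (c :: l) m = if m % 2 = 1 then c :: mw l (m / 2) else mw l (m / 2) := by
  show Bool.rec (motive := fun _ => List ℕ) (mw l (m / 2)) (c :: mw l (m / 2)) (Nat.beq (m % 2) 1) = _
  rcases Nat.mod_two_eq_zero_or_one m with h | h <;> rw [h] <;> rfl

section
variable {Γ : Type*} [Group Γ] {e : ℕ → Γ}

theorem ev_mw_cons (c : ℕ) (l : List ℕ) (m : ℕ) :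
    ev e (mw (c :: l) m) = e c ^ (m % 2) * ev e (mw l (m / 2)) := by
  rw [mw_cons]
  rcases Nat.mod_two_eq_zero_or_one m with h | h <;> simp [h]

theorem mw_sub : ∀ (l : List ℕ) (m : ℕ), ∀ c ∈ mw l m, c ∈ l
  | [], _, _, h => h
  | a :: l, m, c, h => by
    rw [mw_cons] at h
    split_ifs at h
    · rcases List.mem_cons.1 h with h | h
      · exact h ▸ List.mem_cons_self
      · exact List.mem_cons_of_mem _ (mw_sub l _ c h)
    · exact List.mem_cons_of_mem _ (mw_sub l _ c h)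

theorem ev_mw_mem (l : List ℕ) (m : ℕ) : ev e (mw l m) ∈ gen e l := ev_mem_gen (mw_sub l m)

theorem ev_mw_zero : ∀ l : List ℕ, ev e (mw l 0) = 1
  | [] => rfl
  | c :: l => by simp [ev_mw_cons, ev_mw_zero l]

theorem ev_mw_xor : ∀ {l : List ℕ}, (∀ a ∈ l, ∀ b ∈ l, e a * e b = e b * e a) → (∀ a ∈ l, e a ^ 2 = 1) →
    ∀ m n, ev e (mw l (m ^^^ n)) = ev e (mw l m) * ev e (mw l n)
  | [], _, _, _, _ => (one_mul 1).symm
  | c :: l, h1, h2, m, n => by
    have k : Commute (e c) (ev e (mw l (m / 2))) :=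
      comm_gen h1 _ (mem_gen (by simp)) _ (ev_mem_gen fun a ha => List.mem_cons_of_mem _ (mw_sub _ _ a ha))
    have hx : (m ^^^ n) % 2 = (m % 2) ^^^ (n % 2) := Nat.xor_mod_two_pow (n := 1)
    have h3 : e c * e c = 1 := by rw [← sq, h2 c (by simp)]
    rw [ev_mw_cons, ev_mw_cons, ev_mw_cons, Nat.xor_div_two, hx,
      ev_mw_xor (fun a ha b hb => h1 a (by simp [ha]) b (by simp [hb])) fun a ha => h2 a (by simp [ha])]
    rcases Nat.mod_two_eq_zero_or_one m with h | h <;> rcases Nat.mod_two_eq_zero_or_one n with h' | h' <;>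
      simp [h, h', mul_assoc]
    · rw [← mul_assoc, k.eq, mul_assoc]
    · rw [← mul_assoc (ev e (mw l (m / 2))), ← k.eq, mul_assoc, ← mul_assoc (e c), h3, one_mul]

theorem ev_mw_two_pow : ∀ (l : List ℕ) (i : ℕ), i < l.length → ev e (mw l (2 ^ i)) = e (nth 0 l i)
  | c :: l, 0, _ => by simp [ev_mw_cons, ev_mw_zero, show nth 0 (c :: l) 0 = c from rfl]
  | c :: l, i + 1, h => by
    rw [ev_mw_cons, pow_succ 2 i, Nat.mul_mod_left, Nat.mul_div_cancel _ two_pos, pow_zero, one_mul,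
      ev_mw_two_pow l i (by simpa using h)]; rfl

theorem exists_mw [Finite Γ] {l : List ℕ} (h1 : ∀ a ∈ l, ∀ b ∈ l, e a * e b = e b * e a)
    (h2 : ∀ a ∈ l, e a ^ 2 = 1) {x : Γ} (hx : x ∈ gen e l) : ∃ m < 2 ^ l.length, ev e (mw l m) = x := by
  let K : Subgroup Γ :=
    { carrier := {x | ∃ m < 2 ^ l.length, ev e (mw l m) = x}
      one_mem' := ⟨0, by positivity, ev_mw_zero l⟩
      mul_mem' := by
        rintro _ _ ⟨m, hm, rfl⟩ ⟨n, hn, rfl⟩
        exact ⟨_, Nat.xor_lt_two_pow hm hn, ev_mw_xor h1 h2 m n⟩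
      inv_mem' := by
        rintro _ ⟨m, hm, rfl⟩
        refine ⟨m, hm, eq_inv_of_mul_eq_one_left ?_⟩
        rw [← ev_mw_xor h1 h2, Nat.xor_self, ev_mw_zero] }
  refine (gen_le (H := K)).2 (fun c hc => ?_) hx
  obtain ⟨i, hi, rfl⟩ := List.getElem_of_mem hc
  refine ⟨2 ^ i, Nat.pow_lt_pow_right one_lt_two hi, ?_⟩
  rw [ev_mw_two_pow l i hi, nth_eq, List.getD_eq_getElem]

/-- A homomorphism is linear in the coordinates. -/
theorem map_mw {Γ' : Type*} [Group Γ'] (f : Γ →* Γ') {v : ℕ → Γ'} (h0 : v 0 = 1)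
    (hv : ∀ m n, v (m ^^^ n) = v m * v n) : ∀ {l A : List ℕ},
    List.Forall₂ (fun c a => f (e c) = v a) l A → ∀ m, f (ev e (mw l m)) = v (lin A m)
  | _, _, .nil, _ => by rw [lin_nil, h0]; exact map_one f
  | _, _, .cons h h', m => by
    rw [ev_mw_cons, map_mul, map_mw f h0 hv h', lin_cons, hv, map_pow, h]
    rcases Nat.mod_two_eq_zero_or_one m with k | k <;> simp [k, h0]

end

/-- The centraliser of the central involution. -/
abbrev H0 : Subgroup G := centralizer {s'}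

theorem eZ_lt {c : ℕ} (h : c < 52) : eZ c = eX c := extE_lt _ _ _ h
theorem hivZ : IvOK eZ (ivOf ivZ) := ivOK_extE hivX hxZ
theorem eZ_def (j : ℕ) : eZ (52 + 2 * j) = ev eZ (nth [] defsZ j) := (isExt_extE _ (chkExt_wf hxZ)).even j

/-- The element of `V` with given coordinates. -/
noncomputable def vv (m : ℕ) : G := ev eZ (mw taus m)

theorem vv_eq (m : ℕ) : vv m = ev eX (mw taus m) :=
  ev_congr fun c hc => eZ_lt ((by decide : ∀ c ∈ taus, c < 52) c (mw_sub _ _ c hc))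

theorem vv_zero : vv 0 = 1 := ev_mw_zero _
theorem vv_xor (m n : ℕ) : vv (m ^^^ n) = vv m * vv n := by
  simp only [vv_eq]; exact ev_mw_xor (tau_comm hmX val_inj) (tau_sq hmX val_inj) m n
theorem vv_mem (m : ℕ) : vv m ∈ V := vv_eq m ▸ ev_mw_mem _ _
theorem exists_vv {v : G} (h : v ∈ V) : ∃ m < 2048, vv m = v := by
  simp only [vv_eq]; exact exists_mw (tau_comm hmX val_inj) (tau_sq hmX val_inj) h
theorem vv_one : vv 1 = s' := by rw [vv_eq, ← e28]; exact ev_mw_two_pow taus 0 (by decide)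
theorem vv_comm (m n : ℕ) : vv m * vv n = vv n * vv m := by rw [← vv_xor, Nat.xor_comm, vv_xor]
theorem vv_sq (m : ℕ) : vv m * vv m = 1 := by rw [← vv_xor, Nat.xor_self, vv_zero]

theorem vv_inj {m n : ℕ} (hm : m < 2048) (hn : n < 2048) (h : vv m = vv n) : m = n := by
  have k : Function.Bijective fun a : Fin 2048 => (⟨vv a, vv_mem a⟩ : V) :=
    (Nat.bijective_iff_surjective_and_card _).2 ⟨fun v => by
      obtain ⟨a, h1, h2⟩ := exists_vv v.2
      exact ⟨⟨a, h1⟩, Subtype.ext h2⟩, by rw [card_V]; simp⟩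
  exact congrArg Fin.val (k.1 (a₁ := ⟨m, hm⟩) (a₂ := ⟨n, hn⟩) (Subtype.ext h))

theorem V_le_H0 : V ≤ H0 := fun v hv => mem_centralizer_singleton_iff.2 (hvn.comm _ hv _ hvn.sV)
theorem V_le_HH : V ≤ HH := HH_sup ▸ le_sup_left
theorem HH_norm : HH ≤ normalizer (V : Set G) := HH_sup ▸ hvn.le_norm

/-- The check that the word `w` (with inverse `w'`) acts on `V` by the matrix `A`, from the left. -/
noncomputable def chkA (l w w' A : List ℕ) : Bool :=
  and2 (Nat.beq A.length 11) (Q.chkEq l ((List.range 11).map fun i =>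
    (w ++ (nth 0 taus i :: w'), mw taus (nth 0 A i))))

theorem conj_vv {e : ℕ → G} {l : List ℕ} (hm : GF2.Mod Q val e l) (he : ∀ c ∈ taus, e c = eZ c)
    {w w' A : List ℕ} (hw : ev e w' = (ev e w)⁻¹) (h : chkA l w w' A = true) (m : ℕ) :
    ev e w * vv m * (ev e w)⁻¹ = vv (lin A m) := by
  simp only [chkA, and2_true, H29.beq_true] at h
  refine map_mw (MulAut.conj (ev e w)).toMonoidHom vv_zero vv_xor (l := taus) (List.forall₂_iff_get.2
    ⟨h.1.symm, fun i h1 h2 => ?_⟩) m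
  have k := hm.eqs Q_ok val_inj h.2 _ (List.mem_map.2 ⟨i, List.mem_range.2 h1, rfl⟩)
  simp only [ev_append, ev_cons, nth_eq, List.getD_eq_getElem _ _ h1, List.getD_eq_getElem _ _ h2] at k
  rw [hw, he _ (List.getElem_mem _), ← mul_assoc] at k
  exact k.trans (ev_congr fun c hc => he c (mw_sub _ _ c hc))

def Ax : List ℕ := [2, 1, 64, 8, 128, 256, 4, 16, 32, 1024, 512]
def Ay : List ℕ := [4, 16, 8, 1, 32, 2, 512, 761, 129, 470, 2036]
def A1 : List ℕ := [1, 1846, 947, 1831, 1751, 1863, 757, 197, 70, 407, 1534]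
def A2 : List ℕ := [1, 129, 16, 512, 4, 761, 215, 3, 1973, 8, 1106]

theorem conj_let {c : ℕ} {A : List ℕ} (h : chkA lZ [c] [ivOf ivZ c] A = true) (m : ℕ) :
    eZ c * vv m * (eZ c)⁻¹ = vv (lin A m) := by
  simpa using conj_vv hmZ (fun _ _ => rfl) (by simpa using hivZ c) h m

theorem conj_x (m : ℕ) : eZ 0 * vv m * (eZ 0)⁻¹ = vv (lin Ax m) := conj_let (by decide +kernel) m
theorem conj_y (m : ℕ) : eZ 1 * vv m * (eZ 1)⁻¹ = vv (lin Ay m) := conj_let (by decide +kernel) m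
theorem conj_g1 (m : ℕ) : eZ 52 * vv m * (eZ 52)⁻¹ = vv (lin A1 m) := conj_let (by decide +kernel) m
theorem conj_g2 (m : ℕ) : eZ 54 * vv m * (eZ 54)⁻¹ = vv (lin A2 m) := conj_let (by decide +kernel) m

theorem eZ_φ {c : ℕ} (hc : c ∈ [0, 1, 2]) : φ ⟨e1 c, mem_gen hc⟩ = eZ c := by
  rw [φ_e c hc, eZ_lt (by revert c; decide), eX_lt (by revert c; decide)]

/-- The codes of the duads through the first point. -/
def cc : List ℕ := [0, 440, 1677, 1844, 1624, 146, 2018, 297, 977, 1382, 813, 1435, 1043, 1296, 603, 857,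
  827, 1335, 1294, 771, 1234, 792, 733, 1302]

/-- The code of a duad. -/
noncomputable def dc (i j : ℕ) : ℕ := Nat.xor (nth 0 cc i) (nth 0 cc j)

/-- The element of `V` belonging to a duad. -/
noncomputable def δ (p q : GolayPt) : G := vv (dc (ix p) (ix q))

theorem dc_lt (i j : ℕ) : dc i j < 2048 :=
  Nat.xor_lt_two_pow (n := 11) (nth_forall (p := (· < 2 ^ 11)) (by norm_num) (by decide) i)
    (nth_forall (p := (· < 2 ^ 11)) (by norm_num) (by decide) j)

theorem δ_mem (p q : GolayPt) : δ p q ∈ V := vv_mem _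
theorem δ_self (p : GolayPt) : δ p p = 1 := by
  rw [δ, dc, show ∀ a, Nat.xor a a = 0 from Nat.xor_self, vv_zero]
theorem δ_mul (p q r : GolayPt) : δ p q * δ q r = δ p r := by
  rw [δ, δ, ← vv_xor, δ]
  congr 1
  show (nth 0 cc (ix p) ^^^ nth 0 cc (ix q)) ^^^ (nth 0 cc (ix q) ^^^ nth 0 cc (ix r)) =
    nth 0 cc (ix p) ^^^ nth 0 cc (ix r)
  rw [Nat.xor_assoc, ← Nat.xor_assoc (nth 0 cc (ix q)), Nat.xor_self, Nat.zero_xor]
theorem δ_comm (p q : GolayPt) : δ p q = δ q p := congrArg vv (Nat.xor_comm _ _)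

theorem conj_δ (n : Nb) (p q : GolayPt) : φ n * δ p q * (φ n)⁻¹ = δ (n.1 p) (n.1 q) := by
  let K : Subgroup Nb :=
    { carrier := {n | ∀ p q, φ n * δ p q * (φ n)⁻¹ = δ (n.1 p) (n.1 q)}
      one_mem' := by simp
      mul_mem' := fun {a b} ha hb p q => by
        rw [map_mul, show φ a * φ b * δ p q * (φ a * φ b)⁻¹ = φ a * (φ b * δ p q * (φ b)⁻¹) * (φ a)⁻¹ by group,
          hb, ha]; rfl
      inv_mem' := fun {a} ha p q => by
        have := ha (a.1⁻¹ p) (a.1⁻¹ q)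
        simp only [Equiv.Perm.coe_inv, Equiv.apply_symm_apply] at this
        rw [← this, map_inv]; simp [mul_assoc] }
  have key : ∀ c (hc : c ∈ [0, 1, 2]) (A : List ℕ), (∀ m, eZ c * vv m * (eZ c)⁻¹ = vv (lin A m)) →
      (allN 24 fun i => allN 24 fun j => Nat.beq (lin A (dc i j))
        (dc (dig (nth idP cl3 c) i) (dig (nth idP cl3 c) j))) = true → (⟨e1 c, mem_gen hc⟩ : Nb) ∈ K :=
    fun c hc A h1 h2 p q => by
      rw [eZ_φ hc, δ, h1, H29.beq_true.1 (allN_true.1 (allN_true.1 h2 _ (ix_lt p)) _ (ix_lt q)), δ]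
      simp only [e1, pm_apply (v3 c), ix_pt (dig_lt (v3 c) (ix_lt _))]
  have k0 := key 0 (by simp) Ax conj_x (by decide +kernel)
  have k1 := key 1 (by simp) Ay conj_y (by decide +kernel)
  have k2 : (⟨e1 2, mem_gen (by simp)⟩ : Nb) ∈ K := by
    convert inv_mem k1 using 1
    exact Subtype.ext (hiv1 1)
  have : Nb ≤ K.map Nb.subtype := gen_le.2 (by
    simp only [List.forall_mem_cons]
    exact ⟨⟨_, k0, rfl⟩, ⟨_, k1, rfl⟩, ⟨_, k2, rfl⟩, by simp⟩)
  obtain ⟨m, hm, h⟩ := this n.2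
  exact (Subtype.ext h : m = n) ▸ hm p q

/-- An involution of the second class. -/
noncomputable def w0 : G := δ (pt 0) (pt 1)

theorem s'_mem : s' ∈ H0 := V_le_H0 hvn.sV
theorem t_mem : eZ 3 ∈ H0 := by
  have := mem_cent 4
  rwa [show 56 + 4 = 52 + 2 * 4 from rfl, eZ_def, show nth [] defsZ 4 = [3] from rfl, ev_cons, ev_nil,
    mul_one] at this
theorem g2_mem : eZ 54 ∈ H0 := by
  have := mem_cent 8
  rwa [show 56 + 8 = 52 + 2 * 6 from rfl, eZ_def, show nth [] defsZ 6 = [54] from rfl, ev_cons, ev_nil,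
    mul_one] at this
theorem g1_mem : eZ 52 ∈ H0 := by
  have := mem_cent 2
  rw [show 56 + 2 = 52 + 2 * 3 from rfl, eZ_def, show nth [] defsZ 3 = [52, 54] from rfl, ev_cons, ev_cons,
    ev_nil, mul_one] at this
  exact (mul_mem_cancel_right g2_mem).1 this

end H9.R
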