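import Mathlib
import Cfsg.Agent.H9.JRV

/-!
# The intersection of the two maximal subgroups of the presented group `J₄`
-/

set_option autoImplicit false
set_option maxRecDepth 100000
set_option Elab.async false
set_option linter.all false

namespace H9.R

open Cfsg H29 H9.MX H9.DC H9.J4 H9.JL Subgroup

/-- The element of the permutation group given by a word. -/
noncomputable def nb (w : List ℕ) : Nb :=
  ⟨ev e1 w, (ev_e1 w).2 ▸ (gi3.evalW w).2⟩

theorem nb_val (w : List ℕ) : (nb w).1 = pm (evalW cl3 w) := (ev_e1 w).2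

theorem φ_nb : ∀ {w : List ℕ}, (∀ c ∈ w, c ∈ [0, 1, 2]) → φ (nb w) = ev eZ w
  | [], _ => map_one φ
  | c :: w, h => by
    rw [ev_cons, ← φ_nb fun a ha => h a (by simp [ha]), ← eZ_φ (h c (by simp)), ← map_mul]; rfl

theorem g1_eq : eZ 52 = φ (nb (nth [] sx 0)) := (eZ_def 0).trans (φ_nb (by decide)).symm
theorem g2_eq : eZ 54 = φ (nb (nth [] sx 1)) := (eZ_def 1).trans (φ_nb (by decide)).symm

/-- The sextet group. -/
noncomputable def S0 : Subgroup G := gen eZ [52, 54]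

theorem S0_le : S0 ≤ φ.range := gen_le.2 (by
  simp only [List.forall_mem_cons]; exact ⟨⟨_, g1_eq.symm⟩, ⟨_, g2_eq.symm⟩, by simp⟩)

theorem S0_le_H0 : S0 ≤ H0 := gen_le.2 (by
  simp only [List.forall_mem_cons]; exact ⟨g1_mem, g2_mem, by simp⟩)

theorem le_card_S0 : 138240 ≤ Nat.card S0 := by
  have h1 : GensIn (sx.map (evalW cl3)) ((S0.comap φ).map Nb.subtype) := by
    intro c hc
    simp only [sx, List.map_cons, List.map_nil, List.mem_cons, List.not_mem_nil, or_false] at hc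
    rcases hc with rfl | rfl
    · exact ⟨(ev_e1 _).1, nb (nth [] sx 0), mem_comap.2 (g1_eq ▸ mem_gen (l := [52, 54]) (by simp)), nb_val _⟩
    · exact ⟨(ev_e1 _).1, nb (nth [] sx 1), mem_comap.2 (g2_eq ▸ mem_gen (l := [52, 54]) (by simp)), nb_val _⟩
  have h2 := le_card_of_chkCh [(0, 24, [[0, 0, 1, 0, 1, 0, 0], [1, 0, 1, 0, 1, 0, 1]]),
    (4, 20, [[1, 1, 1, 0], [1, 0, 1, 1, 0, 1], [0, 1, 1, 1, 0, 0, 0]]),
    (8, 16, [[0, 2, 0], [1, 1, 2], [2, 1, 0, 0]]), (12, 9, [[2, 0, 1]]), (2, 2, [])] h1 (by decide +kernel)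
  rw [card_map_of_injective Nb.subtype_injective, ← card_map_of_injective φ_inj,
    map_comap_eq_self S0_le] at h2
  exact h2

theorem card_VS : Nat.card ↥(V ⊔ S0) = 2048 * Nat.card S0 := by
  rw [JL.card_sup (S0_le.trans hvn.norm) (eq_bot_iff.2 ((inf_le_inf_left _ S0_le).trans hvn.inf_eq.le)),
    card_V]

theorem sup_le_B : V ⊔ S0 ≤ H0 ⊓ HH :=
  sup_le (le_inf V_le_H0 V_le_HH) (le_inf S0_le_H0 (S0_le.trans N_le_HH))

theorem card_B0 : Nat.card ↥(H0 ⊓ HH) = 283115520 := by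
  have h1 := card_inf_mul (z := s') N_le_HH
  have h2 := le_card_cl
  have h3 := card_le_of_le sup_le_B
  have h4 := le_card_S0
  rw [card_HH] at h1
  rw [card_VS] at h3
  have h5 := (Nat.mul_le_mul_left _ h2).trans h1
  change Nat.card ↥(H0 ⊓ HH) * _ ≤ _ at h5
  omega

theorem card_S0 : Nat.card S0 = 138240 := by
  have h3 := card_le_of_le sup_le_B
  have h4 := le_card_S0
  rw [card_VS, card_B0] at h3
  omega

theorem B0_eq : H0 ⊓ HH = V ⊔ S0 :=
  (eq_of_le_of_card_ge sup_le_B (by rw [card_VS, card_S0, card_B0])).symm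

theorem structure_H0 : ∃ Q N M : Subgroup H0, Q.Normal ∧ N.Normal ∧
    Q ≤ N ∧ N ≤ M ∧ Nat.card Q = 2 ^ 13 ∧ IsExtraspecial 2 Q ∧ Nat.card N = 3 * 2 ^ 13 ∧ M.index = 2 ∧
    ∃ _ : (N.subgroupOf M).Normal, IsM22 (M ⧸ N.subgroupOf M) :=
  structure_C (v := val.comp (centralizer {s'}).subtype) (e := fun c => ⟨_, mem_cent c⟩) hmC
      (val_inj.comp Subtype.val_injective)
      (fun g => Subtype.ext (by
        show g.1 * eZ 66 = eZ 66 * g.1
        rw [eZ66]; exact mem_centralizer_singleton_iff.1 g.2)) card_cent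

theorem card_H0 : Nat.card H0 = 21799895040 := by
  obtain ⟨-, N, M, -, -, -, h1, -, -, h2, h3, _, -, h4⟩ := structure_H0
  have h5 := (N.subgroupOf M).card_eq_card_quotient_mul_card_subgroup
  rw [h4, Nat.card_congr (subgroupOfEquivOfLe h1).toEquiv, h2] at h5
  rw [← M.card_mul_index, h3, h5]; norm_num

theorem s'_ne : s' ≠ 1 := fun h => hvn.ne (by simp [h])

end H9.R
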