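import Mathlib
import Cfsg.Agent.H9.JR4D

/-!
# The Sylow 2-subgroup, the involutions, and the subgroup `2 ^ 11`
-/

set_option autoImplicit false
set_option maxRecDepth 100000
set_option linter.all false

namespace H9.R

open H29 H9.GF2 Matrix Subgroup Pointwise

variable {Γ : Type*} [Group Γ]

theorem exists_conj_sylow [Finite Γ] {p : ℕ} [Fact p.Prime] {P A : Subgroup Γ} (hP : IsPGroup p P)
    (h : ¬ p * Nat.card P ∣ Nat.card Γ) (hA : IsPGroup p A) : ∃ g : Γ, ∀ a ∈ A, g⁻¹ * a * g ∈ P := by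
  have h1 : ¬ p ∣ P.index := fun h1 => h (by rw [← P.index_mul_card]; exact Nat.mul_dvd_mul_right h1 _)
  obtain ⟨S, hS⟩ := hA.exists_le_sylow
  obtain ⟨g, hg⟩ := MulAction.exists_smul_eq Γ (hP.toSylow h1) S
  refine ⟨g, fun a ha => ?_⟩
  have h2 := hS ha
  rw [← hg, Sylow.coe_subgroup_smul, mem_pointwise_smul_iff_inv_smul_mem] at h2
  simpa using h2

theorem pg_of_pow' {L : Subgroup Γ} {p k : ℕ} (h : ∀ x ∈ L, x ^ p ^ k = 1) : IsPGroup p L :=
  fun x => ⟨k, Subtype.ext (by simpa using h x x.2)⟩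

theorem pg_zpowers' {g : Γ} {p k : ℕ} (h : g ^ p ^ k = 1) : IsPGroup p (zpowers g) := pg_of_pow' (k := k) <| by
  rintro _ ⟨n, rfl⟩
  show (g ^ n) ^ p ^ k = 1
  rw [← zpow_natCast, ← _root_.zpow_mul, mul_comm, _root_.zpow_mul, zpow_natCast, h, _root_.one_zpow]

theorem comm_of_sq {A : Subgroup Γ} (h : ∀ a ∈ A, a * a = 1) {a b : Γ} (ha : a ∈ A) (hb : b ∈ A) :
    a * b = b * a := by
  rw [← mul_inv_eq_one, _root_.mul_inv_rev, inv_eq_of_mul_eq_one_left (h a ha), inv_eq_of_mul_eq_one_left (h b hb)]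
  exact h _ (mul_mem ha hb)

/-- The conjugate subgroup `g⁻¹ A g`. -/
def cj (A : Subgroup Γ) (g : Γ) : Subgroup Γ := A.map (MulAut.conj g⁻¹).toMonoidHom

theorem mem_cj {A : Subgroup Γ} {g a : Γ} : a ∈ cj A g ↔ g * a * g⁻¹ ∈ A :=
  ⟨by rintro ⟨b, hb, rfl⟩; simpa [mul_assoc] using hb, fun h => ⟨_, h, by simp [mul_assoc]⟩⟩

theorem conj_mem_cj {A : Subgroup Γ} {a : Γ} (g : Γ) (h : a ∈ A) : g⁻¹ * a * g ∈ cj A g :=
  mem_cj.2 (by simpa [mul_assoc] using h)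

theorem card_cj (A : Subgroup Γ) (g : Γ) : Nat.card (cj A g) = Nat.card A :=
  card_map_of_injective (MulAut.conj g⁻¹).injective

theorem sq_cj {A : Subgroup Γ} (h : ∀ a ∈ A, a * a = 1) (g : Γ) : ∀ a ∈ cj A g, a * a = 1 := by
  rintro _ ⟨b, hb, rfl⟩; rw [← map_mul, h b hb, map_one]

/-- The kernel of a matrix. -/
def kr (M : ℕ) : Set V := {x | x ᵥ* mat M = 0}

theorem mem_kr {M : ℕ} {x : V} : x ∈ kr M ↔ va (cd x) M = 0 := by
  rw [va_eq_iff (by norm_num), vec_cd, vec_zero]; rfl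

theorem fix_iff {M : ℕ} {x : V} : x ᵥ* mat M = x ↔ va (cd x) M = cd x := by
  rw [va_eq_iff (cd_lt x), vec_cd]

theorem ncard_kr (M : ℕ) : (kr M).ncard = treeCnt (fun x => Nat.beq (va x M) 0) 12 := by
  rw [← ncard_cd]; simp only [H29.beq_true, ← mem_kr]; rfl

namespace Co

variable (c : Co Γ)

/-- The preimage of the kernel of a matrix. -/
def pre (M : ℕ) : Subgroup Γ where
  carrier := {a | a ∈ c.Q ∧ c.π a ∈ kr M}
  one_mem' := ⟨one_mem _, by simp [c.π_one, kr]⟩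
  mul_mem' := fun {a b} ha hb => ⟨mul_mem ha.1 hb.1, by
    have h1 := ha.2; have h2 := hb.2
    simp only [kr, Set.mem_setOf_eq] at h1 h2 ⊢
    rw [c.π_mul _ ha.1 _ hb.1, add_vecMul, h1, h2, add_zero]⟩
  inv_mem' := fun {a} ha => ⟨inv_mem ha.1, by rw [c.π_inv ha.1]; exact ha.2⟩

theorem mem_pre {M : ℕ} {a : Γ} : a ∈ c.pre M ↔ a ∈ c.Q ∧ c.π a ∈ kr M := Iff.rfl

theorem card_le_two [Finite Γ] {A : Subgroup Γ} (h : A ≤ c.Q) {X : Set V} (hX : ∀ a ∈ A, c.π a ∈ X) :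
    Nat.card A ≤ 2 * X.ncard := by
  choose t ht using fun a : A => c.eq_zp (h a.2) (c.s_mem (c.π a)) (c.π_s _).symm
  have := Nat.card_le_card_of_injective (fun a : A => ((t a, ⟨c.π a, hX a a.2⟩) : ZMod 2 × X)) fun a b h1 => by
    simp only [Prod.mk.injEq, Subtype.mk.injEq] at h1
    exact Subtype.ext (by rw [ht a, ht b, h1.1, h1.2])
  rwa [Nat.card_prod, Nat.card_zmod, Nat.card_coe_set_eq] at this

theorem card_pre [Finite Γ] (M : ℕ) : Nat.card (c.pre M) = 2 * (kr M).ncard := by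
  refine le_antisymm (c.card_le_two (A := c.pre M) (fun a ha => ha.1) fun a ha => ha.2) ?_
  have := Nat.card_le_card_of_injective (fun p : ZMod 2 × kr M => (⟨c.s p.2 * c.zp p.1,
      mul_mem (c.s_mem _) (c.zp_mem _), by rw [c.π_mul_zp (c.s_mem _), π_s]; exact p.2.2⟩ : c.pre M))
    fun a b h1 => by
      have h2 : c.s a.2 * c.zp a.1 = c.s b.2 * c.zp b.1 := congrArg Subtype.val h1
      have h3 := congrArg c.π h2
      rw [c.π_mul_zp (c.s_mem _), c.π_mul_zp (c.s_mem _), π_s, π_s] at h3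
      rw [h3] at h2
      exact Prod.ext (c.zp_inj (mul_left_cancel h2)) (Subtype.ext h3)
  rwa [Nat.card_prod, Nat.card_zmod, Nat.card_coe_set_eq] at this

end Co

namespace Std

variable (c : Std Γ) [Finite Γ]

theorem card_eq (K : Subgroup Γ) : Nat.card K = Nat.card ↥(K ⊓ c.Q) * (c.ρ '' K).ncard := by
  let f := c.ρ.toHomUnits.comp K.subtype
  have h1 : f.ker = (K ⊓ c.Q).subgroupOf K := by
    ext a
    simp only [MonoidHom.mem_ker, mem_subgroupOf, mem_inf, a.2, true_and, f, Units.ext_iff]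
    exact ⟨c.ker _, c.ρ_Q⟩
  rw [f.ker.card_eq_card_quotient_mul_card_subgroup, Nat.card_congr (QuotientGroup.quotientKerEquivRange f).toEquiv,
    h1, Nat.card_congr (subgroupOfEquivOfLe inf_le_left).toEquiv, mul_comm]
  congr 1
  rw [show Nat.card f.range = (f.range : Set Mxˣ).ncard from Nat.card_coe_set_eq _,
    ← Set.ncard_image_of_injective _ Units.val_injective]
  congr 1
  ext x
  simp [f]

/-- The subgroup generated by `Q` and some of the generators of the Sylow subgroup. -/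
noncomputable def sub (l : List ℕ) : Subgroup Γ := c.Q ⊔ gen (fun i => ev c.e (nth [] wsT i)) l

theorem hmT : GF2.Mod P12 c.ρ (fun i => ev c.e (nth [] wsT i)) pcs := fun i => by
  by_cases h : i < 8
  · exact (c.ρ_ev _).trans (eqM_iff.1 (allN_true.1 c_pcs i h))
  · simp only [nth_default (l := wsT) _ (not_lt.1 h), Par.lets, nth_default (l := pcs) _ (not_lt.1 h), ev_nil, map_one]
    exact mat_one.symm

theorem mem_sub {n : ℕ} {l L : List ℕ} (hl : ∀ i ∈ l, i < n)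
    (h1 : (allN L.length fun m => eqM (P12.evW (P12.lets pcs) (mw l m)) (nth 0 L m)) = true)
    (h2 : (H29.allL L fun A => allN n fun i => memL (key (mu A (nth one pcs i))) L) = true)
    (h3 : one ∈ L) {g : Γ} : g ∈ c.sub l ↔ ∃ A ∈ L, c.ρ g = mat A := by
  haveI := c.nQ
  constructor
  · intro h
    obtain ⟨a, ha, b, hb, rfl⟩ := mem_sup_of_normal_left.1 h
    rw [map_mul, c.ρ_Q ha, one_mul]
    refine clo_ind (p := fun g => ∃ A ∈ L, c.ρ g = mat A) ⟨one, h3, by simp⟩ ?_ hb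
    rintro x _ ⟨i, hi, rfl⟩ ⟨A, hA, h⟩
    exact ⟨_, memL_true.1 (allN_true.1 (allL_true.1 h2 A hA) i (hl i hi)), by
      rw [mat_key, map_mul, h, mat_mu, c.hmT i]; rfl⟩
  · rintro ⟨A, hA, h⟩
    obtain ⟨m, hm, rfl⟩ := List.getElem_of_mem hA
    have h4 := eqM_iff.1 (allN_true.1 h1 m hm)
    rw [nth_eq, List.getD_eq_getElem _ _ hm, ← h] at h4
    have h5 := c.mem_of_ρ ((c.hmT.val_ev ok12 _).trans h4)
    exact (mul_mem_cancel_left (mem_sup_right (inv_mem (ev_mw_mem _ _)))).1 (mem_sup_left h5)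

/-- The Sylow 2-subgroup. -/
noncomputable def T : Subgroup Γ := c.sub [0, 1, 2, 3, 4, 5, 6, 7]
/-- The preimage of `2 ^ 4`. -/
noncomputable def QE : Subgroup Γ := c.sub [0, 1, 2, 3]

theorem mem_T {g : Γ} : g ∈ c.T ↔ ∃ A ∈ TL, c.ρ g = mat A :=
  c.mem_sub (n := 8) (L := TL) (by decide) c_TL c_TLmul (by decide +kernel)
theorem mem_QE {g : Γ} : g ∈ c.QE ↔ ∃ A ∈ EL, c.ρ g = mat A :=
  c.mem_sub (n := 4) (L := EL) (by decide) c_EL c_ELmul (by decide +kernel)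

theorem _root_.H9.R.mat_inj_TL {A B : ℕ} (hA : A ∈ TL) (hB : B ∈ TL) (h : mat A = mat B) : A = B := by
  rw [← H29.beq_true.1 (allL_true.1 c_key A hA), key_eq h, H29.beq_true.1 (allL_true.1 c_key B hB)]

theorem _root_.H9.R.ncard_mat {L : List ℕ} (h : ∀ A ∈ L, A ∈ TL) (h1 : L.Nodup) :
    (mat '' {A | A ∈ L}).ncard = L.length := by
  rw [Set.InjOn.ncard_image (f := mat) (s := {A | A ∈ L}) fun a ha b hb => mat_inj_TL (h a ha) (h b hb), ← List.coe_toFinset,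
    Set.ncard_coe_finset, List.toFinset_card_of_nodup h1]

theorem _root_.H9.R.ncard_mat_le (L : List ℕ) : (mat '' {A | A ∈ L}).ncard ≤ L.length := by
  refine (Set.ncard_image_le (List.finite_toSet L)).trans ?_
  rw [← List.coe_toFinset, Set.ncard_coe_finset]; exact List.toFinset_card_le L

theorem exists_ρ {A : ℕ} (h : A ∈ TL) : ∃ g, c.ρ g = mat A := by
  obtain ⟨m, hm, rfl⟩ := List.getElem_of_mem h
  have h4 := eqM_iff.1 (allN_true.1 c_TL m hm)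
  rw [nth_eq, List.getD_eq_getElem _ _ hm] at h4
  exact ⟨_, (c.hmT.val_ev ok12 _).trans h4⟩

theorem card_T : Nat.card c.T = 2 ^ 21 := by
  have h1 : c.ρ '' c.T = mat '' {A | A ∈ TL} := Set.ext fun x =>
    ⟨by rintro ⟨g, hg, rfl⟩; obtain ⟨A, h1, h2⟩ := c.mem_T.1 hg; exact ⟨A, h1, h2.symm⟩, by
      rintro ⟨A, hA, rfl⟩
      obtain ⟨g, hg⟩ := c.exists_ρ hA
      exact ⟨g, c.mem_T.2 ⟨A, hA, hg⟩, hg⟩⟩
  rw [card_eq, h1, ncard_mat (fun _ h => h) nodup_TL, inf_eq_right.2 (show c.Q ≤ c.T from le_sup_left), c.card_Q]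
  rfl

theorem conj_T {A : Subgroup Γ} (hA : IsPGroup 2 A) : ∃ g : Γ, ∀ a ∈ A, g⁻¹ * a * g ∈ c.T :=
  exists_conj_sylow (IsPGroup.of_card c.card_T) (by rw [c.card_T, c.card]; norm_num) hA

theorem ρ_conj {g h : Γ} {A B X : ℕ} (h1 : c.ρ g = mat A) (h2 : c.ρ h = mat B) (h3 : eqM (mu A B) (mu B X) = true) :
    c.ρ (h⁻¹ * g * h) = mat X := by
  have := eqM_iff.1 h3
  rw [mat_mu, mat_mu, ← h1, ← h2] at this
  rw [map_mul, map_mul, mul_assoc, this, ← mul_assoc, Co.ρ_inv_mul, one_mul]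

theorem pow_eight {g : Γ} (h : c.ρ g * c.ρ g = 1) : g ^ 2 ^ 3 = 1 := by
  rw [show 2 ^ 3 = 2 * 4 from rfl, pow_mul, c.pow_four (c.ker _ (by rw [sq, map_mul, h]))]

/-- The involutions of `Γ / Q`. -/
theorem inv_cls {g : Γ} (h : c.ρ g * c.ρ g = 1) :
    c.ρ g = 1 ∨ ∃ k, ∃ X ∈ [E1, R1, R2], c.ρ (k⁻¹ * g * k) = mat X := by
  obtain ⟨k, hk⟩ := c.conj_T (pg_zpowers' (c.pow_eight h))
  obtain ⟨A, hA, h1⟩ := c.mem_T.1 (hk g (mem_zpowers g))
  obtain ⟨m, hm, rfl⟩ := List.getElem_of_mem hA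
  have h2 := allN_true.1 c_CW m hm
  simp only [seqN_eq, imp_true, or2_true, nth_eq (l := TL), List.getD_eq_getElem _ _ hm] at h2
  have h3 : ∀ X ∈ [E1, R1, R2], eqM (mu TL[m] (ew (nth [] CW m))) (mu (ew (nth [] CW m)) X) = true →
      ∃ k, ∃ X ∈ [E1, R1, R2], c.ρ (k⁻¹ * g * k) = mat X := fun X hX h3 =>
    ⟨k * ev c.e (nth [] CW m), X, hX, by rw [← c.ρ_conj h1 (c.ρ_ev _) h3]; congr 1; group⟩
  rcases h2 (eqM_iff.2 (by
    rw [mat_mu, ← h1, ← map_mul, show k⁻¹ * g * k * (k⁻¹ * g * k) = k⁻¹ * (g * g) * k by group, map_mul,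
      map_mul, map_mul, h, mul_one, Co.ρ_inv_mul, mat_one])) with h4 | h4 | h4 | h4
  · left
    rw [eqM_iff.1 h4, mat_one] at h1
    rw [show g = k * (k⁻¹ * g * k) * k⁻¹ by group, map_mul, map_mul, h1, mul_one, Co.ρ_mul_inv]
  · exact Or.inr (h3 _ (by simp) h4)
  · exact Or.inr (h3 _ (by simp) h4)
  · exact Or.inr (h3 _ (by simp) h4)

theorem cent_conj {k h : Γ} (hk : k * c.d = c.d * k) (hh : h⁻¹ * c.d * h = c.d ∨ h⁻¹ * c.d * h = c.d⁻¹) :
    h⁻¹ * k * h * c.d = c.d * (h⁻¹ * k * h) := by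
  have h1 : Commute (h⁻¹ * k * h) (h⁻¹ * c.d * h) := by
    show _ = _
    calc _ = h⁻¹ * (k * c.d) * h := by group
      _ = _ := by rw [hk]; group
  rcases hh with hh | hh <;> rw [hh] at h1
  · exact h1
  · exact Commute.inv_right_iff.1 h1

theorem exists_E {A : ℕ} (h : A ∈ EL) : ∃ k, c.ρ k = mat A ∧ k * c.d = c.d * k := by
  obtain ⟨g, hg⟩ := c.exists_ρ (EL_sub A h)
  obtain ⟨w, hw⟩ := c.exists_word g
  exact c.lift_cent w (eqM_iff.2 (hw.symm.trans hg)) (and2_true.1 (allL_true.1 c_ED A h)).2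

theorem sq_eq_sq {k e : Γ} (hk : k * c.d = c.d * k) (h : c.ρ k * c.ρ k = 1) (h1 : c.ρ k ≠ 1)
    (he : e * c.d = c.d * e) (h2 : c.ρ e = mat E1) {t : ZMod 2} (ht : e * e = c.zp t) : k * k = c.zp t := by
  obtain ⟨g, X, hX, h3⟩ := (c.inv_cls h).resolve_left h1
  obtain ⟨g', h4, h5⟩ := c.lift g
  have h6 := c.cent_conj hk (h5.imp And.right And.right)
  have h7 : c.ρ (g'⁻¹ * k * g') = mat X := by
    rw [← h3, map_mul, map_mul, map_mul, map_mul, h4]
    congr 2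
    rw [← mul_one (c.ρ g'⁻¹), ← c.ρ_mul_inv g, ← h4, ← mul_assoc, Co.ρ_inv_mul, one_mul]
  have h8 := congrArg c.ρ h6
  rw [map_mul c.ρ _ c.d, map_mul c.ρ c.d, h7, ρ_d, ← mat_mu, ← mat_mu, ← eqM_iff] at h8
  obtain rfl : X = E1 := (by decide +kernel : ∀ X ∈ [E1, R1, R2], eqM (mu X D0) (mu D0 X) = true → X = E1) X hX h8
  obtain ⟨s, hs⟩ := c.eq_of_cent (h7.trans h2.symm) h6 he
  have h9 : g'⁻¹ * (k * k) * g' = c.zp t := by
    rw [← ht, ← mul_one (e * e), ← c.zp_zero, ← CharTwo.add_self_eq_zero s, ← c.mul_zp, ← hs]; group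
  rw [← c.conj_zp g'⁻¹ t, ← h9]; group

/-- Elements centralising `d` which are involutions modulo `Q` are involutions. -/
theorem inv_sq {k : Γ} (hk : k * c.d = c.d * k) (h : c.ρ k * c.ρ k = 1) : k * k = 1 := by
  by_cases h1 : c.ρ k = 1
  · obtain ⟨t, rfl⟩ := c.eq_of_cent (h1.trans (map_one _).symm) hk (by simp)
    rw [one_mul, Co.zp_sq]
  obtain ⟨a, a1, a2⟩ := c.exists_E (A := E1) (by decide +kernel)
  obtain ⟨b, b1, b2⟩ := c.exists_E (A := nth 0 EL 2) (by decide +kernel)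
  obtain ⟨e, e1, e2⟩ := c.exists_E (A := nth 0 EL 4) (by decide +kernel)
  obtain ⟨t, ht⟩ := c.eq_of_cent (a := a * a) (b := 1) (by
    rw [map_mul, a1, ← mat_mu, map_one, ← mat_one, ← eqM_iff]; decide +kernel)
    (by rw [mul_assoc, a2, ← mul_assoc, a2, mul_assoc]) (by simp)
  rw [one_mul] at ht
  have cm : ∀ {x y : Γ}, x * c.d = c.d * x → y * c.d = c.d * y → x * y * c.d = c.d * (x * y) :=
    fun hx hy => by rw [mul_assoc, hy, ← mul_assoc, hx, mul_assoc]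
  have key : ∀ {x : Γ} {X : ℕ}, x * c.d = c.d * x → c.ρ x = mat X →
      and2 (eqM (mu X X) one) (no (eqM X one)) = true → x * x = c.zp t := fun hx h2 h3 => by
    simp only [and2_true, no_true, eqM_iff, mat_mu, mat_one, ← h2] at h3
    exact c.sq_eq_sq hx h3.1 h3.2 a2 a1 ht
  have ab := key (cm a2 b2) (by rw [map_mul, a1, b1, ← mat_mu]) (by decide +kernel)
  have ae := key (cm a2 e2) (by rw [map_mul, a1, e1, ← mat_mu]) (by decide +kernel)
  have be := key (cm b2 e2) (by rw [map_mul, b1, e1, ← mat_mu]) (by decide +kernel)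
  have abe := key (cm a2 (cm b2 e2)) (by rw [map_mul, map_mul, a1, b1, e1, ← mat_mu, ← mat_mu]) (by decide +kernel)
  have k2 : ∀ {x y : Γ}, x * x = c.zp t → y * y = c.zp t → x * y * (x * y) = c.zp t → y * x = x * y * c.zp t :=
    fun {x y} hx hy hxy => by
      refine mul_left_cancel (a := x) (mul_right_cancel (b := y) ?_)
      rw [show x * (y * x) * y = x * y * (x * y) by group, hxy,
        show x * (x * y * c.zp t) * y = x * x * (y * c.zp t * y) by group, Co.zp_mul, hx, hy, Co.zp_sq, mul_one]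
  have h2 := k2 ht be abe
  rw [mul_assoc, k2 ht (key e2 e1 (by decide +kernel)) ae, ← mul_assoc, ← mul_assoc,
    k2 ht (key b2 b1 (by decide +kernel)) ab, Co.zp_mul, mul_assoc _ (c.zp t), Co.zp_sq, mul_one, mul_assoc a,
    left_eq_mul] at h2
  rw [c.sq_eq_sq hk h h1 a2 a1 ht, h2]

/-- The subgroup `2 ^ 7` of `Q`. -/
def W : Subgroup Γ := c.pre MW
/-- The subgroup `2 ^ 11`. -/
noncomputable def Vs : Subgroup Γ := c.QE ⊓ centralizer (c.W : Set Γ)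

theorem card_W : Nat.card c.W = 128 := by rw [W, c.card_pre, ncard_kr]; decide +kernel

theorem _root_.H9.R.mem_W_iff {x : V} : x ∈ kr MW ↔ ∀ A ∈ EL, x ᵥ* mat A = x := by
  have := H29.beq_true.1 (all12 c_WE x)
  simp only [mem_kr, fix_iff, ← H29.beq_true, ← allL_true]
  revert this
  cases Nat.beq _ 0 <;> cases H29.allL EL _ <;> simp

theorem sq_pre {M : ℕ} (h : treeAll (fun x => imp (Nat.beq (va x M) 0) (no (qb x))) 12 0 = true) :
    ∀ a ∈ c.pre M, a * a = 1 := fun a ha => by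
  have := all12 h (c.π a)
  simp only [imp_true, H29.beq_true, ← mem_kr, no_true, Bool.not_eq_true] at this
  rw [c.sq_q ha.1, q_eq, this ha.2]; exact c.zp_zero

theorem sq_W : ∀ a ∈ c.W, a * a = 1 := c.sq_pre c_Wq

theorem Wb_mem {w : ℕ} (h : w ∈ Wb) : c.s (vec w) ∈ c.W :=
  ⟨c.s_mem _, by rw [Co.π_s, kr, Set.mem_setOf_eq, ← vec_va, H29.beq_true.1 (allL_true.1 c_Wb w h), vec_zero]⟩

theorem _root_.H9.R.Wb_lt {w : ℕ} (h : w ∈ Wb) : w < 4096 := by revert w; decide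

theorem perp_W {x : V} (h : ∀ w ∈ Wb, c.B x (vec w) = 0) : x ∈ kr MW := by
  have := all12 c_Wp x
  simp only [imp_true, H29.beq_true, ← mem_kr, no_true, allL_true] at this
  refine this fun w hw h1 => ?_
  have h2 := h w hw
  rw [B_eq, cd_vec (Wb_lt hw), h1] at h2
  exact absurd h2 (by decide)

theorem mem_W_of_comm {u : Γ} (hu : u ∈ c.Q) (h : u ∈ centralizer (c.W : Set Γ)) : u ∈ c.W :=
  ⟨hu, c.perp_W fun w hw => by
    simpa using c.B_of_comm hu (c.s_mem (vec w)) (h _ (c.Wb_mem hw)).symm⟩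

theorem W_le : c.W ≤ c.Vs := fun a ha => ⟨mem_sup_left ha.1, fun b hb => comm_of_sq c.sq_W hb ha⟩

theorem Vs_inf : c.Vs ⊓ c.Q = c.W :=
  le_antisymm (fun a ha => c.mem_W_of_comm ha.2 ha.1.2) (le_inf c.W_le fun a ha => ha.1)

theorem mem_Vs_of_cent {k : Γ} {A : ℕ} (hA : A ∈ EL) (h : c.ρ k = mat A) (hk : k * c.d = c.d * k) : k ∈ c.Vs :=
  ⟨c.mem_QE.2 ⟨A, hA, h⟩, fun a ha => (c.fp.cent hk ha.1 (by rw [h]; exact mem_W_iff.1 ha.2 A hA)).symm⟩

theorem sq_Vs : ∀ a ∈ c.Vs, a * a = 1 := fun a ha => by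
  obtain ⟨A, hA, h⟩ := c.mem_QE.1 ha.1
  obtain ⟨k, h1, h2⟩ := c.exists_E hA
  have h3 := c.mem_Vs_of_cent hA h1 h2
  have h4 : k⁻¹ * a ∈ c.W := c.Vs_inf ▸ mem_inf.2 ⟨mul_mem (inv_mem h3) ha, c.mem_of_ρ (h1.trans h.symm)⟩
  have h5 := c.inv_sq h2 (by
    rw [h1, ← mat_mu, eqM_iff.1 (and2_true.1 (allL_true.1 c_ED A hA)).1, mat_one])
  calc a * a = k * (k⁻¹ * a * k) * (k⁻¹ * a) := by group
    _ = 1 := by rw [h3.2 _ h4, ← mul_assoc k k, h5, one_mul, c.sq_W _ h4]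

theorem card_Vs : Nat.card c.Vs = 2048 := by
  have h1 : c.ρ '' c.Vs = mat '' {A | A ∈ EL} := Set.ext fun x =>
    ⟨by rintro ⟨g, hg, rfl⟩; obtain ⟨A, h1, h2⟩ := c.mem_QE.1 hg.1; exact ⟨A, h1, h2.symm⟩, by
      rintro ⟨A, hA, rfl⟩
      obtain ⟨g, h1, h2⟩ := c.exists_E hA
      exact ⟨g, c.mem_Vs_of_cent hA h1 h2, h1⟩⟩
  rw [card_eq, h1, ncard_mat EL_sub nodup_EL, Vs_inf, card_W]; rfl

theorem z_mem_W : c.z ∈ c.W := ⟨c.zQ, by simp [c.π_z, kr]⟩

theorem bound {A : Subgroup Γ} (hA : ∀ a ∈ A, a * a = 1) {t n : ℕ} {C : List ℕ} (hC : ∀ X ∈ C, X ∈ TL)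
    (hn : C.Nodup) (h1 : ∀ a ∈ A, ∃ X ∈ C, c.ρ a = mat X) (h2 : ∃ a ∈ A, c.ρ a = mat t)
    (h3 : chkB t C n = true) (h4 : (c.ρ '' A).ncard < n) : Nat.card A < 2048 := by
  simp only [chkB, seqL_eq] at h3
  have h5 := ble_true.1 (allN_true.1 h3 _ h4)
  set s := (c.ρ '' A).ncard
  have fx : ∀ a ∈ A, ∀ u ∈ A ⊓ c.Q, c.π u ᵥ* c.ρ a = c.π u := fun a ha u hu => by
    rw [← c.π_conj a u hu.2, conj_of_comm (comm_of_sq hA ha hu.1)]
  have h6 := c.card_le_two (A := A ⊓ c.Q) inf_le_right (X := vec '' {v | v ∈ (flt (fun v => and2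
      (Nat.beq (va v t) v) (no (qb v))) (rg 4096)).filter fun v => Nat.ble s (cnt (fun X => Nat.beq (va v X) v) C)})
    fun u hu => ⟨cd (c.π u), by
      simp only [flt_eq, List.mem_filter, mem_rg, and2_true, H29.beq_true, ← fix_iff, no_true, Set.mem_setOf_eq,
        ble_true, cnt_eq]
      obtain ⟨a, ha, h7⟩ := h2
      refine ⟨⟨cd_lt _, h7 ▸ fx a ha u hu, fun h8 => ?_⟩, ?_⟩
      · have := c.sq_q hu.2
        rw [hA u hu.1, q_eq, h8] at this
        exact absurd (c.zp_eq_one this.symm) (by decide)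
      · rw [← ncard_mat (fun X hX => hC X (List.mem_filter.1 hX).1) (hn.filter _)]
        refine Set.ncard_le_ncard ?_ ((List.finite_toSet _).image _)
        rintro _ ⟨a, ha, rfl⟩
        obtain ⟨X, hX, h9⟩ := h1 a ha
        exact ⟨X, List.mem_filter.2 ⟨hX, by simpa [← fix_iff, ← h9] using fx a ha u hu⟩, h9.symm⟩, vec_cd _⟩
  have h7 := (Set.ncard_image_le (f := vec) (List.finite_toSet ((flt (fun v => and2
      (Nat.beq (va v t) v) (no (qb v))) (rg 4096)).filter fun v => Nat.ble s (cnt (fun X => Nat.beq (va v X) v) C))))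
  rw [← List.coe_toFinset, Set.ncard_coe_finset] at h7
  have h8 := h7.trans (List.toFinset_card_le _)
  rw [List.coe_toFinset] at h8
  rw [cnt_eq, szs, mp_eq, List.filter_map, List.length_map] at h5
  rw [c.card_eq A]
  have h9 := Nat.mul_le_mul_right s (h6.trans (Nat.mul_le_mul_left 2 h8))
  change s * _ ≤ _ at h5
  rw [mul_assoc] at h9
  exact lt_of_le_of_lt (h9.trans (Nat.mul_le_mul_left 2 ((mul_comm _ _).trans_le h5))) (by norm_num)

theorem card_lt_of_le {A : Subgroup Γ} (hA : ∀ a ∈ A, a * a = 1) (h : A ≤ c.Q) : Nat.card A < 2048 := by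
  classical
  by_contra h0
  have h1 := c.card_le_two h (X := c.π '' A) fun a ha => ⟨a, ha, rfl⟩
  obtain ⟨y, -, h2⟩ := Finset.exists_lt_card_fiber_of_mul_lt_card_of_maps_to (n := 2) (t := Finset.range 256)
    (s := (c.π '' A).toFinite.toFinset) (f := fun x => cd (x ᵥ* mat MN)) (fun x _ => by
      have := all12 c_N1 x
      simp only [and2_true, ble_true] at this
      rw [Finset.mem_range, cd_vecMul]; omega) (by rw [← Set.ncard_eq_toFinset_card]; simp; omega)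
  obtain ⟨x0, x1, x2, m0, m1, m2, n1, n2, n3⟩ := Finset.two_lt_card_iff.1 h2
  simp only [Finset.mem_filter, Set.Finite.mem_toFinset] at m0 m1 m2
  obtain ⟨⟨a0, a0m, rfl⟩, e0⟩ := m0
  obtain ⟨⟨a1, a1m, rfl⟩, e1⟩ := m1
  obtain ⟨⟨a2, a2m, rfl⟩, e2⟩ := m2
  have k1 : ∀ {x y : V}, cd (x ᵥ* mat MN) = cd (y ᵥ* mat MN) → cd (x + y) ∈ NL := fun {x y} h3 => by
    have := all12 c_N1 (x + y)
    simp only [and2_true, imp_true, H29.beq_true, memL_true] at this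
    exact this.2 (by rw [← cd_vecMul, add_vecMul, cd_add, h3, Nat.xor_self])
  have k2 : ∀ {a b : Γ}, a ∈ A → b ∈ A → qb (cd (c.π a + c.π b)) ≠ true := fun {a b} ha hb h3 => by
    have := c.sq_q (h (mul_mem ha hb))
    rw [hA _ (mul_mem ha hb), q_eq, c.π_mul _ (h ha) _ (h hb), h3] at this
    exact absurd (c.zp_eq_one this.symm) (by decide)
  have k3 : ∀ {x y : V}, cd x = cd y → x = y := fun {x y} h3 => by rw [← vec_cd x, h3, vec_cd]
  have h3 := allL_true.1 (allL_true.1 c_N2 _ (k1 (e0.trans e1.symm))) _ (k1 (e0.trans e2.symm))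
  simp only [or2_true, H29.beq_true] at h3
  rcases h3 with (h3 | h3 | h3) | h3 | h3 | h3
  · exact n1 (add_eq_zero'.1 (k3 (h3.trans cd_zero.symm)))
  · exact n2 (add_eq_zero'.1 (k3 (h3.trans cd_zero.symm)))
  · exact n3 (add_left_cancel (k3 h3))
  · exact k2 a0m a1m h3
  · exact k2 a0m a2m h3
  · refine k2 a1m a2m ?_
    rw [← h3]; congr 1
    refine Eq.trans ?_ (cd_add _ _)
    rw [add_add_add_comm, add_self, zero_add]

theorem mem_cI {A : Subgroup Γ} (hA : ∀ a ∈ A, a * a = 1) (hT : A ≤ c.T) {a : Γ} (ha : a ∈ A) {t : ℕ}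
    (ht : c.ρ a = mat t) : ∀ b ∈ A, ∃ X ∈ cI t, c.ρ b = mat X := fun b hb => by
  obtain ⟨X, hX, h⟩ := c.mem_T.1 (hT hb)
  refine ⟨X, ?_, h⟩
  simp only [cI, flt_eq, List.mem_filter, and2_true, eqM_iff, mat_mu, mat_one, ← h, ← ht, ← map_mul]
  exact ⟨hX, by rw [hA b hb, map_one], by rw [comm_of_sq hA ha hb]⟩

theorem dich {A : Subgroup Γ} (hA : ∀ a ∈ A, a * a = 1) (hT : A ≤ c.T) :
    A ≤ c.QE ∨ (c.ρ '' A).ncard ≤ 63 ∧ Nat.card A < 2048 := by
  by_cases h : A ≤ c.QE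
  · exact Or.inl h
  obtain ⟨a, ha, h1⟩ := SetLike.not_le_iff_exists.1 h
  obtain ⟨t, ht, h2⟩ := c.mem_T.1 (hT ha)
  have h3 := allL_true.1 c_bT t ht
  simp only [imp_true, or2_true, seqL_eq, and2_true, memL_true, ble_true, cnt_eq, List.filter_true] at h3
  obtain ⟨h4, h5⟩ := (h3 (eqM_iff.2 (by rw [mat_mu, ← h2, ← map_mul, hA a ha, map_one, mat_one]))).resolve_left
    fun h4 => h1 (c.mem_QE.2 ⟨t, h4, h2⟩)
  have h6 : (c.ρ '' A).ncard ≤ 63 := by
    refine le_trans (Set.ncard_le_ncard ?_ ((List.finite_toSet _).image _)) ((ncard_mat_le (cI t)).trans h4)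
    rintro _ ⟨b, hb, rfl⟩
    obtain ⟨X, h7, h8⟩ := c.mem_cI hA hT ha h2 b hb
    exact ⟨X, h7, h8.symm⟩
  exact Or.inr ⟨h6, c.bound hA (fun X hX => by rw [cI, flt_eq] at hX; exact (List.mem_filter.1 hX).1)
    (by rw [cI, flt_eq]; exact nodup_TL.filter _) (c.mem_cI hA hT ha h2) ⟨a, ha, h2⟩ h5 (by omega)⟩

theorem image_QE {A : Subgroup Γ} (h : A ≤ c.QE) : c.ρ '' A ⊆ mat '' {A | A ∈ EL} := by
  rintro _ ⟨b, hb, rfl⟩
  obtain ⟨X, h7, h8⟩ := c.mem_QE.1 (h hb)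
  exact ⟨X, h7, h8.symm⟩

/-- Elementary abelian subgroups of `Γ / Q` are small. -/
theorem card_le {A : Subgroup Γ} (hA : ∀ a ∈ A, a * a = 1) : Nat.card A ≤ Nat.card ↥(A ⊓ c.Q) * 63 := by
  obtain ⟨g, hg⟩ := c.conj_T (A := A) (pg_of_pow' (k := 1) fun x hx => by rw [pow_one, sq, hA x hx])
  have h1 : cj A g ⊓ c.Q = cj (A ⊓ c.Q) g := by
    ext a
    simp only [mem_inf, mem_cj]
    exact and_congr_right fun _ => ⟨fun h => c.nQ.conj_mem a h g, fun h => by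
      simpa [mul_assoc] using c.conj_mem g h⟩
  rw [← card_cj A g, c.card_eq, h1, card_cj]
  refine Nat.mul_le_mul_left _ ?_
  rcases c.dich (sq_cj hA g) (by rintro _ ⟨a, ha, rfl⟩; simpa using hg a ha) with h | h
  · exact (Set.ncard_le_ncard (c.image_QE h) ((List.finite_toSet _).image _)).trans
      ((ncard_mat_le EL).trans (by decide))
  · exact h.1

theorem eq_Vs {A : Subgroup Γ} (hA : ∀ a ∈ A, a * a = 1) (hT : A ≤ c.T) (h : 2048 ≤ Nat.card A) : A = c.Vs := by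
  have h1 := (c.dich hA hT).resolve_right fun h1 => by omega
  have h2 : ¬ A ≤ c.Q := fun h2 => by have := c.card_lt_of_le hA h2; omega
  obtain ⟨a, ha, h3⟩ := SetLike.not_le_iff_exists.1 h2
  obtain ⟨t, ht, h4⟩ := c.mem_QE.1 (h1 ha)
  have h5 := (or2_true.1 (allL_true.1 c_bE t ht)).resolve_left fun h5 =>
    h3 (c.ker _ (by rw [h4, eqM_iff.1 h5, mat_one]))
  have h6 : 16 ≤ (c.ρ '' A).ncard := by
    by_contra h6
    have := c.bound hA EL_sub nodup_EL (fun a ha => c.mem_QE.1 (h1 ha)) ⟨a, ha, h4⟩ h5 (by omega)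
    omega
  have h7 := Set.eq_of_subset_of_ncard_le (c.image_QE h1) (by rw [ncard_mat EL_sub nodup_EL]; exact h6)
    ((List.finite_toSet _).image _)
  have h8 : A ⊓ c.Q ≤ c.W := fun u hu => ⟨hu.2, mem_W_iff.2 fun X hX => by
    obtain ⟨b, hb, h9⟩ := h7.ge ⟨X, hX, rfl⟩
    rw [← h9, ← c.π_conj b u hu.2, conj_of_comm (comm_of_sq hA hb hu.1)]⟩
  have h9 := eq_of_le_of_card_ge h8 (by
    rw [c.card_eq A, h7, ncard_mat EL_sub nodup_EL] at h
    rw [card_W]; change _ ≤ _ * 16 at h; omega)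
  exact eq_of_le_of_card_ge (le_inf h1 fun b hb u hu => comm_of_sq hA (h9.ge hu).1 hb) (by rw [card_Vs]; exact h)

/-- All elementary abelian subgroups of order `2 ^ 11` are conjugate. -/
theorem wc {A : Subgroup Γ} (hA : ∀ a ∈ A, a * a = 1) (h : 2048 ≤ Nat.card A) : ∃ g, cj A g = c.Vs := by
  obtain ⟨g, hg⟩ := c.conj_T (A := A) (pg_of_pow' (k := 1) fun x hx => by rw [pow_one, sq, hA x hx])
  exact ⟨g, c.eq_Vs (sq_cj hA g) (by rintro _ ⟨a, ha, rfl⟩; simpa using hg a ha) (by rwa [card_cj])⟩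

theorem cent_Vs {g : Γ} (h : g ∈ centralizer (c.Vs : Set Γ)) : g ∈ c.Vs := by
  have fx : ∀ {g : Γ}, g ∈ centralizer (c.Vs : Set Γ) → ∀ x ∈ kr MW, x ᵥ* c.ρ g = x := fun {g} h x hx => by
    have := c.π_conj g _ (c.s_mem x)
    rw [conj_of_comm (h _ (c.W_le ⟨c.s_mem x, by rwa [Co.π_s]⟩)).symm, Co.π_s] at this
    exact this.symm
  have h1 : c.ρ g * c.ρ g = 1 := ext_vecMul fun x => by
    have h2 := fx h _ (c.perp_W (x := x ᵥ* c.ρ g + x) fun w hw => by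
      have h3 := fx h _ (c.Wb_mem hw).2
      rw [Co.π_s] at h3
      rw [Co.B_add_left, ← h3, Co.B_ρ, h3, CharTwo.add_self_eq_zero])
    rw [add_vecMul, vecMul_vecMul, add_comm (x ᵥ* c.ρ g)] at h2
    rw [add_right_cancel h2, vecMul_one]
  have p1 : IsPGroup 2 c.Vs := pg_of_pow' (k := 1) fun x hx => by rw [pow_one, sq, c.sq_Vs x hx]
  obtain ⟨k, hk⟩ := c.conj_T (p1.to_sup_of_normal_left' (pg_zpowers' (c.pow_eight h1))
    (zpowers_le.2 (centralizer_le_normalizer _ h)))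
  have h2 := c.eq_Vs (sq_cj c.sq_Vs k) (by rintro _ ⟨a, ha, rfl⟩; simpa using hk a (mem_sup_left ha))
    (by rw [card_cj, card_Vs])
  have h3 : k⁻¹ * g * k ∈ centralizer (c.Vs : Set Γ) := fun a ha => by
    have := h _ (mem_cj.1 (h2.ge ha))
    calc _ = k⁻¹ * (k * a * k⁻¹ * g) * k := by group
      _ = _ := by rw [this]; group
  obtain ⟨X, hX, h4⟩ := c.mem_T.1 (hk g (mem_sup_right (mem_zpowers g)))
  have h5 := allL_true.1 c_WT X hX
  simp only [imp_true, allL_true, H29.beq_true, memL_true] at h5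
  have h6 : k⁻¹ * g * k ∈ c.Vs := ⟨c.mem_QE.2 ⟨X, h5 fun w hw => (va_eq_iff (Wb_lt hw)).2 (by
    have := fx h3 _ (c.Wb_mem hw).2
    rwa [Co.π_s, h4] at this), h4⟩, fun a ha => h3 a (c.W_le ha)⟩
  simpa [mul_assoc] using mem_cj.1 (h2.ge h6)

/-- Elements of order seven have no fixed points on `Q / ⟨z⟩`. -/
theorem seven {y : Γ} (h : y ^ 7 = 1) (h1 : y ≠ 1) {x : V} (hx : x ᵥ* c.ρ y = x) : x = 0 := by
  classical
  haveI : Fact (Nat.Prime 7) := ⟨by norm_num⟩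
  have k0 : ∀ i, c.ρ (ev c.e wY ^ i) = mat (ew (powW i wY)) := fun i => by rw [← ev_powW, ρ_ev]
  have k1 : c.ρ (ev c.e wY ^ 7) = 1 := by rw [k0, ← mat_one, ← eqM_iff]; decide +kernel
  have k2 : (ev c.e wY ^ 8) ^ 7 = 1 := by
    rw [← pow_mul, show 8 * 7 = 7 * (4 * 2) from rfl, pow_mul, pow_mul, c.pow_four (c.ker _ k1), one_pow]
  have k3 : c.ρ (ev c.e wY ^ 8) = c.ρ (ev c.e wY) := by rw [pow_succ, map_mul, k1, one_mul]
  have k4 : orderOf (ev c.e wY ^ 8) = 7 := orderOf_eq_prime k2 fun h2 => by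
    rw [h2, map_one, ρ_ev, ← mat_one, ← eqM_iff] at k3
    exact absurd k3 (by decide +kernel)
  obtain ⟨g, hg⟩ := exists_conj_sylow (p := 7) (pg_zpowers' (k := 1) k2)
    (by rw [Nat.card_zpowers, k4, c.card]; norm_num) (pg_zpowers' (k := 1) h)
  obtain ⟨i, hi, h2⟩ := Finset.mem_image.1 (mem_zpowers_iff_mem_range_orderOf.1 (hg y (mem_zpowers y)))
  rw [k4, Finset.mem_range] at hi
  rcases i with _ | i
  · exact absurd (by simpa [mul_assoc] using congrArg (g * · * g⁻¹) h2.symm) h1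
  have h3 := all12 (seqN_eq _ _ ▸ allN_true.1 c_Y7 i (by omega)) (x ᵥ* c.ρ g)
  simp only [imp_true, H29.beq_true, ← fix_iff] at h3
  rw [← k0, map_pow, ← k3, ← map_pow, h2, vecMul_vecMul, ← map_mul,
    show g * (g⁻¹ * y * g) = y * g by group, map_mul, ← vecMul_vecMul, hx] at h3
  have h4 : x ᵥ* c.ρ g = 0 := by rw [← vec_cd (x ᵥ* c.ρ g), h3 rfl, vec_zero]
  rw [← vecMul_one x, ← c.ρ_mul_inv g, ← vecMul_vecMul, h4, zero_vecMul]

end Std

end H9.R
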