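import Mathlib
import Cfsg.Agent.H9.JR4
import Cfsg.Agent.H9.JRS6T

/-!
# Comparison of two groups with standard coordinates
-/

set_option autoImplicit false
set_option maxRecDepth 100000
set_option linter.all false

namespace H9.R

open H29 H9.GF2 Matrix Subgroup

theorem card_sup_le {X : Type*} [Group X] [Finite X] {H K : Subgroup X} (h : K ≤ normalizer (H : Set X)) :
    Nat.card ↥(H ⊔ K) ≤ Nat.card H * Nat.card K := by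
  rw [← Nat.card_prod]
  refine Nat.card_le_card_of_surjective (fun p : H × K => (⟨p.1 * p.2, mul_mem (mem_sup_left p.1.2)
    (mem_sup_right p.2.2)⟩ : ↥(H ⊔ K))) fun g => ?_
  obtain ⟨a, ha, b, hb, h1⟩ := JL.exists_mul h g.2
  exact ⟨(⟨a, ha⟩, ⟨b, hb⟩), Subtype.ext h1⟩

theorem card_le_S6 {X : Type*} [Group X] [Finite X] {U : Subgroup X} {t : ℕ → X}
    (hn : ∀ i, t i ∈ normalizer (U : Set X)) (h2 : ∀ i, t i * t i ∈ U) (hR : ∀ r ∈ JRS6T.R0, ev t r ∈ U) :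
    Nat.card ↥(U ⊔ gen t [0, 1, 2, 3, 4]) ≤ 720 * Nat.card U := by
  let N := normalizer (U : Set X)
  let f : N →* Shrink.{0} (N ⧸ U.subgroupOf N) :=
    (Shrink.mulEquiv.{0} (α := N ⧸ U.subgroupOf N)).symm.toMonoidHom.comp (QuotientGroup.mk' _)
  have hf : ∀ x : N, f x = 1 ↔ x.1 ∈ U := fun x => by simp [f, mem_subgroupOf]
  let t' : ℕ → N := fun i => ⟨t i, hn i⟩
  have k : ∀ w, (ev t' w).1 = ev t w := fun w => map_ev N.subtype t' w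
  have b := (JRS6T.bd (e := fun i => f (t' i)) (fun i => eq_inv_of_mul_eq_one_left (by
    rw [show ivOf JRS6T.ivl i = i from rfl, ← map_mul, hf]; exact h2 i))
    (fun r hr => by rw [← map_ev, hf, k]; exact hR r hr) (bd_nil _)).2
  let K := (gen (fun i => f (t' i)) JRS6T.cols).comap f
  have h1 : U ⊔ gen t [0, 1, 2, 3, 4] ≤ K.map N.subtype := sup_le
    (fun u hu => ⟨⟨u, le_normalizer hu⟩, mem_comap.2 (by rw [(hf _).2 hu]; exact one_mem _), rfl⟩)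
    (gen_le.2 fun i hi => ⟨t' i, mem_comap.2 (mem_gen (e := fun i => f (t' i)) hi), rfl⟩)
  refine (card_le_of_le h1).trans ?_
  rw [card_map_of_injective N.subtype_injective, (f.comp K.subtype).ker.card_eq_card_quotient_mul_card_subgroup,
    Nat.card_congr (QuotientGroup.quotientKerEquivRange _).toEquiv]
  refine Nat.mul_le_mul ((card_le_of_le ?_).trans b) ?_
  · rintro _ ⟨x, rfl⟩; exact x.2
  · exact Nat.card_le_card_of_injective (fun x => (⟨x.1.1.1, (hf _).1 x.2⟩ : U)) fun a b h =>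
      Subtype.ext (Subtype.ext (Subtype.ext (congrArg (fun x : U => x.1) h)))

variable {Γ Γ' : Type*} [Group Γ] [Group Γ']

namespace Std

variable (c : Std Γ) (c' : Std Γ')

theorem q_eq' (x : V) : c.q x = c'.q x := by rw [q_eq, q_eq]
theorem B_eq' (x y : V) : c.B x y = c'.B x y := by rw [B_eq, B_eq]

theorem inv_eq {a : Γ} (h : a ∈ c.Q) : a⁻¹ = a * c.zp (c.q (c.π a)) :=
  inv_eq_of_mul_eq_one_right (by rw [← mul_assoc, c.sq_q h, Co.zp_sq])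

/-- The graph of the isomorphism between the two extraspecial groups. -/
def II : Subgroup (Γ × Γ') where
  carrier := {p | p.1 ∈ c.Q ∧ p.2 ∈ c'.Q ∧ c.π p.1 = c'.π p.2 ∧
    ∃ t, (p.1 * c.d) ^ 3 = c.zp t ∧ (p.2 * c'.d) ^ 3 = c'.zp t}
  one_mem' := ⟨one_mem _, one_mem _, by simp [Co.π_one], 0, by simp [c.fp.d3, c'.fp.d3]⟩
  mul_mem' := by
    rintro ⟨a, a'⟩ ⟨b, b'⟩ ⟨a1, a2, a3, s, a4, a5⟩ ⟨b1, b2, b3, t, b4, b5⟩
    dsimp only at *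
    refine ⟨mul_mem a1 b1, mul_mem a2 b2, by
      show c.π (a * b) = c'.π (a' * b')
      rw [c.π_mul _ a1 _ b1, c'.π_mul _ a2 _ b2, a3, b3], _,
      (c.fp.cube_mul a1 b1).trans (by rw [a4, b4, ← Co.zp_add, ← Co.zp_add]),
      (c'.fp.cube_mul a2 b2).trans ?_⟩
    rw [a5, b5, ← Co.zp_add, ← Co.zp_add, a3, b3, ρ_d, ρ_d, ρ_d_inv, ρ_d_inv, c.B_eq' c', c.B_eq' c']
  inv_mem' := by
    rintro ⟨a, a'⟩ ⟨a1, a2, a3, s, a4, a5⟩
    dsimp only at *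
    refine ⟨inv_mem a1, inv_mem a2, by
      show c.π a⁻¹ = c'.π a'⁻¹
      rw [c.π_inv a1, c'.π_inv a2, a3], s + c.q (c.π a), ?_, ?_⟩
    · show (a⁻¹ * _) ^ 3 = _
      rw [c.inv_eq a1, Co.cube_zp, a4, Co.zp_add]
    · show (a'⁻¹ * _) ^ 3 = _
      rw [c'.inv_eq a2, Co.cube_zp, a5, Co.zp_add, a3, c.q_eq' c']

/-- Pairs inducing the same automorphism. -/
def FF : Subgroup (Γ × Γ') := normalizer (c.II c' : Set (Γ × Γ'))

variable {c c'}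

theorem II_symm {a : Γ} {a' : Γ'} (h : (a, a') ∈ c.II c') : (a', a) ∈ c'.II c :=
  let ⟨a1, a2, a3, s, a4, a5⟩ := h
  ⟨a2, a1, a3.symm, s, a5, a4⟩

theorem II_conj {a h : Γ} {a' h' : Γ'} (h1 : (h, h') ∈ c.FF c') (h2 : (a, a') ∈ c.II c') :
    (h⁻¹ * a * h, h'⁻¹ * a' * h') ∈ c.II c' := (mem_normalizer_iff''.1 h1 _).1 h2

theorem II_conj' {a h : Γ} {a' h' : Γ'} (h1 : (h, h') ∈ c.FF c') (h2 : (a, a') ∈ c.II c') :
    (h * a * h⁻¹, h' * a' * h'⁻¹) ∈ c.II c' := (mem_normalizer_iff.1 h1 _).1 h2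

theorem II_uniq {a b : Γ} {a' : Γ'} (h1 : (a, a') ∈ c.II c') (h2 : (b, a') ∈ c.II c') : a = b := by
  obtain ⟨a1, -, a3, s, a4, a5⟩ := h1
  obtain ⟨b1, -, b3, t, b4, b5⟩ := h2
  exact c.fp.eq_of_cube a1 b1 (a3.trans b3.symm) (by
    rw [show (a * c.d) ^ 3 = _ from a4, show (b * c.d) ^ 3 = _ from b4, c'.zp_inj (a5.symm.trans b5)])

variable (c) in
theorem II_ex {a' : Γ'} (h : a' ∈ c'.Q) : ∃ a, (a, a') ∈ c.II c' := by
  obtain ⟨s, hs⟩ := c.fp.exists_t (c.s_mem (c'.π a'))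
  obtain ⟨t, ht⟩ := c'.fp.exists_t h
  refine ⟨c.s (c'.π a') * c.zp (s + t), mul_mem (c.s_mem _) (c.zp_mem _), h,
    (c.π_mul_zp (c.s_mem _) _).trans (c.π_s _), t, ?_, ht⟩
  show (_ * _ * _) ^ 3 = _
  rw [Co.cube_zp, hs, ← Co.zp_add, ← add_assoc, CharTwo.add_self_eq_zero, zero_add]

variable (c c') in
theorem z_mem_II : (c.z, c'.z) ∈ c.II c' :=
  ⟨c.zQ, c'.zQ, c.π_z.trans c'.π_z.symm, 1, by simpa [c.fp.d3, Co.zp_one] using Co.cube_zp (c := c.toCo) 1 c.d 1,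
    by simpa [c'.fp.d3, Co.zp_one] using Co.cube_zp (c := c'.toCo) 1 c'.d 1⟩

theorem II_le : c.II c' ≤ c.FF c' := le_normalizer

theorem F_ρ {h : Γ} {h' : Γ'} (h1 : (h, h') ∈ c.FF c') : c.ρ h = c'.ρ h' := ext_vecMul fun x => by
  obtain ⟨a, ha⟩ := c.II_ex (c'.s_mem x)
  have h2 := (II_conj h1 ha).2.2.1
  have h3 : c.π a = x := ha.2.2.1.trans (c'.π_s x)
  dsimp only at h2
  rwa [c.π_conj _ _ ha.1, c'.π_conj _ _ (c'.s_mem x), h3, Co.π_s] at h2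

variable [Finite Γ] [Finite Γ']

theorem mem_FF {h : Γ} {h' : Γ'}
    (h1 : ∀ a a', (a, a') ∈ c.II c' → (h⁻¹ * a * h, h'⁻¹ * a' * h') ∈ c.II c') : (h, h') ∈ c.FF c' := by
  rw [← inv_mem_iff]
  exact mem_normalizer_fintype fun p hp => by rw [inv_inv]; exact h1 p.1 p.2 hp

theorem FF_symm {h : Γ} {h' : Γ'} (h1 : (h, h') ∈ c.FF c') : (h', h) ∈ c'.FF c :=
  mem_FF fun a a' ha => II_symm (II_conj h1 (II_symm ha))

variable (c c') in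
theorem zp_mem_FF (t : ZMod 2) : (c.zp t, (1 : Γ')) ∈ c.FF c' := mem_FF fun a a' ha => by
  rwa [mul_assoc, c.zp_comm, inv_mul_cancel_left, inv_one, one_mul, mul_one]

theorem F_ker {h : Γ} (h1 : (h, (1 : Γ')) ∈ c.FF c') : ∃ t, h = c.zp t := by
  have h2 := c.ker h ((F_ρ h1).trans (map_one _))
  refine c.eq_zp' h2 (c.nd h h2 fun b hb => comm_of_conj ?_)
  obtain ⟨a, ha⟩ := c'.II_ex hb
  exact II_uniq (by simpa using II_conj h1 (II_symm ha)) (II_symm ha)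

theorem F_uniq {a b : Γ} {a' : Γ'} (h1 : (a, a') ∈ c.FF c') (h2 : (b, a') ∈ c.FF c') : ∃ t, a = b * c.zp t := by
  obtain ⟨t, ht⟩ := F_ker (h := b⁻¹ * a) (c' := c') (by simpa using mul_mem (inv_mem h2) h1)
  exact ⟨t, by rw [← ht, mul_inv_cancel_left]⟩

theorem F_of_K {k : Γ} {k' : Γ'} (h : c.ρ k = c'.ρ k')
    (h1 : k⁻¹ * c.d * k = c.d ∧ k'⁻¹ * c'.d * k' = c'.d ∨ k⁻¹ * c.d * k = c.d⁻¹ ∧ k'⁻¹ * c'.d * k' = c'.d⁻¹) :
    (k, k') ∈ c.FF c' := mem_FF fun a a' ⟨a1, a2, a3, t, a4, a5⟩ => by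
  dsimp only at *
  have b1 := c.conj_mem k a1
  have b2 := c'.conj_mem k' a2
  have b3 : c.π (k⁻¹ * a * k) = c'.π (k'⁻¹ * a' * k') := by rw [c.π_conj _ _ a1, c'.π_conj _ _ a2, a3, h]
  have b4 : (k⁻¹ * a * k * (k⁻¹ * c.d * k)) ^ 3 = c.zp t := by
    rw [← c.conj_zp k, ← a4, ← conj_pow']; congr 1; group
  have b5 : (k'⁻¹ * a' * k' * (k'⁻¹ * c'.d * k')) ^ 3 = c'.zp t := by
    rw [← c'.conj_zp k', ← a5, ← conj_pow']; congr 1; group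
  rcases h1 with ⟨h1, h2⟩ | ⟨h1, h2⟩ <;> rw [h1] at b4 <;> rw [h2] at b5
  · exact ⟨b1, b2, b3, t, b4, b5⟩
  · refine ⟨b1, b2, b3, _, (c.fp.cube_inv b1).trans (by rw [b4, ← Co.zp_add]), (c'.fp.cube_inv b2).trans ?_⟩
    rw [b5, ← Co.zp_add, b3, ρ_d, ρ_d, ρ_d_inv, ρ_d_inv, c.B_eq' c']

variable (c c') in
theorem d_mem_FF : (c.d, c'.d) ∈ c.FF c' := F_of_K (by rw [ρ_d, ρ_d]) (Or.inl ⟨by simp, by simp⟩)

variable (c) in
theorem F_exK {k' : Γ'} (h1 : k'⁻¹ * c'.d * k' = c'.d ∨ k'⁻¹ * c'.d * k' = c'.d⁻¹) : ∃ k, (k, k') ∈ c.FF c' ∧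
    (k⁻¹ * c.d * k = c.d ∧ k'⁻¹ * c'.d * k' = c'.d ∨ k⁻¹ * c.d * k = c.d⁻¹ ∧ k'⁻¹ * c'.d * k' = c'.d⁻¹) := by
  obtain ⟨w, hw⟩ := c'.exists_word k'
  obtain ⟨k, h2, h3⟩ := c.lift (ev c.e w)
  rw [c.ρ_ev, ← hw] at h2 h3
  have k1 : ∀ x, k'⁻¹ * c'.d * k' = x → c'.ρ c'.d * c'.ρ k' = c'.ρ k' * c'.ρ x := fun x hx => by
    rw [← hx, ← map_mul, ← map_mul]; congr 1; group
  have h4 : k⁻¹ * c.d * k = c.d ∧ k'⁻¹ * c'.d * k' = c'.d ∨ k⁻¹ * c.d * k = c.d⁻¹ ∧ k'⁻¹ * c'.d * k' = c'.d⁻¹ := by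
    rw [ρ_d, ρ_d_inv, ← c'.ρ_d_inv, ← c'.ρ_d] at h3
    rcases h1 with h1 | h1 <;> rcases h3 with h3 | h3
    · exact Or.inl ⟨h3.2, h1⟩
    · exact absurd h3.1 (c'.not_both (k1 _ h1))
    · exact absurd (k1 _ h1) (c'.not_both h3.1)
    · exact Or.inr ⟨h3.2, h1⟩
  exact ⟨k, F_of_K h2 h4, h4⟩

variable (c) in
theorem F_ex (h' : Γ') : ∃ h, (h, h') ∈ c.FF c' := by
  obtain ⟨k', h1, h2⟩ := c'.lift h'
  obtain ⟨k, h3, -⟩ := c.F_exK (h2.imp And.right And.right)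
  obtain ⟨a, ha⟩ := c.II_ex (c'.mem_of_ρ h1)
  exact ⟨k * a, by simpa using mul_mem h3 (II_le ha)⟩

theorem F_Vs {h : Γ} {h' : Γ'} (h1 : (h, h') ∈ c.FF c') (h2 : h' ∈ c'.Vs) : h ∈ c.Vs :=
  ⟨c.mem_QE.2 (F_ρ h1 ▸ c'.mem_QE.1 h2.1), fun w hw => by
    obtain ⟨w', h3⟩ := c'.II_ex hw.1
    have h4 := II_conj h1 (II_symm h3)
    rw [conj_of_comm (h2.2 w' ⟨h3.1, h3.2.2.1 ▸ hw.2⟩).symm] at h4
    exact (comm_of_conj (II_uniq h4 (II_symm h3))).symm⟩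

theorem F_norm {h : Γ} {h' : Γ'} (h1 : (h, h') ∈ c.FF c') (h2 : h' ∈ normalizer (c'.Vs : Set Γ')) :
    h ∈ normalizer (c.Vs : Set Γ) := mem_normalizer_fintype fun v hv => by
  obtain ⟨v', h3⟩ := c'.F_ex v
  exact F_Vs (mul_mem (mul_mem h1 (FF_symm h3)) (inv_mem h1)) ((mem_normalizer_iff.1 h2 _).1 (F_Vs h3 hv))

theorem card_II : Nat.card (c.II c') ≤ 8192 := by
  rw [← c'.card_Q]
  exact Nat.card_le_card_of_injective (fun p => (⟨p.1.2, p.2.2.1⟩ : c'.Q)) fun a b h => by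
    have h1 : a.1.2 = b.1.2 := congrArg Subtype.val h
    exact Subtype.ext (Prod.ext (II_uniq a.2 (h1 ▸ b.2)) h1)

end Std

end H9.R
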