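import Mathlib
import Cfsg.Agent.H9.JR4
import Cfsg.Agent.H9.JRB

/-!
# Standard coordinates in the centraliser of the central involution of `J₄`
-/

set_option autoImplicit false
set_option maxRecDepth 100000
set_option Elab.async false
set_option linter.all false

namespace H9.R

open Cfsg H29 H9.GF2 H9.J4 H9.JL Matrix Subgroup

section
variable {Γ : Type*} [Group Γ]

theorem card_ker_range [Finite Γ] (ρ : Γ →* Mx) :
    Nat.card Γ = Nat.card ρ.toHomUnits.ker * (Set.range ρ).ncard := by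
  rw [ρ.toHomUnits.ker.card_eq_card_quotient_mul_card_subgroup,
    Nat.card_congr (QuotientGroup.quotientKerEquivRange _).toEquiv, mul_comm]
  congr 1
  rw [show Nat.card ρ.toHomUnits.range = (ρ.toHomUnits.range : Set Mxˣ).ncard from Nat.card_coe_set_eq _,
    ← Set.ncard_image_of_injective _ Units.val_injective]
  congr 1
  ext x
  simp

theorem Co.π_mw (c : Co Γ) {q : ℕ → Γ} : ∀ {l A : List ℕ},
    List.Forall₂ (fun i a => q i ∈ c.Q ∧ c.π (q i) = vec a) l A → ∀ m,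
      ev q (mw l m) ∈ c.Q ∧ c.π (ev q (mw l m)) = vec (lin A m)
  | _, _, .nil, _ => ⟨one_mem _, by rw [lin_nil, vec_zero]; exact c.π_one⟩
  | _, _, .cons h h', m => by
    obtain ⟨h1, h2⟩ := c.π_mw h' (m / 2)
    rw [ev_mw_cons, lin_cons, vec_xor', c.π_mul _ (pow_mem h.1 _) _ h1, h2]
    refine ⟨mul_mem (pow_mem h.1 _) h1, ?_⟩
    rcases Nat.mod_two_eq_zero_or_one m with k | k <;> simp [k, h.2, c.π_one]

theorem Co.exists_basis [Finite Γ] (c : Co Γ) {q : ℕ → Γ} {f : ℕ → ℕ} {l : List ℕ} (hQ : c.Q = gen q l)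
    (hl : ∀ i ∈ l, q i = c.z ∨ ∃ k < 12, i = f k) :
    ∃ c' : Co Γ, c'.z = c.z ∧ c'.Q = c.Q ∧ ∀ k < 12, c'.π (q (f k)) = vec (2 ^ k) := by
  let P : Mx := fun k => c.π (q (f k))
  have h1 : Function.Surjective P.vecMul := fun x => by
    obtain ⟨a, ha, rfl⟩ := c.π_surj x
    refine (clo_ind (p := fun a => a ∈ c.Q ∧ ∃ y, y ᵥ* P = c.π a) ⟨one_mem _, 0, by simp [c.π_one]⟩ ?_
      (hQ ▸ ha : a ∈ gen q l)).2
    rintro x _ ⟨i, hi, rfl⟩ ⟨hx, y, hy⟩
    have h2 : q i ∈ c.Q := hQ ▸ mem_gen hi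
    refine ⟨mul_mem hx h2, ?_⟩
    rw [c.π_mul _ hx _ h2, ← hy]
    rcases hl i hi with h | ⟨k, hk, rfl⟩
    · exact ⟨y, by rw [h, c.π_z, add_zero]⟩
    · exact ⟨y + Pi.single ⟨k, hk⟩ 1, by rw [add_vecMul, single_one_vecMul]; rfl⟩
  obtain ⟨u, hu⟩ := vecMul_surjective_iff_isUnit.1 h1
  refine ⟨c.map P u⁻¹.1 (by rw [← hu, Units.mul_inv]), rfl, rfl, fun k hk => ?_⟩
  rw [Co.map_π, vec_two_pow ⟨k, hk⟩, show c.π (q (f k)) = Pi.single ⟨k, hk⟩ 1 ᵥ* P by rw [single_one_vecMul]; rfl,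
    vecMul_vecMul, ← hu, Units.mul_inv, vecMul_one]

end

def LH : List ℕ := [52, 53, 54, 3, 28, 30, 32, 34, 36, 38, 40, 42, 44, 46, 48, 62, 63, 68, 70, 72, 74, 76, 78, 80, 82, 84, 86, 88, 90]
def RH : List (List ℕ) := [[4129, 40, 18, 4112, 4132, 4128, 64, 512, 128, 1152, 256, 2880], [33, 4108, 48, 4130, 4104, 4128, 64, 256, 1024, 128, 768, 3264], [22, 4101, 4116, 4144, 16, 4120, 128, 64, 448, 2048, 3904, 512], [1409, 4674, 2116, 1160, 4688, 288, 64, 128, 256, 512, 1024, 2048], [1, 2, 4, 8, 16, 32, 64, 128, 256, 512, 1024, 2048], [1, 2, 4, 8, 16, 32, 4160, 4224, 256, 4608, 5120, 6144], [1, 2, 4, 8, 16, 32, 4192, 180, 4394, 564, 1066, 6175], [1, 2, 4, 8, 16, 32, 4198, 4241, 4393, 4660, 1066, 6173], [1, 2, 4, 8, 16, 32, 92, 152, 4393, 551, 5155, 2076], [1, 2, 4, 8, 16, 32, 122, 4233, 256, 531, 5129, 6145], [1, 2, 4, 8, 16, 32, 4192, 180, 298, 564, 1066, 6175], [1, 2, 4, 8, 16, 32, 4160, 4224, 256, 4608, 1024, 6144], [1, 2, 4, 8, 16,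 32, 4160, 4224, 4352, 4608, 1024, 2048], [1, 2, 4, 8, 16, 32, 4166, 137, 305, 4642, 5156, 6172], [1, 2, 4, 8, 16, 32, 4160, 172, 306, 4642, 1060, 6174], [32, 4101, 39, 4154, 44, 4129, 2496, 896, 1152, 1024, 1536, 1856], [4129, 4103, 35, 50, 60, 1, 2432, 768, 1408, 1536, 512, 3904], [1, 2, 4, 8, 16, 32, 4160, 128, 256, 512, 1024, 2048], [1, 2, 4, 8, 16, 32, 64, 4224, 256, 512, 1024, 2048], [1, 2, 4, 8, 16, 32, 64, 128, 4352, 512, 1024, 2048], [1, 2, 4, 8, 16, 32, 64, 128, 256, 4608, 1024, 2048], [1, 2, 4, 8, 16, 32, 64, 128, 256, 512, 5120, 2048], [1, 2, 4, 8, 16, 32, 64, 128, 256, 512, 1024, 6144], [4097, 2, 4, 8, 16, 32, 64, 128, 256, 512, 1024, 2048], [1, 4098, 4, 8, 16, 32, 64, 128, 256, 512, 1024, 2048], [1, 2, 4100, 8, 16, 32, 64, 128, 256, 512, 1024, 2048], [1, 2, 4, 4104, 16, 32, 64, 128, 256, 512, 1024, 2048], [1, 2, 4, 8, 4112, 32, 64, 128, 256, 512, 1024, 2048], [1, 2, 4, 8, 16, 4128, 64, 128, 256, 512, 1024, 2048]]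
def LMH : List ℕ := [38013960195648462288272747378371396488465694831, 40589338091982741275235606824868913521483998265, 9522633865753509386660607903174645318811150835, 32851746057066569972125127467158218828855590913, 22837356964946050604904066237891012209724637185, 22837356964946050604904066237891012209724637185, 28926308321236275429908135510377499193854134152, 30508832941670673097705234889871463031288252561, 23696678831820621921922797315513158527110213400, 31368149363944286470307111343410925084501600136, 28926308321236275429908135510377499193854134152, 22837356964946050604904066237891012209724637185, 22837356964946050604904066237891012209724637185, 31256087299935103218723575702311822802967996429, 29628961781591084303951156411723170291655665428, 34256732364485912966359185640958281133308600890, 11422162992700063283064881023252534946136400443, 22837356964946050604904066237891012209724637185, 22837356964946050604904066237891012209724637185,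 22837356964946050604904066237891012209724637185, 22837356964946050604904066237891012209724637185, 22837356964946050604904066237891012209724637185, 22837356964946050604904066237891012209724637185, 22837356964946050604904066237891012209724637185, 22837356964946050604904066237891012209724637185, 22837356964946050604904066237891012209724637185, 22837356964946050604904066237891012209724637185, 22837356964946050604904066237891012209724637185, 22837356964946050604904066237891012209724637185]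
def W5 : List (List ℕ) := [[0, 6, 2, 6, 3, 0, 6, 2, 6, 3, 0, 6, 2, 6, 3], [0, 2, 1, 2, 3, 0, 0, 6], [3, 0, 0, 2, 6, 3, 1, 6, 3, 6], [15], [0, 6, 3, 1, 3, 1, 2, 6, 0]]
def PP : ℕ := 45115918678456994287364222997714827114419446482
def PI : ℕ := 8489024500243332863791259092792775637538664331
def lq13 : List ℕ := [17, 18, 19, 20, 21, 22, 23, 24, 25, 26, 27, 28, 29]

theorem LH_mem (i : ℕ) : eZ (nth 66 LH i) ∈ H0 := by
  have h : ∀ c ∈ taus, eZ c ∈ H0 := fun c hc => V_le_H0 (by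
    rw [eZ_lt ((by decide : ∀ c ∈ taus, c < 52) c hc)]; exact mem_gen hc)
  rcases nth_forall (p := fun c => c ∈ [52, 53, 54, 3] ∨ c ∈ taus ∨ 56 ≤ c) (l := LH) (d := 66) (by decide)
    (by decide) i with h1 | h1 | h1
  · generalize nth 66 LH i = c at h1
    simp only [List.mem_cons, List.not_mem_nil, or_false] at h1
    rcases h1 with rfl | rfl | rfl | rfl
    exacts [g1_mem, hivZ 52 ▸ inv_mem g1_mem, g2_mem, t_mem]
  · exact h _ h1
  · rw [← Nat.add_sub_cancel' h1]; exact mem_cent _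

/-- Letters in the centraliser. -/
noncomputable def eH (i : ℕ) : H0 := ⟨eZ (nth 66 LH i), LH_mem i⟩

theorem ev_eH (w : List ℕ) : ((ev eH w : H0) : G) = ev eZ (mp (nth 66 LH) w) := by
  rw [mp_eq]
  induction w with
  | nil => rfl
  | cons a w ih => rw [ev_cons, List.map_cons, ev_cons, ← ih]; rfl

/-- The check of identities between words in the letters `eH`. -/
noncomputable def chkH (R : List (List ℕ × List ℕ)) : Bool :=
  H29.allL R fun p => Nat.beq (J4.Q.evW (J4.Q.lets lZ) (mp (nth 66 LH) p.1)) (J4.Q.evW (J4.Q.lets lZ) (mp (nth 66 LH) p.2))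

theorem eqH {R : List (List ℕ × List ℕ)} (h : chkH R = true) : ∀ p ∈ R, ev eH p.1 = ev eH p.2 := fun p hp =>
  Subtype.ext (val_inj (by
    rw [ev_eH, ev_eH, hmZ.val_ev Q_ok, hmZ.val_ev Q_ok, H29.beq_true.1 (allL_true.1 h p hp)]))

theorem eqH1 {u v : List ℕ} (h : chkH [(u, v)] = true) : ev eH u = ev eH v := eqH h (u, v) (by simp)

theorem c_RH : (allN 29 fun i => chkH ((List.range 12).map fun k =>
    ([17 + k, i], i :: mw lq13 (nth 0 (nth [] RH i) k)))) = true := by decide +kernel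

theorem eH_ge {i : ℕ} (h : 29 ≤ i) : eH i = ⟨s', s'_mem⟩ := Subtype.ext (by
  show eZ (nth 66 LH i) = s'
  rw [nth_default _ h, eZ66])

theorem exists_co0 : ∃ c : Co H0, c.z = ⟨s', s'_mem⟩ ∧ GF2.Mod P12 c.ρ eH LMH := by
  obtain ⟨h1, h2⟩ := xs (v := val.comp (centralizer {s'}).subtype) (e := fun c => ⟨_, mem_cent c⟩) hmC
    (val_inj.comp Subtype.val_injective) (fun g => Subtype.ext (by
      show g.1 * eZ 66 = eZ 66 * g.1
      rw [eZ66]; exact mem_centralizer_singleton_iff.1 g.2))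
  have h3 : gen eH lq13 = gen (fun c => (⟨_, mem_cent c⟩ : H0)) (10 :: lq) :=
    le_antisymm (gen_le.2 fun i hi => by
      obtain ⟨k, h1, h2⟩ := (by decide : ∀ i ∈ lq13, ∃ k ∈ 10 :: lq, nth 66 LH i = 56 + k) i hi
      exact (Subtype.ext (congrArg eZ h2) : eH i = ⟨_, mem_cent k⟩) ▸ mem_gen h1) (gen_le.2 fun k hk => by
      obtain ⟨i, h1, h2⟩ := (by decide : ∀ k ∈ 10 :: lq, ∃ i ∈ lq13, nth 66 LH i = 56 + k) k hk
      exact (Subtype.ext (congrArg eZ h2) : eH i = ⟨_, mem_cent k⟩) ▸ mem_gen h1)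
  rw [← h3] at h1 h2
  have hz : (⟨_, mem_cent 10⟩ : H0) = ⟨s', s'_mem⟩ := Subtype.ext eZ66
  simp only [hz] at h1
  have k1 : ∀ i < 29, ∀ k < 12, (eH i)⁻¹ * eH (17 + k) * eH i = ev eH (mw lq13 (nth 0 (nth [] RH i) k)) :=
    fun i hi k hk => by
      have := eqH (allN_true.1 c_RH i hi) _ (List.mem_map.2 ⟨k, List.mem_range.2 hk, rfl⟩)
      simp only [ev_cons, ev_nil, mul_one] at this
      rw [mul_assoc, this, inv_mul_cancel_left]
  have k2 : ∀ g : H0, g * ⟨s', s'_mem⟩ = ⟨s', s'_mem⟩ * g := fun g =>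
    Subtype.ext (mem_centralizer_singleton_iff.1 g.2)
  have k3 : ∀ i < 29, (eH i)⁻¹ ∈ normalizer (gen eH lq13 : Set H0) := fun i hi => norm_gen fun a ha => by
    rw [inv_inv]
    rcases (by decide : ∀ a ∈ lq13, a = 29 ∨ ∃ k < 12, a = 17 + k) a ha with rfl | ⟨k, hk, rfl⟩
    · rw [eH_ge le_rfl, mul_assoc, ← k2, inv_mul_cancel_left, ← eH_ge le_rfl]; exact mem_gen ha
    · rw [k1 i hi k hk]; exact ev_mw_mem _ _
  have k4 : (gen eH lq13).Normal := by
    rw [← normalizer_eq_top_iff]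
    set K := normalizer (gen eH lq13 : Set H0)
    have k5 : ∀ i < 29, eH i ∈ K := fun i hi => inv_mem_iff.1 (k3 i hi)
    have k6 : (H0 ⊓ HH).subgroupOf H0 ≤ K := by
      rw [← map_subtype_le_map_subtype, subgroupOf_map_subtype, inf_eq_left.2 inf_le_left, B0_eq]
      refine sup_le (gen_le.2 fun a ha => ?_) (gen_le.2 ?_)
      · obtain ⟨i, hi, h⟩ := (by decide : ∀ a ∈ taus, ∃ i < 29, nth 66 LH i = a ∧ a < 52) a ha
        exact ⟨_, k5 i hi, by rw [← eZ_lt h.2, ← h.1]; rfl⟩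
      · simp only [List.forall_mem_cons]
        exact ⟨⟨_, k5 0 (by decide), rfl⟩, ⟨_, k5 2 (by decide), rfl⟩, by simp⟩
    have k7 := card_dvd_of_le k6
    rw [Nat.card_congr (subgroupOfEquivOfLe inf_le_left).toEquiv, card_B0] at k7
    have k8 : ∀ (w : List ℕ) (p : ℕ), p.Prime → (∀ i ∈ w, i < 29) → ev eH (powW p w) = ev eH [] → ev eH w ≠ 1 →
        p ∣ Nat.card K := fun w p hp h1 h2 h3 => by
      haveI := Fact.mk hp
      have := K.orderOf_dvd_natCard (x := ev eH w) (ev_mem fun i hi => k5 i (h1 i hi))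
      rwa [orderOf_eq_prime (p := p) (x := ev eH w) (by rw [← ev_powW, h2, ev_nil]) h3] at this
    have k9 : ∀ w : List ℕ, ∀ i j, J4.Q.chkNe lZ (mp (nth 66 LH) w) [] i j = true → ev eH w ≠ 1 :=
      fun w i j h h1 => hmZ.ne Q_ok h (by rw [← ev_eH, h1]; rfl)
    have k10 := k8 [6, 0, 2, 5, 3, 7] 11 (by norm_num) (by decide) (eqH1 (by decide +kernel)) (k9 _ 0 2 (by decide +kernel))
    have k11 := k8 [3, 2, 7, 1] 7 (by norm_num) (by decide) (eqH1 (by decide +kernel)) (k9 _ 0 0 (by decide +kernel))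
    refine eq_top_of_le_card _ (Nat.le_of_dvd Nat.card_pos ?_)
    rw [card_H0, show 21799895040 = 283115520 * 7 * 11 from rfl]
    exact Nat.Coprime.mul_dvd_of_dvd_of_dvd (by norm_num) (Nat.Coprime.mul_dvd_of_dvd_of_dvd (by norm_num) k7 k11) k10
  obtain ⟨c, c1, c2⟩ := exists_co h1 h2 k4 k2
  obtain ⟨c', d1, d2, d3⟩ := c.exists_basis (f := (17 + ·)) c2 fun i hi => by
    rcases (by decide : ∀ a ∈ lq13, a = 29 ∨ ∃ k < 12, a = 17 + k) i hi with rfl | h
    · exact Or.inl (by rw [c1, eH_ge le_rfl])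
    · exact Or.inr h
  have k5 := c'.π_mw (q := eH) (l := lq13) (A := [1, 2, 4, 8, 16, 32, 64, 128, 256, 512, 1024, 2048, 0])
    (List.forall₂_iff_get.2 ⟨rfl, fun i h1 h2 => ⟨by rw [d2, c2]; exact mem_gen (List.get_mem _ _), by
      rcases (by decide : ∀ i (h1 : i < 13), (i < 12 ∧ lq13.get ⟨i, h1⟩ = 17 + i ∧
        [1, 2, 4, 8, 16, 32, 64, 128, 256, 512, 1024, 2048, 0].get ⟨i, h1⟩ = 2 ^ i) ∨ (lq13.get ⟨i, h1⟩ = 29 ∧
        [1, 2, 4, 8, 16, 32, 64, 128, 256, 512, 1024, 2048, 0].get ⟨i, h1⟩ = 0)) i h1 with h | h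
      · rw [h.2.1, h.2.2, d3 i h.1]
      · rw [h.1, h.2, eH_ge le_rfl, ← c1, ← d1, c'.π_z, vec_zero]⟩⟩)
  have k6 : ∀ i < 29, c'.ρ (eH i) = mat (pk (nth [] RH i)) := fun i hi => funext fun k => by
    have h4 := c'.π_conj (eH i) (eH (17 + k)) (by
      rw [d2, c2]; exact mem_gen ((by decide : ∀ k < 12, 17 + k ∈ lq13) k k.2))
    rw [k1 i hi k k.2, (k5 _).2, d3 k k.2, vec_two_pow, single_one_vecMul] at h4
    rw [mat_pk, ← vec_mod, ← (by decide +kernel : ∀ i < 29, ∀ k < 12,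
      lin [1, 2, 4, 8, 16, 32, 64, 128, 256, 512, 1024, 2048, 0] (nth 0 (nth [] RH i) k) =
        nth 0 (nth [] RH i) k % 4096) i hi k k.2, h4]; rfl
  refine ⟨c'.map (mat PP) (mat PI) (by rw [← mat_mu, ← mat_one, ← eqM_iff]; decide +kernel), d1.trans c1, fun i => ?_⟩
  rw [Co.map_ρ]
  by_cases hi : i < 29
  · rw [k6 i hi, ← mat_mu, ← mat_mu]
    exact eqM_iff.1 (allN_true.1 (by decide +kernel : (allN 29 fun i =>
      eqM (mu (mu PP (pk (nth [] RH i))) PI) (P12.lets LMH i)) = true) i hi)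
  · rw [eH_ge (not_lt.1 hi), ← c1, ← d1, c'.ρ_Q c'.zQ, mul_one, ← mat_mu, Par.lets, nth_default _ (not_lt.1 hi)]
    exact eqM_iff.1 (by decide +kernel)

/-- The properties of the coordinates in the model. -/
structure Mod0 (c : Std H0) : Prop where
  z : c.z = ⟨s', s'_mem⟩
  hm : GF2.Mod P12 c.ρ eH LMH
  d : c.d = eH 15

theorem exists_mod0 {Γ : Type*} [Group Γ] [Finite Γ] (b : Std Γ) : ∃ c : Std H0, Mod0 c := by
  obtain ⟨c, h1, h2⟩ := exists_co0
  have h3 : GF2.Mod P12 c.ρ (fun i => ev eH (nth [] W5 i)) L5 := fun i => by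
    by_cases hi : i < 5
    · exact (h2.val_ev ok12 _).trans (eqM_iff.1 (allN_true.1 (by decide +kernel : (allN 5 fun i =>
        eqM (P12.evW (P12.lets LMH) (nth [] W5 i)) (P12.lets L5 i)) = true) i hi))
    · simp only [nth_default (l := W5) _ (not_lt.1 hi), Par.lets, nth_default (l := L5) _ (not_lt.1 hi), ev_nil, map_one]
      exact mat_one.symm
  have h4 : Set.range b.ρ ⊆ Set.range c.ρ := by
    rintro _ ⟨g, rfl⟩
    obtain ⟨w, hw⟩ := b.exists_word g
    exact ⟨_, (h3.val_ev ok12 w).trans hw.symm⟩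
  have h5 := b.card_eq ⊤
  rw [card_top, top_inf_eq, b.card_Q, b.card, coe_top, Set.image_univ] at h5
  have h6 := card_ker_range c.ρ
  have h7 : c.Q ≤ c.ρ.toHomUnits.ker := fun a ha => Units.ext (c.ρ_Q ha)
  have h8 := card_le_of_le h7
  have h9 := Set.ncard_le_ncard h4
  rw [card_H0] at h6
  rw [c.card_Q] at h8
  have k1 : (Set.range b.ρ).ncard = 2661120 := by omega
  rw [k1] at h9
  have k2 : Nat.card c.ρ.toHomUnits.ker ≤ 8192 := by
    have := Nat.mul_le_mul_left (Nat.card c.ρ.toHomUnits.ker) h9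
    omega
  have k3 := eq_of_le_of_card_ge h7 (by rw [c.card_Q]; exact k2)
  have k4 : ∀ g, c.ρ g = 1 → g ∈ c.Q := fun g hg => k3.ge (Units.ext hg)
  have k5 := Set.eq_of_subset_of_ncard_le h4 (by
    rw [k1]; rw [le_antisymm k2 h8] at h6; omega)
  refine ⟨⟨c, _, h3, k4, eq_top_iff.2 fun g _ => ?_, card_H0⟩, h1, h2, ?_⟩
  · obtain ⟨g', hg⟩ := k5.ge ⟨g, rfl⟩
    obtain ⟨w, hw⟩ := b.exists_word g'
    obtain ⟨w', h10, h11⟩ : ∃ w', (∀ i ∈ w', i ∈ [0, 1, 2, 3, 4]) ∧
        c.ρ (ev (fun i => ev eH (nth [] W5 i)) w') = c.ρ g := by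
      refine ⟨w.filter (· < 5), fun i hi => (by decide : ∀ i < 5, i ∈ [0, 1, 2, 3, 4]) i (by simpa using (List.mem_filter.1 hi).2), ?_⟩
      rw [← hg, hw, ← show c.ρ _ = mat (ew w) from h3.val_ev ok12 w]
      congr 1
      clear hw
      induction w with
      | nil => rfl
      | cons a w ih =>
        rw [List.filter_cons]
        split_ifs with h
        · rw [ev_cons, ev_cons, ih]
        · rw [ev_cons, ih, nth_default (l := W5) _ (show 5 ≤ a by simpa using h), ev_nil, one_mul]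
    refine (mul_mem_cancel_left (mem_sup_right (inv_mem (ev_mem_gen h10)))).1 (mem_sup_left (k4 _ ?_))
    rw [map_mul, ← h11, c.ρ_inv_mul]
  · have := eqH1 (u := [15, 15, 15, 15]) (v := [15]) (by decide +kernel)
    simpa [Std.d, show nth [] W5 3 = [15] from rfl, pow_succ, mul_assoc] using this

/-- The element of `V` with given coordinates, in the centraliser. -/
noncomputable def vH (m : ℕ) : H0 := ⟨vv m, V_le_H0 (vv_mem m)⟩

theorem vH_xor (m n : ℕ) : vH (m ^^^ n) = vH m * vH n := Subtype.ext (vv_xor m n)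
theorem vH_zero : vH 0 = 1 := Subtype.ext vv_zero

theorem Mod0.Vs {c : Std H0} (h : Mod0 c) : c.Vs = J4.V.subgroupOf H0 := by
  refine (c.eq_Vs (fun a ha => ?_) ?_ (by rw [Nat.card_congr (subgroupOfEquivOfLe V_le_H0).toEquiv, J4.card_V])).symm
  · obtain ⟨m, -, hm⟩ := exists_vv ha
    exact Subtype.ext (by rw [coe_mul, ← show vv m = a.1 from hm, vv_sq]; rfl)
  · rw [← map_subtype_le_map_subtype, subgroupOf_map_subtype, inf_eq_left.2 V_le_H0]
    refine gen_le.2 fun a ha => ?_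
    obtain ⟨i, -, h1⟩ := (by decide +kernel : ∀ a ∈ taus, ∃ i < 29, nth 66 LH i = a ∧ a < 52 ∧ nth one LMH i ∈ TL) a ha
    exact ⟨eH i, c.mem_T.2 ⟨_, h1.2.2, h.hm i⟩, by rw [← eZ_lt h1.2.1, ← h1.1]; rfl⟩

theorem Mod0.mem_Q {c : Std H0} (h : Mod0 c) {i : ℕ} (h1 : 17 ≤ i) : eH i ∈ c.Q :=
  c.ker _ ((h.hm i).trans (by
    by_cases hi : i < 29
    · rw [Par.lets, (by decide +kernel : ∀ i < 29, 17 ≤ i → nth P12.one LMH i = one) i hi h1]; exact mat_one
    · rw [Par.lets, nth_default _ (not_lt.1 hi)]; exact mat_one))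

end H9.R
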