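import Mathlib
import Cfsg.Agent.H9.CG
import Cfsg.Agent.H29.Ext

set_option autoImplicit false
set_option maxRecDepth 100000
set_option Elab.async false
set_option linter.all false

namespace H9.L37A

open H29 H9.MX

noncomputable def n0 : Net := ben 6 [(nat_lit 0xc3ff303c043040),
 (nat_lit 0xfb5550a0050af0),
 (nat_lit 0x22dd9989550204),
 (nat_lit 0x169620a00088),
 (nat_lit 0x45015f6a006e00),
 (nat_lit 0x657a00)]
noncomputable def t0 : List ℕ := [(nat_lit 0xa0080004804100),
 (nat_lit 0x146de77920002),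
 (nat_lit 0x31469a52000002),
 (nat_lit 0x1142c652105800),
 (nat_lit 0x1968c1800000000),
 (nat_lit 0x187cac252100000)]
noncomputable def d0 : ℕ := (nat_lit 0x48302108088290)
noncomputable def n1 : Net := ben 6 [(nat_lit 0xc030030cfccfc),
 (nat_lit 0xa0725f50b00202),
 (nat_lit 0x171bdf88880004),
 (nat_lit 0x101dddd486a0020),
 (nat_lit 0x144015588009c80),
 (nat_lit 0x14cc800)]
noncomputable def t1 : List ℕ := [(nat_lit 0x112aad06b38988),
 (nat_lit 0x1ab160c924888),
 (nat_lit 0x6912d137638888),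
 (nat_lit 0x113ac037610800),
 (nat_lit 0x96283984028820),
 (nat_lit 0xcf93c0a3b10000)]
noncomputable def d1 : ℕ := (nat_lit 0x100040040042404)
noncomputable def n2 : Net := ben 6 [(nat_lit 0xf3f3ff33cf0c30),
 (nat_lit 0xa10f6e1e041b50),
 (nat_lit 0xbb663366440504),
 (nat_lit 0x14266f9bcd0f8),
 (nat_lit 0x11004f4c00df40),
 (nat_lit 0xb54c00)]
noncomputable def t2 : List ℕ := [(nat_lit 0x4b74028829420a),
 (nat_lit 0x4170200d08621a),
 (nat_lit 0x49345088086012),
 (nat_lit 0x4134000809e21a),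
 (nat_lit 0x120087404018000),
 (nat_lit 0x16b380ec8084000)]
noncomputable def d2 : ℕ := (nat_lit 0x94818012501020)
noncomputable def n3 : Net := ben 6 [(nat_lit 0xc30031f0330000),
 (nat_lit 0x551a5a5055a702),
 (nat_lit 0x99553319229904),
 (nat_lit 0x118b82e1e0030),
 (nat_lit 0x61007942006ba0),
 (nat_lit 0x676200)]
noncomputable def t3 : List ℕ := [(nat_lit 0x1d00654694c2510),
 (nat_lit 0x60267478260a00),
 (nat_lit 0x50521049424b00),
 (nat_lit 0x58766079640a00),
 (nat_lit 0x1b4a19458024b00),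
 (nat_lit 0x1ecd7f421664100)]
noncomputable def d3 : ℕ := (nat_lit 0x3080a80810048)
noncomputable def n4 : Net := ben 6 [(nat_lit 0x3fc6333feb011),
 (nat_lit 0x5a289503c90560),
 (nat_lit 0x230411ff960200),
 (nat_lit 0x54546aca00cc),
 (nat_lit 0x80008aae00efb0),
 (nat_lit 0x80fe00)]
noncomputable def t4 : List ℕ := [(nat_lit 0x1148da2c0101200),
 (nat_lit 0x14fb9a898881200),
 (nat_lit 0x14fa90ad0881200),
 (nat_lit 0x147bd0a58980000),
 (nat_lit 0x9000a000000000),
 (nat_lit 0x1dfad0ad0980000)]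
noncomputable def d4 : ℕ := (nat_lit 0x20425425224902)
def ivl : List ℕ := []
def cols : List ℕ := [0, 1, 2, 3, 4]
def hcols : List ℕ := [0, 1, 2, 3]
def G0 : List (List ℕ) := [[0, 1, 3, 0, 1, 3],
 [1, 2, 1, 2, 1, 2],
 [0, 4, 2, 4, 0, 4, 2, 4],
 [1, 4, 1, 4, 1, 4, 1, 4],
 [2, 4, 2, 4, 2, 4, 2, 4],
 [0, 3, 4, 0, 4, 0, 3, 4, 0, 4],
 [0, 3, 4, 2, 4, 0, 3, 4, 2, 4],
 [1, 3, 4, 2, 4, 3, 1, 4, 2, 4],
 [0, 1, 0, 1, 2, 1, 0, 1, 0, 1, 2, 1, 4, 0, 4],
 [0, 1, 2, 3, 1, 4, 2, 3, 2, 3, 2, 4, 2, 3, 4, 1],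
 [0, 2, 0, 3, 1, 2, 0, 3, 2, 1, 2, 3],
 [0, 2, 3, 0, 2, 3, 2, 0, 3, 2, 0, 3],
 [0, 1, 0, 2, 0, 3, 2, 3, 1, 3, 2, 3, 0, 2],
 [0, 1, 2, 0, 1, 2, 1, 0, 2, 1, 0, 2, 1, 2],
 [0, 1, 0, 1, 0, 2, 1, 0, 1, 0, 2, 0, 1, 0, 1, 2]]
def R0 : List (List ℕ) := G0
def w0 : List ℕ := [1, 4, 0, 4, 1, 4, 0, 4]
def R1 : List (List ℕ) := R0 ++ [w0]
def w1 : List ℕ := [0, 4, 0, 1, 0, 1, 2, 4, 0, 4, 2, 1, 0, 1, 0, 4]
def R2 : List (List ℕ) := R1 ++ [w1]
def w2 : List ℕ := [0, 4, 0, 1, 0, 1, 4, 0, 4, 1, 0, 1, 0, 4]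
def R3 : List (List ℕ) := R2 ++ [w2]
def w3 : List ℕ := [2, 4, 0, 4, 0, 4, 0, 2, 4, 3, 4, 1, 0, 1, 2, 3, 1, 0, 3, 0, 3, 1, 3, 0, 3, 1, 2, 3, 1, 4, 3, 4, 2, 0, 4, 3, 4, 1, 3, 2, 1, 3, 0, 3, 1, 3, 0, 3, 0, 1, 3, 2, 1, 0, 1, 4, 3, 4, 2, 0, 4, 0, 4, 2, 4, 3, 4, 1, 0, 1, 2, 3, 1, 2, 0, 1, 3, 0, 3, 1, 3, 0, 3, 0, 2, 1, 3, 0, 3, 1, 3, 0, 3, 1, 3, 0, 3, 0, 2, 1, 3, 0, 3, 0, 1, 3, 2, 1, 0, 1, 4, 3, 4, 2, 4, 0, 4, 0, 2, 4, 3, 4, 1, 0, 1, 2, 3, 1, 0, 3, 0, 3, 1, 3, 0, 3, 1, 2, 3, 1, 4, 3, 4, 0, 2, 4, 3, 4, 1, 3, 2, 1, 3, 0, 3, 1, 3, 0, 3, 0, 1, 3, 2, 1, 0, 1, 4, 3, 4, 2, 0, 4, 0]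
def R4 : List (List ℕ) := R3 ++ [w3]
def w4 : List ℕ := [2, 1, 0, 1, 4, 3, 2, 1, 3, 2, 1, 0, 1, 4, 3, 2, 1, 3]
def R5 : List (List ℕ) := R4 ++ [w4]
def w5 : List ℕ := [1, 0, 3, 1, 2, 3, 0, 2, 3, 2, 1, 3, 0, 1, 2, 0]
def R6 : List (List ℕ) := R5 ++ [w5]
def w6 : List ℕ := [3, 0, 2, 0, 3, 0, 1, 2, 0, 3, 2, 0, 3, 0, 3, 1, 3, 2]
def R7 : List (List ℕ) := R6 ++ [w6]
def w7 : List ℕ := [4, 1, 0, 1, 0, 1, 4, 1, 4, 2, 1, 0, 1, 0, 1, 2, 4, 0, 1]
def R8 : List (List ℕ) := R7 ++ [w7]
theorem hii : ∀ c, ivOf ivl (ivOf ivl c) = c := ivOf_ivOf (by decide +kernel)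
noncomputable def pr0 : List (ℕ × ℕ) := [(58, (nat_lit 0x700000400000100000700000200000700000100000700000100000700000100000700000100000700000200001a00002000000000002100003100000700000200002000000000001900000a00001100000900000700001000000800001000002900000700001000000700004500000700000000002000001000002000000100000000002000000700001500000700000a00000100000900000700000d000007000010000001000007000008))]
theorem p0 : chkProg 3 (ivOf ivl) R0 pr0 [(0, w0)] = true := by decide +kernel
noncomputable def pr1 : List (ℕ × ℕ) := [(135, (nat_lit 0x700000400000100000700000200000700002000000100000700000000000800000000000800001000000200003a0000080000200000d20000c90000d100000700000200000700000200000700000100000700001a0000080000000000080000000000080000100000010000120000a900001100000700002000000000002000000100000700007d00000700000800000700000200001100000000000800001a00007200000000000700000800000200007100000100000700001000000700006d00000700000200000700000200006100000100003900001900003900001900000900001900003900001900003900001900000900001900000700002000005100000700002000001000002000000100000700002500000700002000000100000800001800002000000900000700003d00000700002000000100000000001800002000000900000700003500000700002000000100000000002000000700001500000700001000000800000a00000100000900000700000d000007000010000007000045000007000020000001000007000000))]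
theorem p1 : chkProg 3 (ivOf ivl) R1 pr1 [(0, w1)] = true := by decide +kernel
noncomputable def pr2 : List (ℕ × ℕ) := [(27, (nat_lit 0x7000004000001000007000002000007000020000000000008000000000008000001000008000000000008000000000020000011000007000020000001000000000020000007000015000007000085))]
theorem p2 : chkProg 3 (ivOf ivl) R2 pr2 [(0, w2)] = true := by decide +kernel
noncomputable def pr3 : List (ℕ × ℕ) := [(200, (nat_lit 0x700000400000100000700000200000700002000000100000700000000000100014200000700000100004200000700000100003100000700004a0000010000c100001a00011200001900002a0000070000020000070000a20000010000a10000d10000b90000d10000b90000b10000b90000d10000b90000d10000b90000b10000b900000700004500000700000000000100000700001800009100000700007a00000a0000070000b10000020000070000020000070000610000590000c20000e90000c10000020000070000590000510000ba0000a90000b90000020000070000020000070000420000020000920000290000ba0000b20000b90000070000020000070000020000070000010000070000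010000070000a200000100009200001200009100001a00000700000200000700000000002000000000002000007200000200007100000a00000700002d00000700000200004200008200002000006200006a00006100000700001a00000200005100000100003200001a00001200002a00001a00001800000700002000000100000700001000000700002000001000002000003100000700002000000100000800001800002000000900000700003d00000700002000003100000000001800002000000100000700002000004900000000002000000700000200001800002000000800001100000000000800001000001800000800002000000700002000001000002000000100000700002500000700004d000007000000000011000007000035000007000020000001000007000018000007000020000001000000000020000007000015))]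
theorem p3 : chkProg 3 (ivOf ivl) R3 pr3 [(0, w3)] = true := by decide +kernel
noncomputable def pr4 : List (ℕ × ℕ) := [(39, (nat_lit 0x700000400000100000700000200000700000200000700000100000700000800000000000a00000800002000001800001000002000000200001000002000000800001800000700001000002000001000001800002000000800000100000000000800001000001800000800002000000700004d))]
theorem p4 : chkProg 3 (ivOf ivl) R4 pr4 [(0, w4)] = true := by decide +kernel
noncomputable def pr5 : List (ℕ × ℕ) := [(34, (nat_lit 0x700000400000100000700000000001800000800000200002200000100000a00000700000000000700000100000000001000000a00001000001800001000000000001800001000000700005d000007000008000018000001000000000008000007000005))]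
theorem p5 : chkProg 3 (ivOf ivl) R5 pr5 [(0, w5)] = true := by decide +kernel
noncomputable def pr6 : List (ℕ × ℕ) := [(46, (nat_lit 0x700000400000100000700000000001000000100000000000a00001000001900001100001800000800001800001000000700006500000700001800000800000000001200001800000700000200001000001800001000000000001800001000000000001800001100000000000700001800000800000000000200001800000700000500000700005d))]
theorem p6 : chkProg 3 (ivOf ivl) R6 pr6 [(0, w6)] = true := by decide +kernel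
noncomputable def pr7 : List (ℕ × ℕ) := [(108, (nat_lit 0x700000400000100000700001100000200000700000200000700000200001100000700000000001800002000000000002000000100000000001800002000000700002d00000700000800000100000700006a00004100006900000200007200000800000700002900000200000700000200000700001a00000200002000000000005200004900005100000700000200000a00001000000800000000000800000000000800001000001a00001200003200002900003100000700002000000800002000001900000700000a00002000000000002000003100000700003a00000000002000002900000200000700002000000800002000000800002000000100000700001d00000700004500000700000800000100000700001000000700007d000007000020000007000000000020000010000020000001000000000020000007000015))]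
theorem p7 : chkProg 3 (ivOf ivl) R7 pr7 [(0, w7)] = true := by decide +kernel
theorem der : Derives (ivOf ivl) R0 R8 := ((((((((Derives.refl _ _).prog hii p0).prog hii p1).prog hii p2).prog hii p3).prog hii p4).prog hii p5).prog hii p6).prog hii p7
noncomputable def nl : List Net := [n0, n1, n2, n3, n4]
noncomputable def T : TCData := ⟨57, 57, 6, 6, nth Net.nil nl, ivOf ivl, cols, hcols, R8,
  nth [] [t0, t1, t2, t3, t4], nth 0 [d0, d1, d2, d3, d4]⟩
theorem hn : NetsOK 57 (nth Net.nil nl) := netsOK_of_all (by decide +kernel)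
theorem hiv : IvOK (sg (nth Net.nil nl)) (ivOf ivl) :=
  ivOK_of_chk (k := 6) hn (by decide) (n := 5) (by decide) (by decide) (allN_true.1 (by decide +kernel))
theorem hb : T.Basic := TCData.basic_of_chk hn hiv (by decide +kernel)
theorem hG0 : ∀ r ∈ G0, ev (sg (nth Net.nil nl)) r = 1 :=
  rels_of_chk (k := 6) hn (by decide) hiv (allN_true.1 (by decide +kernel))
noncomputable def s0 : List TCData.Step := [.pts 0 0 0 22 [35],
 .pts 0 0 0 46 [33, 46, 48],
 .pts 2 0 0 2 [17],
 .pts 5 3 0 2 [29],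
 .pts 5 3 0 8 [11],
 .pts 5 3 0 42 [38],
 .pts 6 0 0 3 [26],
 .pts 6 0 0 48 [50],
 .pts 8 13 0 6 [1],
 .pts 13 0 0 28 [52],
 .all 15 2 0,
 .pts 17 0 0 5 [53],
 .pts 17 0 0 9 [14]]
noncomputable def s1 : List TCData.Step := [.all 0 1 0,
 .all 1 0 0,
 .pts 3 0 0 1 [8],
 .pts 3 0 0 3 [34],
 .pts 3 0 0 22 [36],
 .pts 3 0 0 45 [16],
 .pts 7 0 0 48 [50],
 .pts 8 1 0 21 [32],
 .pts 12 8 0 27 [43],
 .pts 13 12 0 34 [40],
 .pts 15 0 0 2 [14],
 .pts 15 0 0 4 [53],
 .pts 15 0 0 23 [17],
 .pts 15 0 0 45 [21],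
 .pts 15 0 0 47 [41],
 .pts 20 0 0 36 [54]]
noncomputable def s2 : List TCData.Step := [.pts 1 1 0 32 [30],
 .pts 2 2 0 2 [24],
 .pts 4 0 0 3 [46],
 .pts 4 0 0 25 [16],
 .pts 4 0 0 48 [34],
 .pts 6 3 0 47 [19, 27],
 .pts 7 3 0 1 [21],
 .pts 7 3 0 20 [36],
 .pts 7 3 0 47 [44],
 .pts 7 8 0 47 [45],
 .pts 7 8 0 48 [53],
 .pts 8 4 0 13 [42],
 .pts 8 4 0 24 [15],
 .pts 10 1 0 18 [37],
 .pts 12 3 0 37 [31],
 .pts 12 6 0 33 [33],
 .pts 14 10 0 15 [1],
 .pts 18 0 0 11 [9],
 .pts 19 0 0 14 [4]]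
noncomputable def s3 : List TCData.Step := [.all 0 2 0,
 .pts 5 1 0 43 [29],
 .pts 5 1 0 51 [34],
 .pts 5 1 0 53 [8],
 .pts 5 1 0 55 [36],
 .pts 6 1 0 42 [37],
 .pts 6 1 0 44 [44],
 .pts 6 1 0 48 [40],
 .pts 6 1 0 50 [53],
 .pts 7 1 0 48 [47],
 .pts 7 1 0 49 [55],
 .pts 7 1 0 52 [14],
 .pts 7 1 0 54 [17],
 .pts 9 7 0 30 [11],
 .pts 10 3 0 26 [45],
 .pts 10 7 0 29 [52],
 .pts 21 0 0 40 [51]]
noncomputable def s4 : List TCData.Step := [.pts 2 1 0 47 [40],
 .pts 3 1 0 45 [30],
 .pts 3 1 0 47 [56],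
 .pts 4 1 0 19 [37],
 .pts 4 1 0 47 [50],
 .pts 4 1 0 48 [55],
 .pts 4 1 0 49 [52],
 .pts 5 4 0 10 [44],
 .pts 5 4 0 46 [45],
 .pts 6 2 0 39 [31],
 .pts 6 2 0 46 [28],
 .pts 6 4 0 7 [12],
 .pts 7 2 0 46 [48],
 .pts 7 7 0 46 [54],
 .pts 7 7 0 47 [43],
 .pts 9 11 0 38 [51],
 .pts 15 1 0 46 [19],
 .pts 22 0 0 41 [20]]
theorem hR0 : ∀ r ∈ R0, ev (sg (nth Net.nil nl)) r = 1 := hG0
theorem col0 : T.ColOK 0 := TCData.colOK_of_chk (U := (T.stepsMask 0 s0 (T.mask0 0))) (V := (T.stepsMask 0 s0 (T.mask0 0))) hb (TCData.cov_stepsMask hb (by decide) s0 _ (T.cov_mask0 0)) (TCData.cov_stepsMask hb (by decide) s0 _ (T.cov_mask0 0)) (by decide +kernel)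
theorem col1 : T.ColOK 1 := TCData.colOK_of_chk (U := (T.stepsMask 1 s1 (T.mask0 1))) (V := (T.stepsMask 1 s1 (T.mask0 1))) hb (TCData.cov_stepsMask hb (by decide) s1 _ (T.cov_mask0 1)) (TCData.cov_stepsMask hb (by decide) s1 _ (T.cov_mask0 1)) (by decide +kernel)
theorem col2 : T.ColOK 2 := TCData.colOK_of_chk (U := (T.stepsMask 2 s2 (T.mask0 2))) (V := (T.stepsMask 2 s2 (T.mask0 2))) hb (TCData.cov_stepsMask hb (by decide) s2 _ (T.cov_mask0 2)) (TCData.cov_stepsMask hb (by decide) s2 _ (T.cov_mask0 2)) (by decide +kernel)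
theorem col3 : T.ColOK 3 := TCData.colOK_of_chk (U := (T.stepsMask 3 s3 (T.mask0 3))) (V := (T.stepsMask 3 s3 (T.mask0 3))) hb (TCData.cov_stepsMask hb (by decide) s3 _ (T.cov_mask0 3)) (TCData.cov_stepsMask hb (by decide) s3 _ (T.cov_mask0 3)) (by decide +kernel)
theorem col4 : T.ColOK 4 := TCData.colOK_of_chk (U := (T.stepsMask 4 s4 (T.mask0 4))) (V := (T.stepsMask 4 s4 (T.mask0 4))) hb (TCData.cov_stepsMask hb (by decide) s4 _ (T.cov_mask0 4)) (TCData.cov_stepsMask hb (by decide) s4 _ (T.cov_mask0 4)) (by decide +kernel)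
theorem ok : T.OK := ⟨hb, TCData.treeOK_of_chk hn (by decide +kernel), (List.forall_mem_cons.2 ⟨col0, (List.forall_mem_cons.2 ⟨col1, (List.forall_mem_cons.2 ⟨col2, (List.forall_mem_cons.2 ⟨col3, (List.forall_mem_cons.2 ⟨col4, (fun _ h => absurd h List.not_mem_nil)⟩)⟩)⟩)⟩)⟩), der _ _ hiv hR0⟩
theorem bd {G : Type} [Group G] {e : ℕ → G} (h1 : IvOK e (ivOf ivl)) (h2 : ∀ r ∈ R0, ev e r = 1)
    {m : ℕ} (h : Bd (gen e hcols) m) : Bd (gen e cols) (57 * m) := ok.bd h1 (der G e h1 h2) h
theorem cm {G : Type} [Group G] {e : ℕ → G} (h1 : IvOK e (ivOf ivl)) (h2 : ∀ r ∈ R0, ev e r = 1)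
    (h3 : gen e cols = ⊤) {ρ : G →* Equiv.Perm ℕ} (h4 : ∀ c, ρ (e c) = sg (nth Net.nil nl) c) :
    CosetModel ρ (gen e hcols) 57 := ok.cosetModel h1 (der G e h1 h2) h3 fun c _ => h4 c

end H9.L37A
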