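import Mathlib
import Cfsg.Agent.H9.CG
import Cfsg.Agent.H29.Ext

set_option autoImplicit false
set_option maxRecDepth 100000
set_option Elab.async false
set_option linter.all false

namespace H9.L37B

open H29 H9.MX

noncomputable def n0 : Net := ben 6 [(nat_lit 0xc0003c333cc),
 (nat_lit 0x72522d7a5722),
 (nat_lit 0x9dc81f8c1504),
 (nat_lit 0x8200c0ac0010),
 (nat_lit 0x1000112d4d7d4),
 (nat_lit 0x112d4)]
noncomputable def t0 : List ℕ := [(nat_lit 0x1012024418006),
 (nat_lit 0x1401060418060),
 (nat_lit 0x1a33845201900),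
 (nat_lit 0x1a30805201900),
 (nat_lit 0xe00000000900),
 (nat_lit 0x1b2e5681000)]
noncomputable def d0 : ℕ := (nat_lit 0x144512100480)
noncomputable def n1 : Net := ben 6 [(nat_lit 0xd30f4330f03c),
 (nat_lit 0x5b5f1ab1512),
 (nat_lit 0x1188d98d2300),
 (nat_lit 0x88c10440125),
 (nat_lit 0x12922fba3),
 (nat_lit 0x2922)]
noncomputable def t1 : List ℕ := [(nat_lit 0x18508a144210),
 (nat_lit 0xb0300080800),
 (nat_lit 0x52120180800),
 (nat_lit 0x1b53925c0000),
 (nat_lit 0x9c0180080000),
 (nat_lit 0x17020000000)]
noncomputable def d1 : ℕ := (nat_lit 0x1608005230144)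
noncomputable def n2 : Net := ben 6 [(nat_lit 0x103cc40c0100),
 (nat_lit 0xa055a005052),
 (nat_lit 0x339911cc0004),
 (nat_lit 0x48cc0c0d0030),
 (nat_lit 0x703afcba),
 (nat_lit 0x703a)]
noncomputable def t2 : List ℕ := [(nat_lit 0x44a100081000),
 (nat_lit 0x134c110081000),
 (nat_lit 0x100a000081000),
 (nat_lit 0x1304010081000),
 (nat_lit 0x740100080000),
 (nat_lit 0x6010001000)]
noncomputable def d2 : ℕ := (nat_lit 0x8b1ac8c46218)
noncomputable def n3 : Net := ben 6 [(nat_lit 0x9c94304c33f1),
 (nat_lit 0x37a57f550150),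
 (nat_lit 0xaa3311550004),
 (nat_lit 0x15b030f00a8),
 (nat_lit 0x1a180f390),
 (nat_lit 0xa180)]
noncomputable def t3 : List ℕ := [(nat_lit 0x739f85b22100),
 (nat_lit 0x14f14dbb40000),
 (nat_lit 0x719c06862700),
 (nat_lit 0x1abc0c1330100),
 (nat_lit 0x1e8c406062100),
 (nat_lit 0x51359b10000)]
noncomputable def d3 : ℕ := (nat_lit 0x2020089822)
def ivl : List ℕ := []
def cols : List ℕ := [0, 1, 2, 3]
def hcols : List ℕ := [0, 1, 2]
def G0 : List (List ℕ) := [[0, 1, 3, 0, 1, 3],
 [1, 2, 1, 2, 1, 2],
 [0, 2, 0, 3, 1, 2, 0, 3, 2, 1, 2, 3],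
 [0, 2, 3, 0, 2, 3, 2, 0, 3, 2, 0, 3],
 [0, 1, 0, 2, 0, 3, 2, 3, 1, 3, 2, 3, 0, 2],
 [0, 1, 2, 0, 1, 2, 1, 0, 2, 1, 0, 2, 1, 2],
 [0, 1, 0, 1, 0, 2, 1, 0, 1, 0, 2, 0, 1, 0, 1, 2]]
def R0 : List (List ℕ) := G0
def w0 : List ℕ := [1, 2, 0, 2, 0, 3, 2, 3, 1, 3, 2, 1, 2, 1, 2, 0, 3, 2, 1, 3, 0, 2, 0, 1, 0, 3, 2, 0, 3, 2, 1, 2, 1, 2, 3, 1, 2, 0]
def R1 : List (List ℕ) := R0 ++ [w0]
def w1 : List ℕ := [3, 1, 2, 1, 0, 2, 1, 0, 2, 1, 2, 3, 0, 2, 0, 3, 2, 3, 1, 3, 0, 3, 0, 2]
def R2 : List (List ℕ) := R1 ++ [w1]
def w2 : List ℕ := [0, 2, 0, 3, 0, 2, 0, 1, 0, 3, 2, 0, 2, 0, 3, 2, 0, 2, 1, 0, 2, 0, 3, 0, 2, 3]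
def R3 : List (List ℕ) := R2 ++ [w2]
def w3 : List ℕ := [3, 2, 0, 3, 0, 2, 3, 0, 2, 1, 0, 3, 0, 1, 2, 1, 2, 0, 1, 0, 1, 0, 2, 1, 0, 1, 0, 2, 1, 0, 2, 1, 0, 1]
def R4 : List (List ℕ) := R3 ++ [w3]
theorem hii : ∀ c, ivOf ivl (ivOf ivl c) = c := ivOf_ivOf (by decide +kernel)
noncomputable def pr0 : List (ℕ × ℕ) := [(119, (nat_lit 0x700000400000100000700000200000700000200000700000100000700001000000800000100001200001000000800001000008900000000000800001000000000000700000200004900000100000800000000001000000000001800001000001800000800001800001000000700000000000700000100000800006a00006100006900000700000200002900000100001000003900000a00003a00001000000700000000000700000200004900000100004200000a00000700000800000700000200001800000000001000001100000000000800000000001000000000001800001000000700001800000000001000001800001000000000001800001000000000001800000100000700001d00000700002500000700000800001000000000001800001000000800001000000a00000100000900001100000700001500000700001800000700000800000000000200001800000700000500000700001800000700002d))]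
theorem p0 : chkProg 2 (ivOf ivl) R0 pr0 [(0, w0)] = true := by decide +kernel
noncomputable def pr1 : List (ℕ × ℕ) := [(151, (nat_lit 0x700000400000100000700000200000700000200000700000100000700000200000700000200001100000700000200000700001000000000001800006900000000001000002200005200001000000700001000000100009100000700000100007a00000700000200000700000800000000001000000000001800001000001800000800001800001000000200003200006200005900006100000700002a00000000001000000200001000000000002200004100002100000700001000000800001000001800000100001200000900000700001500000700000200001800000000001000003900000000000800000000001000000000001800001000000700001800000000001000001800001000000000001800001000000000001800002100000700001800000700000200000a00000800001000001900000700001800000800000000003200000700001800001000000000001800001000000000001800000100000000001000001800000700001d00000700000d00000700002500000700001800000700000000000200001800000800000700000500000700000000001000000800001000000100000000000800001000000000000800001000000800000700002d))]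
theorem p1 : chkProg 2 (ivOf ivl) R1 pr1 [(0, w1)] = true := by decide +kernel
noncomputable def pr2 : List (ℕ × ℕ) := [(124, (nat_lit 0x700000400000100000700000200000700000200000700000100000700001000000100007900000700000100006200000700003100000200001000000000001800005100000000001000001800006a00005900000700004900000000001000001800000200001000000000002900000700000200001100001a00001800001000000800001000001800000700000a00001800000000001000000100000000000800000000001000000000001800001000000700002500000700001800000000001000001800001000000000001800001000000000001800002900000700001500000700000200000a00000800001000001100000700001800000800000000002200000700001800001000000000001800001000000000001800000900000000001000001800000700000d00000700001d00000700000000000200001800000800000700000500000700000000001000000800001000000100000000000800001000000000000800001000000800000700002d))]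
theorem p2 : chkProg 2 (ivOf ivl) R2 pr2 [(0, w2)] = true := by decide +kernel
noncomputable def pr3 : List (ℕ × ℕ) := [(117, (nat_lit 0x700000400000100000700000200000700000200000700001000000000001800007900000000001000001800000000001000000200001000002200000700000200000700000200000700000100000700001000000900002200000700000200000700000200000700000200000a00002a00003a00000800001000004900000700001000000000000800000000000800001000001900000000000800000000000800000000001000000800000700000200000800000000000800001000001100000a00000800000000001000000800000000000800000700000800001800001900000000000800000700001000000000000800000000000800001000000100000000000800000000000800000000001000000800000700003500000700001800000800000000000200000700000500000700001800001000000000001800001000000000001800000100000000001000001800000700001d00000700000d))]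
theorem p3 : chkProg 2 (ivOf ivl) R3 pr3 [(0, w3)] = true := by decide +kernel
theorem der : Derives (ivOf ivl) R0 R4 := ((((Derives.refl _ _).prog hii p0).prog hii p1).prog hii p2).prog hii p3
noncomputable def nl : List Net := [n0, n1, n2, n3]
noncomputable def T : TCData := ⟨49, 49, 6, 6, nth Net.nil nl, ivOf ivl, cols, hcols, R4,
  nth [] [t0, t1, t2, t3], nth 0 [d0, d1, d2, d3]⟩
theorem hn : NetsOK 49 (nth Net.nil nl) := netsOK_of_all (by decide +kernel)
theorem hiv : IvOK (sg (nth Net.nil nl)) (ivOf ivl) :=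
  ivOK_of_chk (k := 6) hn (by decide) (n := 4) (by decide) (by decide) (allN_true.1 (by decide +kernel))
theorem hb : T.Basic := TCData.basic_of_chk hn hiv (by decide +kernel)
theorem hG0 : ∀ r ∈ G0, ev (sg (nth Net.nil nl)) r = 1 :=
  rels_of_chk (k := 6) hn (by decide) hiv (allN_true.1 (by decide +kernel))
noncomputable def s0 : List TCData.Step := [.all 0 0 0,
 .pts 3 0 0 28 [11, 47],
 .pts 3 0 0 45 [26],
 .pts 5 0 0 15 [48],
 .pts 5 0 0 32 [19, 33, 39],
 .pts 5 0 0 38 [36],
 .pts 6 0 0 18 [46],
 .pts 9 0 0 12 [41]]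
noncomputable def s1 : List TCData.Step := [.pts 0 1 0 27 [43],
 .pts 0 1 0 30 [32],
 .pts 1 0 0 1 [4, 14],
 .pts 1 0 0 10 [33],
 .pts 2 4 0 25 [44],
 .pts 2 4 0 36 [37],
 .pts 4 8 0 6 [11],
 .pts 4 8 0 41 [36],
 .pts 5 1 0 9 [25],
 .pts 5 1 0 13 [20],
 .pts 5 1 0 20 [42],
 .pts 5 1 0 46 [40],
 .pts 5 12 0 16 [47],
 .pts 7 0 0 8 [28]]
noncomputable def s2 : List TCData.Step := [.all 1 1 0,
 .pts 6 10 0 19 [32]]
noncomputable def s3 : List TCData.Step := [.all 0 2 0,
 .pts 2 3 0 4 [10],
 .pts 2 3 0 34 [27, 28],
 .pts 2 3 0 40 [16],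
 .pts 2 3 0 47 [40],
 .pts 3 2 0 5 [35],
 .pts 3 2 0 24 [47],
 .pts 4 7 0 43 [20, 21],
 .pts 8 0 0 11 [31],
 .pts 10 0 0 21 [26]]
theorem hR0 : ∀ r ∈ R0, ev (sg (nth Net.nil nl)) r = 1 := hG0
theorem col0 : T.ColOK 0 := TCData.colOK_of_chk (U := (T.stepsMask 0 s0 (T.mask0 0))) (V := (T.stepsMask 0 s0 (T.mask0 0))) hb (TCData.cov_stepsMask hb (by decide) s0 _ (T.cov_mask0 0)) (TCData.cov_stepsMask hb (by decide) s0 _ (T.cov_mask0 0)) (by decide +kernel)
theorem col1 : T.ColOK 1 := TCData.colOK_of_chk (U := (T.stepsMask 1 s1 (T.mask0 1))) (V := (T.stepsMask 1 s1 (T.mask0 1))) hb (TCData.cov_stepsMask hb (by decide) s1 _ (T.cov_mask0 1)) (TCData.cov_stepsMask hb (by decide) s1 _ (T.cov_mask0 1)) (by decide +kernel)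
theorem col2 : T.ColOK 2 := TCData.colOK_of_chk (U := (T.stepsMask 2 s2 (T.mask0 2))) (V := (T.stepsMask 2 s2 (T.mask0 2))) hb (TCData.cov_stepsMask hb (by decide) s2 _ (T.cov_mask0 2)) (TCData.cov_stepsMask hb (by decide) s2 _ (T.cov_mask0 2)) (by decide +kernel)
theorem col3 : T.ColOK 3 := TCData.colOK_of_chk (U := (T.stepsMask 3 s3 (T.mask0 3))) (V := (T.stepsMask 3 s3 (T.mask0 3))) hb (TCData.cov_stepsMask hb (by decide) s3 _ (T.cov_mask0 3)) (TCData.cov_stepsMask hb (by decide) s3 _ (T.cov_mask0 3)) (by decide +kernel)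
theorem ok : T.OK := ⟨hb, TCData.treeOK_of_chk hn (by decide +kernel), (List.forall_mem_cons.2 ⟨col0, (List.forall_mem_cons.2 ⟨col1, (List.forall_mem_cons.2 ⟨col2, (List.forall_mem_cons.2 ⟨col3, (fun _ h => absurd h List.not_mem_nil)⟩)⟩)⟩)⟩), der _ _ hiv hR0⟩
theorem bd {G : Type} [Group G] {e : ℕ → G} (h1 : IvOK e (ivOf ivl)) (h2 : ∀ r ∈ R0, ev e r = 1)
    {m : ℕ} (h : Bd (gen e hcols) m) : Bd (gen e cols) (49 * m) := ok.bd h1 (der G e h1 h2) h
theorem cm {G : Type} [Group G] {e : ℕ → G} (h1 : IvOK e (ivOf ivl)) (h2 : ∀ r ∈ R0, ev e r = 1)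
    (h3 : gen e cols = ⊤) {ρ : G →* Equiv.Perm ℕ} (h4 : ∀ c, ρ (e c) = sg (nth Net.nil nl) c) :
    CosetModel ρ (gen e hcols) 49 := ok.cosetModel h1 (der G e h1 h2) h3 fun c _ => h4 c

end H9.L37B
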