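import Mathlib
import Cfsg.Agent.H9.CG
import Cfsg.Agent.H29.Cert

set_option autoImplicit false
set_option maxRecDepth 100000
set_option Elab.async false
set_option linter.all false

namespace H9.L37N

open H29 H9.MX

noncomputable def n0 : Net := ben 6 [(nat_lit 0x702373f00ccf00),
 (nat_lit 0xba05e55a00fa50),
 (nat_lit 0x880802b3b1104),
 (nat_lit 0x19d2742ea4078),
 (nat_lit 0xd007dc000c640),
 (nat_lit 0xdc100)]
noncomputable def n1 : Net := ben 6 [(nat_lit 0xf0cf3fc0f33f0c),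
 (nat_lit 0xb5f5f7aaf50502),
 (nat_lit 0xced98840055304),
 (nat_lit 0x1018dbdcca8085c),
 (nat_lit 0x18401cd4a00ce48),
 (nat_lit 0x1844a00)]
noncomputable def n2 : Net := ben 6 [(nat_lit 0xcf30cfcc303330),
 (nat_lit 0x55a05ba5b50b50),
 (nat_lit 0xa2083b3b552204),
 (nat_lit 0x17ef6cfcf82aa),
 (nat_lit 0x900976200f712),
 (nat_lit 0xe96200)]
noncomputable def n3 : Net := ben 6 [(nat_lit 0x30b100403c0000),
 (nat_lit 0x50640f81b5a102),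
 (nat_lit 0x77306637aa0004),
 (nat_lit 0x1686870200232),
 (nat_lit 0xc900dfb600be02),
 (nat_lit 0xe9f600)]
noncomputable def n4 : Net := ben 6 [(nat_lit 0x3fc20311173545),
 (nat_lit 0xa0d1970013040),
 (nat_lit 0x45abeb5d2b410c),
 (nat_lit 0x21855bc10058),
 (nat_lit 0x104010c6000cf30),
 (nat_lit 0x144e400)]
def ivl : List ℕ := []
def R0 : List (List ℕ) := [[0, 1, 3, 0, 1, 3],
 [1, 2, 1, 2, 1, 2],
 [0, 4, 2, 4, 0, 4, 2, 4],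
 [1, 4, 1, 4, 1, 4, 1, 4],
 [2, 4, 2, 4, 2, 4, 2, 4],
 [0, 3, 4, 0, 4, 0, 3, 4, 0, 4],
 [0, 3, 4, 2, 4, 0, 3, 4, 2, 4],
 [1, 3, 4, 2, 4, 3, 1, 4, 2, 4],
 [0, 1, 0, 1, 2, 1, 0, 1, 0, 1, 2, 1, 4, 0, 4],
 [0, 1, 2, 3, 1, 4, 2, 3, 2, 3, 2, 4, 2, 3, 4, 1],
 [0, 2, 0, 3, 1, 2, 0, 3, 2, 1, 2, 3],
 [0, 2, 3, 0, 2, 3, 2, 0, 3, 2, 0, 3],
 [0, 1, 0, 2, 0, 3, 2, 3, 1, 3, 2, 3, 0, 2],
 [0, 1, 2, 0, 1, 2, 1, 0, 2, 1, 0, 2, 1, 2],
 [0, 1, 0, 1, 0, 2, 1, 0, 1, 0, 2, 0, 1, 0, 1, 2]]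
noncomputable def nl : List Net := [n0, n1, n2, n3, n4]
theorem hn : NetsOK 57 (nth Net.nil nl) := netsOK_of_all (by decide +kernel)
theorem hiv : IvOK (sg (nth Net.nil nl)) (ivOf ivl) :=
  ivOK_of_chk (k := 6) hn (by decide) (n := 5) (by decide) (by decide) (allN_true.1 (by decide +kernel))
theorem hR0 : ∀ r ∈ R0, ev (sg (nth Net.nil nl)) r = 1 :=
  rels_of_chk (k := 6) hn (by decide) hiv (allN_true.1 (by decide +kernel))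

end H9.L37N
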