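import Mathlib
import Cfsg.Agent.H9.CG
import Cfsg.Agent.H9.L37N
import Cfsg.Agent.H29.Cert

set_option autoImplicit false
set_option maxRecDepth 100000
set_option Elab.async false
set_option linter.all false

namespace H9.L37X

open H29 H9.MX

noncomputable def x5 : Net := ben 6 [(nat_lit 0x702373f00ccf00),
 (nat_lit 0xba05e55a00fa50),
 (nat_lit 0x880802b3b1104),
 (nat_lit 0x19d2742ea4078),
 (nat_lit 0xd007dc000c640),
 (nat_lit 0xdc100)]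
noncomputable def x7 : Net := ben 6 [(nat_lit 0xdc8631474fa35c),
 (nat_lit 0x504f91950155a0),
 (nat_lit 0x2e3e02c679119),
 (nat_lit 0x1f05506bb80a1),
 (nat_lit 0x6001a8b800dd88),
 (nat_lit 0xefd68)]
noncomputable def x9 : Net := ben 6 [(nat_lit 0x1007c0cd04730),
 (nat_lit 0xdff520a77aa00),
 (nat_lit 0xbbceff22550600),
 (nat_lit 0x1014ede8050e46c),
 (nat_lit 0x1800178960036b4),
 (nat_lit 0x115d6b0)]
noncomputable def x11 : Net := ben 6 [(nat_lit 0x1007c0cd04730),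
 (nat_lit 0xdff520a77aa00),
 (nat_lit 0xbbceff22550600),
 (nat_lit 0x1014ede8050e46c),
 (nat_lit 0x1800178960036b4),
 (nat_lit 0x115d6b0)]
noncomputable def x13 : Net := ben 6 [(nat_lit 0xa91a9d2984ff50),
 (nat_lit 0x939a9e3b459a95),
 (nat_lit 0x5326c9060210),
 (nat_lit 0x1e0f00737542c),
 (nat_lit 0xb00d9060085a4),
 (nat_lit 0xe6731)]
noncomputable def x15 : Net := ben 6 [(nat_lit 0x278eea113123e0),
 (nat_lit 0xdeb33bc402e45),
 (nat_lit 0xd74f08f04e9218),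
 (nat_lit 0x100a08dee3ca018),
 (nat_lit 0x9019570008751),
 (nat_lit 0xf87e41)]
noncomputable def x17 : Net := ben 6 [(nat_lit 0xcc0b533c047c00),
 (nat_lit 0xdfa90ba5f47070),
 (nat_lit 0x64998821bb0211),
 (nat_lit 0x101c4c63b39a0a0),
 (nat_lit 0x2300e5a200f4e4),
 (nat_lit 0x18eb225)]
noncomputable def x19 : Net := ben 6 [(nat_lit 0xcc0b533c047c00),
 (nat_lit 0xdfa90ba5f47070),
 (nat_lit 0x64998821bb0211),
 (nat_lit 0x101c4c63b39a0a0),
 (nat_lit 0x2300e5a200f4e4),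
 (nat_lit 0x18eb225)]
noncomputable def x21 : Net := ben 6 [(nat_lit 0xf4b82d6d3c7484),
 (nat_lit 0x980d39749b3c90),
 (nat_lit 0x26ee3041653104),
 (nat_lit 0x1005d19abd410b8),
 (nat_lit 0x87013c8c00b844),
 (nat_lit 0x173add4)]
noncomputable def x23 : Net := ben 6 [(nat_lit 0xfee32a31ad4929),
 (nat_lit 0xf602a0ccfa8560),
 (nat_lit 0x8dc01b563d1400),
 (nat_lit 0x898e00c90afe),
 (nat_lit 0xe6019c06000f71),
 (nat_lit 0x1b0ae5e)]
noncomputable def ly : List Net := [x5, x7, x9, x11, x13, x15, x17, x19, x21, x23]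
noncomputable def nx : ℕ → Net := nth Net.nil (L37N.nl ++ dbl ly)
def ivx : List ℕ := [0, 1, 2, 3, 4, 6, 5, 8, 7, 10, 9, 12, 11, 14, 13, 16, 15, 18, 17, 20, 19, 22, 21, 24, 23]
def defs : List (List ℕ) := [[1, 0, 3, 0, 3, 1, 0, 3, 0, 3, 0],
 [1, 2, 0, 3, 2, 5, 5, 1, 5, 3, 2, 3, 2, 0],
 [7, 7, 6, 8, 5, 5, 8, 6, 6, 8],
 [8, 9, 9, 5, 7, 5, 8, 5, 8, 6, 6],
 [1, 3, 9, 5, 9, 5, 12, 8, 6, 1, 3, 11, 6],
 [3, 2, 5, 2, 9, 3, 5, 5, 10, 13, 5],
 [10, 6, 10, 14, 12, 9, 14, 10, 16, 8, 9, 14, 16, 8],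
 [7, 14, 11, 14, 8, 9, 7, 2, 6, 15, 5, 9, 15, 17],
 [14, 18, 1, 0, 20, 1, 18, 7, 18, 14, 12, 1],
 [1, 3, 2, 3, 4, 2]]
theorem hext : chkExt 5 defs L37N.ivl ivx = true := by decide +kernel
theorem hn : NetsOK 57 nx := netsOK_ext L37N.hn (by decide +kernel)
theorem hiv : IvOK (sg nx) (ivOf ivx) := ivOK_ext L37N.hiv hext rfl rfl
theorem hdef : ∀ r ∈ defRels defs 5, ev (sg nx) r = 1 :=
  rels_of_chk (k := 6) hn (by decide) hiv (allN_true.1 (by decide +kernel))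
theorem ch : chkChain 57 6 nx [(0, 2, 57, [0, 1, 2, 3, 5, 7, 9, 11, 13, 15, 17, 19, 21]),
 (1, 2, 56, [5, 7, 9, 11, 13, 15, 17, 19, 21]),
 (44, 2, 49, [9, 11, 17, 19, 21]),
 (45, 2, 6, [17, 19]),
 (54, 1, 2, [])] [0, 1, 2, 3, 4, 5, 7, 9, 11, 13, 15, 17, 19, 21] = true := by decide +kernel
theorem prim : Prim nx 57 [0, 1, 2, 3] [4] := prim_of_chk (r1 := 3) (r2 := 3) hn (by decide +kernel)
theorem wit : ∀ r ∈ [powW 19 [23], powW 2 [0], powW 3 [23, 0]], ev (sg nx) r = 1 :=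
  rels_of_chk (k := 6) hn (by decide) hiv (allN_true.1 (by decide +kernel))
theorem reach : Reach nx [0, 1, 2, 3, 4] (bit 0) (ones 57) := reach_of_chk (r := 4) hn (by decide +kernel)
theorem map {G : Type} [Group G] {e : ℕ → G} {ρ : G →* Equiv.Perm ℕ}
    (h : ∀ c, ρ (e c) = sg (nth Net.nil L37N.nl) c) : ∀ c, ρ (extE e 5 defs c) = sg nx c :=
  map_ext hext hiv hdef rfl rfl h

end H9.L37X
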