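import Mathlib
import Cfsg.Agent.H9.CG
import Cfsg.Agent.H9.L37
import Cfsg.Agent.H9.L372X
import Cfsg.Agent.H9.CG4
import Cfsg.Agent.H29.ON
import Cfsg.Agent.S0243

set_option autoImplicit false
set_option maxRecDepth 100000
set_option Elab.async false
set_option linter.all false

namespace H9.L37M

open H29 H9.MX

def P : Par := ⟨3, 17, 7, 293, 11, 3, 294, 0, 0,
  (nat_lit 0x7fffc00000000ffff800000001ffff),
  (nat_lit 0x7ffffffffffff),
  (nat_lit 0x3f001f800fc007e003f001f800fc007e003f),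
  (nat_lit 0x700038001c000e000700038001c000e0007),
  (nat_lit 0x10000000000000000100000000000000001)⟩
theorem P_ok : P.OK := Par.ok_of (by decide +kernel)
noncomputable def l : List MM := [⟨(nat_lit 0x60000000000000000100000000000000006), (nat_lit 0x0)⟩,
 ⟨(nat_lit 0x60001000000000000100000000000000006), (nat_lit 0x0)⟩,
 ⟨(nat_lit 0x60000000000004000100000000000000006), (nat_lit 0x0)⟩,
 ⟨(nat_lit 0x60000000000000000100000000000040006), (nat_lit 0x0)⟩,
 ⟨(nat_lit 0x600000000000000000000300000000c0000), (nat_lit 0x0)⟩]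
instance : Fact (Nat.Prime 7) := ⟨by norm_num⟩
def I : Interp P (ZMod 7) (Fin 3) := interpP 7 (Equiv.refl _) P_ok ⟨rfl, rfl, rfl⟩
theorem card : Nat.card (Matrix.ProjectiveSpecialLinearGroup (Fin 3) (ZMod 7)) = 1876896 := by
  have := Cfsg.Agent.S0243.result (F := ZMod 7) (q := 7) (ZMod.card 7) 3 (by norm_num)
  rw [Fin.prod_univ_three] at this
  change 3 * (6 * _) = 33784128 at this
  omega
theorem det (c : ℕ) : (I.mat (P.lets l c)).det = 1 := by
  by_cases hc : c < 5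
  · rw [Matrix.det_fin_three]; revert c; decide +kernel
  · rw [P.lets_default (show l.length ≤ c from not_lt.1 hc), I.mat_one, Matrix.det_one]
theorem iso : Nonempty (PG L37N.nl ≃* Matrix.ProjectiveSpecialLinearGroup (Fin 3) (ZMod 7)) := by
  obtain ⟨e, he⟩ := exists_SL I (l := l) (by decide +kernel) det
  exact L37.equivT (ivOK_map (QuotientGroup.mk' _) (he.ivOK (by decide +kernel)))
    (he.rels_quot (by decide +kernel))
    ⟨[1, 0, 2], by decide, he.quot_ne_one (v := [1]) (i := 2) (j := 1) (by decide +kernel)⟩ card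
theorem top : gen (pe L372.nl) ON2.cols = ⊤ := pe_top (by decide +kernel)
theorem hivS : IvOK (pe L372.nl) (ivOf ON1.ivl) := ivOK_sub _ L372.hiv
theorem hRS : ∀ r ∈ ON2.R0, ev (pe L372.nl) r = 1 := rels_subE _ (rels_sub L372.hR0 (by decide +kernel))
theorem cardS : Nat.card (PG L372.nl) = 3753792 :=
  (card_eq_of_chain L372X.hn ((ON.ubH _ _ hivS hRS).of_top top) (fun c _ => L372X.map (pe_rho _) c) L372X.ch
    (by decide +kernel)).1
theorem hRH : ∀ r ∈ ON2.R0, ev ON.P.e r = 1 := rels_sub ON.hR (by decide +kernel)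
theorem isoH : Nonempty (PG L372.nl ≃* gen ON.P.e ON1.hcols) := by
  have t1 : Tr (pe L372.nl) ON.P.e ON2.cols :=
    tr_of_bd ON.ubH (by decide) hivS ON.hiv0 hRS hRH (by rw [top, Subgroup.card_top, cardS])
  have t2 : Tr ON.P.e (pe L372.nl) ON2.cols :=
    tr_of_bd ON.ubH (by decide) ON.hiv0 hivS hRH hRS ON.cardH.ge
  obtain ⟨f, -⟩ := t1.equiv t2 hivS ON.hiv0 (by decide)
  exact ⟨(Subgroup.topEquiv.symm.trans (MulEquiv.subgroupCongr top.symm)).trans f⟩
def wl : List (List ℕ) := [[3, 4, 2, 3, 1, 2, 3, 4, 2, 3, 2, 3, 4, 1, 0, 5, 1, 4, 3, 2, 3, 2, 4, 3, 2, 1, 3, 2, 4, 3], [0, 5], [4, 0, 1, 0, 5, 1, 0, 4], [1, 2, 3, 4, 3, 2, 0, 1, 0, 5, 1, 0, 2, 3, 4, 3, 2, 1], [4, 1, 2, 3, 1, 2, 3, 4, 0, 1, 0, 5, 1, 0, 4, 3, 2, 1, 3, 2, 1, 4]]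
theorem hn : NetsOK 114 (wNets (nth Net.nil L372.nl) wl) := L372.hn.wNets wl
theorem hivN : IvOK (sg (wNets (nth Net.nil L372.nl) wl)) (ivOf []) :=
  ivOK_of_chk' (k := 7) hn (by decide) (n := 5) (by decide) (fun c hc => by
    rw [sg_wNets, wE, nth_default _ hc]; rfl) (allN_true.1 (by decide +kernel))
theorem iso_sub : Nonempty (PG L37N.nl ≃* gen (wE (pe L372.nl) wl) [0, 1, 2, 3, 4]) :=
  L37.equiv (ivOK_of_faithful (PG_faithful L372.hn) (map_wE (pe_rho _) wl) hivN)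
    (rels_of_faithful (PG_faithful L372.hn) (map_wE (pe_rho _) wl)
      (rels_of_chk (k := 7) hn (by decide) hivN (allN_true.1 (by decide +kernel))))
    ⟨[0], by decide, ev_ne_one_of_chk hn (fun c _ => map_wE (pe_rho _) wl c) (b := 0) (by decide +kernel)⟩
theorem main : ∃ N : Subgroup (gen ON.P.e ON1.hcols), N.index = 2 ∧
    Nonempty (N ≃* Matrix.ProjectiveSpecialLinearGroup (Fin 3) (ZMod 7)) := by
  obtain ⟨f⟩ := iso
  obtain ⟨g⟩ := iso_sub
  obtain ⟨h⟩ := isoH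
  exact index_two_congr (Subgroup.topEquiv.trans h) (exists_index_two le_top (g.symm.trans f) (by norm_num) card
    (by rw [Subgroup.card_top, cardS]))
theorem main' : ∃ N : Subgroup (gen ON.P.e ON1.hcols), N.Normal ∧ N.index = 2 ∧
    Nonempty (N ≃* Matrix.ProjectiveSpecialLinearGroup (Fin 3) (ZMod 7)) := by
  obtain ⟨N, h1, h2⟩ := main
  exact ⟨N, Subgroup.normal_of_index_eq_two h1, h1, h2⟩

end H9.L37M
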