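import Mathlib
import Cfsg.Agent.H27.K3A0

/-!
# The configuration `2^4 A5`: the Sylow subgroup does not have order 256
-/

set_option autoImplicit false
set_option linter.unusedSectionVars false
set_option linter.unusedVariables false

namespace H9.K3A

open Cfsg H24 H26 H26.Gold H23.TC H27.K3A Subgroup

universe u

variable {G : Type u} [Group G] [Finite G] {Q Q' T Z S V O : Subgroup G} {y x v f : G}

theorem cube (hx : orderOf x = 3) : x * x * x = 1 := by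
  have := pow_orderOf_eq_one x
  rwa [hx, pow_succ, sq] at this

theorem not_sq_mem (hO : TwoG O) (hx : orderOf x = 3) : x * x ∉ O := fun h => by
  have h1 : x ∈ O := by
    have e : x = (x * x)⁻¹ := eq_inv_of_mul_eq_one_right (cube hx)
    rw [e]; exact inv_mem h
  have := (hO.piElt h1) 3 Nat.prime_three (hx ▸ dvd_rfl)
  simp at this

/-- the norm of an element under a fixed point free element of order three is trivial -/
theorem norm_one (hV : EA V) (hx : orderOf x = 3) (hn : x ∈ N[V]) (hf : V ⊓ C{x} = ⊥) (hv : v ∈ V) :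
    v * (x * v * x⁻¹) * (x * (x * v * x⁻¹) * x⁻¹) = 1 := by
  have m1 := cN hn hv
  have m2 := cN hn m1
  have e3 : x * (x * (x * v * x⁻¹) * x⁻¹) * x⁻¹ = v := by
    calc x * (x * (x * v * x⁻¹) * x⁻¹) * x⁻¹ = (x * x * x) * v * (x * x * x)⁻¹ := by group
      _ = v := by rw [cube hx]; group
  rw [← mem_bot, ← hf]
  refine ⟨mul_mem (mul_mem hv m1) m2, mem_C1.2 (comm_of_conj ?_).symm⟩
  rw [H23.TC.conj_mul, H23.TC.conj_mul, e3, ← hV.comm hv (mul_mem m1 m2), mul_assoc v]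

theorem le_O (h : Th G) (f1 : f ≠ 1) (f2 : f * f = 1) (hV : EA V) (hx : orderOf x = 3)
    (hn : x ∈ N[V]) (hf : V ⊓ C{x} = ⊥) (xf : x ∈ C{f}) (hv : v ∈ V) (vf : v ∈ C{f}) :
    v ∈ O[{2}, C{f}] := by
  by_contra hO
  have nO := (pcore_nml {2} C{f}).norm xf
  have m1 : x * v * x⁻¹ ∈ V ⊓ C{f} := ⟨cN hn hv, cmem xf vf⟩
  have m2 := cN hn m1.1
  have o1 : x * v * x⁻¹ ∉ O[{2}, C{f}] := fun e => hO ((mem_N.1 nO v).2 e)
  have o2 : x * (x * v * x⁻¹) * x⁻¹ ∉ O[{2}, C{f}] := fun e => o1 ((mem_N.1 nO _).2 e)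
  have := h.ix f f1 f2 (V ⊓ C{f}) (hV.two.inf_left _) inf_le_right v ⟨hv, vf⟩ _ m1 hO o1
  rw [eq_inv_of_mul_eq_one_left (norm_one hV hx hn hf hv)] at this
  exact o2 (inv_mem_iff.1 this)

theorem ix_T (hf : A5c Q T Z y) (hS : TwoG S) (hT : T ≤ S) (hn : S ≤ N[T]) :
    Ix2 T (S ⊓ N[Q]) := fun a ha b hb a1 b1 => by
  by_contra hab
  have h1 := hf.inv a ha.2 (hn ha.1) (hS.piElt ha.1) a1
  have h2 := cN (hn ha.1) (hf.inv b hb.2 (hn hb.1) (hS.piElt hb.1) b1)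
  have h3 := hf.inv _ (mul_mem ha.2 hb.2) (hn (mul_mem ha.1 hb.1))
    (hS.piElt (mul_mem ha.1 hb.1)) hab
  have h4 := mul_mem (mul_mem (inv_mem h3) h2) (cN' hf.yT h1)
  refine not_sq_mem (hS.of_le hT) hf.y3 ?_
  have h5 := cN hf.yT (mul_mem (inv_mem (mul_mem (inv_mem h3) h2)) (cN' hf.yT h1))
  convert h5 using 1
  group

theorem b2 (h : Th G) (hf : Fr Q Q' T Z S y) (hS : ♯S = 256) : False := by
  have tS := hf.syl.pi
  have i1 := ix_T hf.toA5c tS hf.TS hf.SN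
  have i2 : Ix2 N[Q] S := fun a ha b hb a1 b1 => by
    obtain ⟨-, e1⟩ := (hf.nt a (hf.SN ha)).resolve_left fun e => a1 e.1
    obtain ⟨e2, -⟩ := (hf.nt b (hf.SN hb)).resolve_left fun e => b1 e.1
    rw [mem_N_iff_cj, cj_mul, e2, e1]
  have c1 := i1.card_le
  have c2 := i2.card_le
  rw [inf_eq_left.2 (le_inf hf.TS hf.TN), hf.cT] at c1
  rw [inf_comm, hS] at c2
  obtain ⟨σ, hσ, σQ⟩ : ∃ σ ∈ S, σ ∉ N[Q] := by
    by_contra hn
    push Not at hn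
    rw [inf_eq_left.2 hn, hS] at c1
    omega
  obtain ⟨a, ha, aT⟩ : ∃ a ∈ S ⊓ N[Q], a ∉ T := by
    by_contra hn
    push Not at hn
    have := card_le_of_le (show S ⊓ N[Q] ≤ T from hn)
    rw [hf.cT] at this
    omega
  obtain ⟨e1, -⟩ := (hf.nt σ (hf.SN hσ)).resolve_left fun e => σQ e.1
  obtain ⟨f, af, f2⟩ := hf.out a ha.2 (hf.SN ha.1) (tS.piElt ha.1) aT
  have fT : f ∉ T := fun e => aT (inv_mem_iff.1 ((mul_mem_cancel_right e).1 af))
  have fS : f ∈ S := (S.mul_mem_cancel_left (S.inv_mem ha.1)).1 (hf.TS af)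
  have fQ : f ∈ N[Q] := (N[Q].mul_mem_cancel_left (N[Q].inv_mem ha.2)).1 (hf.TN af)
  have f1 : f ≠ 1 := fun e => fT (e ▸ one_mem _)
  have fQ' : f ∈ N[Q'] := by
    rcases hf.nt f (hf.SN fS) with e | e
    · exact e.2
    · rw [← e.1, cj_of_mem_N fQ]; exact fQ
  obtain ⟨x, xQ, xf, x3, hx⟩ := hf.tp f fQ (hf.SN fS) f2 fT
  obtain ⟨w, wQ, wf, w3, -⟩ := hf.tp (σ⁻¹ * f * σ) (by rw [← mem_cj, cj_N, e1]; exact fQ')
    (hf.SN (mul_mem (mul_mem (inv_mem hσ) fS) hσ))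
    (by calc σ⁻¹ * f * σ * (σ⁻¹ * f * σ) = σ⁻¹ * (f * f) * σ := by group
        _ = 1 := by rw [f2]; group)
    (fun e => fT (by simpa [mul_assoc] using cN (hf.SN hσ) e))
  have w1 : σ * w * σ⁻¹ ∈ N[Q'] := by rw [← e1, ← cj_N]; exact conj_mem_cj σ wQ
  have w2 : σ * w * σ⁻¹ ∈ C{f} := by
    have := conj_mem_cj σ wf
    rw [cj_C1] at this
    simpa [mul_assoc] using this
  have w4 : Q' ⊓ C{σ * w * σ⁻¹} = ⊥ := by
    rw [← e1, ← cj_C1, ← cj_inf, hf.fpf w wQ w3, cj_bot]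
  have w5 : orderOf (σ * w * σ⁻¹) = 3 := by rw [← w3]; exact (MulAut.conj σ).orderOf_eq w
  set u := σ * w * σ⁻¹
  obtain ⟨v, hv, vf, vQ⟩ : ∃ v ∈ Q', v ∈ C{f} ∧ v ∉ Q := by
    by_contra hn
    push Not at hn
    have hle : Q' ⊓ C{f} ≤ Z := fun v hv => hf.inf ▸ (⟨hn v hv.1 hv.2, hv.1⟩ : v ∈ Q ⊓ Q')
    obtain ⟨z, hz, zf, z1, z2⟩ := two_cent1 (twoE_of_sq f2) hf.ea'.two fQ'
      (fun e => by have := hf.cQ'; rw [e, card_bot] at this; omega)
    have m0 : z ∈ Q' ⊓ C{f} := ⟨hz, mem_C1.2 zf.symm⟩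
    have m1 : u * z * u⁻¹ ∈ Q' ⊓ C{f} := ⟨cN w1 hz, cmem w2 m0.2⟩
    have ne : z ≠ u * z * u⁻¹ := fun e => z1 (by
      rw [← mem_bot, ← w4]; exact ⟨hz, mem_C1.2 (comm_of_conj e.symm).symm⟩)
    have eZ : Q' ⊓ C{f} = Z := by
      refine eq_of_card_ge hle ?_
      have d := card_dvd hle
      rw [hf.cZ] at d ⊢
      have h3 : 2 < ♯(Q' ⊓ C{f} : Subgroup G) := by
        have := Fintype.ofFinite (Q' ⊓ C{f} : Subgroup G)
        rw [Nat.card_eq_fintype_card]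
        exact Fintype.two_lt_card_iff.2 ⟨1, ⟨z, m0⟩, ⟨_, m1⟩, fun e => z1 (congrArg Subtype.val e).symm,
          fun e => conj_ne z1 u (congrArg Subtype.val e).symm, fun e => ne (congrArg Subtype.val e)⟩
      have := Nat.le_of_dvd (by norm_num) d
      interval_cases ♯(Q' ⊓ C{f} : Subgroup G) <;> omega
    have zZ := hle m0
    have nZ : y ∈ N[Z] := by
      rw [hf.eZ]; exact norm_inf (zpowers_le.2 hf.yQ) (norm_C (zpowers_le.2 hf.yT)) (mem_zpowers y)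
    have y1 := cN nZ zZ
    have y2 := cN nZ y1
    have c1 : f * (y * z * y⁻¹) * f⁻¹ = y * z * y⁻¹ := conj_of_comm (mem_C1.1 (eZ.ge y1).2).symm
    have c2 := (mem_C1.1 (eZ.ge y2).2)
    have t0 := hf.inv f fQ (hf.SN fS) (twoE_of_sq f2) fT
    have c3 := mem_C.1 (hf.eZ.le zZ).2 _ t0
    have c4 : y * (y * z * y⁻¹) * y⁻¹ = z := by
      have : f * (y * (y * z * y⁻¹) * y⁻¹) * f⁻¹ = z := by
        calc f * (y * (y * z * y⁻¹) * y⁻¹) * f⁻¹
            = f * y * f⁻¹ * (f * (y * z * y⁻¹) * f⁻¹) * (f * y * f⁻¹)⁻¹ := by group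
          _ = (f * y * f⁻¹ * y * z) * (f * y * f⁻¹ * y)⁻¹ := by rw [c1]; group
          _ = z := by rw [c3]; group
      rwa [conj_of_comm c2.symm] at this
    refine z1 ?_
    rw [← mem_bot, ← hf.yf]
    refine ⟨hf.QT (hf.eZ.le zZ).1, mem_C1.2 (comm_of_conj ?_).symm⟩
    nth_rewrite 1 [← c4]
    calc y * (y * (y * z * y⁻¹) * y⁻¹) * y⁻¹ = (y * y * y) * z * (y * y * y)⁻¹ := by group
      _ = z := by rw [cube hf.y3]; group
  have vO := le_O h f1 f2 hf.ea' w5 w1 w4 w2 hv vf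
  have q := hx v (hf.QT' hv) vf vQ
  have qO := le_O h f1 f2 hf.ea x3 xQ (hf.fpf x xQ x3) xf q (mul_mem (cmem vf xf) xf)
  refine not_sq_mem (pcore_pi {2} C{f}) x3 ?_
  have := mul_mem (mul_mem (cN ((pcore_nml {2} C{f}).norm xf) vO) (inv_mem vO)) qO
  convert this using 1
  group

end H9.K3A
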