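import Mathlib
import Cfsg.Agent.H9.K3B2

/-!
# Automorphisms of `A5` and the map of a normalizer to `S5`
-/

set_option autoImplicit false
set_option linter.unusedSectionVars false
set_option linter.unusedVariables false
set_option maxRecDepth 100000
set_option synthInstance.maxSize 4000
set_option synthInstance.maxHeartbeats 200000

namespace H9.K3A

open Cfsg H24 H26 H26.Gold H23.TC H27.K3A Subgroup Equiv

universe u

theorem d_fix : ∀ v : Perm (Fin 5), Perm.sign v = 1 → v * v = 1 → v ≠ 1 →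
    ∃ b, ∀ g : Perm (Fin 5), g * v * g⁻¹ * v = v * (g * v * g⁻¹) → g b = b := by decide +kernel

theorem d_inv : ∀ a : Fin 5, ∃ v : Perm (Fin 5), Perm.sign v = 1 ∧ v * v = 1 ∧ v ≠ 1 ∧
    ∀ g : Perm (Fin 5), g a = a → g * v * g⁻¹ * v = v * (g * v * g⁻¹) := by decide +kernel

theorem d_stab : ∀ a b : Fin 5, (∀ g : Perm (Fin 5), Perm.sign g = 1 → g a = a → g b = b) →
    a = b := by decide +kernel

theorem d_cent : ∀ σ : Perm (Fin 5), (∀ g : Perm (Fin 5), Perm.sign g = 1 → σ * g * σ⁻¹ = g) →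
    σ = 1 := by decide +kernel

theorem exists_pt5 (φ : MulAut (alternatingGroup (Fin 5))) (a : Fin 5) :
    ∃ b, ∀ g : alternatingGroup (Fin 5), g.1 a = a → (φ g).1 b = b := by
  obtain ⟨v, h1, h2, h3, h4⟩ := d_inv a
  let w : alternatingGroup (Fin 5) := ⟨v, Perm.mem_alternatingGroup.2 h1⟩
  obtain ⟨b, hb⟩ := d_fix (φ w).1 (Perm.mem_alternatingGroup.1 (φ w).2)
    (by rw [← coe_mul, ← map_mul, show w * w = 1 from Subtype.ext h2, map_one, coe_one])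
    fun e => h3 (congrArg Subtype.val (φ.injective ((Subtype.ext e).trans (map_one φ).symm)))
  refine ⟨b, fun g hg => hb _ ?_⟩
  have e : g * w * g⁻¹ * w = w * (g * w * g⁻¹) := Subtype.ext (h4 g.1 hg)
  simpa using congrArg (fun t => (φ t).1) e

/-- every automorphism of `A5` is induced by `S5` -/
theorem aut5 (φ : MulAut (alternatingGroup (Fin 5))) :
    ∃ σ : Perm (Fin 5), ∀ g : alternatingGroup (Fin 5), (φ g).1 = σ * g.1 * σ⁻¹ := by
  have hs : ∀ a b : Fin 5, (∀ g : alternatingGroup (Fin 5), g.1 a = a → g.1 b = b) → a = b :=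
    fun a b h => d_stab a b fun g hg => h ⟨g, Perm.mem_alternatingGroup.2 hg⟩
  choose σ hσ using exists_pt5 φ
  choose τ hτ using exists_pt5 φ⁻¹
  have h1 : ∀ a b, (∀ g : alternatingGroup (Fin 5), g.1 a = a → (φ g).1 b = b) → a = τ b :=
    fun a b h => hs _ _ fun g hg => by simpa using hτ b _ (h g hg)
  have h2 : ∀ b, σ (τ b) = b := fun b =>
    (hs _ _ fun g hg => by simpa using hσ _ _ (hτ b g hg)).symm
  refine ⟨⟨σ, τ, fun a => (h1 a _ (hσ a)).symm, h2⟩, fun g => Equiv.ext fun b => Eq.symm ?_⟩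
  change σ (g.1 (τ b)) = (φ g).1 b
  rw [h1 (g.1 (τ b)) ((φ g).1 b) fun k hk => ?_, h2]
  have h3 := hσ (τ b) (g⁻¹ * k * g) (by
    change g.1⁻¹ (k.1 (g.1 (τ b))) = _
    rw [hk]; simp)
  rw [h2, map_mul, map_mul, map_inv] at h3
  change (φ g).1⁻¹ ((φ k).1 ((φ g).1 b)) = b at h3
  exact Perm.inv_eq_iff_eq.1 h3

variable {G : Type u} [Group G] [Finite G] {Q L M : Subgroup G}

/-- a map onto `A5` extends to a map of a normalizing group to `S5` -/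
theorem exists_ext (hL : L ⊴ M) (hQ : M ≤ N[Q]) (φ : L →* alternatingGroup (Fin 5))
    (hφ : Function.Surjective φ) (hk : φ.ker = Q.subgroupOf L) :
    ∃ ψ : M →* Perm (Fin 5), (∀ l : L, ψ ⟨l, hL.le l.2⟩ = φ l) ∧
      ∀ m : M, ψ m = 1 → ∀ l ∈ L, m * l * (m : G)⁻¹ * l⁻¹ ∈ Q := by
  let c : M → L →* L := fun m => MonoidHom.mk' (fun l => ⟨m * l * (m : G)⁻¹, cN (hL.norm m.2) l.2⟩)
    fun a b => Subtype.ext (H23.TC.conj_mul _ _ _)
  have h1 : ∀ m : M, ∃ σ : Perm (Fin 5), ∀ l : L, (φ (c m l)).1 = σ * (φ l).1 * σ⁻¹ := fun m => by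
    let α := φ.liftOfSurjective hφ ⟨φ.comp (c m), fun l hl => by
      rw [hk] at hl
      rw [MonoidHom.mem_ker, MonoidHom.comp_apply, ← MonoidHom.mem_ker, hk]
      exact cN (hQ m.2) hl⟩
    have hα : ∀ l, α (φ l) = φ (c m l) := fun l => φ.liftOfRightInverse_comp_apply _ _ _ l
    have hs : Function.Surjective α := fun a => by
      obtain ⟨l, rfl⟩ := hφ a
      refine ⟨φ (c m⁻¹ l), (hα _).trans (congrArg φ (Subtype.ext ?_))⟩
      change m.1 * (m.1⁻¹ * l * m.1⁻¹⁻¹) * m.1⁻¹ = l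
      group
    obtain ⟨σ, hσ⟩ := aut5 (MulEquiv.ofBijective α hs.bijective_of_finite)
    exact ⟨σ, fun l => (congrArg Subtype.val (hα l)).symm.trans (hσ (φ l))⟩
  choose σ hσ using h1
  have h2 : ∀ (m : M) (τ : Perm (Fin 5)), (∀ l : L, (φ (c m l)).1 = τ * (φ l).1 * τ⁻¹) →
      σ m = τ := fun m τ h => by
    refine (inv_mul_eq_one.1 (d_cent _ fun g hg => ?_)).symm
    obtain ⟨l, hl⟩ := hφ ⟨g, Perm.mem_alternatingGroup.2 hg⟩
    have e := (hσ m l).symm.trans (h l)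
    rw [hl] at e
    calc τ⁻¹ * σ m * g * (τ⁻¹ * σ m)⁻¹ = τ⁻¹ * (σ m * g * (σ m)⁻¹) * τ := by group
      _ = g := by rw [e]; group
  refine ⟨MonoidHom.mk' σ fun a b => h2 _ _ fun l => ?_, fun l => h2 _ _ fun k => ?_,
    fun m hm l hl => ?_⟩
  · rw [show c (a * b) l = c a (c b l) from Subtype.ext (by
      change a.1 * b.1 * l * (a.1 * b.1)⁻¹ = a.1 * (b.1 * l * b.1⁻¹) * a.1⁻¹
      group), hσ, hσ]
    group
  · rw [show c ⟨l, hL.le l.2⟩ k = l * k * l⁻¹ from rfl, map_mul, map_mul, map_inv]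
    rfl
  · have e := hσ m ⟨l, hl⟩
    rw [show σ m = 1 from hm, one_mul, inv_one, mul_one] at e
    have : c m ⟨l, hl⟩ * (⟨l, hl⟩ : L)⁻¹ ∈ φ.ker := by
      rw [MonoidHom.mem_ker, map_mul, map_inv, Subtype.ext e, mul_inv_cancel]
    rw [hk] at this
    exact this

theorem exists_hom' (QL : Q ≤ L) (hL : L ⊴ M) (hQ : M ≤ N[Q]) (φ : L →* alternatingGroup (Fin 5))
    (hφ : Function.Surjective φ) (hk : φ.ker = Q.subgroupOf L)
    (hC : ∀ g ∈ M, (∀ l ∈ L, g * l * g⁻¹ * l⁻¹ ∈ Q) → g ∈ Q) :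
    ∃ ψ : M →* Perm (Fin 5), ψ.ker = Q.subgroupOf M ∧
      (∀ m : M, m.1 ∈ L ↔ Perm.sign (ψ m) = 1) ∧ (∀ l : L, ψ ⟨l, hL.le l.2⟩ = φ l) ∧
      ∀ σ : Perm (Fin 5), Perm.sign σ = 1 → ∃ m : M, m.1 ∈ L ∧ ψ m = σ := by
  obtain ⟨ψ, h1, h2⟩ := exists_ext hL hQ φ hφ hk
  have h3 : ψ.ker = Q.subgroupOf M := by
    refine le_antisymm (fun m hm => hC _ m.2 (h2 m hm)) fun m hm => ?_
    have : (⟨m.1, QL hm⟩ : L) ∈ φ.ker := by rw [hk]; exact hm
    exact (h1 ⟨m.1, QL hm⟩).trans (congrArg Subtype.val this)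
  have h4 : ∀ σ : Perm (Fin 5), Perm.sign σ = 1 → ∃ m : M, m.1 ∈ L ∧ ψ m = σ := fun σ hσ =>
    let ⟨l, hl⟩ := hφ ⟨σ, Perm.mem_alternatingGroup.2 hσ⟩
    ⟨⟨l, hL.le l.2⟩, l.2, (h1 l).trans (congrArg Subtype.val hl)⟩
  refine ⟨ψ, h3, fun m => ⟨fun hm => ?_, fun hm => ?_⟩, h1, h4⟩
  · rw [show ψ m = _ from h1 ⟨m.1, hm⟩]
    exact Perm.mem_alternatingGroup.1 (φ _).2
  · obtain ⟨l, hl, e⟩ := h4 _ hm
    have : l⁻¹ * m ∈ ψ.ker := by rw [MonoidHom.mem_ker, map_mul, map_inv, e, inv_mul_cancel]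
    rw [h3] at this
    exact (L.mul_mem_cancel_left (L.inv_mem hl)).1 (QL this)

theorem exists_hom (QL : Q ≤ L) (hL : L ⊴ M) (hQ : Q ⊴ M) (φ : L →* alternatingGroup (Fin 5))
    (hφ : Function.Surjective φ) (hk : φ.ker = Q.subgroupOf L)
    (hC : ∀ g ∈ M, (∀ l ∈ L, g * l * g⁻¹ * l⁻¹ ∈ Q) → g ∈ Q) :
    ∃ ψ : M →* Perm (Fin 5), ψ.ker = Q.subgroupOf M ∧
      (L.subgroupOf M).map ψ = alternatingGroup (Fin 5) := by
  obtain ⟨ψ, h1, h2, -, h3⟩ := exists_hom' QL hL hQ.norm φ hφ hk hC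
  refine ⟨ψ, h1, le_antisymm ?_ fun σ hσ => ?_⟩
  · rintro _ ⟨m, hm, rfl⟩
    exact Perm.mem_alternatingGroup.2 ((h2 m).1 hm)
  · obtain ⟨m, hm, e⟩ := h3 σ (Perm.mem_alternatingGroup.1 hσ)
    exact ⟨m, hm, e⟩

end H9.K3A
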