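import Mathlib
import Cfsg.Agent.H9.K3E
import Cfsg.Agent.H21.K3H
import Cfsg.Agent.H15.K317
import Cfsg.Agent.H2.K3E0

/-!
# The frame of the configuration `2^4 A5`
-/

set_option autoImplicit false
set_option linter.unusedSectionVars false
set_option linter.unusedVariables false
set_option maxRecDepth 100000
set_option synthInstance.maxSize 4000
set_option synthInstance.maxHeartbeats 200000

namespace H9.K3A

open Cfsg H24 H26 H26.Gold H23.TC H27.K3A Subgroup Equiv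

universe u

namespace K3Fx

/-- membership in the four-group on the first four points -/
abbrev P4 (σ : Perm (Fin 5)) : Prop := σ 4 = 4 ∧ Perm.sign σ = 1 ∧ σ * σ = 1

def v1 : Perm (Fin 5) := swap 0 1 * swap 2 3
def v2 : Perm (Fin 5) := swap 0 2 * swap 1 3
def c3 : Perm (Fin 5) := swap 0 1 * swap 1 2
def c5 : Perm (Fin 5) := swap 0 1 * swap 1 2 * swap 2 3 * swap 3 4

theorem d_mul : ∀ σ τ : Perm (Fin 5), P4 σ → P4 τ → P4 (σ * τ) := by decide +kernel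
theorem d_v : P4 v1 ∧ P4 v2 ∧ Perm.sign c3 = 1 ∧ c3 ^ 3 = 1 ∧ c3 ≠ 1 ∧ Perm.sign c5 = 1 ∧
    c5 ^ 5 = 1 ∧ c5 ≠ 1 := by decide +kernel
theorem d_c : ∀ σ : Perm (Fin 5), Perm.sign σ = 1 → σ * v1 * σ⁻¹ * v1⁻¹ = 1 →
    σ * v2 * σ⁻¹ * v2⁻¹ = 1 → P4 σ := by decide +kernel
theorem d_y : ∀ σ : Perm (Fin 5), P4 σ → P4 (c3 * σ * c3⁻¹) ∧ (σ * c3 = c3 * σ → σ = 1) := by
  decide +kernel
theorem d_60 : ∀ σ : Perm (Fin 5), σ ^ 60 = 1 := by decide +kernel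
theorem d_n : ∀ σ : Perm (Fin 5), P4 (σ * v1 * σ⁻¹) → P4 (σ * v2 * σ⁻¹) → σ ^ 4 = 1 → ¬ P4 σ →
    P4 (σ * c3 * σ⁻¹ * c3) ∧ ∃ v, P4 v ∧ σ * v * (σ * v) = 1 ∧ ∃ d : Perm (Fin 5),
      Perm.sign d = 1 ∧ d ^ 3 = 1 ∧ d ≠ 1 ∧ σ * v * d = d * (σ * v) := by decide +kernel
theorem d_t : ∀ σ : Perm (Fin 5), P4 (σ * v1 * σ⁻¹) → P4 (σ * v2 * σ⁻¹) → σ * σ = 1 → ¬ P4 σ →
    (∃ d : Perm (Fin 5), Perm.sign d = 1 ∧ d ^ 3 = 1 ∧ d ≠ 1 ∧ σ * d = d * σ ∧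
      ∀ v, P4 v → v * σ = σ * v → v ≠ 1 → v * d * v⁻¹ * d = 1) ∧
    ∃ h : Perm (Fin 5), Perm.sign h = 1 ∧ h ^ 3 = 1 ∧ h ≠ 1 ∧ h * (σ * h * σ⁻¹) = 1 := by
  decide +kernel
theorem d_5 : ∀ σ : Perm (Fin 5), σ ^ 5 = 1 → σ ≠ 1 → ∃ τ : Perm (Fin 5), Perm.sign τ = 1 ∧
    (σ * (τ * σ * τ⁻¹)) ^ 3 = 1 ∧ σ * (τ * σ * τ⁻¹) ≠ 1 := by decide +kernel

/-- the four-group -/
def V4 : Subgroup (Perm (Fin 5)) where
  carrier := {σ | P4 σ}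
  one_mem' := by decide
  mul_mem' := fun {a b} ha hb => d_mul a b ha hb
  inv_mem' := fun {a} ha => by
    rw [inv_eq_of_mul_eq_one_right ha.2.2]; exact ha

variable {G : Type u} [Group G] [Finite G] {Q : Subgroup G} {ψ : ↥N[Q] →* Perm (Fin 5)}

theorem three (hV : EA Q) {y x : G} (n : y ∈ N[Q]) (o : y ^ 3 = 1) (f : Q ⊓ C{y} = ⊥)
    (hv : x ∈ Q) : y * x * y⁻¹ * (y⁻¹ * x * y) = x := by
  have m1 := H24.conj_mem n hv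
  have m2 := conj_mem' n hv
  have e : y * y = y⁻¹ := eq_inv_of_mul_eq_one_left (by rw [← pow_three', o])
  have : y * x * y⁻¹ * (y⁻¹ * x * y) * x ∈ Q ⊓ C{y} := by
    refine ⟨Q.mul_mem (Q.mul_mem m1 m2) hv, mem_C1_comm.1 (mem_C1_iff_conj.2 ?_)⟩
    calc y * (y * x * y⁻¹ * (y⁻¹ * x * y) * x) * y⁻¹
        = (y * y) * x * (y * y)⁻¹ * (x * (y * x * y⁻¹)) := by group
      _ = y⁻¹ * x * y * (x * (y * x * y⁻¹)) := by rw [e, inv_inv]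
      _ = y⁻¹ * x * y * x * (y * x * y⁻¹) := by group
      _ = y * x * y⁻¹ * (y⁻¹ * x * y * x) := (hV.comm m1 (Q.mul_mem m2 hv)).symm
      _ = _ := by group
  rw [f, mem_bot] at this
  rw [eq_inv_of_mul_eq_one_left this, hV.inv hv]

theorem lift (hQ : EA Q) (mk : ∀ w : N[Q], ψ w = 1 ↔ (w : G) ∈ Q) {p : ℕ} (hp : p.Prime)
    (h2 : p ≠ 2) (w : N[Q]) (e1 : ψ w ^ p = 1) (e2 : ψ w ≠ 1) :
    ∃ y : N[Q], (y : G) ∈ zpowers (w : G) ∧ orderOf (y : G) = p ∧ ψ y = ψ w := by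
  obtain ⟨y, hy, o, hq⟩ := H15.K3.lift_ord (w := (w : G)) hp h2 hQ.two
    ((mk (w ^ p)).1 (by rw [map_pow, e1])) (fun e => e2 ((mk w).2 e))
  have hyL : y ∈ N[Q] := zpowers_le.2 w.2 hy
  refine ⟨⟨y, hyL⟩, hy, o, ?_⟩
  have := (mk (w⁻¹ * ⟨y, hyL⟩)).2 hq
  rw [map_mul, map_inv, inv_mul_eq_one] at this
  exact this.symm

theorem cen (mk : ∀ w : N[Q], ψ w = 1 ↔ (w : G) ∈ Q) (g x : N[Q]) (f : Q ⊓ C{(x : G)} = ⊥)
    (hc : ψ g * ψ x = ψ x * ψ g) (h2 : ψ g * ψ g = 1) :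
    ∃ k ∈ Q, k⁻¹ * g ∈ C{(x : G)} ∧ k⁻¹ * g * (k⁻¹ * g) = 1 := by
  have h1 : (g : G) * x * (g : G)⁻¹ * (x : G)⁻¹ ∈ Q := (mk (g * x * g⁻¹ * x⁻¹)).1 (by
    simp only [map_mul, map_inv]; rw [hc]; group)
  obtain ⟨k, hk, e⟩ := exists_conj_of_fpf x.2 f h1
  have h3 : k⁻¹ * g ∈ C{(x : G)} := mem_C1_iff_conj.2 (by
    calc k⁻¹ * g * x * (k⁻¹ * g)⁻¹ = k⁻¹ * ((g : G) * x * (g : G)⁻¹ * (x : G)⁻¹ * x) * k := by group
      _ = x := by rw [← e]; group)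
  refine ⟨k, hk, h3, ?_⟩
  rw [← mem_bot, ← f]
  refine ⟨?_, mul_mem h3 h3⟩
  have h4 : (g : G) * g ∈ Q := (mk (g * g)).1 (by rw [map_mul, h2])
  have := Q.mul_mem (Q.mul_mem (Q.inv_mem hk) (H24.conj_mem g.2 (Q.inv_mem hk))) h4
  rwa [show k⁻¹ * ((g : G) * k⁻¹ * (g : G)⁻¹) * (g * g) = k⁻¹ * g * (k⁻¹ * g) by group] at this

end K3Fx

open K3Fx

theorem frame {G : Type u} [Group G] [Finite G] {Q L : Subgroup G} (hQ : EA Q) (cQ : ♯Q = 16)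
    (QL : Q ≤ L) (hL : L ⊴ N[Q]) (φ : L →* alternatingGroup (Fin 5)) (hφ : Function.Surjective φ)
    (hk : φ.ker = Q.subgroupOf L)
    (hC : ∀ g ∈ N[Q], (∀ l ∈ L, g * l * g⁻¹ * l⁻¹ ∈ Q) → g ∈ Q)
    (fpf : ∀ x ∈ N[Q], orderOf x = 3 → Q ⊓ C{x} = ⊥) : ∃ T Z y, A5c Q T Z y := by
  obtain ⟨ψ, hker, hsg, -, hsur⟩ := exists_hom' QL hL le_rfl φ hφ hk hC
  have mk : ∀ w : N[Q], ψ w = 1 ↔ (w : G) ∈ Q := fun w => by
    rw [← MonoidHom.mem_ker, hker, mem_subgroupOf]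
  obtain ⟨p1, p2, s3, o3, n3, s5, o5, n5⟩ := d_v
  obtain ⟨T, mT⟩ : ∃ T : Subgroup G, ∀ g : N[Q], (g : G) ∈ T ↔ P4 (ψ g) :=
    ⟨(V4.comap ψ).map (N[Q]).subtype, fun g => mem_map_iff_mem (N[Q]).subtype_injective⟩
  replace mT : ∃ T : Subgroup G, T ≤ N[Q] ∧ ∀ g : N[Q], (g : G) ∈ T ↔ P4 (ψ g) :=
    ⟨T ⊓ N[Q], inf_le_right, fun g => by rw [mem_inf, mT]; exact and_iff_left g.2⟩
  clear T
  obtain ⟨T, TN, mT⟩ := mT
  have TL : T ≤ L := fun s hs => (hsg ⟨s, TN hs⟩).2 ((mT ⟨s, TN hs⟩).1 hs).2.1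
  have T2 : TwoG T := isPi_iff_piElt.2 fun s hs => by
    have h1 : s * s ∈ Q := (mk (⟨s, TN hs⟩ * ⟨s, TN hs⟩)).1 (by
      rw [map_mul]; exact ((mT ⟨s, TN hs⟩).1 hs).2.2)
    refine piElt_of_pow_eq_one (n := 2 ^ 2) ((piNat_self Nat.prime_two).pow 2) ?_
    rw [show s ^ 2 ^ 2 = s * s * (s * s) by norm_num; rw [pow_succ, pow_three']; group]
    exact hQ.sq h1
  obtain ⟨T0, hT0, TT0⟩ := Sylow_superset Nat.prime_two T2 TL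
  obtain ⟨QT, cT, cZ, cm, hs, -⟩ := (H21.K3H.higman5 ⟨QL, hL.le⟩ hQ.two φ hφ hk
    fun y hy => fpf y (hL.le hy)).2 T0 hT0
  obtain ⟨w1, -, e1⟩ := hsur v1 p1.2.1
  obtain ⟨w2, -, e2⟩ := hsur v2 p2.2.1
  have w1T : (w1 : G) ∈ T := (mT w1).2 (e1 ▸ p1)
  have w2T : (w2 : G) ∈ T := (mT w2).2 (e2 ▸ p2)
  have cm' : ∀ s ∈ T0, ∀ t ∈ T0, s * t * s⁻¹ * t⁻¹ ∈ Q ⊓ C[T0] := fun s hs t ht =>
    cm (commutator_mem_commutator hs ht)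
  obtain rfl : T = T0 := le_antisymm TT0 fun s hs => by
    have n : s ∈ N[Q] := hL.le (hT0.le hs)
    refine (mT ⟨s, n⟩).2 (d_c _ ((hsg ⟨s, n⟩).1 (hT0.le hs)) ?_ ?_)
    · rw [← e1, ← map_inv, ← map_inv, ← map_mul, ← map_mul, ← map_mul, mk]
      exact (cm' s hs _ (TT0 w1T)).1
    · rw [← e2, ← map_inv, ← map_inv, ← map_mul, ← map_mul, ← map_mul, mk]
      exact (cm' s hs _ (TT0 w2T)).1
  have l3 : ∀ d : Perm (Fin 5), Perm.sign d = 1 → d ^ 3 = 1 → d ≠ 1 →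
      ∃ y : N[Q], orderOf (y : G) = 3 ∧ ψ y = d := fun d a b c => by
    obtain ⟨w, -, rfl⟩ := hsur d a
    obtain ⟨y, -, o, e⟩ := lift hQ mk Nat.prime_three (by norm_num) w b c
    exact ⟨y, o, e⟩
  obtain ⟨y, oy, ey⟩ := l3 c3 s3 o3 n3
  have nrm : ∀ a : N[Q], (a : G) ∈ N[T] → P4 (ψ a * v1 * (ψ a)⁻¹) ∧ P4 (ψ a * v2 * (ψ a)⁻¹) :=
    fun a ha => by
      rw [← e1, ← e2, ← map_inv, ← map_mul, ← map_mul, ← map_mul, ← map_mul, ← mT, ← mT]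
      exact ⟨H24.conj_mem ha w1T, H24.conj_mem ha w2T⟩
  have four : ∀ a : N[Q], TwoE (a : G) → ψ a ^ 4 = 1 := fun a ha => by
    obtain ⟨k, hk⟩ := ha.exists_pow Nat.prime_two
    have h1 : orderOf (ψ a) ∣ 2 ^ k := by
      rw [← hk, Subgroup.orderOf_coe]; exact orderOf_map_dvd ψ a
    have h2 : orderOf (ψ a) ∣ 4 * 15 := orderOf_dvd_of_pow_eq_one (d_60 _)
    exact orderOf_dvd_iff_pow_eq_one.1 (Nat.Coprime.dvd_of_dvd_mul_right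
      (Nat.Coprime.coprime_dvd_left h1 (Nat.Coprime.pow_left k (by norm_num))) h2)
  refine ⟨T, Q ⊓ C[T], y, hQ, cQ, by rw [cT, cQ], ?_, QT, TN, rfl, fun s h1 h2 => ((hs s h1).2 h2).1,
    fun s h1 => (hs s h1).1, cm', oy, y.2, mem_N_of_finite fun s h1 => ?_, ?_, fpf, ?_, ?_, ?_, ?_⟩
  · rw [cQ] at cZ
    exact (Nat.mul_self_inj (n := 4)).1 cZ.symm
  · refine (mT (y * ⟨s, TN h1⟩ * y⁻¹)).2 ?_
    rw [map_mul, map_mul, map_inv, ey]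
    exact (d_y _ ((mT ⟨s, TN h1⟩).1 h1)).1
  · rw [eq_bot_iff, ← fpf y y.2 oy]
    intro s h1
    refine ⟨(mk ⟨s, TN h1.1⟩).1 ((d_y _ ((mT ⟨s, TN h1.1⟩).1 h1.1)).2 ?_), h1.2⟩
    rw [← ey, ← map_mul, ← map_mul]
    exact congrArg ψ (Subtype.ext (mem_C1.1 h1.2))
  · intro a ha b hb a1 b1
    have : Fact (Nat.Prime 3) := ⟨Nat.prime_three⟩
    have : Fact (Nat.Prime 5) := ⟨Nat.prime_five⟩
    have nf : ∀ x : G, x ∈ N[Q] ⊓ C{a} → Q ⊓ C{x} ≠ ⊥ := fun x hx =>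
      ne_bot_of_mem (show a ∈ Q ⊓ C{x} from ⟨ha, mem_C1_comm.1 hx.2⟩) a1
    have c3' : ¬ 3 ∣ ♯(N[Q] ⊓ C{a} : Subgroup G) := fun h => by
      obtain ⟨x, hx⟩ := exists_prime_orderOf_dvd_card' 3 h
      exact nf x x.2 (fpf x x.2.1 (by rw [Subgroup.orderOf_coe, hx]))
    have c5' : ¬ 5 ∣ ♯(N[Q] ⊓ C{a} : Subgroup G) := fun h => by
      obtain ⟨⟨x, hx⟩, ox⟩ := exists_prime_orderOf_dvd_card' 5 h
      replace ox : orderOf x = 5 := by rw [← ox, ← Subgroup.orderOf_coe]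
      have h1 := H15.K3.card_mod Nat.prime_five hx.1 (ox ▸ pow_orderOf_eq_one x)
      have h2 : ♯(Q ⊓ C{x} : Subgroup G) ∣ 16 := cQ ▸ card_dvd_of_le inf_le_left
      have h3 : ♯(Q ⊓ C{x} : Subgroup G) ≠ 1 := fun e => nf x hx (card_eq_one.1 e)
      have h4 : ♯(Q ⊓ C{x} : Subgroup G) = 16 := by
        have := Nat.le_of_dvd (by norm_num) h2
        rw [cQ] at h1
        unfold Nat.ModEq at h1
        generalize ♯(Q ⊓ C{x} : Subgroup G) = n at *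
        interval_cases n <;> simp_all
      have h5 : Q ⊓ C{x} = Q := eq_of_le_of_card_ge inf_le_left (by rw [h4, cQ])
      have h6 : x ∈ C[Q] := mem_C_iff_le_C1.2 (h5 ▸ inf_le_right)
      obtain ⟨τ, s, o, n⟩ := d_5 (ψ ⟨x, hx.1⟩)
        (by rw [← map_pow, show (⟨x, hx.1⟩ : N[Q]) ^ 5 = 1 from
          Subtype.ext (ox ▸ pow_orderOf_eq_one x), map_one])
        (fun e => by
          have := hQ.two.piElt ((mk _).1 e) 5 Nat.prime_five (by rw [ox])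
          simp at this)
      obtain ⟨w, -, rfl⟩ := hsur τ s
      rw [← map_inv, ← map_mul, ← map_mul, ← map_mul] at o n
      obtain ⟨z, hz, oz, -⟩ := lift hQ mk Nat.prime_three (by norm_num) _ o n
      have h7 : (z : G) ∈ C[Q] := zpowers_le.2 (mul_mem h6 (H24.conj_mem (N_le_NC Q w.2) h6)) hz
      exact ne_bot_of_mem (show a ∈ Q ⊓ C{(z : G)} from
        ⟨ha, mem_C_iff_le_C1.1 h7 ha⟩) a1 (fpf z z.2 oz)
    obtain ⟨w5, -, e5⟩ := hsur c5 s5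
    obtain ⟨x5, -, ox, -⟩ := lift hQ mk Nat.prime_five (by norm_num) w5 (e5 ▸ o5) (e5 ▸ n5)
    have d3 : 3 ∣ ♯N[Q] := by rw [← oy, Subgroup.orderOf_coe]; exact orderOf_dvd_natCard y
    have d5 : 5 ∣ ♯N[Q] := by rw [← ox, Subgroup.orderOf_coe]; exact orderOf_dvd_natCard x5
    have hc := H2.K3E.card_cls N[Q] a
    rw [hc] at d3 d5
    have d3' := (Nat.prime_three.dvd_mul.1 d3).resolve_left c3'
    have d5' := (Nat.prime_five.dvd_mul.1 d5).resolve_left c5'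
    have sub : H2.K3E.cls N[Q] a ⊆ (Q : Set G) \ {1} := by
      rintro _ ⟨g, hg, rfl⟩
      exact ⟨H24.conj_mem hg ha, fun e => a1 (conj_eq_one_iff.1 e)⟩
    have pos : (H2.K3E.cls N[Q] a).ncard ≠ 0 := fun e => by
      rw [e, mul_zero] at hc
      exact Nat.card_pos.ne' hc
    have eq := Set.eq_of_subset_of_ncard_le sub (by
      rw [H2.K3E.ncard_ne_one, cQ]; omega)
    have : b ∈ H2.K3E.cls N[Q] a := eq ▸ ⟨hb, b1⟩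
    obtain ⟨g, hg, e⟩ := this
    exact ⟨g, hg, by first | exact e | exact e.symm⟩
  · intro a ha h1 h2 h3
    refine (mT (⟨a, ha⟩ * y * ⟨a, ha⟩⁻¹ * y)).2 ?_
    rw [map_mul, map_mul, map_mul, map_inv, ey]
    exact (d_n _ (nrm ⟨a, ha⟩ h1).1 (nrm ⟨a, ha⟩ h1).2 (four ⟨a, ha⟩ h2)
      fun e => h3 ((mT ⟨a, ha⟩).2 e)).1
  · intro a ha h1 h2 h3
    obtain ⟨v, pv, q2, d, sd, od, nd, cd⟩ := (d_n _ (nrm ⟨a, ha⟩ h1).1 (nrm ⟨a, ha⟩ h1).2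
      (four ⟨a, ha⟩ h2) fun e => h3 ((mT ⟨a, ha⟩).2 e)).2
    obtain ⟨w, -, rfl⟩ := hsur v pv.2.1
    obtain ⟨x, ox, rfl⟩ := l3 d sd od nd
    rw [← map_mul] at q2 cd
    obtain ⟨k, hk, -, f2⟩ := cen mk _ x (fpf x x.2 ox) cd q2
    refine ⟨_, ?_, f2⟩
    have := T.mul_mem (QT (conj_mem' ha (Q.inv_mem hk))) ((mT w).2 pv)
    rwa [show a⁻¹ * k⁻¹ * a * w = a⁻¹ * (k⁻¹ * (a * w)) by group] at this
  · intro f hf h1 h2 h3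
    have f2 : ψ ⟨f, hf⟩ * ψ ⟨f, hf⟩ = 1 := by
      rw [← map_mul, show (⟨f, hf⟩ * ⟨f, hf⟩ : N[Q]) = 1 from Subtype.ext h2, map_one]
    obtain ⟨⟨d, sd, od, nd, cd, hv⟩, h, sh, oh, nh, ih⟩ := d_t _ (nrm ⟨f, hf⟩ h1).1
      (nrm ⟨f, hf⟩ h1).2 f2 fun e => h3 ((mT ⟨f, hf⟩).2 e)
    obtain ⟨x, ox, rfl⟩ := l3 d sd od nd
    obtain ⟨h, oh', rfl⟩ := l3 h sh oh nh
    obtain ⟨k, hk, kc, k2⟩ := cen mk ⟨f, hf⟩ x (fpf x x.2 ox) cd f2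
    replace kc : k⁻¹ * f ∈ C{(x : G)} := kc
    replace k2 : k⁻¹ * f * (k⁻¹ * f) = 1 := k2
    have kf : f * k * f⁻¹ = k := by
      rw [hQ.inv hk] at k2
      calc f * k * f⁻¹ = k⁻¹ * (k * f * (k * f)) * (f * f)⁻¹ := by group
        _ = k := by rw [k2, h2, hQ.inv hk]; group
    have q0 : (h : G) * (f * h * f⁻¹) ∈ Q := (mk (h * (⟨f, hf⟩ * h * ⟨f, hf⟩⁻¹))).1 (by
      rw [map_mul, map_mul, map_mul, map_inv, ih])
    have hq : (h : G) * k * (h : G)⁻¹ ∈ Q := H24.conj_mem h.2 hk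
    have e1 : f * ((h : G) * k * (h : G)⁻¹) * f⁻¹ = (h : G)⁻¹ * k * h := by
      have := hQ.comm q0 hk
      calc f * ((h : G) * k * (h : G)⁻¹) * f⁻¹
          = (h : G)⁻¹ * (h * (f * h * f⁻¹) * (f * k * f⁻¹)) * (f * h * f⁻¹)⁻¹ := by group
        _ = _ := by rw [kf, this]; group
    have e2 := three hQ h.2 (oh' ▸ pow_orderOf_eq_one _) (fpf h h.2 oh') hk
    rw [← e1] at e2
    generalize (h : G) * k * (h : G)⁻¹ = q at hq e2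
    have e3 : q⁻¹ * f * q = k⁻¹ * f := by
      rw [hQ.inv hq, hQ.inv hk, ← e2]; group
    have nq : q ∈ N[Q] := le_normalizer hq
    refine ⟨q * x * q⁻¹, mul_mem (mul_mem nq x.2) (inv_mem nq), mem_C1.2 ?_, ?_, fun v h4 h5 h6 => ?_⟩
    · have := mem_C1.1 kc
      rw [← e3] at this
      calc q * x * q⁻¹ * f = q * (x * (q⁻¹ * f * q)) * q⁻¹ := by group
        _ = _ := by rw [← this]; group
    · rw [H24.orderOf_conj, ox]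
    · have e4 : ψ (⟨q, nq⟩ * x * ⟨q, nq⟩⁻¹) = ψ x := by
        rw [map_mul, map_mul, map_inv, (mk ⟨q, nq⟩).2 hq]; group
      refine (mk (⟨v, TN h4⟩ * (⟨q, nq⟩ * x * ⟨q, nq⟩⁻¹) * ⟨v, TN h4⟩⁻¹ *
        (⟨q, nq⟩ * x * ⟨q, nq⟩⁻¹))).1 ?_
      rw [map_mul, map_mul, map_mul, map_inv, e4]
      refine hv _ ((mT ⟨v, TN h4⟩).1 h4) ?_ fun e => h6 ((mk _).1 e)
      rw [← map_mul, ← map_mul]
      exact congrArg ψ (Subtype.ext (mem_C1.1 h5))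

end H9.K3A
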