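import Mathlib
import Cfsg.Agent.H0.W12

/-!
# Recognition of `Fi₂₄'` from an involution centraliser `2 · Fi₂₂ · 2`: definitions
-/

set_option autoImplicit false

namespace H9.FB

open H0 H29 Subgroup

abbrev F23 : Type := Fi23.P.G

/-- The transpositions of `Fi₂₃`. -/
def D23 : Set F23 := Cl t23

abbrev CC {Γ : Type*} [Group Γ] (x : Γ) : Subgroup Γ := centralizer {x}

/-- An element, inside its centraliser. -/
def pt {Γ : Type*} [Group Γ] (x : Γ) : CC x := ⟨x, mem_centralizer_singleton_iff.2 rfl⟩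

variable {G F : Type*} [Group G] [Group F]

/-- The image of the residue of `x`. -/
def Rs {x : F23} (φ : CC x →* G) : Set G := φ '' {y | (y : F23) ∈ Dx D23 x}

/-- `C(t) = 2 · Fi₂₂ · 2`, with a four-group whose involutions are fused. -/
structure FB (t : G) (ι : CC t23 →* G) : Prop where
  inj : Function.Injective ι
  it : ι (pt t23) = t
  out : ∃ r, Commute r t ∧ (∀ g, Commute g t → g ∈ ι.range ∨ g * r ∈ ι.range) ∧
    ∀ d ∈ Rs ι, t * cj r d ∈ Rs ι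
  tri : ∃ s ∈ Rs ι, ∃ σ, cj σ t = s ∧ cj σ s = t ∧ cj σ '' Dx (Rs ι) s = Dx (Rs ι) s
  ori : ∀ d ∈ Rs ι, ∀ e ∈ Rs ι, d ≠ e → Commute d e → ¬ IsConj t (t * d * e)

/-- A conjugate of the pair `(t, Rs ι)`. -/
def Ori (ι : CC t23 →* G) (u : G) (Δ : Set G) : Prop :=
  ∃ g, cj g (ι (pt t23)) = u ∧ cj g '' Rs ι = Δ

/-- A chart at a transposition of `Fi₂₃`. -/
structure Ch (ι : CC t23 →* G) (x : F23) (φ : CC x →* G) : Prop where
  mem : x ∈ D23
  inj : Function.Injective φ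
  ori : Ori ι (φ (pt x)) (Rs φ)

/-- The diagram `Y₅₄₂`. -/
def A24 : List (ℕ × ℕ) := A342 ++ [(0, 10), (10, 11)]

/-- The transpositions commuting with the last two letters. -/
def DKL (D : Set F) (e : ℕ → F) : Set F := {y | y ∈ D ∧ Commute y (e 10) ∧ Commute y (e 11)}

def L9 : List ℕ := [1, 2, 3, 4, 5, 6, 7, 8, 9]

/-- What is used about `Fi₂₄`. -/
structure FI (D : Set F) (e : ℕ → F) (χ : F →* ℤˣ) (φ : F23 →* F) (x2 : F) (col : F → ZMod 3) :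
    Prop where
  tt : TT D
  mem : ∀ c < 12, e c ∈ D
  sgn : ∀ x ∈ D, χ x = -1
  inj : Function.Injective φ
  phe : ∀ c < 10, φ (Fi23.P.e c) = e c * e 11
  rng : ∀ g, g ∈ φ.range ↔ Commute g (e 11) ∧ χ g = 1
  res : ∀ x, x ∈ Dx D (e 11) ↔ ∃ y ∈ D23, φ y = x * e 11
  top : ∀ M : Subgroup F, CC (e 11) ≤ M → e 10 ∈ M → M = ⊤
  dg : Dg e 12 A24
  adj : ¬ Commute (e 10) (e 11)
  r3 : ∀ x ∈ D, ¬ Commute x (e 11) → ∃ h, Commute h (e 11) ∧ cj h (e 10) = x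
  x2m : x2 ∈ DKL D e
  x2c : col x2 = 1
  c0 : ∀ y ∈ DKL D e, col y = 0 → ∃ h ∈ gen e L9, cj h (e 2) = y
  c1 : ∀ c ∈ L9, ∀ y ∈ DKL D e, col (cj (e c) y) = -col y
  c2 : ∀ y ∈ DKL D e, col (cj x2 y) = -1 - col y
  cov : ∀ x ∈ D, ∃ h ∈ gen e L9 ⊔ zpowers x2, Commute (cj h x) (e 2)

end H9.FB
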