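import Mathlib
import Cfsg.Agent.H9.FDefs
import Cfsg.Agent.H28.FU

/-! Fischer spaces of type `U₆(2)` and `Fi₂₂`. -/

set_option autoImplicit false

namespace H9.FB

open H0 H29 Subgroup

variable {G F K : Type*} [Group G] [Group F] [Group K]

theorem out6 [Finite G] {H : Set G} (L : LQ H) (U : MU H 6) (β : Fin 7 → G → G)
    (hβ : ∀ i, FIso (β i) H ∧ β i '' H = H) :
    ∃ i j, i ≠ j ∧ ∃ g ∈ closure H, ∀ x ∈ H, β i x = cj g (β j x) := by
  obtain ⟨π, h⟩ := L.exists_um U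
  choose k hk ε g hg e using fun i => H28.FU.compare L h (H28.FU.um_comp h (hβ i).1 (hβ i).2)
  obtain ⟨i, j, ne, e'⟩ := Fintype.exists_ne_map_eq_of_card_lt
    (fun i => ((⟨k i, hk i⟩ : {c : F4 // c ≠ 0}), ε i)) (by decide)
  obtain ⟨e1, e2⟩ := Prod.mk.inj e'
  refine ⟨i, j, ne, g i * (g j)⁻¹, mul_mem (hg i) (inv_mem (hg j)), fun x hx => ?_⟩
  obtain ⟨v, hv, rfl⟩ := h.surj hx
  rw [e i v hv, e j v hv, ← cj_cj, cj_inv_cj, Subtype.mk.inj e1, e2]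

theorem cenU [Finite G] {H : Set G} (L : LQ H) (U : MU H 6) {p g : G} (hp : p ∈ H)
    (hg : ∀ x ∈ H, cj g x ∈ H) (h1 : Commute g p) (h2 : ∀ x ∈ Dx H p, Commute g x) :
    (∀ x ∈ H, Commute g x) ∨ ∀ x ∈ H, Commute (g * p) x := by
  obtain ⟨x, hx, n⟩ := L.adj_ne hp
  have m : cj g x ∈ Ln H p x := ⟨hg x hx, fun w hw c1 c2 =>
    (commute_cj_right (h2 w ⟨hw, fun e => n (e ▸ c2), c1.symm⟩)).2 c2⟩
  rcases L.hyp_line (L.thick_of_MU U) hp hx n m with e | e | e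
  · exact absurd ((commute_cj_right h1).1 (e.symm ▸ Commute.refl p)) n
  · exact .inl (L.cen_res hp hx n h2 h1 (cj_eq_self.1 e))
  · refine .inr (L.cen_res hp hx n (fun y hy => (h2 y hy).mul_left hy.2.2)
      (h1.mul_left (Commute.refl p)) (cj_eq_self.1 ?_))
    rw [h1.eq, ← cj_cj, e, L.cj_cj_same hp]

theorem mu22 [Finite G] {Δ : Set G} (L : LQ Δ) (U : F22q Δ) {k l x : G} (hk : k ∈ Δ) (hl : l ∈ Δ)
    (hkl : ¬ Commute k l) (hx : x ∈ Δ) (h : ∀ n ∈ Δ, Commute n k → Commute n l → Commute n x) :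
    x = k ∨ x = l ∨ x = cj k l := by
  have sw : ∀ {a b : G}, a ∈ Δ → b ∈ Dx Δ a → a ∈ Dx Δ b := fun ha hb => ⟨ha, hb.2.1.symm, hb.2.2.symm⟩
  obtain ⟨n, n1, n2⟩ := L.mu_pos hk hl hkl
  obtain ⟨L1, U1⟩ := U n n1.1
  by_cases e : x = n
  · obtain ⟨m, m1, m2⟩ := L1.mu_pos (sw hk n1) (sw hl n2) hkl
    obtain ⟨L2, U2⟩ := U m m1.1.1
    obtain ⟨f, f0, f1, f2, f3⟩ := L2.exists_adj_M (L2.thick_of_MU U2)
      (sw hk ⟨m1.1.1, m1.2.1, m1.2.2⟩) (sw hl ⟨m2.1.1, m2.2.1, m2.2.2⟩) (sw n1.1 m1.1) hkl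
      n1.2.2.symm n2.2.2.symm
    exact absurd (e ▸ h f f0.1 f1 f2) f3
  · exact L1.hyp_line (L1.thick_of_MU U1) (sw hk n1) (sw hl n2) hkl
      ⟨⟨hx, e, h n n1.1 n1.2.2.symm n2.2.2.symm⟩, fun w hw c1 c2 => h w hw.1 c1 c2⟩

theorem fixkl [Finite G] {Δ : Set G} (L : LQ Δ) (U : F22q Δ) {k l g : G} (hk : k ∈ Δ) (hl : l ∈ Δ)
    (hkl : ¬ Commute k l) (hg : ∀ x ∈ Δ, cj g x ∈ Δ)
    (h : ∀ n ∈ Δ, Commute n k → Commute n l → Commute g n) (h1 : Commute g k) (h2 : Commute g l) :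
    ∀ x ∈ Δ, Commute g x := by
  have nlk : ¬ Commute l k := fun e => hkl e.symm
  obtain ⟨L1, U1⟩ := U l hl
  obtain ⟨π, hπ⟩ := L1.exists_um U1
  obtain ⟨a, ha, c, -, C⟩ := L.cfg U hl hk nlk hπ
  refine L.cen_res hl hk nlk (fun x hx => ?_) h2 h1
  have gD : ∀ y ∈ Dx Δ l, cj g y ∈ Dx Δ l := fun y hy => ⟨hg y hy.1, fun e => hy.2.1 (by
    rw [← cj_of_commute h2, cj_inj] at e; exact e), (commute_cj_right h2).2 hy.2.2⟩
  have := H28.FU.fix_std C.um C.std (g := cj a g) (fun y hy => by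
      rw [← cj_cj_inv a y, ← cj_cj_conj]
      exact L1.conj (gD _ (L1.conj hy (inv_mem ha))) ha)
    (fun y hy e => by
      have m := L1.conj hy (inv_mem ha)
      rw [← cj_cj_inv a y, commute_cj] at e ⊢
      exact h _ m.1 e m.2.2.symm) _ (L1.conj hx ha)
  exact commute_cj.1 this

theorem mu22' [Finite G] {Δ : Set G} (L : LQ Δ) (U : F22q Δ) {k l g : G} (hk : k ∈ Δ) (hl : l ∈ Δ)
    (hkl : ¬ Commute k l) (hg : ∀ x ∈ Δ, cj g x ∈ Δ)
    (h : ∀ n ∈ Δ, Commute n k → Commute n l → Commute g n) :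
    ∃ s ∈ closure ({k, l} : Set G), ∀ x ∈ Δ, Commute (s⁻¹ * g) x := by
  have mk : k ∈ closure ({k, l} : Set G) := subset_closure (by simp)
  have ml : l ∈ closure ({k, l} : Set G) := subset_closure (by simp)
  have le : closure ({k, l} : Set G) ≤ closure Δ := closure_mono (by
    rintro x (rfl | rfl)
    exacts [hk, hl])
  have br := L.braid hk hl hkl
  have kk := L.cj_cj_same hk
  have ll := L.cj_cj_same hl
  obtain ⟨s, hs, e1, e2⟩ : ∃ s ∈ closure ({k, l} : Set G), cj s k = cj g k ∧ cj s l = cj g l := by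
    have a := mu22 L U hk hl hkl (hg k hk) fun n hn c1 c2 => (commute_cj_right (h n hn c1 c2)).2 c1
    have b := mu22 L U hk hl hkl (hg l hl) fun n hn c1 c2 => (commute_cj_right (h n hn c1 c2)).2 c2
    have ne : cj g k ≠ cj g l := fun e => hkl (cj_inj.1 e ▸ Commute.refl k)
    rcases a with a | a | a <;> rcases b with b | b | b <;> rw [a, b] at ne ⊢
    · exact absurd rfl ne
    · exact ⟨1, one_mem _, cj_one _, cj_one _⟩
    · exact ⟨k, mk, cj_self _, rfl⟩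
    · refine ⟨k * l * k, mul_mem (mul_mem mk ml) mk, ?_, ?_⟩
      · rw [← cj_cj, ← cj_cj, cj_self, ← br, kk]
      · rw [← cj_cj, ← cj_cj, br, ll, cj_self]
    · exact absurd rfl ne
    · refine ⟨k * l, mul_mem mk ml, ?_, ?_⟩
      · rw [← cj_cj, ← br, kk]
      · rw [← cj_cj, cj_self]
    · refine ⟨l * k, mul_mem ml mk, ?_, ?_⟩
      · rw [← cj_cj, cj_self, br]
      · rw [← cj_cj, br, ll]
    · exact ⟨l, ml, br.symm, cj_self _⟩
    · exact absurd rfl ne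
  refine ⟨s, hs, fixkl L U hk hl hkl (fun x hx => ?_) (fun n hn c1 c2 => ?_) ?_ ?_⟩
  · rw [← cj_cj]; exact L.conj (hg x hx) (inv_mem (le hs))
  · refine Commute.mul_left (Commute.inv_left ?_) (h n hn c1 c2)
    refine (mem_centralizer_singleton_iff.1 ((closure_le (centralizer {n})).2 ?_ hs))
    rintro x (rfl | rfl)
    exacts [mem_centralizer_singleton_iff.2 c1.symm.eq, mem_centralizer_singleton_iff.2 c2.symm.eq]
  · rw [← cj_eq_self, ← cj_cj, ← e1, cj_inv_cj]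
  · rw [← cj_eq_self, ← cj_cj, ← e2, cj_inv_cj]

end H9.FB
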