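import Mathlib
import Cfsg.Agent.H9.FDefs
import Cfsg.Agent.H29.Fi23C

/-! Facts on `Fi₂₃` and the double cover of `Fi₂₂`. -/

set_option autoImplicit false
set_option maxRecDepth 100000

namespace H9.FB

open H0 H29 Subgroup

variable {G F K : Type*} [Group G] [Group F] [Group K]

namespace A2

theorem fin23 : Finite F23 := Fi23.bd.1

theorem mem_CC {x g : G} : g ∈ CC x ↔ Commute g x := mem_centralizer_singleton_iff

theorem ptt : PTT D23 := fi23_facts.1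

theorem t_mem : t23 ∈ D23 := Cl.self _

/-- the residue of `t23`, inside its centraliser -/
def Δ0 : Set (CC t23) := {y | (y : F23) ∈ Dx D23 t23}

theorem cen0 : Cen (CC t23).subtype (pt t23) :=
  ⟨Subtype.val_injective, fun g hg => ⟨⟨g, mem_CC.2 hg⟩, rfl⟩⟩

theorem im0 : Dx (Cl ((CC t23).subtype (pt t23))) ((CC t23).subtype (pt t23)) =
    (CC t23).subtype '' Δ0 := by
  ext y
  exact ⟨fun hy => ⟨⟨y, mem_CC.2 hy.2.2.symm⟩, hy, rfl⟩, fun ⟨_, hx, e⟩ => e ▸ hx⟩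

theorem cent : CC t23 = gen Fi23.P.e FiA.cols := cent23

theorem base : (∃ θ : CC t23 →* Fi22.P.G, CE θ (pt t23)) ∧ (∃ C, Pkg (pt t23) Δ0 C) ∧ F22q Δ0 := by
  have := fin23
  have := Fi22.simple
  have cov : Cfsg.IsNonsplitDoubleCover (CC t23) Fi22.P.G := by rw [cent]; exact Fi23C.cover
  obtain ⟨θ, h⟩ := ce_of_cover fi22_cen cov (δ := pt t23)
    (fun k => commute_coe.1 (mem_CC.1 k.2).symm) fun e => Y23.rG_ne (congrArg Subtype.val e)
  obtain ⟨Δ, C, k, U, e⟩ : ∃ Δ C, Pkg (pt t23) Δ C ∧ F22q Δ ∧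
      Dx (Cl ((CC t23).subtype (pt t23))) ((CC t23).subtype (pt t23)) = (CC t23).subtype '' Δ := by
    obtain ⟨Δ, C, k, U⟩ := pkg_f22 h
    rcases cen0.step1 k (ptt.Dx_ne t_mem) with e | e
    exacts [⟨_, C, k, U, e⟩, ⟨_, C, k.symm, k.fiso.f22 U, e⟩]
  obtain rfl : Δ = Δ0 := Set.image_injective.2 Subtype.val_injective (e.symm.trans im0)
  exact ⟨⟨θ, h⟩, ⟨C, k⟩, U⟩

theorem rel {w : List ℕ} (h : allN 15 (fun j => chkRelP 31671 15 (nth Net.nil Fi23T.nl) (ivOf [])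
    [w] j) = true) : ev Fi23.P.e w = 1 :=
  rels_of_faithful Fi23.card.2 Fi23.hρ (rels_of_chk (k := 15) Fi23T.hn (by decide) Fi23T.hiv
    (allN_true.1 h)) _ (List.mem_singleton_self _)

theorem nrel {w : List ℕ}
    (h : ∃ b < 60, disj (H29.bit b) (pullW (nth Net.nil Fi23T.nl) w (H29.bit b)) = true) :
    ev Fi23.P.e w ≠ 1 :=
  let ⟨_, _, h⟩ := h; H9.MX.ev_ne_one_of_chk Fi23T.hn (fun c _ => Fi23.hρ c) h

theorem esq (c : ℕ) : Fi23.P.e c * Fi23.P.e c = 1 := sq_of_iv Fi23.hiv0 c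

theorem ne_e {s t : ℕ}
    (h : ∃ b < 60, disj (H29.bit b) (pullW (nth Net.nil Fi23T.nl) [s, t] (H29.bit b)) = true) :
    Fi23.P.e s ≠ Fi23.P.e t := fun e => nrel h (by rw [ev_cons, ev_cons, ev_nil, mul_one, e, esq])

theorem dg23 : Dg Fi23.P.e 10 A342 :=
  dg_of_cox Fi23.hiv0 (rels_of_faithful Fi23.card.2 Fi23.hρ (rels_of_chk (k := 15) Fi23T.hn
    (by decide) Fi23T.hiv (allN_true.1 (by decide +kernel))))

theorem t_eq {w : List ℕ} (h : ev Fi23.P.e (rG ++ w) = 1) : ev Fi23.P.e w = t23 := by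
  rw [ev_append, mul_eq_one_iff_inv_eq] at h
  exact h.symm.trans (inv_eq_of_sq (ptt.sq _ t_mem))

theorem e_mem : ∀ c < 10, Fi23.P.e c ∈ D23 := by
  have h9 : Fi23.P.e 9 ∈ D23 := by
    have := t_eq (w := H0.cw [9, 6, 5, 4, 3, 7, 2, 3, 4, 1, 2, 3, 7, 5, 6, 4, 5, 3, 4, 2, 3, 7, 1, 2, 3,
      4, 5, 6] 9) (rel (by decide +kernel))
    rw [ev_cw Fi23.hiv0] at this
    exact ⟨_, by rw [← this, cj_inv_cj]⟩
  have st : ∀ s < 10, ∀ t < 10, (s, t) ∈ A342 → (Fi23.P.e s ∈ D23 ↔ Fi23.P.e t ∈ D23) :=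
    fun s hs t ht hA =>
      ⟨fun h => cj_of_braid (esq s) ((dg23 s hs t ht).1 hA) ▸ Cl.conj h _,
        fun h => cj_of_braid (esq t) ((dg23 s hs t ht).1 hA).symm ▸ Cl.conj h _⟩
  have h6 := (st 6 (by decide) 9 (by decide) (by decide)).2 h9
  have h5 := (st 5 (by decide) 6 (by decide) (by decide)).2 h6
  have h4 := (st 4 (by decide) 5 (by decide) (by decide)).2 h5
  have h3 := (st 3 (by decide) 4 (by decide) (by decide)).2 h4
  have h2 := (st 2 (by decide) 3 (by decide) (by decide)).2 h3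
  have h1 := (st 1 (by decide) 2 (by decide) (by decide)).2 h2
  have h0 := (st 0 (by decide) 1 (by decide) (by decide)).2 h1
  have h7 := (st 3 (by decide) 7 (by decide) (by decide)).1 h3
  have h8 := (st 7 (by decide) 8 (by decide) (by decide)).1 h7
  intro c hc
  interval_cases c <;> assumption

theorem lt9 : ∀ c < 9, c ∈ FiA.cols := by decide

theorem lt9' : ∀ c ∈ FiA.cols, c < 9 := by decide

theorem e_cc {c : ℕ} (hc : c < 9) : Fi23.P.e c ∈ CC t23 := cent ▸ mem_gen (lt9 c hc)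

theorem e_dx {c : ℕ} (hc : c < 9) : Fi23.P.e c ∈ Dx D23 t23 :=
  ⟨e_mem c (by omega), fun e => nrel (w := c :: rG) (by clear e; revert c; decide +kernel)
    (by rw [ev_cons, e]; exact ptt.sq _ t_mem), (mem_CC.1 (e_cc hc)).symm⟩

theorem e_dx2 {s c : ℕ} (hs : s < 9) (hc : c < 9) (h1 : (s, c) ∉ A342) (h2 : (c, s) ∉ A342)
    (h : ∃ b < 60, disj (H29.bit b) (pullW (nth Net.nil Fi23T.nl) [c, s] (H29.bit b)) = true) :
    Fi23.P.e c ∈ Dx (Dx D23 t23) (Fi23.P.e s) :=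
  ⟨e_dx hc, ne_e h, (dg23 s (by omega) c (by omega)).2 h1 h2⟩

theorem clo_cj (k : G) {S : Set G} {g : G} (h : g ∈ closure S) : cj k g ∈ closure (cj k '' S) := by
  have hm : (closure S).map (MulAut.conj k).toMonoidHom = closure (cj k '' S) :=
    MonoidHom.map_closure _ _
  rw [← hm]
  exact ⟨g, h, rfl⟩

theorem img1 (k x : F23) : cj k '' Dx D23 x = Dx D23 (cj k x) := ptt.toTT.image_Dx k x

theorem img2 (k x y : F23) : cj k '' Dx (Dx D23 x) y = Dx (Dx D23 (cj k x)) (cj k y) := by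
  rw [image_Dx', img1]

theorem tt_perf {D : Set G} (T : TT D) {l : List G} (h1 : ∀ b ∈ l, b ∈ D) (h2 : Odd l.length)
    (h3 : l.prod = 1) : commutator G = ⊤ := by
  obtain ⟨a, ha⟩ : ∃ a, a ∈ l := List.exists_mem_of_length_pos h2.pos
  have k : ∀ b ∈ D, Abelianization.of b = Abelianization.of a := fun b hb => by
    obtain ⟨g, rfl⟩ := T.trans a (h1 a ha) b hb
    rw [map_cj, cj, mul_inv_cancel_comm]
  have e : Abelianization.of a = 1 := by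
    have := congrArg Abelianization.of h3
    obtain ⟨n, hn⟩ := h2
    rwa [map_list_prod, List.map_congr_left (g := fun _ => Abelianization.of a)
      fun b hb => k b (h1 b hb), List.map_const', List.prod_replicate, map_one, hn, pow_succ, pow_mul,
      pow_two, ← map_mul, T.sq a (h1 a ha), map_one, one_pow, one_mul] at this
  rw [eq_top_iff, ← T.gen, closure_le, ← Abelianization.ker_of]
  exact fun b hb => (k b hb).trans e

theorem lq_perf {E : Set G} (L : LQ E) {l : List G} (h1 : ∀ b ∈ l, b ∈ E) (h2 : Odd l.length)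
    (h3 : l.prod = 1) : ⁅closure E, closure E⁆ = closure E := by
  lift l to List (closure E) using fun b hb => subset_closure (h1 b hb)
  have := tt_perf L.ptt.toTT (l := l) (fun b hb => h1 b (List.mem_map_of_mem hb))
    (by rwa [List.length_map] at h2) (Subtype.ext (by rw [Subgroup.val_list_prod]; exact h3))
  rw [← map_subtype_commutator, this, ← MonoidHom.range_eq_map, range_subtype]

theorem odd1 {x y : F23} (hx : x ∈ D23) (hy : y ∈ Dx D23 x) :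
    ∃ l : List F23, (∀ b ∈ l, b ∈ Dx (Dx D23 x) y) ∧ Odd l.length ∧ l.prod = 1 := by
  have := fin23
  obtain ⟨g, rfl, rfl⟩ := ptt.comm_pair_trans t_mem hx (e_dx (c := 6) (by decide)) hy
  refine ⟨(powW 9 [0, 1, 2, 3, 4, 7, 8]).map fun c => cj g (Fi23.P.e c), fun b hb => ?_,
    by rw [List.length_map]; decide +kernel, ?_⟩
  · obtain ⟨c, hc, rfl⟩ := List.mem_map.1 hb
    obtain ⟨h1, h2, h3, h4⟩ := (by decide +kernel : ∀ c ∈ powW 9 [0, 1, 2, 3, 4, 7, 8], c < 9 ∧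
      (6, c) ∉ A342 ∧ (c, 6) ∉ A342 ∧
      ∃ b < 60, disj (H29.bit b) (pullW (nth Net.nil Fi23T.nl) [c, 6] (H29.bit b)) = true) c hc
    exact img2 g _ _ ▸ ⟨_, e_dx2 (by decide) h1 h2 h3 h4, rfl⟩
  · have := map_ev (MulAut.conj g).toMonoidHom Fi23.P.e (powW 9 [0, 1, 2, 3, 4, 7, 8])
    rw [rel (by decide +kernel), map_one] at this
    exact this.symm

theorem t_in : t23 ∈ closure (Dx (Dx D23 t23) (Fi23.P.e 0)) := by
  rw [← t_eq (w := powW 9 [2, 3, 4, 5, 6, 7, 8]) (rel (by decide +kernel))]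
  refine ev_mem fun c hc => subset_closure ?_
  obtain ⟨h1, h2, h3, h4⟩ := (by decide +kernel : ∀ c ∈ powW 9 [2, 3, 4, 5, 6, 7, 8], c < 9 ∧
    (0, c) ∉ A342 ∧ (c, 0) ∉ A342 ∧
    ∃ b < 60, disj (H29.bit b) (pullW (nth Net.nil Fi23T.nl) [c, 0] (H29.bit b)) = true) c hc
  rw [t_eq (w := powW 9 [2, 3, 4, 5, 6, 7, 8]) (rel (by decide +kernel))]
  exact e_dx2 (by decide) h1 h2 h3 h4

theorem zen22 (z : Fi22.P.G) (hz : ∀ y ∈ Dx (Cl (Fi22.P.e 0)) (Fi22.P.e 0), Commute z y)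
    (h2 : Commute z (Fi22.P.e 0)) : z = 1 ∨ z = Fi22.P.e 0 := by
  obtain ⟨h1, P, h3⟩ := fi22_facts
  have := Fi22.simple
  have := Fi22.bd.1
  have := Cfsg.Agent.S0283.result (F := H9.F4) (q := 2) H9.F4.card 6 (by norm_num) (by norm_num)
  let δ : gen Fi22.e1 Fi22U.hcols := ⟨Fi22.P.e 0, h1 ▸ mem_centralizer_singleton_iff.2 rfl⟩
  have c : Cen (Subgroup.subtype _) δ := ⟨Subtype.val_injective, fun g hg =>
    ⟨⟨g, h1 ▸ mem_centralizer_singleton_iff.2 hg⟩, rfl⟩⟩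
  obtain ⟨θ, h⟩ := ce_of_cover (psu_cen H9.F4.card) H9.U62M.cover (δ := δ)
    (fun k => commute_coe.1 (mem_centralizer_singleton_iff.1 (h1.ge k.2)).symm) fun e => by
      obtain ⟨y, -, hy⟩ := P.adj_ne (Cl.self _)
      exact hy (by rw [show Fi22.P.e 0 = 1 from congrArg Subtype.val e]; exact Commute.one_left y)
  obtain ⟨Δ, C, k, U, e⟩ := loc22 c H9.F4.card h (P.Dx_ne (Cl.self _))
  exact c.hZ k e z hz h2

theorem iota0 [Finite K] {θ : K →* Fi22.P.G} {δ : K} (h : CE θ δ) :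
    ∃ ι : CC t23 ≃* K, ι (pt t23) = δ ∧
      ∀ c < 9, ∀ y : CC t23, (y : F23) = Fi23.P.e c → θ (ι y) = Fi22.P.e c := by
  have := Fi22.bd.1
  have := fin23
  have P := fi22_facts.2.1
  obtain ⟨U, hC, ⟨l, l1, l2, l3⟩, ⟨m, m1, m2, m3, mm⟩, hI⟩ := fi22_loc
  have c1 := fun x y => h.L1 P (Cl.self _) l1 l2 (Or.inl l3) (x := x) (y := y)
  have c2 := fun x => h.L2 P c1 m1 m2 m3 mm (x := x)
  have let1 : ∀ {Δ}, CE.Lift θ δ (Cl (Fi22.P.e 0)) Δ → ∃ y : ℕ → K, (∀ c < 9, y c ∈ Δ) ∧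
      (∀ c, 9 ≤ c → y c = 1) ∧ ∀ c < 9, θ (y c) = Fi22.P.e c := fun {Δ} l => by
    have : ∀ c, ∃ x, (c < 9 → x ∈ Δ) ∧ (9 ≤ c → x = 1) ∧ (c < 9 → θ x = Fi22.P.e c) := fun c => by
      by_cases hc : c < 9
      · obtain ⟨x, hx, e⟩ := l.im.ge (mem22 c hc)
        exact ⟨x, fun _ => hx, fun h => absurd hc (not_lt.2 h), fun _ => e⟩
      · exact ⟨1, fun h => absurd h hc, fun _ => rfl, fun h => absurd h hc⟩
    choose y y1 y2 y3 using this
    exact ⟨y, y1, y2, y3⟩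
  have evθ : ∀ {y : ℕ → K}, (∀ c < 9, θ (y c) = Fi22.P.e c) → ∀ {w : List ℕ}, (∀ c ∈ w, c < 9) →
      θ (ev y w) = ev Fi22.P.e w := fun hy w hw => by
    rw [map_ev, ev_congr fun c hc => hy c (hw c hc)]
  have kk : ∀ r ∈ [rS, rA, rG], (∀ c ∈ r, c < 9) ∧ r ∈ Fi22.P.relL := by decide +kernel
  have rr : ∀ {y : ℕ → K}, (∀ c < 9, θ (y c) = Fi22.P.e c) → ∀ r ∈ [rS, rA, rG],
      ev y r = 1 ∨ ev y r = δ := fun hy r hr =>
    (h.ker _).1 ((evθ hy (kk r hr).1).trans (Fi22.hR r (kk r hr).2))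
  obtain ⟨Δ, l, y, y1, y2, y3, hA⟩ : ∃ Δ, CE.Lift θ δ (Cl (Fi22.P.e 0)) Δ ∧ ∃ y : ℕ → K,
      (∀ c < 9, y c ∈ Δ) ∧ (∀ c, 9 ≤ c → y c = 1) ∧ (∀ c < 9, θ (y c) = Fi22.P.e c) ∧
        ev y rA = 1 := by
    obtain ⟨Δ, l⟩ := h.lift_cen P c1 c2 (Cl.self _) hC
    obtain ⟨y, y1, y2, y3⟩ := let1 l
    rcases rr y3 rA (by simp) with e | e
    · exact ⟨Δ, l, y, y1, y2, y3, e⟩
    obtain ⟨z, z1, z2, z3⟩ := let1 (l.symm h)
    refine ⟨_, l.symm h, z, z1, z2, z3, ?_⟩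
    rw [ev_congr (e' := fun c => δ * y c) fun c hc => (l.symm h).inj (z1 c ((kk rA (by simp)).1 c hc))
      ⟨_, y1 c ((kk rA (by simp)).1 c hc), rfl⟩ (by
        rw [h.map_δ_mul, z3 c ((kk rA (by simp)).1 c hc), y3 c ((kk rA (by simp)).1 c hc)]),
      ev_cen h.cen, h.pow_odd (by decide +kernel), e, h.sq]
  have L := l.lq
  have F := L.fiso θ l.inj
  obtain ⟨_, _, k, -⟩ := pkg_f22 h
  have iv := iv_of (fun c hc => L.sq (y1 c hc)) y2
  have dg : Dg y 9 A332 := fun s hs t ht =>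
    ⟨fun hA => l.inj (L.cj_mem (y1 s hs) (y1 t ht)) (L.cj_mem (y1 t ht) (y1 s hs)) (by
      rw [map_cj, map_cj, y3 s hs, y3 t ht, (dg22 s hs t ht).1 hA]),
    fun h1 h2 => (F.comm (y1 s hs) (y1 t ht)).1 (by
      rw [y3 s hs, y3 t ht]; exact (dg22 s hs t ht).2 h1 h2)⟩
  have hS : ev y rS = 1 := (rr y3 rS (by simp)).resolve_right fun e => k.nsq
    ⟨ev y [3, 2, 1, 3, 4, 5, 3, 7, 8] ^ 5, by rw [← e, rS, ev_powW, ← pow_add]⟩
  obtain ⟨f, hf⟩ := (tr23 iv (rels_sub (R := coxW 9 A332 ++ [rS, rA]) (rels_append (cox_ok iv dg) (by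
    simp [hS, hA])) (by decide +kernel))).exists_hom Fi23.hiv0 iv fun _ h => h
  let f' : CC t23 →* K := f.comp (MulEquiv.subgroupCongr cent).toMonoidHom
  have hf' : ∀ (w : List ℕ), (∀ c ∈ w, c < 9) → ∀ x : CC t23, (x : F23) = ev Fi23.P.e w →
      f' x = ev y w := fun w hw x e =>
    (congrArg f (Subtype.ext e)).trans (hf w fun c hc => lt9 c (hw c hc))
  have sj : Function.Surjective f' := MonoidHom.range_eq_top.1 (h.top fun x => by
    obtain ⟨w, hw, rfl⟩ := exists_word Fi22.hiv0 (l := FiA.cols) (fun _ h => h)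
      (Fi22.top ▸ mem_top x)
    have hw' := fun c hc => lt9' c (hw c hc)
    exact ⟨_, ⟨⟨_, cent ▸ ev_mem_gen hw⟩, hf' w hw' _ rfl⟩, evθ y3 hw'⟩)
  have bj := sj.bijective_of_nat_card_le (by rw [h.card, Fi22.card.1, cent, Fi23.cardH])
  refine ⟨MulEquiv.ofBijective f' bj, ?_, fun c hc x e => ?_⟩
  · have e := hf' rG (kk rG (by simp)).1 (pt t23) rfl
    exact e.trans ((rr y3 rG (by simp)).resolve_left fun e1 => Y23.rG_ne
      (congrArg Subtype.val (bj.1 (e.trans (e1.trans (map_one f').symm)))))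
  · have := hf' [c] (by simpa using hc) x (by simpa using e)
    rw [ev_cons, ev_nil, mul_one] at this
    exact (congrArg θ this).trans (y3 c hc)

theorem ce_comp {K' X : Type*} [Group K'] [Group X] {θ : K →* X} {δ : K} (h : CE θ δ) (ι : K' ≃* K)
    {δ' : K'} (e : ι δ' = δ) : CE (θ.comp ι.toMonoidHom) δ' := by
  subst e
  refine ⟨h.surj.comp ι.surjective, fun k => (h.ker (ι k)).trans (by simp),
    fun k => (h.cen (ι k)).of_map (f := ι.toMonoidHom) ι.injective,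
    ι.injective (by rw [map_mul, h.sq, map_one]), fun e => h.ne (by rw [e, map_one]), ?_⟩
  apply map_injective (f := ι.toMonoidHom) ι.injective
  rw [map_commutator_eq, ← MonoidHom.range_eq_map, MonoidHom.range_eq_top.2 ι.surjective,
    ← commutator_def, h.perf]

theorem nmul0 {y : F23} (hy : y ∈ Dx D23 t23) : t23 * y ∉ D23 := by
  have := fin23
  obtain ⟨C, k⟩ := base.2.1
  exact cen0.both k (x := ⟨y, mem_CC.2 hy.2.2.symm⟩) hy hy.1
    (k := pt t23 * ⟨y, mem_CC.2 hy.2.2.symm⟩) (by rw [k.δδ]; exact hy)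

/-- the first letter, inside the centraliser -/
noncomputable def y0 : CC t23 := ⟨Fi23.P.e 0, e_cc (by decide)⟩

theorem y0_mem : y0 ∈ Δ0 := e_dx (c := 0) (by decide)

theorem lift0 {θ : CC t23 →* Fi22.P.G} (h : CE θ (pt t23)) (e : θ y0 = Fi22.P.e 0) :
    CE.Lift θ (pt t23) (Cl (Fi22.P.e 0)) Δ0 := by
  obtain ⟨C, k⟩ := base.2.1
  refine ⟨k.lq, k.gen, fun a ha b hb e => (h.eq_or e).resolve_right ?_, ?_⟩
  · rintro rfl
    exact nmul0 hb ha.1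
  · ext x
    constructor
    · rintro ⟨x, hx, rfl⟩
      obtain ⟨g, -, rfl⟩ := k.lq.trans y0_mem hx
      exact ⟨θ g, by rw [map_cj, e]⟩
    · rintro ⟨g, rfl⟩
      obtain ⟨g, rfl⟩ := h.surj g
      exact ⟨_, k.conj y0_mem g, by rw [map_cj, e]⟩

theorem th0 : ∃ θ : CC t23 →* Fi22.P.G, CE θ (pt t23) ∧ θ y0 = Fi22.P.e 0 ∧
    θ '' Dx Δ0 y0 = Dx (Cl (Fi22.P.e 0)) (Fi22.P.e 0) := by
  have := fin23
  obtain ⟨θ, h⟩ := base.1
  obtain ⟨ι, h1, h2⟩ := iota0 h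
  have e := h2 0 (by decide) y0 rfl
  have l := lift0 (ce_comp h ι h1) e
  refine ⟨_, ce_comp h ι h1, e, ?_⟩
  rw [(l.lq.fiso _ l.inj).image_Dx y0_mem, l.im]
  exact congrArg _ e

theorem sub0 {w : CC t23} : w ∈ Dx Δ0 y0 ↔ (w : F23) ∈ Dx (Dx D23 t23) (Fi23.P.e 0) :=
  ⟨fun h => ⟨h.1, fun e => h.2.1 (Subtype.ext e), commute_coe.2 h.2.2⟩,
    fun h => ⟨h.1, fun e => h.2.1 (congrArg Subtype.val e), commute_coe.1 h.2.2⟩⟩

theorem gen10 {g : F23} (h1 : Commute g t23) (h2 : Commute g (Fi23.P.e 0)) :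
    g ∈ closure (Dx (Dx D23 t23) (Fi23.P.e 0)) := by
  obtain ⟨θ, h, e, im⟩ := th0
  have := fi22_loc.2.1 (θ ⟨g, mem_CC.2 h1⟩)
    (e ▸ (commute_coe.1 h2 : Commute (⟨g, mem_CC.2 h1⟩ : CC t23) y0).map θ)
  rw [← im, ← MonoidHom.map_closure] at this
  obtain ⟨n, hn, e1⟩ := this
  have hn' : (n : F23) ∈ closure (Dx (Dx D23 t23) (Fi23.P.e 0)) :=
    (closure_le ((Subgroup.closure _).comap (CC t23).subtype)).2
      (fun w hw => subset_closure (sub0.1 hw)) hn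
  rcases h.eq_or e1.symm with e2 | e2
  · rw [show g = n from congrArg Subtype.val e2]; exact hn'
  · rw [show g = t23 * n from congrArg Subtype.val e2]; exact mul_mem t_in hn'

theorem cen_clo {S : Set G} {z g : G} (h : ∀ w ∈ S, Commute z w) (hg : g ∈ closure S) :
    Commute z g :=
  (mem_CC.1 ((closure_le (CC z)).2 (fun w hw => mem_CC.2 (h w hw).symm) hg)).symm

end A2

open A2

theorem d23 : PTT D23 ∧ F23q D23 := by
  refine ⟨ptt, ?_⟩
  obtain ⟨-, ⟨C, k⟩, U⟩ := base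
  rintro _ ⟨g, rfl⟩
  obtain ⟨F, e'⟩ := cen0.fiso k im0 g
  exact (show Dx D23 (cj g t23) = _ from e') ▸ ⟨F.lq k.lq, F.f22 U⟩

theorem mem23 : (∀ c < 10, Fi23.P.e c ∈ D23) ∧ (∀ c < 9, Fi23.P.e c ∈ Dx D23 t23) ∧
    ¬ Commute t23 (Fi23.P.e 9) ∧ Dg Fi23.P.e 10 A342 := by
  refine ⟨e_mem, fun _ => e_dx, fun h => nrel (w := rG ++ 9 :: (rG ++ [9])) (by decide +kernel) ?_,
    dg23⟩
  rw [ev_append, ev_cons, ev_append, ev_cons, ev_nil, mul_one, ← t23, h.eq, ← mul_assoc (Fi23.P.e 9),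
    esq, one_mul]
  exact ptt.sq _ t_mem

theorem gen0 {x : F23} (hx : x ∈ D23) : closure (Dx D23 x) = CC x := by
  refine le_antisymm (fun g hg => mem_CC.2 (PTT.commute_of_mem_closure hg)) fun g hg => ?_
  obtain ⟨k, rfl⟩ := hx
  obtain ⟨g, rfl⟩ : ∃ w, cj k w = g := ⟨_, cj_cj_inv k g⟩
  obtain ⟨C, h⟩ := base.2.1
  exact img1 k _ ▸ clo_cj k (cen0.cen_le h im0 subset_closure g (commute_cj.1 (mem_CC.1 hg)))

theorem gen1 {x y : F23} (hx : x ∈ D23) (hy : y ∈ Dx D23 x) :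
    closure (Dx (Dx D23 x) y) = CC x ⊓ CC y := by
  refine le_antisymm ((closure_le _).2 fun g hg => ⟨mem_CC.2 hg.1.2.2.symm, mem_CC.2 hg.2.2.symm⟩)
    fun g hg => ?_
  have := fin23
  obtain ⟨k, rfl, rfl⟩ := ptt.comm_pair_trans t_mem hx (e_dx (c := 0) (by decide)) hy
  obtain ⟨g, rfl⟩ : ∃ w, cj k w = g := ⟨_, cj_cj_inv k g⟩
  exact img2 k _ _ ▸ clo_cj k (gen10 (commute_cj.1 (mem_CC.1 hg.1)) (commute_cj.1 (mem_CC.1 hg.2)))

theorem zen0 {x z : F23} (hx : x ∈ D23) (h : ∀ w ∈ Dx D23 x, Commute z w) : z = 1 ∨ z = x := by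
  have h2 : Commute z x := cen_clo h (gen0 hx ▸ mem_CC.2 (Commute.refl x))
  obtain ⟨k, rfl⟩ := hx
  obtain ⟨z, rfl⟩ : ∃ w, cj k w = z := ⟨_, cj_cj_inv k z⟩
  obtain ⟨C, p⟩ := base.2.1
  rcases cen0.hZ p im0 z (fun w hw => commute_cj.1 (h _ (ptt.toTT.mem_Dx_cj.2 hw)))
    (commute_cj.1 h2) with rfl | rfl
  exacts [Or.inl (by simp [cj]), Or.inr rfl]

theorem zen1 {x y z : F23} (hx : x ∈ D23) (hy : y ∈ Dx D23 x)
    (h : ∀ w ∈ Dx (Dx D23 x) y, Commute z w) : z = 1 ∨ z = x ∨ z = y ∨ z = x * y := by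
  have h1 : Commute z x := cen_clo h (gen1 hx hy ▸
    ⟨mem_CC.2 (Commute.refl x), mem_CC.2 hy.2.2⟩)
  have h2 : Commute z y := cen_clo h (gen1 hx hy ▸
    ⟨mem_CC.2 hy.2.2.symm, mem_CC.2 (Commute.refl y)⟩)
  have := fin23
  obtain ⟨k, rfl, rfl⟩ := ptt.comm_pair_trans t_mem hx (e_dx (c := 0) (by decide)) hy
  obtain ⟨z, rfl⟩ : ∃ w, cj k w = z := ⟨_, cj_cj_inv k z⟩
  rw [commute_cj] at h1 h2
  obtain ⟨θ, c, e, im⟩ := th0
  rcases zen22 (θ ⟨z, mem_CC.2 h1⟩) (by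
    rw [← im]
    rintro _ ⟨w, hw, rfl⟩
    exact (commute_coe.1 (commute_cj.1 (h _ (img2 k _ _ ▸ ⟨_, sub0.1 hw, rfl⟩))) :
      Commute (⟨z, mem_CC.2 h1⟩ : CC t23) w).map θ)
    (e ▸ (commute_coe.1 h2 : Commute (⟨z, mem_CC.2 h1⟩ : CC t23) y0).map θ) with e1 | e1
  · rcases (c.ker _).1 e1 with e2 | e2
    · exact Or.inl (by rw [show z = 1 from congrArg Subtype.val e2]; simp [cj])
    · exact Or.inr (Or.inl (congrArg (cj k) (congrArg Subtype.val e2)))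
  · rcases c.eq_or (e1.trans e.symm) with e2 | e2
    · exact Or.inr (Or.inr (Or.inl (congrArg (cj k) (congrArg Subtype.val e2))))
    · exact Or.inr (Or.inr (Or.inr ((congrArg (cj k) (congrArg Subtype.val e2)).trans
        (cj_mul _ _ _))))

theorem perf0 {x : F23} (hx : x ∈ D23) : ⁅CC x, CC x⁆ = CC x := by
  obtain ⟨y, hy⟩ := ptt.Dx_ne hx
  obtain ⟨l, h1, h2, h3⟩ := odd1 hx hy
  rw [← gen0 hx]
  exact lq_perf (d23.2 x hx).1 (fun b hb => (h1 b hb).1) h2 h3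

theorem perf1 {x y : F23} (hx : x ∈ D23) (hy : y ∈ Dx D23 x) :
    ⁅CC x ⊓ CC y, CC x ⊓ CC y⁆ = CC x ⊓ CC y := by
  obtain ⟨l, h1, h2, h3⟩ := odd1 hx hy
  rw [← gen1 hx hy]
  exact lq_perf ((d23.2 x hx).2 y hy).1 h1 h2 h3

theorem nmul {x y : F23} (hx : x ∈ D23) (hy : y ∈ Dx D23 x) : x * y ∉ D23 := by
  obtain ⟨k, rfl⟩ := hx
  obtain ⟨y, rfl⟩ : ∃ w, cj k w = y := ⟨_, cj_cj_inv k y⟩
  rw [← cj_mul, ptt.toTT.mem_cj]
  exact nmul0 (ptt.toTT.mem_Dx_cj.1 hy)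

theorem nmul3 {x y z : F23} (h : T3 D23 x y z) : x * y * z ∉ D23 := by
  obtain ⟨⟨k, rfl⟩, hy, hz⟩ := h
  obtain ⟨y, rfl⟩ : ∃ w, cj k w = y := ⟨_, cj_cj_inv k y⟩
  obtain ⟨z, rfl⟩ : ∃ w, cj k w = z := ⟨_, cj_cj_inv k z⟩
  rw [← img2, mem_image_cj] at hz
  rw [ptt.toTT.mem_Dx_cj] at hy
  rw [← cj_mul, ← cj_mul, ptt.toTT.mem_cj, mul_assoc]
  obtain ⟨C, p⟩ := base.2.1
  exact fun hD => cen0.nsq' p (k := pt t23 * (⟨y, mem_CC.2 hy.2.2.symm⟩ * ⟨z, mem_CC.2 hz.1.2.2.symm⟩))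
    hD (p.s2 _ hy _ ⟨hz.1, fun e => hz.2.1 (congrArg Subtype.val e), commute_coe.1 hz.2.2⟩).2

theorem inv23 {u : F23} (hu : u * u = 1) : Inv3 D23 u := by
  have := fin23
  have := Fi23.simple
  obtain ⟨C, p⟩ := base.2.1
  obtain ⟨g, hg⟩ := par_of (perf_of_simple (center_eq_bot_of_simple (by rw [Fi23.card.1]; norm_num)))
    (Or.inr (by rw [fi23_facts.2])) u hu
  exact cen0.inv3 p im0 hu hg

/-- a homomorphism out of `Fi₂₃` from one on the centraliser and a tenth letter -/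
theorem hom23 (ι : CC t23 →* G) {j : G} (hj : j * j = 1) (y : ℕ → CC t23)
    (hy : ∀ c < 9, (y c : F23) = Fi23.P.e c) (h6 : cj j (ι (y 6)) = cj (ι (y 6)) j)
    (hc : ∀ c ∈ [0, 1, 2, 3, 4, 5, 7, 8], Commute j (ι (y c))) :
    ∃ ψ : F23 →* G, (∀ k : CC t23, ψ k = ι k) ∧ ψ (Fi23.P.e 9) = j := by
  let σ : ℕ → G := fun c => if c < 9 then ι (y c) else if c = 9 then j else 1
  have s1 : ∀ c < 9, σ c = ι (y c) := fun c hc => if_pos hc
  have s9 : σ 9 = j := rfl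
  have evy : ∀ {w : List ℕ}, (∀ c ∈ w, c < 9) → ((ev y w : CC t23) : F23) = ev Fi23.P.e w :=
    fun hw => (map_ev (CC t23).subtype y _).trans (ev_congr fun c hc => hy c (hw c hc))
  have evs : ∀ {w : List ℕ}, (∀ c ∈ w, c < 9) → ev σ w = ι (ev y w) := fun hw => by
    rw [map_ev, ev_congr fun c hc => s1 c (hw c hc)]
  have dg : Dg σ 10 A342 := by
    intro s hs t ht
    by_cases h1 : s = 9
    · subst h1
      refine ⟨fun hA => absurd hA (by revert t; decide), fun _ h2 => ?_⟩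
      by_cases h3 : t = 9
      · rw [h3]
      · rw [s1 t (by omega)]
        exact hc t ((by decide : ∀ t < 10, (t, 9) ∉ A342 → t ≠ 9 → t ∈ [0, 1, 2, 3, 4, 5, 7, 8])
          t ht h2 h3)
    by_cases h3 : t = 9
    · subst h3
      rw [s1 s (by omega)]
      refine ⟨fun hA => ?_, fun h2 _ => (hc s ((by decide : ∀ t < 10, (t, 9) ∉ A342 → t ≠ 9 →
        t ∈ [0, 1, 2, 3, 4, 5, 7, 8]) s hs h2 h1)).symm⟩
      obtain rfl : s = 6 := by revert s; decide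
      exact h6.symm
    have hs' : s < 9 := by omega
    have ht' : t < 9 := by omega
    rw [s1 s hs', s1 t ht']
    refine ⟨fun hA => ?_, fun k1 k2 => Commute.map (commute_coe.1 ?_) ι⟩
    · rw [← map_cj, ← map_cj]
      refine congrArg ι (Subtype.ext ?_)
      rw [coe_cj, coe_cj, hy s hs', hy t ht', (dg23 s hs t ht).1 hA]
    · rw [hy s hs', hy t ht']
      exact (dg23 s hs t ht).2 k1 k2
  have iv : IvOK σ (ivOf []) := iv_of (n := 10) (fun c hc => by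
      by_cases h9 : c < 9
      · rw [s1 c h9, ← map_mul, show y c * y c = 1 from Subtype.ext (by
          rw [coe_mul, hy c h9]; exact esq c), map_one]
      · rwa [show c = 9 by omega])
    fun c hc => (if_neg (by omega)).trans (if_neg (by omega))
  have k : ∀ r ∈ [rS, rA], (∀ c ∈ r, c < 9) ∧ r ∈ Fi23.P.relL := by decide +kernel
  obtain ⟨ψ, hψ⟩ := PData.exists_hom Fi23.coh Fi23.hg (σ := σ) iv
    (rels_sub (R := coxW 10 A342 ++ [rS, rA]) (rels_append (cox_ok iv dg) fun r hr => by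
      rw [evs (k r hr).1, show ev y r = 1 from Subtype.ext
        ((evy (k r hr).1).trans (Fi23.hR r (k r hr).2)), map_one]) (by decide +kernel))
  refine ⟨ψ, fun x => ?_, hψ 9 (by decide)⟩
  obtain ⟨w, hw, e⟩ := exists_word Fi23.hiv0 (l := FiA.cols) (fun _ h => h) (cent.le x.2)
  have hw' := fun c hc => lt9' c (hw c hc)
  rw [show x = ev y w from Subtype.ext (e.symm.trans (evy hw').symm), evy hw', ← evs hw', map_ev]
  exact ev_congr fun c hc => hψ c (Nat.lt_succ_of_lt (hw' c hc))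

theorem exists_iota [Finite K] {θ : K →* Fi22.P.G} {δ : K} (h : CE θ δ) :
    ∃ ι : CC t23 ≃* K, ι (pt t23) = δ ∧ ∀ y : CC t23, θ (ι y) ∈ Cl (Fi22.P.e 0) ↔
      (y : F23) ∈ Dx D23 t23 ∨ t23 * y ∈ Dx D23 t23 := by
  obtain ⟨ι, h1, h2⟩ := iota0 h
  have c := ce_comp h ι h1
  have l := lift0 c (h2 0 (by decide) y0 rfl)
  refine ⟨ι, h1, fun y => ?_⟩
  rw [← l.im]
  constructor
  · rintro ⟨x, hx, e⟩
    rcases c.eq_or (a := x) (b := y) e with rfl | rfl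
    exacts [Or.inl hx, Or.inr hx]
  · rintro (hy | hy)
    exacts [⟨y, hy, rfl⟩, ⟨pt t23 * y, hy, c.map_δ_mul y⟩]

end H9.FB
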