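import Mathlib
import Cfsg.Agent.H9.FA1
import Cfsg.Agent.H9.FA2
import Cfsg.Agent.H25.FAb

/-! Orientations and charts. -/

set_option autoImplicit false
set_option linter.unusedSectionVars false
set_option linter.dupNamespace false

namespace H9.FB

open H0 H29 Subgroup H25.FA

variable {G F K : Type*} [Group G] [Group F] [Group K]

section
variable [Finite G] {t : G} {ι : CC t23 →* G} (h : FB t ι) {u d : G} {Δ Δ' : Set G}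
include h

theorem FB.lq (o : Ori ι u Δ) : LQ Δ ∧ F22q Δ ∧ u * u = 1 ∧ u ∈ closure Δ ∧ u ∉ Δ ∧
    (∀ d ∈ Δ, Commute u d ∧ u * d ∉ Δ ∧ IsConj t d ∧ IsConj t (u * d)) ∧ IsConj t u := by
  obtain ⟨φ, f, rfl, c⟩ := wlog h o
  refine ⟨b_lq f, (rs_lq t_mem f.inj).2, b_sq f, b_mem f, fun k => (b_ne f k).1 rfl,
    fun d hd => ?_, c⟩
  obtain ⟨σ, s1, -, -⟩ := b_tri f hd
  obtain ⟨r, -, r2, -⟩ := b_out' f hd
  have k : IsConj t d := c.trans (s1 ▸ isConj_cj σ u)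
  exact ⟨b_comm f (subset_closure hd), b_mul f hd, k, k.trans (r2 ▸ isConj_cj r d)⟩

theorem FB.zen (o : Ori ι u Δ) {z : G} (h1 : Commute z u) (h2 : ∀ d ∈ Δ, Commute z d) :
    z = 1 ∨ z = u := by
  obtain ⟨φ, f, rfl, -⟩ := wlog h o
  obtain ⟨d, hd⟩ := (b_lq f).nonempty
  have := b_fix f h1 hd (by rwa [cj_of_commute (h2 d hd)])
  rw [← rs_range t_mem] at this
  exact f.it ▸ rs_zen t_mem f.inj this h2

theorem FB.cent (o : Ori ι u Δ) {g : G} (hg : Commute g u) :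
    (g ∈ closure Δ ∧ cj g '' Δ = Δ) ∨ (g ∉ closure Δ ∧ cj g '' Δ = (fun x => u * x) '' Δ) := by
  obtain ⟨φ, f, rfl, -⟩ := wlog h o
  exact b_cent f hg

theorem FB.flip (o : Ori ι u Δ) : Ori ι u ((fun x => u * x) '' Δ) ∧
    closure ((fun x => u * x) '' Δ) = closure Δ := by
  obtain ⟨φ, f, rfl, -⟩ := wlog h o
  obtain ⟨r, r1, -, r3⟩ := b_out f
  have k := ori_cj o r
  rw [cj_of_commute r1, r3] at k
  refine ⟨k, le_antisymm ((closure_le _).2 ?_) ((closure_le _).2 fun x hx => ?_)⟩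
  · rintro _ ⟨x, hx, rfl⟩
    exact mul_mem (b_mem f) (subset_closure hx)
  · rw [← b_tt f x]
    exact mul_mem (h.lq k).2.2.2.1 (subset_closure ⟨x, hx, rfl⟩)

theorem FB.cases (o : Ori ι u Δ) (o' : Ori ι u Δ') : Δ' = Δ ∨ Δ' = (fun x => u * x) '' Δ := by
  have o2 := o
  obtain ⟨g, g1, g2⟩ := o2
  obtain ⟨k, k1, rfl⟩ := o'
  have a : Commute (k * g⁻¹) u := by
    rw [← cj_eq_self, ← cj_cj]
    conv_lhs => rw [← g1]
    rw [cj_inv_cj, k1]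
  have b : cj k '' Rs ι = cj (k * g⁻¹) '' Δ := by
    rw [← g2, cj_image_cj, inv_mul_cancel_right]
  rw [b]
  exact (h.cent o a).imp And.right And.right

theorem FB.idx (o : Ori ι u Δ) {g k : G} (hg : Commute g u) (hk : Commute k u) (h1 : g ∉ closure Δ)
    (h2 : k ∉ closure Δ) : g * k ∈ closure Δ := by
  obtain ⟨φ, f, rfl, -⟩ := wlog h o
  obtain ⟨r, -, r2, -⟩ := b_out f
  have a := (r2 g hg).resolve_left h1
  have b := (r2 k⁻¹ hk.inv_left).resolve_left fun e => h2 (inv_mem_iff.1 e)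
  simpa [mul_assoc] using mul_mem a (inv_mem b)

theorem FB.cent2 (o : Ori ι u Δ) (hd : d ∈ Δ) : closure (Dx Δ d) = CC u ⊓ CC d := by
  obtain ⟨φ, f, rfl, -⟩ := wlog h o
  exact b_cent2 f hd

theorem FB.range {x : F23} {φ : CC x →* G} (c : Ch ι x φ) : φ.range = closure (Rs φ) :=
  rs_range c.mem

theorem FB.exists_ch (o : Ori ι u Δ) (hd : d ∈ Δ) {x : F23} (hx : x ∈ D23) (y : CC x)
    (hy : (y : F23) ∈ Dx D23 x) :
    ∃ φ : CC x →* G, Ch ι x φ ∧ φ (pt x) = u ∧ Rs φ = Δ ∧ φ y = d := by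
  obtain ⟨ψ, f, rfl, -⟩ := wlog h o
  obtain ⟨y0, hy0, rfl⟩ := hd
  have : Finite F23 := Fi23.bd.1
  obtain ⟨k, k1, k2⟩ := d23.1.comm_pair_trans hx t_mem hy hy0
  obtain ⟨e, e0, e1, e2, e3⟩ := exists_tr d23.1.toTT k1 k2
  have a1 : ψ.comp e (pt x) = u := by rw [MonoidHom.comp_apply, e1, f.it]
  have a2 : Rs (ψ.comp e) = Rs ψ := by rw [Rs, Rs, ← e3, Set.image_image]; rfl
  have a3 : Function.Injective (ψ.comp e) := by rw [MonoidHom.coe_comp]; exact f.inj.comp e0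
  exact ⟨ψ.comp e, ⟨hx, a3, by rw [a1, a2]; exact o⟩, a1, a2,
    by rw [MonoidHom.comp_apply, e2]⟩

theorem FB.cl (o : Ori ι u Δ) (hd : d ∈ Δ) :
    ∃ Δ', Ori ι d Δ' ∧ u ∈ Δ' ∧ Dx Δ' u = Dx Δ d := by
  obtain ⟨φ, f, rfl, -⟩ := wlog h o
  obtain ⟨σ, s1, s2, s3⟩ := b_tri f hd
  refine ⟨cj σ '' Rs φ, s1 ▸ ori_cj o σ, ⟨d, hd, s2⟩, ?_⟩
  rw [← s3, image_Dx', s2]

theorem FB.aut1 (o : Ori ι u Δ) (hd : d ∈ Δ) (α : ↥(CC u ⊓ CC d) →* G) (hα : Function.Injective α)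
    (h1 : ∀ x : ↥(CC u ⊓ CC d), (x : G) = u ∨ (x : G) = d → α x = x)
    (h2 : ∀ x : ↥(CC u ⊓ CC d), (x : G) ∈ Dx Δ d → α x ∈ Dx Δ d) :
    ∃ l ∈ CC u ⊓ CC d, ∀ x, α x = cj l x := by
  have c := ((h.lq o).2.2.2.2.2.1 d hd).1
  obtain ⟨φ, f, rfl, -⟩ := wlog h o
  obtain ⟨l, hl⟩ := b_aut1 f hd α hα h2
  refine ⟨l, ⟨mem_CC.2 (cj_eq_self.1 ?_), mem_CC.2 (cj_eq_self.1 ?_)⟩, hl⟩
  · exact (hl ⟨u, mem_CC.2 (Commute.refl u), mem_CC.2 c⟩).symm.trans (h1 _ (Or.inl rfl))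
  · exact (hl ⟨d, mem_CC.2 c.symm, mem_CC.2 (Commute.refl d)⟩).symm.trans (h1 _ (Or.inr rfl))

theorem FB.aut2 (o : Ori ι u Δ) (α : closure Δ →* G) (hα : Function.Injective α)
    (h2 : ∀ x : closure Δ, (x : G) ∈ Δ → α x ∈ Δ) : ∃ l ∈ closure Δ, ∀ x, α x = cj l x := by
  obtain ⟨Q, U, -, um, -, q, -⟩ := h.lq o
  have uc : ∀ g ∈ closure Δ, Commute u g := fun g hg =>
    mem_CC.1 ((closure_le (CC u)).2 (fun x hx => mem_CC.2 (q x hx).1.symm) hg) |>.symm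
  obtain ⟨d, hd⟩ := Q.nonempty
  have F := ex_fiso α hα Q subset_closure
  have im : ex α '' Δ = Δ := image_eq_of_inj F.inj fun x hx => by
    rw [ex_eq α (subset_closure hx)]; exact h2 _ hx
  have au : α ⟨u, um⟩ = u := by
    have c : ∀ x ∈ Δ, Commute (α ⟨u, um⟩) x := by
      intro x hx
      rw [← im] at hx
      obtain ⟨y, hy, rfl⟩ := hx
      rw [ex_eq α (subset_closure hy)]
      exact (commute_coe.1 (q y hy).1 : Commute (⟨u, um⟩ : closure Δ) ⟨y, _⟩).map α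
    refine (h.zen o (mem_CC.1 ((closure_le (CC (α ⟨u, um⟩))).2
      (fun x hx => mem_CC.2 (c x hx).symm) um)).symm c).resolve_left fun e => ?_
    have : u = 1 := congrArg Subtype.val (hα (e.trans (map_one α).symm))
    exact (q d hd).2.1 (by rwa [this, one_mul])
  obtain ⟨k, hk, kd⟩ := Q.trans (h2 ⟨d, subset_closure hd⟩ hd) hd
  have le : CC u ⊓ CC d ≤ closure Δ := h.cent2 o hd ▸ closure_mono (Dx_subset _ _)
  obtain ⟨l, hl, e⟩ := h.aut1 o hd ((cjH k).comp (α.comp (inclusion le)))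
    ((cjH_inj k).comp (hα.comp (inclusion_injective le))) (by
      rintro ⟨x, hx⟩ (e | e)
      · obtain rfl : u = x := e.symm
        change cj k (α ⟨u, _⟩) = u
        rw [au, cj_of_commute (uc k hk).symm]
      · obtain rfl : d = x := e.symm
        exact kd) (by
      rintro ⟨x, hx⟩ hx'
      change cj k (α ⟨x, _⟩) ∈ _
      refine ⟨Q.conj (h2 _ hx'.1) hk, fun e => hx'.2.1 ?_, ?_⟩
      · exact congrArg Subtype.val (hα (cj_inj.1 (e.trans kd.symm)))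
      · conv_lhs => rw [← kd]
        exact commute_cj.2 ((commute_coe.1 hx'.2.2 :
          Commute (⟨d, subset_closure hd⟩ : closure Δ) ⟨x, _⟩).map α))
  have hl0 : k⁻¹ * l ∈ closure Δ := mul_mem (inv_mem hk) (le hl)
  have e0 : ∀ x (hx : x ∈ CC u ⊓ CC d), α ⟨x, le hx⟩ = cj (k⁻¹ * l) x := fun x hx => by
    have : cj k (α ⟨x, le hx⟩) = cj l x := e ⟨x, hx⟩
    rw [← cj_cj, ← this, cj_inv_cj]
  generalize k⁻¹ * l = m at hl0 e0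
  obtain ⟨b, hb, db⟩ := Q.adj_ne hd
  have dL : d ∈ CC u ⊓ CC d := ⟨mem_CC.2 (q d hd).1.symm, mem_CC.2 (Commute.refl d)⟩
  have core : ∀ n ∈ closure Δ, (∀ x (hx : x ∈ CC u ⊓ CC d), α ⟨x, le hx⟩ = cj n x) →
      α ⟨b, subset_closure hb⟩ = cj n b → ∃ l ∈ closure Δ, ∀ x, α x = cj l x := by
    intro n hn a1 a2
    refine ⟨n, hn, fun x => ?_⟩
    have : Δ ⊆ (α.eqLocus ((cjH n).comp (closure Δ).subtype)).map (closure Δ).subtype :=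
      Q.gen_res hd hb db (fun x hx => ⟨⟨x, subset_closure hx.1⟩,
        a1 x ⟨mem_CC.2 (q x hx.1).1.symm, mem_CC.2 hx.2.2.symm⟩, rfl⟩)
        ⟨⟨d, subset_closure hd⟩, a1 d dL, rfl⟩ ⟨⟨b, subset_closure hb⟩, a2, rfl⟩
    obtain ⟨y, hy, ey⟩ := (closure_le _).2 this x.2
    obtain rfl : y = x := Subtype.ext ey
    exact hy
  rcases mu22 Q U hb hd (fun c => db c.symm) (Q.conj (h2 ⟨b, subset_closure hb⟩ hb) (inv_mem hl0))
    (fun n hn n1 n2 => by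
      have nL : n ∈ CC u ⊓ CC d := ⟨mem_CC.2 (q n hn).1.symm, mem_CC.2 n2⟩
      rw [← commute_cj (g := m), cj_cj_inv, ← e0 n nL]
      exact (commute_coe.1 n1 : Commute (⟨n, le nL⟩ : closure Δ) ⟨b, _⟩).map α) with z | z | z
  · exact core m hl0 e0 (by rw [← cj_cj_inv m (α _), z])
  · have : α ⟨b, subset_closure hb⟩ = α ⟨d, le dL⟩ := by rw [e0 d dL, ← cj_cj_inv m (α _), z]
    have : b = d := congrArg Subtype.val (hα this)
    exact absurd (this ▸ Commute.refl d) db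
  · refine core (m * d) (mul_mem hl0 (subset_closure hd)) (fun x hx => ?_) ?_
    · rw [e0 x hx, ← cj_cj, cj_of_commute (mem_CC.1 hx.2).symm]
    · rw [← cj_cj_inv m (α _), z, ← cj_cj, Q.braid hd hb db]

theorem FB.transfer {x y : F23} {φ : CC x →* G} (c : Ch ι x φ) (hy : y ∈ Dx D23 x)
    (ψ : CC y →* G) (hψ : Function.Injective ψ)
    (e1 : ψ ⟨x, mem_CC.2 hy.2.2⟩ = φ (pt x)) (e2 : ψ (pt y) = φ ⟨y, dx_CC _ _ hy⟩)
    (e3 : Dx (Rs ψ) (φ (pt x)) = Dx (Rs φ) (φ ⟨y, dx_CC _ _ hy⟩)) :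
    ∃ l ∈ CC (φ (pt x)) ⊓ CC (φ ⟨y, dx_CC _ _ hy⟩),
      ∀ g (h1 : g ∈ CC x) (h2 : g ∈ CC y), ψ ⟨g, h2⟩ = cj l (φ ⟨g, h1⟩) := by
  have hd : φ ⟨y, dx_CC _ _ hy⟩ ∈ Rs φ := ⟨_, hy, rfl⟩
  let f : ↥(CC x ⊓ CC y) →* ↥(CC (φ (pt x)) ⊓ CC (φ ⟨y, dx_CC _ _ hy⟩)) :=
    (φ.comp (inclusion inf_le_left)).codRestrict _ fun g =>
      ⟨mem_CC.2 (pt_comm c.mem c.inj _).symm, mem_CC.2 ((commute_coe.1 (mem_CC.1 g.2.2) :
        Commute (inclusion inf_le_left g : CC x) ⟨y, _⟩).map φ)⟩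
  have bij : Function.Bijective f := by
    refine ⟨fun a b q => inclusion_injective _ (c.inj (congrArg Subtype.val q)), fun ⟨g, hg⟩ => ?_⟩
    have hg' := hg
    rw [← h.cent2 c.ori hd, closure_dx c.mem c.inj hy] at hg'
    obtain ⟨w, hw, rfl⟩ := hg'
    exact ⟨⟨w, hw⟩, rfl⟩
  let e := MulEquiv.ofBijective f bij
  obtain ⟨l, hl, k⟩ := h.aut1 c.ori hd ((ψ.comp (inclusion inf_le_right)).comp e.symm.toMonoidHom)
    (hψ.comp ((inclusion_injective _).comp e.symm.injective)) (fun z hz => by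
      obtain ⟨⟨w, hw⟩, rfl⟩ := e.surjective z
      change ψ (inclusion inf_le_right (e.symm (e _))) = φ ⟨w, hw.1⟩
      rw [e.symm_apply_apply]
      rcases hz with hz | hz
      · obtain rfl : w = x := congrArg Subtype.val (c.inj hz)
        exact e1
      · obtain rfl : w = y := congrArg Subtype.val (c.inj hz)
        exact e2) (fun z hz => by
      obtain ⟨⟨w, hw⟩, rfl⟩ := e.surjective z
      change ψ (inclusion inf_le_right (e.symm (e _))) ∈ _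
      rw [e.symm_apply_apply, ← e3, ← e1]
      have : w ∈ Dx (Dx D23 x) y := (mem_dx c.mem c.inj (w := ⟨w, hw.1⟩)).1 hz
      rw [dx_swap] at this
      exact (mem_dx hy.1 hψ).2 this)
  refine ⟨l, hl, fun g h1 h2 => ?_⟩
  have := k (e ⟨g, h1, h2⟩)
  change ψ (inclusion inf_le_right (e.symm (e _))) = _ at this
  rw [e.symm_apply_apply] at this
  exact this

theorem FB.ext1 {x y : F23} {φ : CC x →* G} (c : Ch ι x φ) (hy : y ∈ Dx D23 x) :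
    ∃ φ' : CC y →* G, Ch ι y φ' ∧ ∀ g (h1 : g ∈ CC x) (h2 : g ∈ CC y), φ' ⟨g, h2⟩ = φ ⟨g, h1⟩ := by
  have hd : φ ⟨y, dx_CC _ _ hy⟩ ∈ Rs φ := ⟨_, hy, rfl⟩
  obtain ⟨Δ', o', m, e⟩ := h.cl c.ori hd
  obtain ⟨ψ, c', p1, rfl, p3⟩ := h.exists_ch o' m hy.1 ⟨x, mem_CC.2 hy.2.2⟩ (dx_symm c.mem hy)
  obtain ⟨l, -, k⟩ := h.transfer c hy ψ c'.inj p3 p1 e
  refine ⟨(cjH l⁻¹).comp ψ, ⟨hy.1, (cjH_inj _).comp c'.inj, ?_⟩, fun g h1 h2 => ?_⟩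
  · rw [rs_cj]
    exact ori_cj c'.ori _
  · change cj l⁻¹ (ψ _) = _
    rw [k g h1 h2, cj_inv_cj]

theorem FB.cmp1 {p x y : F23} (T : T3 D23 p x y) {φ : CC x →* G} {φ' : CC y →* G} (c : Ch ι x φ)
    (c' : Ch ι y φ') (e : ∀ g (h1 : g ∈ CC x) (h2 : g ∈ CC y), Commute g p → φ' ⟨g, h2⟩ = φ ⟨g, h1⟩)
    (hp : p ∈ CC x) :
    (∀ g (h1 : g ∈ CC x) (h2 : g ∈ CC y), φ' ⟨g, h2⟩ = φ ⟨g, h1⟩) ∨
      ∀ g (h1 : g ∈ CC x) (h2 : g ∈ CC y), φ' ⟨g, h2⟩ = cj (φ ⟨p, hp⟩) (φ ⟨g, h1⟩) := by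
  have hy : y ∈ Dx D23 x := ⟨T.2.2.1.1, T.2.2.2.1, T.2.2.2.2⟩
  have hd : φ ⟨y, dx_CC _ _ hy⟩ ∈ Rs φ := ⟨_, hy, rfl⟩
  have e1 : φ' ⟨x, mem_CC.2 hy.2.2⟩ = φ (pt x) := e x _ _ T.2.1.2.2.symm
  have e2 : φ' (pt y) = φ ⟨y, dx_CC _ _ hy⟩ := e y _ _ T.2.2.1.2.2.symm
  obtain ⟨Δ', o', m, e3⟩ := h.cl c.ori hd
  have m' : φ (pt x) ∈ Rs φ' := ⟨_, dx_symm c.mem hy, e1⟩
  obtain ⟨-, -, sq, -, -, q, -⟩ := h.lq o'
  obtain rfl : Rs φ' = Δ' := by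
    refine (h.cases o' (e2 ▸ c'.ori)).resolve_right fun k => ?_
    rw [k] at m'
    obtain ⟨z, hz, ez⟩ := m'
    exact (q z hz).2.1 ((show _ * z = _ from ez) ▸ m)
  obtain ⟨l, hl, k⟩ := h.transfer c hy φ' c'.inj e1 e2 e3
  obtain ⟨Q, U⟩ := (h.lq c.ori).2.1 _ hd
  have hP : φ ⟨p, hp⟩ ∈ Dx (Rs φ) (φ ⟨y, dx_CC _ _ hy⟩) :=
    (mem_dx c.mem c.inj).2 ⟨dx_symm T.1 T.2.1, fun e => T.2.2.1.2.1 e.symm, T.2.2.1.2.2.symm⟩
  have cL := h.cent2 c.ori hd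
  have fix : ∀ g (h1 : g ∈ CC x), g ∈ CC y → Commute g p → Commute l (φ ⟨g, h1⟩) :=
    fun g h1 h2 h3 => cj_eq_self.1 ((k g h1 h2).symm.trans (e g h1 h2 h3))
  have mL : ∀ g (h1 : g ∈ CC x), g ∈ CC y →
      φ ⟨g, h1⟩ ∈ closure (Dx (Rs φ) (φ ⟨y, dx_CC _ _ hy⟩)) := fun g h1 h2 => by
    rw [closure_dx c.mem c.inj hy]
    exact ⟨⟨g, h1⟩, ⟨h1, h2⟩, rfl⟩
  have cen : ∀ {a : G} {S : Set G}, (∀ z ∈ S, Commute a z) → ∀ z ∈ closure S, cj a z = z :=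
    fun {a S} ha z hz => cj_of_commute (mem_CC.1
      ((closure_le (CC a)).2 (fun w hw => mem_CC.2 (ha w hw).symm) hz)).symm
  rcases cenU Q U hP (g := l) (fun z hz => Q.conj hz (cL ▸ hl))
    (fix p hp (mem_CC.2 T.2.2.1.2.2) (Commute.refl p)) (fun z hz => by
      obtain ⟨w, -, rfl⟩ := hz.1.1
      exact fix w w.2 (mem_CC.2 ((mem_dx c.mem c.inj).1 hz.1).2.2.symm)
        (comm_of c.mem c.inj hz.2.2).symm) with a | a
  · exact Or.inl fun g h1 h2 => (k g h1 h2).trans (cen a _ (mL g h1 h2))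
  · refine Or.inr fun g h1 h2 => ?_
    have := cen a (cj (φ ⟨p, hp⟩) (φ ⟨g, h1⟩)) (mul_mem (mul_mem (subset_closure hP) (mL g h1 h2))
      (inv_mem (subset_closure hP)))
    rw [← cj_cj, Q.cj_cj_same hP] at this
    exact (k g h1 h2).trans this

end

end H9.FB
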