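import Mathlib
import Cfsg.Agent.H9.FA3
import Cfsg.Agent.H3.FW1

set_option autoImplicit false

namespace H9.FB

open H0 H29 Subgroup

variable {G F K : Type*} [Group G] [Group F] [Group K]

section
variable [Finite G] {t : G} {ι : CC t23 →* G} (h : FB t ι) {u d : G} {Δ Δ' : Set G}
include h

theorem FB.level1 : ∃ ψ : F23 →* G, ∀ k : CC t23, ψ k = ι k := by
  obtain ⟨m1, m2, m3, dg⟩ := mem23
  have cm : ∀ s t : ℕ, s < 10 ∧ t < 10 ∧ (s, t) ∉ A342 ∧ (t, s) ∉ A342 → Commute (Fi23.P.e s) (Fi23.P.e t) :=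
    fun s t k => (dg s k.1 t k.2.1).2 k.2.2.1 k.2.2.2
  have br : ∀ s t : ℕ, s < 10 ∧ t < 10 ∧ (s, t) ∈ A342 → Commute (Fi23.P.e s) (Fi23.P.e t) →
      Fi23.P.e t = Fi23.P.e s := fun s t k c => by
    have := (dg s k.1 t k.2.1).1 k.2.2
    rwa [cj_of_commute c, cj_of_commute c.symm] at this
  have mc : ∀ {s t : ℕ}, Commute (Fi23.P.e s) (Fi23.P.e t) → Fi23.P.e s ∈ CC (Fi23.P.e t) := H3W.mem_CC.2
  have mt : ∀ c < 9, Fi23.P.e c ∈ CC t23 := fun c hc => H3W.mem_CC.2 (m2 c hc).2.2.symm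
  have c0 : Ch ι t23 ι := ⟨Cl.self _, h.inj, 1, cj_one _, by simp⟩
  obtain ⟨φ, c1, e1⟩ := h.ext1 c0 (m2 0 (by decide))
  obtain ⟨φ', c2, e2⟩ := h.ext1 c0 (m2 4 (by decide))
  have T : T3 D23 t23 (Fi23.P.e 0) (Fi23.P.e 4) := ⟨Cl.self _, m2 0 (by decide), m2 4 (by decide), fun e => by
    have a5 := br 4 5 (by decide) (e ▸ cm 0 5 (by decide))
    have a6 := br 5 6 (by decide) (a5 ▸ cm 4 6 (by decide))
    have a9 := br 6 9 (by decide) (a6 ▸ cm 5 9 (by decide))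
    exact m3 (a9 ▸ (m2 6 (by decide)).2.2), cm 0 4 (by decide)⟩
  let y : ℕ → CC t23 := fun c => if hc : c < 9 then ⟨_, mt c hc⟩ else 1
  have hy : ∀ c (hc : c < 9), y c = ⟨_, mt c hc⟩ := fun c hc => dif_pos hc
  have n9 := mc (cm 9 0 (by decide))
  have k : ∀ c, (c < 9 ∧ c < 10 ∧ 0 < 10 ∧ (c, 0) ∉ A342 ∧ (0, c) ∉ A342) →
      ∃ hc, ι (y c) = φ ⟨Fi23.P.e c, hc⟩ := fun c hc => ⟨mc (cm c 0 hc.2), by rw [hy c hc.1, e1]⟩
  obtain ⟨ψ, hψ, -⟩ := hom23 ι (j := φ ⟨_, n9⟩) (by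
    rw [← map_mul, ← φ.map_one]; exact congrArg φ (Subtype.ext (d23.1.sq _ (m1 9 (by decide))))) y
    (fun c hc => by rw [hy c hc]) (by
      obtain ⟨hc, e⟩ := k 6 (by decide)
      rw [e, ← map_cj, ← map_cj]
      exact congrArg φ (Subtype.ext ((dg 6 (by decide) 9 (by decide)).1 (by decide)).symm)) fun c hc => by
    by_cases c1' : c = 1
    · subst c1'
      have n4 := mc (cm 9 4 (by decide))
      have a : Commute (φ' ⟨_, n4⟩) (ι (y 1)) := by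
        rw [hy 1 (by decide), ← e2 _ _ (mc (cm 1 4 (by decide)))]
        exact Commute.map (Subtype.ext (cm 9 1 (by decide)).eq) φ'
      have tp : t23 ∈ CC (Fi23.P.e 0) := H3W.mem_CC.2 (m2 0 (by decide)).2.2
      rcases h.cmp1 T c1 c2 (fun g h1 h2 c => (e2 g (H3W.mem_CC.2 c) h2).trans (e1 g _ h1).symm) tp with k | k
      · rwa [k _ n9 n4] at a
      · rw [k _ n9 n4, e1 t23 (pt t23).2 tp] at a
        have b : Commute (⟨t23, (pt t23).2⟩ : CC t23) (y 1) := Subtype.ext (H3W.mem_CC.1 (y 1).2).symm.eq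
        exact (commute_cj_left (b.map ι)).1 a
    · have c9 := cm 9 c (by revert c; decide)
      obtain ⟨hc', e⟩ := k c (by clear c9; revert c; decide)
      rw [e]
      exact Commute.map (Subtype.ext c9.eq) φ
  exact ⟨ψ, hψ⟩

end

end H9.FB
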