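import Mathlib
import Cfsg.Agent.H3.FW4

set_option autoImplicit false

namespace H9.FB

open H0 H29 Subgroup

variable {G F K : Type*} [Group G] [Group F] [Group K]

section
variable [Finite G] {t : G} {ι : CC t23 →* G} (h : FB t ι) {u d : G} {Δ Δ' : Set G}
include h

theorem FB.level0 [Finite F] {ψ : F23 →* G} (hψ : ∀ k : CC t23, ψ k = ι k) {D : Set F} {e : ℕ → F}
    {χ : F →* ℤˣ} {φ : F23 →* F} {x2 : F} {col : F → ZMod 3} (m : FI D e χ φ x2 col) :
    ∃ Φ : χ.ker →* G, ∀ (y : F23) (hy : φ y ∈ χ.ker), Φ ⟨φ y, hy⟩ = ψ y := H3W.level0 h m hψ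

end

end H9.FB
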