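import Mathlib
import Cfsg.Agent.H9.FA4
import Cfsg.Agent.H9.FA5

set_option autoImplicit false

namespace H9.FB

open H0 H29 Subgroup

variable {G F K : Type*} [Group G] [Group F] [Group K]

theorem H3W.t3_trans {a b c a' b' c' : F23} (T : T3 D23 a b c) (T' : T3 D23 a' b' c') :
    ∃ k, cj k a = a' ∧ cj k b = b' ∧ cj k c = c' := by
  have : Finite F23 := Fi23.bd.1
  obtain ⟨g, rfl⟩ := d23.1.trans a T.1 a' T'.1
  have T1 := T.cj (k := g) fun x hx => d23.1.conj x hx g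
  obtain ⟨k, hk, e1, e2⟩ := (d23.2 _ T'.1).1.comm_pair_trans T1.2.1 T'.2.1 T1.2.2 T'.2.2
  rw [gen0 T'.1] at hk
  exact ⟨k * g, by rw [← cj_cj, cj_of_commute (H3W.mem_CC.1 hk)], by rw [← cj_cj, e1], by rw [← cj_cj, e2]⟩

section
variable [Finite G] {t : G} {ι : CC t23 →* G} (h : FB t ι) {u d : G} {Δ Δ' : Set G}
include h

theorem FB.fin [Finite F] {D : Set F} {e : ℕ → F} {χ : F →* ℤˣ} {φ : F23 →* F} {x2 : F}
    {col : F → ZMod 3} (m : FI D e χ φ x2 col) [IsSimpleGroup χ.ker] :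
    ∃ Φ : χ.ker →* G, Function.Injective Φ ∧ CC t ≤ Φ.range ∧ ∃ z0 ∈ ι.range, ¬ IsConj t z0 ∧
      ∀ u ∈ ι.range, u * u = 1 →
        u = 1 ∨ (∃ g ∈ Φ.range, cj g u = t) ∨ ∃ g ∈ Φ.range, cj g u = z0 := by
  obtain ⟨ψ, hψ⟩ := h.level1
  obtain ⟨Φ, hΦ⟩ := h.level0 hψ m
  have p := H3W.par11 m
  have l0 := m.mem 11 (by decide)
  have mk : ∀ y, φ y ∈ χ.ker := fun y => ((p.rng _).1 ⟨y, rfl⟩).2
  have et : ψ t23 = t := (hψ (pt t23)).trans h.it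
  have c0 : Ch ι t23 ι := ⟨Cl.self _, h.inj, 1, cj_one _, by simp⟩
  have o : Ori ι t (Rs ι) := h.it ▸ c0.ori
  have i : Function.Injective Φ := inj_of_simple Φ (g := ⟨_, mk t23⟩) fun k =>
    (h.lq o).2.2.2.2.1 (by
      obtain ⟨x, hx⟩ := (h.lq o).1.nonempty
      exact absurd (by rwa [← et, ← hΦ _ (mk _), k, one_mul]) ((h.lq o).2.2.2.2.2.1 x hx).2.1)
  have rψ : ∀ y, ψ y ∈ Φ.range := fun y => ⟨_, hΦ y (mk y)⟩
  have rι : ι.range ≤ Φ.range := by rintro _ ⟨y, rfl⟩; exact hψ y ▸ rψ y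
  have dx : ∀ y ∈ D23, φ y * e 11 ∈ Dx D (e 11) := fun y hy => (p.res _).2 ⟨y, hy, (p.mm _).symm⟩
  have tr : ∀ (g : F) (hg : χ g = 1) (w w' : F23), cj g (φ w) = φ w' → cj (Φ ⟨g, hg⟩) (ψ w) = ψ w' :=
    fun g hg w w' k => by
      rw [← hΦ w (mk w), ← hΦ w' (mk w'), ← map_cj]
      exact congrArg Φ (Subtype.ext k)
  obtain ⟨d0, hd⟩ := (d23.2 t23 (Cl.self _)).1.nonempty
  obtain ⟨e0, he⟩ := (d23.2 t23 (Cl.self _)).1.Dx_ne hd
  have md : d0 ∈ CC t23 := H3W.mem_CC.2 hd.2.2.symm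
  have me : e0 ∈ CC t23 := H3W.mem_CC.2 he.1.2.2.symm
  have ez : ψ (t23 * d0 * e0) = t * ι ⟨d0, md⟩ * ι ⟨e0, me⟩ := by rw [map_mul, map_mul, et, ← hψ, ← hψ]
  refine ⟨Φ, i, fun a ha => ?_, ψ (t23 * d0 * e0), ⟨pt t23 * ⟨d0, md⟩ * ⟨e0, me⟩, by
    rw [ez, map_mul, map_mul, h.it]⟩, ?_, ?_⟩
  · obtain ⟨g, hg, e1, e2⟩ := H3W.swap m l0 (dx _ (Cl.self _))
    have c : Commute (Φ ⟨g, hg⟩) t := et ▸ cj_eq_self.1 (tr g hg _ _ (by
      rw [← p.mm (φ t23), cj_mul, e1, e2]; exact (dx _ (Cl.self _)).2.2.eq))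
    have n : Φ ⟨g, hg⟩ ∉ closure (Rs ι) := by
      rw [← h.range c0]
      rintro ⟨w, hw⟩
      rw [← hψ, ← hΦ _ (mk _)] at hw
      have : φ w = g := congrArg Subtype.val (i hw)
      rw [← this, cj_of_commute (p.cm _)] at e1
      exact (dx _ (Cl.self _)).2.1 e1.symm
    by_cases k : a ∈ closure (Rs ι)
    · exact rι (h.range c0 ▸ k)
    · have := h.idx o (H3W.mem_CC.1 ha) c k n
      rw [← h.range c0] at this
      exact (Φ.range.mul_mem_cancel_right ⟨_, rfl⟩).1 (rι this)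
  · rw [ez]
    exact h.ori _ ⟨_, hd, rfl⟩ _ ⟨_, he.1, rfl⟩ (fun k => he.2.1 (congrArg Subtype.val (h.inj k)).symm)
      (Commute.map (Subtype.ext he.2.2.eq) ι)
  · rintro _ ⟨w, rfl⟩ hw
    rw [← hψ]
    have w2 : w * w = 1 := h.inj (by rwa [map_mul, map_one])
    rcases inv23 (u := w) (congrArg Subtype.val w2) with k | k | ⟨a, ha, b, hb, k⟩ | ⟨a, b, c, T, k⟩
    · exact Or.inl (by rw [k, map_one])
    · obtain ⟨g, hg⟩ := d23.1.trans _ k _ (Cl.self _)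
      exact Or.inr (Or.inl ⟨_, rψ g, by rw [← map_cj, hg, et]⟩)
    · have hab : φ b * e 11 ∈ Dx D (φ a * e 11) := by
        have := p.fiso.image_Dx ha
        rw [p.img] at this
        exact (H3W.Dx_swap (this.le ⟨b, hb, rfl⟩)).1
      obtain ⟨g, hg⟩ := m.tt.trans _ (dx a ha).1 _ l0
      obtain ⟨g', h1, h2⟩ := H3W.even_of m (g := g) (dx a ha).1
      have e1 : cj g' (φ a * e 11) = e 11 := by
        rcases h2 with rfl | rfl
        exacts [hg, by rw [← cj_cj, cj_self, hg]]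
      obtain ⟨k', hk, e2⟩ := H3W.trans_Fx m l0 (y := cj g' (φ b * e 11))
        (by have := (H3W.Dx_cj m (g := g')).2 hab; rwa [e1] at this) (dx _ (Cl.self _))
      obtain ⟨k1, k2⟩ := H3W.mem_Fx.1 hk
      refine Or.inr (Or.inl ⟨_, ⟨⟨k' * g', mul_mem k2 h1⟩, rfl⟩, et ▸ tr _ _ _ _ ?_⟩)
      have : φ (a * b) = φ b * e 11 * (φ a * e 11) := by
        rw [hb.2.2.eq, map_mul, (p.cm a).eq, ← mul_assoc, p.mm]
      rw [k, this, ← cj_cj, cj_mul, cj_mul k', e1, e2, cj_of_commute k1, p.mm]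
    · obtain ⟨g, e1, e2, e3⟩ := H3W.t3_trans T ⟨Cl.self _, hd, he⟩
      exact Or.inr (Or.inr ⟨_, rψ g, by rw [← map_cj, k, cj_mul, cj_mul, e1, e2, e3]⟩)

end

end H9.FB
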