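import Mathlib
import Cfsg.Agent.H9.JRB
import Cfsg.Agent.H11.JC1

set_option autoImplicit false
namespace H9.R
open Cfsg H9.J4 Subgroup

theorem cent_w0 : centralizer {w0} ≤ HH := H11.J4R.cent_δ H11.J4R.pt01

theorem two_classes : orderOf s' = 2 ∧ orderOf w0 = 2 ∧ ¬ IsConj s' w0 ∧
    ∀ u : G, orderOf u = 2 → IsConj u s' ∨ IsConj u w0 :=
  ⟨H11.J4R.ord_s, H11.J4R.ord_w, H11.J4R.not_conj, fun u hu => H11.J4R.inv_cases
    (by rw [← sq, ← hu, pow_orderOf_eq_one]) fun h => by simp [h] at hu⟩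

end H9.R
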