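import Mathlib
import Cfsg.Agent.H9.LB0

/-!
# The four-group `⟨t, s⟩`, the fusion data, and the interfaces of the local analysis
-/

set_option autoImplicit false
set_option maxRecDepth 100000
set_option linter.all false

namespace H9.L

open H29 H9.GF2 Matrix Subgroup
open H9.R hiding cls CL qb Bb ew Std TL pcs wsT cls_va0 cls_vecMul cls_eq_zero cls_zero cls_lt ncard_cls cls_ind R0 c_pcs c_TL c_key nodup_TL ncard_mat mat_inj_TL

variable {G Γ U H : Type*} [Group G] [Group Γ] [Group U] [Group H]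

/-- What is used about `U₄(3)`: `E = 3 ^ 4`, `P = 3 ^ 4 : A₆`, `D = D₈`. -/
structure UD (E P D : Subgroup U) (x : U) : Prop where
  cardE : Nat.card E = 81
  exp : ∀ a ∈ E, a ^ 3 = 1
  comm : ∀ a ∈ E, ∀ b ∈ E, a * b = b * a
  le : E ≤ P
  norm : ∀ g ∈ P, ∀ a ∈ E, g * a * g⁻¹ ∈ E
  perf : ⁅P, P⁆ = P
  idx : 360 ≤ (centralizer (E : Set U)).relIndex P
  hyp : ∀ A ≤ E, Nat.card A = 27 → 7 ≤ {B : Subgroup U | ∃ g ∈ P, B = A.map (MulAut.conj g).toMonoidHom}.ncard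
  alt : ∀ f : U → U → ZMod 3, (∀ a ∈ E, ∀ b ∈ E, ∀ e ∈ E, f a (b * e) = f a b + f a e) →
    (∀ a ∈ E, ∀ b ∈ E, ∀ e ∈ E, f (a * b) e = f a e + f b e) → (∀ a ∈ E, f a a = 0) →
    (∀ g ∈ P, ∀ a ∈ E, ∀ b ∈ E, f (g * a * g⁻¹) (g * b * g⁻¹) = f a b) → ∀ a ∈ E, ∀ b ∈ E, f a b = 0
  Dle : D ≤ P
  cardD : Nat.card D = 8
  x2 : x * x = 1
  xD : ∀ a ∈ D, x * a = a * x
  o3 : ∃ a ∈ E, (x * a) ^ 3 = 1
  o5 : ∃ a ∈ E, (x * a) ^ 5 = 1
  o9 : ∃ a ∈ E, (x * a) ^ 9 = 1 ∧ (x * a) ^ 3 ≠ 1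
  top : P ⊔ zpowers x = ⊤
  card : Nat.card U = 3265920

/-- A faithful representation of a central extension `3 · U`. -/
structure Rep (H U : Type*) [Group H] [Group U] where
  ρ : H →* Mx
  f : H →* U
  θ : H
  inj : Function.Injective ρ
  surj : Function.Surjective f
  ker : ∀ g, f g = 1 ↔ g ∈ zpowers θ
  cen : ∀ g, g * θ = θ * g
  ord : orderOf θ = 3

/-- Change of basis. -/
noncomputable def Rep.map (r : Rep H U) (A B : Mx) (h : A * B = 1) : Rep H U :=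
  { r with
    ρ :=
      { toFun := fun g => A * r.ρ g * B
        map_one' := by rw [map_one, mul_one, h]
        map_mul' := fun a b => by
          rw [map_mul]
          simp only [mul_assoc]
          rw [← mul_assoc B A, mul_eq_one_comm.1 h, one_mul] }
    inj := fun a b e => r.inj (by
      have := congrArg (fun x => B * x * A) e
      simp only [MonoidHom.coe_mk, OneHom.coe_mk, mul_assoc] at this
      rwa [mul_eq_one_comm.1 h, mul_one, mul_one, ← mul_assoc, ← mul_assoc, mul_eq_one_comm.1 h, one_mul,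
        one_mul] at this) }

theorem Rep.map_ρ (r : Rep H U) (A B : Mx) (h : A * B = 1) (g : H) : (r.map A B h).ρ g = A * r.ρ g * B := rfl
theorem Rep.map_f (r : Rep H U) (A B : Mx) (h : A * B = 1) : (r.map A B h).f = r.f := rfl
theorem Rep.map_θ (r : Rep H U) (A B : Mx) (h : A * B = 1) : (r.map A B h).θ = r.θ := rfl

/-- `θ` is the scalar, `E` is diagonal and `P` is monomial (`c * 4 ^ i` codes `c eᵢ`). -/
structure Lines (r : Rep H U) (E P : Subgroup U) : Prop where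
  th : r.ρ r.θ = mat TH
  dg : ∀ a, r.f a ∈ E → ∀ i < 6, ∃ c ∈ [1, 2, 3], vec (4 ^ i) ᵥ* r.ρ a = vec (c * 4 ^ i)
  mon : ∀ g, r.f g ∈ P → ∀ i < 6, ∃ k < 6, ∃ c ∈ [1, 2, 3], vec (4 ^ i) ᵥ* r.ρ g = vec (c * 4 ^ k)

/-- `P` acts as the standard group `3 ^ 5 : A₆`. -/
structure Mon (r : Rep H U) (E P : Subgroup U) : Prop extends Lines r E P where
  sub : ∀ g, r.f g ∈ P → ∃ w, (∀ i ∈ w, i ∈ [0, 1, 2, 4]) ∧ r.ρ g = mat (ew w)
  sup : ∀ i ∈ [0, 1, 2, 4], ∃ g, r.f g ∈ P ∧ r.ρ g = mat (nth one L6 i)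
  card : Nat.card (P.comap r.f) = 87480

/-- The image of `Q ∩ Q_u`. -/
def E0 : List ℕ := [0, 5, 17, 20, 65, 68, 80, 85, 170, 175, 187, 190, 235, 238, 250, 255, 1280, 1285, 1297,
  1300, 1345, 1348, 1360, 1365, 1450, 1455, 1467, 1470, 1515, 1518, 1530, 1535, 2816, 2821, 2833, 2836, 2881,
  2884, 2896, 2901, 2986, 2991, 3003, 3006, 3051, 3054, 3066, 3071, 3584, 3589, 3601, 3604, 3649, 3652, 3664,
  3669, 3754, 3759, 3771, 3774, 3819, 3822, 3834, 3839]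

namespace StM

variable (c : StM Γ)

/-- The lift of a vector singled out by `d`. -/
noncomputable def lf (x : V) : Γ := c.s x * (c.s x * c.d) ^ 3

theorem lf_eq (x : V) : ∃ t, c.lf x = c.s x * c.zp t ∧ (c.s x * c.d) ^ 3 = c.zp t :=
  let ⟨t, h⟩ := c.fp.exists_t (c.s_mem x)
  ⟨t, by rw [lf, h], h⟩
theorem lf_mem (x : V) : c.lf x ∈ c.Q := by
  obtain ⟨t, h, -⟩ := c.lf_eq x
  exact h ▸ mul_mem (c.s_mem x) (c.zp_mem t)
theorem π_lf (x : V) : c.π (c.lf x) = x := by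
  obtain ⟨t, h, -⟩ := c.lf_eq x
  rw [h, c.π_mul_zp (c.s_mem x), Co.π_s]
theorem lf_cube (x : V) : (c.lf x * c.d) ^ 3 = 1 := by
  obtain ⟨t, h, h1⟩ := c.lf_eq x
  rw [h, Co.cube_zp, h1, Co.zp_sq]
theorem eq_lf {a : Γ} (ha : a ∈ c.Q) (h : (a * c.d) ^ 3 = 1) : a = c.lf (c.π a) :=
  c.fp.eq_of_cube ha (c.lf_mem _) (c.π_lf _).symm (h.trans (c.lf_cube _).symm)
theorem lf_conj {k : Γ} (h : k⁻¹ * c.d * k = c.d) (x : V) : k⁻¹ * c.lf x * k = c.lf (x ᵥ* c.ρ k) := by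
  have := c.eq_lf (c.conj_mem k (c.lf_mem x)) (by
    conv_lhs => rw [← h]
    rw [show k⁻¹ * c.lf x * k * (k⁻¹ * c.d * k) = k⁻¹ * (c.lf x * c.d) * k by group, conj_pow', lf_cube]; simp)
  rwa [c.π_conj _ _ (c.lf_mem x), π_lf] at this
theorem lf_conj' {k : Γ} (h : k⁻¹ * c.d * k = c.d⁻¹) {x : V} (hx : c.q x = 0) :
    k⁻¹ * c.lf x * k = c.lf (x ᵥ* c.ρ k) := by
  have h0 := c.conj_mem k (c.lf_mem x)
  have h2 : c.π (k⁻¹ * c.lf x * k) = x ᵥ* c.ρ k := by rw [c.π_conj _ _ (c.lf_mem x), π_lf]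
  have h3 : ∀ y : V, c.B (y ᵥ* c.ρ c.d⁻¹) (y ᵥ* c.ρ c.d) = c.q y := fun y => by
    have := c.fp.sum y
    rw [add_assoc, add_eq_zero'] at this
    rw [Co.B, ← this, Co.q_ρ, Co.q_ρ, add_assoc, CharTwo.add_self_eq_zero, add_zero]
  rw [← h2]
  refine c.eq_lf h0 ?_
  rw [c.fp.cube_inv h0, h3, h2, Co.q_ρ, hx, Co.zp_zero, mul_one, ← h,
    show k⁻¹ * c.lf x * k * (k⁻¹ * c.d * k) = k⁻¹ * (c.lf x * c.d) * k by group, conj_pow', lf_cube]; simp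

/-- The involution `t`. -/
noncomputable def tt : Γ := c.lf (vec 5)
/-- The involution `s`. -/
noncomputable def ss : Γ := c.lf (vec 10)

theorem sq_of_qb {a : Γ} (ha : a ∈ c.Q) {x : ℕ} (h : c.π a = vec x) (h1 : x < 4096 ∧ qb x = false) :
    a * a = 1 := by rw [c.sq_q ha, c.q_eq, h, cd_vec h1.1, h1.2]; exact c.zp_zero
theorem comm_Bb {a b : Γ} (ha : a ∈ c.Q) (hb : b ∈ c.Q) {x y : ℕ} (h : c.π a = vec x) (h' : c.π b = vec y)
    (h1 : x < 4096) (h2 : y < 4096) : a * b = b * a * c.zp (bz (Bb x y)) := by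
  rw [c.comm_B ha hb, c.B_eq, h, h', cd_vec h1, cd_vec h2]
theorem tt_mem : c.tt ∈ c.Q := c.lf_mem _
theorem ss_mem : c.ss ∈ c.Q := c.lf_mem _
theorem π_tt : c.π c.tt = vec 5 := c.π_lf _
theorem π_ss : c.π c.ss = vec 10 := c.π_lf _
theorem tt_sq : c.tt * c.tt = 1 := c.sq_of_qb c.tt_mem c.π_tt (by decide +kernel)
theorem ss_sq : c.ss * c.ss = 1 := c.sq_of_qb c.ss_mem c.π_ss (by decide +kernel)
theorem tt_ss : c.tt * c.ss = c.ss * c.tt := by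
  rw [c.comm_Bb c.tt_mem c.ss_mem c.π_tt c.π_ss (by decide) (by decide),
    show Bb 5 10 = false by decide +kernel]
  exact (congrArg _ c.zp_zero).trans (mul_one _)
theorem d_d : c.d⁻¹ * c.d * c.d = c.d := by group
theorem tt_d : c.d⁻¹ * c.tt * c.d = c.ss := by
  rw [tt, c.lf_conj c.d_d, ρ_d, ← vec_va, show va 5 TH = 10 by decide +kernel]; rfl
theorem lf15 : c.lf (vec 15) = c.tt * c.ss := by
  have h1 : c.d * c.tt * c.d⁻¹ = c.lf (vec 15) := by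
    have := c.lf_conj (k := c.d⁻¹) (by group) (vec 5)
    rwa [inv_inv, ρ_d_inv, ← vec_va, show va 5 (mu TH TH) = 15 by decide +kernel] at this
  have h2 := c.lf_cube (vec 5)
  rw [c.fp.cube] at h2
  change c.tt * (c.d * c.tt * c.d⁻¹) * (c.d⁻¹ * c.tt * c.d) = 1 at h2
  rw [h1, tt_d] at h2
  calc c.lf (vec 15) = c.tt * (c.tt * c.lf (vec 15) * c.ss) * c.ss := by
        rw [← mul_assoc, ← mul_assoc, tt_sq, one_mul, mul_assoc, ss_sq, mul_one]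
    _ = _ := by rw [h2, mul_one]
theorem ss_d : c.d⁻¹ * c.ss * c.d = c.tt * c.ss := by
  rw [← lf15, ss, c.lf_conj c.d_d, ρ_d, ← vec_va, show va 10 TH = 15 by decide +kernel]

/-- Elements of `Q` with images in the same nonzero class are conjugate. -/
theorem conj_Q {a b : Γ} (ha : a ∈ c.Q) (hb : b ∈ c.Q) (h : cls (cd (c.π a)) = cls (cd (c.π b)))
    (h0 : c.π b ≠ 0) : ∃ g ∈ c.M, g⁻¹ * a * g = b := by
  obtain ⟨g, hg, e⟩ := c.conj_cls h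
  rcases c.eq_of_π (c.conj_mem g ha) hb (by rw [c.π_conj _ _ ha, e]) with h1 | h1
  · exact ⟨g, hg, h1⟩
  have : ∃ x ∈ c.Q, b * x ≠ x * b := by
    by_contra hn
    push Not at hn
    exact h0 (c.nd b hb hn)
  obtain ⟨x, hx, h2⟩ := this
  refine ⟨g * x, mul_mem hg (c.Q_le hx), ?_⟩
  rw [show (g * x)⁻¹ * a * (g * x) = x⁻¹ * (g⁻¹ * a * g) * x by group, h1, mul_assoc, mul_assoc, ← c.zc,
    ← mul_assoc b, (c.comm hb hx).resolve_left h2, mul_assoc, c.z2]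
  group

/-- The centraliser of `t` and `s`. -/
def W : Subgroup Γ := centralizer {c.tt} ⊓ centralizer {c.ss}

end StM

namespace Am

variable (c : Am G Γ)

/-- The centraliser in `G` of `t` and `s`. -/
def L : Subgroup G := centralizer {c.j c.tt} ⊓ centralizer {c.j c.ss}

end Am

/-- `g` swaps `z` with an involution `u` of `Q` and centralises `t`. -/
structure Fu (c : Am G Γ) (g : G) (u : Γ) : Prop where
  c1 : ∀ a ∈ c.Q, cls (cd (c.π a)) = 1 → ¬ IsConj (c.j c.z) (c.j a)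
  uQ : u ∈ c.Q
  πu : c.π u = vec 85
  gz : g * c.j c.z * g⁻¹ = c.j u
  gu : g * c.j u * g⁻¹ = c.j c.z
  gt : g * c.j c.tt * g⁻¹ = c.j c.tt
  R : ∀ a ∈ c.Q, a * u = u * a → ∃ r, c.j r = g * c.j a * g⁻¹ ∧ (∃ A ∈ AL, c.ρ r = mat A) ∧
    (r ∈ c.Q ↔ cd (c.π a) ∈ E0)
  onto : ∀ A ∈ AL, ∃ a ∈ c.Q, ∃ r, c.j r = g * c.j a * g⁻¹ ∧ c.ρ r = mat A
  mem : ∀ r ∈ c.Q, (∃ a ∈ c.Q, c.j r = g * c.j a * g⁻¹) ↔ cd (c.π r) ∈ E0

theorem Fu.c2 {c : Am G Γ} {g : G} {u : Γ} (h : Fu c g u) {a : Γ} (ha : a ∈ c.Q)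
    (h1 : cls (cd (c.π a)) = 2) : IsConj (c.j c.z) (c.j a) := by
  obtain ⟨k, -, e⟩ := c.conj_Q h.uQ ha (by
    rw [h1, h.πu, cd_vec (by decide)]; decide +kernel) fun e => by
    rw [e, cls_zero] at h1; exact absurd h1 (by decide)
  exact (isConj_iff.2 ⟨g, h.gz⟩).trans (isConj_iff.2 ⟨c.j k⁻¹, by rw [← e]; simp⟩)

theorem Fu.tz {c : Am G Γ} {g : G} {u : Γ} (h : Fu c g u) : ¬ IsConj (c.j c.z) (c.j c.tt) :=
  h.c1 _ c.tt_mem (by rw [c.π_tt, cd_vec (by decide)]; decide +kernel)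

/-- The subgroup `2 · Fi₂₂` of index two in the centraliser of `t`. -/
structure KK (K : Subgroup G) (t s z : G) : Prop where
  le : K ≤ centralizer {t}
  idx : K.relIndex (centralizer {t}) = 2
  L_le : centralizer {t} ⊓ centralizer {s} ≤ K
  nst : ∀ k ∈ K, k * s * k⁻¹ ≠ s * t
  r0 : ∃ r ∈ K, r * z = z * r ∧ r * s * r⁻¹ = s * t * z

end H9.L
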