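import Mathlib
import Cfsg.Prelude.Def_Sporadic
import Cfsg.Agent.H9.AutDesign

/-! Uniqueness and automorphism groups of S(5,6,12) and S(4,5,11). -/

set_option autoImplicit false
set_option linter.unusedSectionVars false

namespace H9

open Cfsg Finset MulAction
open scoped symmDiff Pointwise

/-- the hexads on the dodecad of squares. -/
def H12 : Set (Finset GolayPt) :=
  {s | ∃ o ∈ octads, (o ∩ ofMask dod0).card = 6 ∧ s = o ∩ ofMask dod0}

theorem card_dod0 : (ofMask dod0).card = 12 := dod0_mem.2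

theorem H12_sub {s : Finset GolayPt} (hs : s ∈ H12) : s ⊆ ofMask dod0 ∧ s.card = 6 := by
  obtain ⟨o, -, h, rfl⟩ := hs
  exact ⟨inter_subset_right, h⟩

theorem H12_cover {T : Finset GolayPt} (hT : T ⊆ ofMask dod0) (h5 : T.card = 5) :
    ∃ s ∈ H12, T ⊆ s := by
  obtain ⟨o, ⟨ho, hTo⟩, -⟩ := octads_steiner.2 T h5
  have h1 := card_le_card (subset_inter hTo hT)
  have h2 := octad_inter_dodecad ho dod0_mem
  exact ⟨_, ⟨o, ho, by omega, rfl⟩, subset_inter hTo hT⟩

theorem H12_compl {s : Finset GolayPt} (hs : s ∈ H12) : ofMask dod0 \ s ∈ H12 := by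
  obtain ⟨o, ho, h, rfl⟩ := hs
  have h1 := card_symmDiff_add o (ofMask dod0)
  have e : (o ∆ ofMask dod0) ∩ ofMask dod0 = ofMask dod0 \ (o ∩ ofMask dod0) := by
    ext x
    simp only [mem_inter, Finset.mem_symmDiff, mem_sdiff]
    tauto
  refine ⟨o ∆ ofMask dod0, ⟨symmDiff_mem_GC ho.1 dod0_mem.1, ?_⟩, ?_, e.symm⟩
  · rw [ho.2, card_dod0] at h1; omega
  · rw [e, card_sdiff_of_subset inter_subset_right, card_dod0, h]

theorem smul_mem_H12 {g : Equiv.Perm GolayPt} (hg : g ∈ Stab [] [dod0]) {s : Finset GolayPt}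
    (hs : s ∈ H12) : g • s ∈ H12 := by
  obtain ⟨o, ho, h, rfl⟩ := hs
  have e : g • (o ∩ ofMask dod0) = g • o ∩ ofMask dod0 := by
    rw [Finset.smul_finset_inter, smul_dod0 _ g hg]
  exact ⟨g • o, (smul_mem_octads_iff hg.1).2 ho, by rw [← e, card_smul_finset, h], e⟩

def memL (l : List ℕ) (x : ℕ) : Bool := anyL l fun y => Nat.beq y x

theorem memL_iff {l : List ℕ} {x : ℕ} : memL l x = true ↔ x ∈ l := by
  simp [memL, anyL_iff]

/-- every hexad occurs in the list. -/
def allHex (K : List ℕ) : Bool := treeAll (fun m => force (cw m) fun o =>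
  force (Nat.land o dod0) fun b => !(Nat.beq (pc o) 8 && Nat.beq (pc b) 6) || memL K b) 12 0

theorem allHex_sound {K : List ℕ} (h : allHex K = true) {s : Finset GolayPt} (hs : s ∈ H12) :
    ∃ b ∈ K, s = ofMask b := by
  obtain ⟨o, ho, h6, rfl⟩ := hs
  obtain ⟨m, hm, rfl⟩ := exists_cw_of_mem ho.1
  have h1 := (treeAll_iff _ _).1 h m hm
  have h8 := ho.2
  rw [← ofMask_and, card_ofMask] at h6
  rw [card_ofMask] at h8
  simp only [force_eq, Bool.or_eq_true, Bool.not_eq_true', Bool.and_eq_false_iff] at h1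
  rw [← Bool.not_eq_true, ← Bool.not_eq_true, beq_iff, beq_iff, memL_iff] at h1
  refine ⟨_, ?_, (ofMask_and _ _).symm⟩
  rcases h1 with (h1 | h1) | h1
  · exact absurd h8 h1
  · exact absurd h6 h1
  · exact h1

structure Good12 (F : Set (Finset GolayPt)) : Prop where
  inter : ∀ b ∈ F, ∀ c ∈ F, (b ∩ c).card ≠ 1 ∧ (b ∩ c).card ≠ 5
  compl : ∀ b ∈ F, b ∆ ofMask dod0 ∈ F
  cover : ∀ T ⊆ ofMask dod0, T.card = 5 → ∃ b ∈ F, T ⊆ b ∧ b ⊆ ofMask dod0 ∧ b.card = 6

theorem Good12.comap {F : Set (Finset GolayPt)} (h : Good12 F) (σ : Equiv.Perm GolayPt)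
    (hσ : σ • ofMask dod0 = ofMask dod0) : Good12 {s | σ • s ∈ F} := by
  refine ⟨fun b hb c hc => ?_, fun b hb => ?_, fun T hT h5 => ?_⟩
  · have := h.inter _ hb _ hc
    rwa [← Finset.smul_finset_inter, card_smul_finset] at this
  · rw [Set.mem_ofPred_eq, smul_symmDiff', hσ]
    exact h.compl _ hb
  · obtain ⟨b, hb, h1, h2, h3⟩ := h.cover (σ • T) (by
      rw [← hσ]; exact Finset.smul_finset_subset_smul_finset hT) (by rwa [card_smul_finset])
    refine ⟨σ⁻¹ • b, by simpa using hb, ?_, ?_, by rwa [card_smul_finset]⟩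
    · rwa [Finset.subset_smul_finset_iff, inv_inv]
    · rwa [Finset.smul_finset_subset_iff, inv_inv, hσ]

def aliveH (K : List ℕ) (b : ℕ) : Bool :=
  allL K fun r => force (pc (Nat.land b r)) fun w => !Nat.beq w 1 && !Nat.beq w 5

def chkH (K : List ℕ) (b0 c0 b ρ : ℕ) : Bool :=
  validP ρ && Nat.beq (actM ρ dod0) dod0 && force (Nat.xor b dod0) fun c =>
    allL (b0 :: c0 :: K) fun r => force (actM ρ r) (memL (b :: c :: K))

def stepH (K : List ℕ) (T b0 c0 : ℕ) (certs : List ℕ) : Bool :=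
  Nat.beq (pc T) 5 && Nat.beq (Nat.land T dod0) T &&
    zipChk (aliveH K) (chkH K b0 c0) (supers dod0 T 1) certs

def runH (steps : List (ℕ × ℕ × ℕ × List ℕ)) : List ℕ → Bool :=
  List.rec allHex (fun st _ r K =>
    stepH K st.1 st.2.1 st.2.2.1 st.2.2.2 && r (st.2.1 :: st.2.2.1 :: K)) steps

theorem stepH_sound {K : List ℕ} {T b0 c0 : ℕ} {certs : List ℕ}
    (h : stepH K T b0 c0 certs = true) {F : Set (Finset GolayPt)} (hF : Good12 F)
    (hK : ∀ r ∈ K, ofMask r ∈ F) :
    ∃ σ : Equiv.Perm GolayPt, σ • ofMask dod0 = ofMask dod0 ∧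
      ∀ r ∈ b0 :: c0 :: K, σ • ofMask r ∈ F := by
  simp only [stepH, Bool.and_eq_true, beq_iff] at h
  obtain ⟨b, hb, hTb, hbd, hb6⟩ := hF.cover (ofMask T) (by
    rw [← h.1.2]; exact (ofMask_and T dod0) ▸ inter_subset_right) (by rw [card_ofMask, h.1.1])
  obtain ⟨x, hx, rfl⟩ := mem_supers dod0 T 1 b hTb hbd (by omega)
  obtain ⟨ρ, hρ⟩ := zipChk_sound _ _ _ _ h.2 x hx (by
    simp only [aliveH, allL_iff, force_eq, Bool.and_eq_true, Bool.not_eq_true']
    intro r hr
    have := hF.inter _ hb _ (hK r hr)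
    rw [← ofMask_and, card_ofMask] at this
    rw [← Bool.not_eq_true, ← Bool.not_eq_true, beq_iff, beq_iff]
    exact this)
  simp only [chkH, Bool.and_eq_true, allL_iff, beq_iff, force_eq, memL_iff] at hρ
  obtain ⟨⟨h1, h2⟩, h3⟩ := hρ
  refine ⟨pm ρ, by rw [pm_smul_ofMask h1, h2], fun r hr => ?_⟩
  rw [pm_smul_ofMask h1]
  rcases List.mem_cons.1 (h3 r hr) with e | h4
  · rw [e]; exact hb
  rcases List.mem_cons.1 h4 with e | h4
  · rw [e]
    exact (ofMask_xor x dod0) ▸ hF.compl _ hb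
  · exact hK _ h4

theorem runH_sound (steps : List (ℕ × ℕ × ℕ × List ℕ)) (K : List ℕ) (h : runH steps K = true)
    {F : Set (Finset GolayPt)} (hF : Good12 F) (hK : ∀ r ∈ K, ofMask r ∈ F) :
    ∃ σ : Equiv.Perm GolayPt, σ • ofMask dod0 = ofMask dod0 ∧ ∀ s ∈ H12, σ • s ∈ F := by
  induction steps generalizing K F with
  | nil =>
    refine ⟨1, one_smul _ _, fun s hs => ?_⟩
    obtain ⟨b, hb, rfl⟩ := allHex_sound h hs
    rw [one_smul]; exact hK b hb
  | cons st steps ih =>
    have h' : (stepH K st.1 st.2.1 st.2.2.1 st.2.2.2 &&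
      runH steps (st.2.1 :: st.2.2.1 :: K)) = true := h
    rw [Bool.and_eq_true] at h'
    obtain ⟨σ, hσ, h1⟩ := stepH_sound h'.1 hF hK
    obtain ⟨ρ, hρ, h2⟩ := ih _ h'.2 (hF.comap σ hσ) h1
    exact ⟨σ * ρ, by rw [mul_smul, hρ, hσ], fun s hs => by rw [mul_smul]; exact h2 s hs⟩

def hsteps : List (ℕ × ℕ × ℕ × List ℕ) := [
  (262730, 270922, 69909, [0xbdab49c2327b9a95a9863a0a320440, 0xbdab49ca307b92d5a8cc38ca811020, 0xbdab49ca307b92d5a8cc390a818820, 0xbdab49ca307b92d5a90c398a418820, 0xbdab49ca307b98d5a928398a418820, 0xbdab49ca307b9ac5a928398a418820, 0xbdab49ca2d7ba0c5a928398a418820]),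
  (270406, 270662, 70169, [0xbdab49c2327b98d5a9223a0a618081, 0xbdab49ca307b9ac5a924398a818820, 0xbdab49ca307b9ac5a928398a418820, 0xbdab49ca307b9a85a92c398a418820, 0xbdab49ca2c7b9a85a930398a418820]),
  (77841, 77905, 262926, [0xbdab49ca307b92c5a90d38ca4104c0, 0xbdab49ca307b9ac5a928398a418820, 0xbdab499a307ba4c5a9283b4a418820]),
  (331793, 331795, 9036, [0xbdab49ca307b9ac5a928398a418820]),
  (262667, 328203, 12628, [0xbdab49ca247b9b05a928398ac18820, 0xbdab49ca2c7b9b05a928398a418820, 0xbdab49ca307b9ac5a928398a418820]),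
  (266762, 266778, 74053, [0xbdab49ca307b9ac5a928398a418820]),
  (74064, 74066, 266765, [0xbdab49ca307b9ac5a928398a418820, 0xbdab49a6307b9ac5aa48398a408860, 0xbdab498e307b9ac5aa48398a408920, 0xbdab4986307b9ac5a928398a418a40]),
  (69906, 69914, 270917, [0xbdab49ca307b9ac5a928398a418820, 0xbdab49ca307b9ac5a868398a448820]),
  (262663, 262679, 78152, [0xbdab49ca307b9ac5a928398a418820]),
  (65811, 66323, 274508, [0xbdab49ca307b9ac5a928398a418820]),
  (336192, 336704, 4127, [0xbdab49ca307b9ac5a928398a418820]),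
  (9040, 9041, 331790, [0xbdab49ca307b9ac5a928398a418820]),
  (9026, 13122, 327709, [0xbdab49ca307b9ac5a928398a418820]),
  (69900, 70412, 270419, [0xbdab49ca307b9ac5a928398a418820]),
  (66309, 328453, 12378, [0xbdab49ca307b9ac5a928398a418820]),
  (270928, 275024, 65807, [0xbdab49ca307b9ac5a928398a418820]),
  (274498, 340034, 797, [0xbdab49ca307b9ac5a928398a418820]),
  (4881, 267025, 73806, [0xbdab49ca307b9ac5a928398a418820]),
  (74306, 74307, 266524, [0xbdab49ca307b9ac5a928398a418820]),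
  (4374, 4886, 335945, [0xbdab49ca307b9ac5a928398a418820]),
  (8777, 12873, 327958, [0xbdab49ca307b9ac5a928398a418820]),
  (4867, 4875, 335956, [0xbdab49ca307b9ac5a928398a418820]),
  (332034, 332546, 8285, [0xbdab49ca307b9ac5a928398a418820]),
  (73816, 74328, 266503, [0xbdab49ca307b9ac5a928398a418820]),
  (12358, 12359, 328472, [0xbdab49ca307b9ac5a928398a418820]),
  (8788, 8790, 332041, [0xbdab49ca307b9ac5a928398a418820]),
  (8515, 8523, 332308, [0xbdab49ca307b9ac5a928398a418820]),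
  (274689, 274753, 66078, [0xbdab49ca307b9ac5a928398a418820]),
  (283, 262427, 78404, [0xbdab49ca307b9ac5a928398a418820]),
  (270664, 270680, 70151, [0xbdab49ca307b9ac5a928398a418820]),
  (73987, 336131, 4700, [0xbdab49c2287b9a45a86c398a914820, 0xbdab49ca307b9ac5a928398a418820]),
  (336144, 340240, 591, [0xbdab49ca307b9ac5a928398a418820]),
  (262219, 266315, 74516, [0xbdab49ca307b9ac5a928398a418820]),
  (73749, 73751, 267080, [0xbdab49ca307b9ac5a928398a418820]),
  (8718, 12814, 328017, [0xbdab49ca307b9ac5a928398a418820]),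
  (8476, 8478, 332353, [0xbdab49ca307b9ac5a928398a418820]),
  (262229, 266325, 74506, [0xbdab49ca307b9ac5a928398a418820]),
  (4677, 4933, 335898, [0xbdab49ca307b9ac5a928398a418820]),
  (842, 858, 339973, [0xbdab49ca307b9ac5a928398a418820]),
  (270358, 274454, 66377, [0xbdab49ca307b9ac5a928398a418820]),
  (13064, 13080, 327751, [0xbdab49ca307b9ac5a928398a418820]),
  (12316, 77852, 262979, [0xbdab49ca307b9ac5a928398a418820]),
  (65820, 65884, 274947, [0xbdab49ca307b9ac5a928398a418820]),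
  (262726, 266822, 74009, [0xbdab49ca307b9ac5a928398a418820]),
  (69953, 69955, 270876, [0xbdab49ca307b9ac5a928398a418820]),
  (69701, 69709, 271122, [0xbdab49ca307b9ac5a928398a418820]),
  (12820, 12821, 328010, [0xbdab49ca307b9ac5a928398a418820]),
  (77842, 78354, 262477, [0xbdab49ca307b9ac5a928398a418820]),
  (66122, 70218, 270613, [0xbdab49ca307b9ac5a928398a418820]),
  (4440, 4441, 336390, [0xbdab49ca307b9ac5a928398a418820]),
  (266322, 266578, 74253, [0xbdab49ca307b9ac5a928398a418820]),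
  (4365, 12557, 328274, [0xbdab49ca307b9ac5a928398a418820]),
  (73739, 77835, 262996, [0xbdab49ca307b9ac5a928398a418820]),
  (271105, 271113, 69718, [0xbdab49ca307b9ac5a928398a418820]),
  (601, 262745, 78086, [0xbdab49ca307b9ac5a928398a418820]),
  (66069, 66133, 274698, [0xbdab49ca307b9ac5a928398a418820]),
  (595, 4691, 336140, [0xbdab49ca307b9ac5a928398a418820]),
  (12561, 12563, 328268, [0xbdab49ca307b9ac5a928398a418820]),
  (8715, 8731, 332100, [0xbdab49ca307b9ac5a928398a418820]),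
  (65625, 65627, 275204, [0xbdab49ca307b9ac5a928398a418820]),
  (66118, 66374, 274457, [0xbdab49ca307b9ac5a928398a418820]),
  (270343, 270351, 70480, [0xbdab49ca307b9ac5a928398a418820]),
  (327, 343, 340488, [0xbdab49ca307b9ac5a928398a418820]),
  (336385, 336401, 4430, [0xbdab49ca307b9ac5a928398a418820]),
  (78337, 78593, 262238, [0xbdab49ca307b9ac5a928398a418820]),
  (327768, 331864, 8967, [0xbdab49ca307b9ac5a928398a418820])]

def hexL : List ℕ := [343, 591, 797, 858, 4127, 4430, 4441, 4691, 4700, 4875, 4886, 4933, 8285, 8478, 8523, 8731, 8790, 8967, 9036, 9041, 12359, 12378, 12557, 12563, 12628, 12814, 12821, 12873, 13080, 13122, 65627, 65807, 65884, 66078, 66133, 66323, 66374, 66377, 69709, 69718, 69909, 69914, 69955, 70151, 70169, 70218, 70412, 70480, 73751, 73806, 74009, 74053, 74066, 74253, 74307, 74328, 74506, 74516, 77835, 77852, 77905, 78086, 78152, 78354, 78404, 78593, 262238, 262427, 262477, 262679, 262745, 262926, 262979, 262996, 266315, 266325,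 266503, 266524, 266578, 266765, 266778, 266822, 267025, 267080, 270351, 270419, 270613, 270662, 270680, 270876, 270917, 270922, 271113, 271122, 274454, 274457, 274508, 274698, 274753, 274947, 275024, 275204, 327709, 327751, 327958, 328010, 328017, 328203, 328268, 328274, 328453, 328472, 331790, 331795, 331864, 332041, 332100, 332308, 332353, 332546, 335898, 335945, 335956, 336131, 336140, 336390, 336401, 336704, 339973, 340034, 340240, 340488]

def autCert : List (ℕ × ℕ × List ℕ × ℕ) := [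
  (6, 0xbdab49ca307b9ac5a928398a418820, [1065303, 4196943, 663645, 2162811, 8683614], 0),
  (8, 0xbdab49b6327b92c5aa063a0a418820, [1065303, 4196943, 663645, 2162811, 8683614], 10486557),
  (9, 0xbdab49c22d7b90c5a8d23a4a418820, [1065303, 4196943, 663645, 2162811, 8683614], 10486557),
  (13, 0xbdab49a2297b8cc5aa503b4a418820, [1065303, 4196943, 663645, 2162811, 8683614], 2232654),
  (16, 0xbdab49a6267ba4c5a90d3c0a418820, [1065303, 4196943, 663645, 2162811, 8683614], 10486557),
  (18, 0xbdab499a287ba0c5a9a93c8a418820, [1065303, 4196943, 663645, 2162811, 8683614], 10486557)]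

theorem runH_ok : runH hsteps [] = true := by decide +kernel

theorem allHex_hexL : allHex hexL = true := by decide +kernel

theorem Good12.le {F : Set (Finset GolayPt)} (hF : Good12 F) :
    ∃ σ : Equiv.Perm GolayPt, σ • ofMask dod0 = ofMask dod0 ∧ ∀ s ∈ H12, σ • s ∈ F :=
  runH_sound _ _ runH_ok hF (by simp)

theorem hexL_lt : ∀ h ∈ hexL, h < 2 ^ 24 := by decide +kernel

def hexStep (c D o : ℕ) : Bool :=
  isOct o && force (Nat.land o dod0) fun b => Nat.beq (pc b) 6 &&
    Nat.ble (pc (Nat.land b (Nat.xor D 16777215))) 1 &&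
    force (actM c (Nat.land b D)) fun im => force (actM c (Nat.land D (Nat.xor b 16777215)))
      fun oth => force (actM c b) fun cb => allL hexL fun h =>
        !(Nat.beq (Nat.land im h) im && Nat.beq (pc (Nat.land h oth)) 0) || Nat.beq h cb

def hexRun (c : ℕ) (steps : List ℕ) : ℕ → ℕ :=
  List.rec (fun D => D) (fun o _ r D => cond (hexStep c D o)
    (force (Nat.lor D (Nat.land o dod0)) r) D) steps

theorem smul_congr_on {σ τ : Equiv.Perm GolayPt} {s : Finset GolayPt} (h : ∀ x ∈ s, σ x = τ x) :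
    σ • s = τ • s := Finset.image_congr fun x hx => h x hx

theorem hexStep_sound {c D o : ℕ} (h : hexStep c D o = true) (hc : validP c = true)
    {τ : Equiv.Perm GolayPt} (hτ : ∀ s ∈ H12, τ • s ∈ H12) (hD : ∀ x ∈ ofMask D, τ x = pm c x) :
    ∀ x ∈ ofMask (D ||| (o &&& dod0)), τ x = pm c x := by
  simp only [hexStep, Bool.and_eq_true, force_eq, beq_iff, ble_iff, allL_iff, Bool.or_eq_true,
    Bool.not_eq_true', Bool.and_eq_false_iff] at h
  obtain ⟨h1, ⟨h2, h3⟩, h4⟩ := h
  change pc (o &&& dod0) = 6 at h2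
  change pc ((o &&& dod0) &&& (D ^^^ 16777215)) ≤ 1 at h3
  set b := o &&& dod0 with hb
  have hbH : ofMask b ∈ H12 :=
    ⟨_, mem_octads_of_isOct h1, by rw [← ofMask_and, card_ofMask, h2], ofMask_and _ _⟩
  obtain ⟨h, hh, e⟩ := allHex_sound allHex_hexL (hτ _ hbH)
  have h5 : h = actM c b := by
    rcases h4 h hh with (h5 | h5) | h5
    · exfalso
      rw [← Bool.not_eq_true, beq_iff] at h5
      apply h5
      apply (ofMask_subset_iff (actM_lt hc _)).1
      change ofMask (actM c (b &&& D)) ⊆ _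
      rw [← pm_smul_ofMask hc, ← e, ofMask_and,
        ← smul_congr_on fun x hx => hD x (mem_inter.1 hx).2]
      exact Finset.smul_finset_subset_smul_finset inter_subset_left
    · exfalso
      rw [← Bool.not_eq_true, beq_iff] at h5
      apply h5
      apply disjoint_ofMask_iff.1
      change Disjoint _ (ofMask (actM c (D &&& (b ^^^ 16777215))))
      rw [← pm_smul_ofMask hc, ← e, ofMask_and D, ofMask_compl,
        ← smul_congr_on fun x hx => hD x (mem_inter.1 hx).1, disjoint_iff_inter_eq_empty,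
        ← Finset.smul_finset_inter, Finset.smul_finset_eq_empty, ← disjoint_iff_inter_eq_empty]
      exact Finset.disjoint_left.2 fun x hx hx' => mem_compl.1 (mem_inter.1 hx').2 hx
    · exact h5
  rw [h5, ← pm_smul_ofMask hc] at e
  intro x hx
  by_cases hxD : x ∈ ofMask D
  · exact hD x hxD
  rw [ofMask_or, mem_union] at hx
  have hxb := hx.resolve_left hxD
  have : τ x ∈ pm c • ofMask b := e ▸ Finset.smul_mem_smul_finset hxb
  obtain ⟨w, hw, e2⟩ := Finset.mem_smul_finset.1 this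
  by_cases hwD : w ∈ ofMask D
  · have : w = x := τ.injective ((hD w hwD).trans e2)
    exact absurd (this ▸ hwD) hxD
  · rw [← card_ofMask, ofMask_and, ofMask_compl] at h3
    have : w = x := Finset.card_le_one.1 h3 w (mem_inter.2 ⟨hw, mem_compl.2 hwD⟩) x
      (mem_inter.2 ⟨hxb, mem_compl.2 hxD⟩)
    rw [← e2, this]; rfl

theorem hexRun_sound {c : ℕ} (hc : validP c = true) {τ : Equiv.Perm GolayPt}
    (hτ : ∀ s ∈ H12, τ • s ∈ H12) (steps : List ℕ) (D : ℕ) (hD : ∀ x ∈ ofMask D, τ x = pm c x) :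
    ∀ x ∈ ofMask (hexRun c steps D), τ x = pm c x := by
  induction steps generalizing D with
  | nil => exact hD
  | cons o steps ih =>
    have e : hexRun c (o :: steps) D = cond (hexStep c D o)
      (force (D ||| (o &&& dod0)) (hexRun c steps)) D := rfl
    rw [e]
    cases h : hexStep c D o
    · exact hD
    · rw [cond_true, force_eq]
      exact ih _ (hexStep_sound h hc hτ hD)

def autChk (e : ℕ × ℕ × List ℕ × ℕ) : Bool :=
  validP e.2.1 && Nat.beq (dig e.2.1 6) e.1 && allLt 24 (fun i => !tb 4127 i || Nat.beq (dig e.2.1 i) i) &&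
    Nat.beq (hexRun e.2.1 e.2.2.1 4191) dod0 && (Nat.beq e.2.1 idP ||
      (isOct e.2.2.2 && Nat.beq (pc (Nat.land e.2.2.2 dod0)) 6 &&
        !memL hexL (actM e.2.1 (Nat.land e.2.2.2 dod0))))

theorem autCert_ok : ∀ y < 24, dod0.testBit y = true → (4127 : ℕ).testBit y = false →
    ∃ e ∈ autCert, e.1 = y ∧ autChk e = true := by decide +kernel

theorem hex_fix {τ : Equiv.Perm GolayPt} (hτ : ∀ s ∈ H12, τ • s ∈ H12)
    (hd : τ • ofMask dod0 = ofMask dod0) (h5 : ∀ x ∈ ofMask 31, τ x = x) :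
    ∀ x ∈ ofMask dod0, τ x = x := by
  have h6 : ∀ x ∈ ofMask 4127, τ x = x := by
    have := hexRun_sound validP_idP hτ [5279] 31 (by rwa [pm_idP])
    rwa [pm_idP, show hexRun idP [5279] 31 = 4127 by decide +kernel] at this
  have h7 : τ (pt 6) ∈ ofMask dod0 := hd ▸ Finset.smul_mem_smul_finset (by decide)
  have h8 : τ (pt 6) ∉ ofMask 4127 := fun h => by
    have := τ.injective (h6 _ h)
    rw [this] at h
    exact absurd h (by decide)
  obtain ⟨⟨y, c, st, o⟩, -, e1, e2⟩ := autCert_ok _ (ix_lt (τ (pt 6))) (mem_ofMask.1 h7)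
    (by simpa using h8)
  simp only [autChk, Bool.and_eq_true, beq_iff, allLt_iff, Bool.or_eq_true, Bool.not_eq_true',
    tb_eq] at e1 e2
  obtain ⟨⟨⟨⟨hc, e3⟩, e4⟩, e5⟩, e6⟩ := e2
  have h9 := hexRun_sound hc hτ st 4191 (by
    intro x hx
    rw [show 4191 = 4127 ||| 2 ^ 6 by decide, ofMask_or, ofMask_two_pow (by decide), mem_union,
      mem_singleton] at hx
    rcases hx with hx | rfl
    · rw [h6 x hx, pm_apply hc, (e4 _ (ix_lt x)).resolve_left (by simpa using hx), pt_ix]
    · rw [pm_pt hc (by decide), e3, e1, pt_ix])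
  rw [e5] at h9
  rcases e6 with rfl | ⟨⟨e6, e7⟩, e8⟩
  · rwa [pm_idP] at h9
  · exfalso
    change pc (o &&& dod0) = 6 at e7
    have hbH : ofMask (o &&& dod0) ∈ H12 :=
      ⟨_, mem_octads_of_isOct e6, by rw [← ofMask_and, card_ofMask, e7], ofMask_and _ _⟩
    obtain ⟨h, hh, e⟩ := allHex_sound allHex_hexL (hτ _ hbH)
    rw [smul_congr_on fun x hx => h9 x ((H12_sub hbH).1 hx), pm_smul_ofMask hc] at e
    rw [← Bool.not_eq_true, memL_iff] at e8
    exact e8 ((ofMask_inj (actM_lt hc _) (hexL_lt h hh) e) ▸ hh)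

/-- every permutation preserving the hexads agrees on the dodecad with an element of `M12`. -/
theorem hex_induced {τ : Equiv.Perm GolayPt} (hτ : ∀ s ∈ H12, τ • s ∈ H12)
    (hd : τ • ofMask dod0 = ofMask dod0) :
    ∃ g ∈ Stab [] [dod0], ∀ x ∈ ofMask dod0, g x = τ x := by
  have hi : Function.Injective fun i : Fin 5 => pt i := by decide
  have hm : ∀ i : Fin 5, pt i ∈ ofMask dod0 := by decide
  obtain ⟨g, hg, hgd, h⟩ := m12_five dod0_mem _ (fun i : Fin 5 => τ (pt i)) hi
    (τ.injective.comp hi) hm (fun i => hd ▸ Finset.smul_mem_smul_finset (hm i))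
  have hg' : g ∈ Stab [] [dod0] := ⟨hg, by simp, by simpa using hgd⟩
  have := hex_fix (τ := g⁻¹ * τ) (fun s hs => by
      rw [mul_smul]; exact smul_mem_H12 (Subgroup.inv_mem _ hg') (hτ s hs))
    (by rw [mul_smul, hd, inv_smul_eq_iff, hgd]) (by
      have : ∀ x ∈ ofMask 31, ∃ i : Fin 5, pt i = x := by decide
      intro x hx
      obtain ⟨i, rfl⟩ := this x hx
      rw [Equiv.Perm.mul_apply, ← h i]
      simp)
  refine ⟨g, hg', fun x hx => ?_⟩
  have h2 := this x hx
  rw [Equiv.Perm.mul_apply, Equiv.Perm.inv_eq_iff_eq] at h2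
  exact h2.symm

variable {α : Type*} [Fintype α] [DecidableEq α]

theorem s5612_inter (hα : Fintype.card α = 12) {B : Set (Finset α)}
    (hB : IsSteinerSystem 5 6 B) {b c : Finset α} (hb : b ∈ B) (hc : c ∈ B) :
    (b ∩ c).card ≠ 1 ∧ (b ∩ c).card ≠ 5 := by
  have h1 := steiner_meet_ne_zero hB (by norm_num) hb hc
  rw [hα] at h1
  constructor <;> intro h <;> rw [h] at h1 <;> exact h1 (by decide +kernel)

theorem model12 (hα : Fintype.card α = 12) {B : Set (Finset α)} (hB : IsSteinerSystem 5 6 B) :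
    ∃ ι, IsModel B (ofMask dod0) H12 ι := by
  obtain ⟨ι, hr⟩ := exists_embedding (α := α) (ofMask dod0) (by rw [card_dod0, hα])
  have hu : (univ : Finset α).map ι = ofMask dod0 := by
    ext p; rw [← hr]; simp
  obtain ⟨σ, hσ, h⟩ := Good12.le (F := {s | ∃ b ∈ B, s = b.map ι}) ⟨by
      rintro _ ⟨b, hb, rfl⟩ _ ⟨c, hc, rfl⟩
      rw [← Finset.map_inter, card_map]
      exact s5612_inter hα hB hb hc, by
      rintro _ ⟨b, hb, rfl⟩
      refine ⟨bᶜ, s5612_compl hα hB hb, ?_⟩
      rw [← hu, compl_eq_univ_sdiff, Finset.map_sdiff, symmDiff_of_le (map_subset_map.2 (subset_univ b))], by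
      intro T hT h5
      obtain ⟨u, rfl⟩ := exists_map_eq hr T hT
      obtain ⟨b, ⟨hb, hub⟩, -⟩ := hB.2 u (by rwa [card_map] at h5)
      exact ⟨_, ⟨b, hb, rfl⟩, map_subset_map.2 hub, map_subset_of_range hr b, by
        rw [card_map, hB.1 b hb]⟩⟩
  have hr' := range_trans hr σ hσ
  have h2 : ∀ s ∈ H12, ∃ b ∈ B, b.map (ι.trans (σ⁻¹ : Equiv.Perm GolayPt).toEmbedding) = s := by
    intro s hs
    obtain ⟨b, hb, e⟩ := h s hs
    exact ⟨b, hb, by rw [map_trans_eq, ← e, inv_smul_smul]⟩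
  refine ⟨_, hr', fun b => ⟨fun hb => ?_, fun hb => ?_⟩⟩
  · obtain ⟨u, hu, hu5⟩ := Finset.exists_subset_card_eq (s := b) (n := 5) (by rw [hB.1 b hb]; omega)
    obtain ⟨s, hs, hus⟩ := H12_cover (map_subset_of_range hr' u) (by rwa [card_map])
    obtain ⟨c, hc, rfl⟩ := h2 s hs
    rw [steiner_eq_of_le hB hb hc (hu5 ▸ card_le_card (subset_inter hu (map_subset_map.1 hus)))]
    exact hs
  · obtain ⟨c, hc, e⟩ := h2 _ hb
    exact map_injective _ e ▸ hc

theorem smul_eq_of_fix_compl {τ : Equiv.Perm GolayPt} {s : Finset GolayPt}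
    (h : ∀ x, x ∉ s → τ x = x) : τ • s = s := by
  rw [← compl_inj_iff, ← smul_compl']
  exact (smul_congr_on (τ := 1) fun x hx => h x (mem_compl.1 hx)).trans (one_smul _ _)

theorem aut12 {B : Set (Finset α)} {ι : α ↪ GolayPt} (h : IsModel B (ofMask dod0) H12 ι) :
    ∃ φ : Stab [] [dod0] ≃* setSystemAut B,
      ∀ g a, ι ((φ g : Equiv.Perm α) a) = (g : Equiv.Perm GolayPt) (ι a) :=
  h.aut _ (smul_dod0 _) (fun _ hg _ _ hs => smul_mem_H12 hg hs) (faithful_of _ d5_bot (by decide))
    (fun _ h1 h2 => hex_induced (fun s hs => h2 s (H12_sub hs).1 hs) (smul_eq_of_fix_compl h1))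

theorem steiner12_aut (hα : Fintype.card α = 12) {B : Set (Finset α)}
    (hB : IsSteinerSystem 5 6 B) :
    IsM12 (setSystemAut B) ∧ IsMultiplyPretransitive (setSystemAut B) α 5 ∧
      ∀ x : Fin 5 ↪ α, stabilizer (setSystemAut B) x = ⊥ := by
  obtain ⟨ι, h⟩ := model12 hα hB
  obtain ⟨φ, hφ⟩ := aut12 h
  refine ⟨⟨simple_of_equiv ⟨φ.symm⟩ simple_d0, card_of_equiv ⟨φ.symm⟩ card_d0⟩,
    multiply_of_model h.range φ hφ dtr0 rfl, sharp_of_model h.range φ hφ ?_⟩
  exact fun x hx hxd g hg e => m12_sharp dod0_mem x hx hxd hg.1 (smul_dod0 _ g hg) e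

/-- the one-point extension of an `S(4,5,11)`. -/
def ext11 (B : Set (Finset α)) : Set (Finset (Option α)) :=
  (fun b => insertNone b) '' B ∪ (fun b => (insertNone b)ᶜ) '' B

theorem insertNone_inter' (b c : Finset α) :
    insertNone b ∩ insertNone c = insertNone (b ∩ c) := by
  ext x; cases x <;> simp

theorem ext11_steiner (hα : Fintype.card α = 11) {B : Set (Finset α)}
    (hB : IsSteinerSystem 4 5 B) : IsSteinerSystem 5 6 (ext11 B) := by
  have hO : Fintype.card (Option α) = 12 := by rw [Fintype.card_option, hα]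
  have h6 : ∀ b ∈ B, (insertNone b).card = 6 := fun b hb => by rw [card_insertNone, hB.1 b hb]
  have hi : ∀ b ∈ B, ∀ c ∈ B, b ≠ c → 2 ≤ (insertNone b ∩ insertNone c).card ∧
      (insertNone b ∩ insertNone c).card ≤ 4 := by
    intro b hb c hc hbc
    have h1 := steiner_meet_ne_zero hB (by norm_num) hb hc
    have h2 := steiner_inter_lt hB hb hc hbc
    rw [insertNone_inter', card_insertNone]
    have : (b ∩ c).card ≠ 0 := fun h => by
      rw [h, hα] at h1; exact h1 (by decide +kernel)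
    omega
  have hm : ∀ b ∈ B, ∀ c ∈ B, (insertNone b ∩ (insertNone c)ᶜ).card < 5 := by
    intro b hb c hc
    have h1 := card_sdiff_add_card_inter (insertNone b) (insertNone c)
    rw [← sdiff_eq_inter_compl]
    by_cases h : b = c
    · subst h; simp
    · have := hi b hb c hc h
      have := h6 b hb
      omega
  apply steiner_of_packing
  · rintro _ (⟨b, hb, rfl⟩ | ⟨b, hb, rfl⟩)
    · exact h6 b hb
    · rw [card_compl, hO, h6 b hb]
  · rintro _ (⟨b, hb, rfl⟩ | ⟨b, hb, rfl⟩) _ (⟨c, hc, rfl⟩ | ⟨c, hc, rfl⟩) h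
    · by_contra h'
      have := hi b hb c hc (by rintro rfl; exact h' rfl)
      dsimp only at h
      omega
    · exact absurd (hm b hb c hc) (by simpa using h)
    · exact absurd (hm c hc b hb) (by simpa [inter_comm] using h)
    · by_contra h'
      have := hi b hb c hc (by rintro rfl; exact h' rfl)
      have h1 := card_union_add_card_inter (insertNone b) (insertNone c)
      dsimp only at h
      rw [← compl_union, card_compl, hO] at h
      have := h6 b hb
      have := h6 c hc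
      omega
  · have h1 := steiner_block_count hB
    rw [hα, show Nat.choose 11 4 = 330 by decide, show Nat.choose 5 4 = 5 by decide] at h1
    rw [ext11, Set.ncard_union_eq, Set.ncard_image_of_injective _ insertNone.injective,
      Set.ncard_image_of_injective _ (f := fun b => (insertNone b)ᶜ)
        (compl_injective.comp insertNone.injective), hO, show Nat.choose 12 5 = 792 by decide,
        show Nat.choose 6 5 = 6 by decide]
    · omega
    · rw [Set.disjoint_left]
      rintro _ ⟨b, -, rfl⟩ ⟨c, -, e⟩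
      have := congrArg (fun s => none ∈ s) e
      simp at this

theorem model11 (hα : Fintype.card α = 11) {B : Set (Finset α)} (hB : IsSteinerSystem 4 5 B) :
    ∃ ι, IsModel B (ofMask 340830) {s | s ∪ {pt 0} ∈ H12} ι := by
  obtain ⟨ι, h⟩ := model12 (by rw [Fintype.card_option, hα]) (ext11_steiner hα hB)
  obtain ⟨g, hg, e⟩ := gi12.orbPt (b := 0) (by decide) (ι none) (by
    rw [show orbPt g12 0 = dod0 by decide +kernel]; exact (h.range _).1 ⟨_, rfl⟩)
  have hr := range_trans h.range g (smul_dod0 _ g hg)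
  set κ := ι.trans (g⁻¹ : Equiv.Perm GolayPt).toEmbedding with hκ
  have h0 : κ none = pt 0 := by
    change g⁻¹ (ι none) = _
    rw [← e]; simp
  refine ⟨Function.Embedding.some.trans κ, fun p => ?_, fun b => ?_⟩
  · rw [show ofMask 340830 = (ofMask dod0).erase (pt 0) by decide, mem_erase, ← hr, ← h0]
    constructor
    · rintro ⟨a, rfl⟩
      exact ⟨fun h => by simpa using κ.injective h, _, rfl⟩
    · rintro ⟨h1, _ | a, rfl⟩
      · exact absurd rfl h1
      · exact ⟨a, rfl⟩
  · have e1 : b.map (Function.Embedding.some.trans κ) ∪ {pt 0} = g⁻¹ • (insertNone b).map ι := by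
      rw [← map_trans_eq, ← h0]
      ext x
      simp only [mem_union, mem_map, mem_singleton, Option.exists, none_mem_insertNone,
        some_mem_insertNone, true_and, or_comm, eq_comm (a := x)]
      rfl
    have e2 : b ∈ B ↔ insertNone b ∈ ext11 B := by
      refine ⟨fun hb => Or.inl ⟨b, hb, rfl⟩, ?_⟩
      rintro (⟨c, hc, e⟩ | ⟨c, -, e⟩)
      · exact insertNone.injective e ▸ hc
      · have := congrArg (fun s => none ∈ s) e
        simp at this
    rw [Set.mem_ofPred_eq, e1, e2, h.mem]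
    exact ⟨smul_mem_H12 (Subgroup.inv_mem _ hg), fun h => by simpa using smul_mem_H12 hg h⟩

theorem aut11 {B : Set (Finset α)} {ι : α ↪ GolayPt}
    (h : IsModel B (ofMask 340830) {s | s ∪ {pt 0} ∈ H12} ι) :
    ∃ φ : Stab [0] [dod0] ≃* setSystemAut B,
      ∀ g a, ι ((φ g : Equiv.Perm α) a) = (g : Equiv.Perm GolayPt) (ι a) := by
  have hle : ∀ g ∈ Stab [0] [dod0], g ∈ Stab [] [dod0] := fun g hg => ⟨hg.1, by simp, hg.2.2⟩
  have he : ofMask 340830 = (ofMask dod0).erase (pt 0) := by decide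
  refine h.aut _ dinv1 (fun g hg s _ hs => ?_) (faithful_of _ d5_bot (by decide)) ?_
  · have := smul_mem_H12 (hle g hg) hs
    rwa [Finset.smul_finset_union, Finset.smul_finset_singleton, Equiv.Perm.smul_def,
      hg.2.1 0 (by simp)] at this
  · intro τ h1 h2
    have h0 : τ (pt 0) = pt 0 := h1 _ (by decide)
    have hd : τ • ofMask dod0 = ofMask dod0 :=
      smul_eq_of_fix_compl fun x hx => h1 x fun h => hx (mem_of_mem_erase (he ▸ h))
    have h3 : ∀ s ∈ H12, pt 0 ∈ s → τ • s ∈ H12 := by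
      intro s hs hs0
      have e : s.erase (pt 0) ∪ {pt 0} = s := by
        rw [union_comm, ← insert_eq, insert_erase hs0]
      have := h2 (s.erase (pt 0)) (he ▸ erase_subset_erase _ (H12_sub hs).1)
        (by rwa [Set.mem_ofPred_eq, e])
      rw [← e, Finset.smul_finset_union, Finset.smul_finset_singleton, Equiv.Perm.smul_def, h0]
      exact this
    obtain ⟨g, hg, e⟩ := hex_induced (τ := τ) (fun s hs => by
      by_cases hs0 : pt 0 ∈ s
      · exact h3 s hs hs0
      · have := H12_compl (h3 _ (H12_compl hs) (mem_sdiff.2 ⟨by decide, hs0⟩))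
        rwa [Finset.smul_finset_sdiff, hd, Finset.sdiff_sdiff_eq_self (by
          rw [← hd]; exact Finset.smul_finset_subset_smul_finset (H12_sub hs).1)] at this) hd
    exact ⟨g, ⟨hg.1, by simpa using (e _ (by decide)).trans h0, hg.2.2⟩,
      fun x hx => e x (mem_of_mem_erase (he ▸ hx))⟩

theorem steiner11_aut (hα : Fintype.card α = 11) {B : Set (Finset α)}
    (hB : IsSteinerSystem 4 5 B) :
    IsM11 (setSystemAut B) ∧ IsMultiplyPretransitive (setSystemAut B) α 4 ∧
      ∀ x : Fin 4 ↪ α, stabilizer (setSystemAut B) x = ⊥ := by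
  obtain ⟨ι, h⟩ := model11 hα hB
  obtain ⟨φ, hφ⟩ := aut11 h
  refine ⟨⟨simple_of_equiv ⟨φ.symm⟩ simple_d1, card_of_equiv ⟨φ.symm⟩ card_d1⟩,
    multiply_of_model h.range φ hφ dtr1 rfl, sharp_of_model h.range φ hφ ?_⟩
  intro x hx hxd g hg e
  have he : ofMask 340830 = (ofMask dod0).erase (pt 0) := by decide
  rw [he] at hxd
  refine m12_sharp dod0_mem (Fin.cons (pt 0) x) ?_ ?_ hg.1 (smul_dod0 _ g hg) ?_
  · rw [Fin.cons_injective_iff]
    exact ⟨fun ⟨i, hi⟩ => (mem_erase.1 (hxd i)).1 hi, hx⟩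
  · exact Fin.cases (show pt 0 ∈ ofMask dod0 by decide) fun i => mem_of_mem_erase (hxd i)
  · exact Fin.cases (hg.2.1 0 (by simp)) e

end H9
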