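import Mathlib
import Cfsg.Agent.H10.TB
import Cfsg.Agent.H10.TA2
import Cfsg.Agent.H29.YB.B2

/-!
# The interchange of the arms 1 and 2 modulo `f₁`
-/

set_option autoImplicit false
set_option linter.all false
set_option maxRecDepth 100000

namespace H29.CV

open Cfsg H10.Mon H10.Mon.T H10.YW H10.Mon.T.TB
open H10.Mon.Y (xB bN xB_f2 sys_xB)
open H29.YB (PY L3)

noncomputable def p12 : ℕ → ℕ := ivOf [0, 5, 6, 7, 4, 1, 2, 3]

theorem p12_L3 : ∀ c ∈ L3, p12 c ∈ L3 ∧ c < 11 ∧ bN (gN (p12 c)) = sw12 (bN (gN c)) ∧ bN (gN c) ≠ .e3 := by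
  decide +kernel

theorem sw_mul {G : Type*} [Group G] {R a b : G} (h : R * R = 1) :
    R * (a * b) * R = R * a * R * (R * b * R) := by
  calc _ = R * a * (R * R) * b * R := by rw [h]; group
    _ = _ := by group

theorem sym12 (w : List ℕ) (hw : ∀ c ∈ w, c ∈ L3)
    (h : ev PY.e w = 1 ∨ ev PY.e w = ev PY.e [6, 5, 0, 1, 2, 3, 8] ^ 9) :
    ev PY.e (w.map p12) = 1 ∨ ev PY.e (w.map p12) = ev PY.e [6, 5, 0, 1, 2, 3, 8] ^ 9 := by
  obtain ⟨f, hf, he⟩ := exists_f H29.YB.isB_PY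
  have fe : ∀ w : List ℕ, (∀ c ∈ w, c ∈ L3) → f (ev PY.e w) = q (ev xh w) := fun w hw => by
    rw [map_ev, map_ev, ev_congr fun c hc => he c (p12_L3 c (hw c hc)).2.1]
  have hF : f (ev PY.e [6, 5, 0, 1, 2, 3, 8] ^ 9) = q (ev xh [6, 5, 0, 1, 2, 3, 8] ^ 9) := by
    rw [map_pow, map_pow, fe _ (by decide)]
  have cx : Cx xB := fun n m _ hm => by
    have := sys_xB.cox n m
    rwa [inv_eq_of_mul_eq_one_right (sys_xB.sq hm)] at this
  have hb := rho_b3 cx (k := 1) (k' := 1) (fun _ _ => Commute.one_left _) (fun _ _ => Commute.one_left _)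
    (sys_xB.e12.trans (mul_one _).symm) (sys_xB.e21.trans (mul_one _).symm)
  have e : (ev xh (w.map p12)).1 = vl xB RHO * (ev xh w).1 * vl xB RHO := by
    rw [ev_xh, ev_xh, TA.rho_vl cx hb (fun k => by
      obtain ⟨c, hc, e⟩ := List.mem_map.1 k
      exact (p12_L3 c (hw c hc)).2.2.2 e), List.map_map, List.map_map]
    exact congrArg _ (List.map_congr_left fun c hc => (p12_L3 c (hw c hc)).2.2.1)
  have r1 : vl xB RHO * xB .f1 * vl xB RHO = TB.th.1 := (rho_conj cx (by decide) (by decide)).trans xB_f2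
  have r2 : vl xB RHO * TB.th.1 * vl xB RHO = xB .f1 := by
    rw [show TB.th.1 = xB .f2 from xB_f2.symm]; exact rho_conj cx (by decide) (by decide)
  have qt : q TB.th = 1 := (QuotientGroup.eq_one_iff _).2 (Subgroup.mem_center_iff.2 fun m => (th_comm m).eq.symm)
  have wf := w_f
  generalize ev xh [6, 5, 0, 1, 2, 3, 8] ^ 9 = F at hF wf
  have k : ev xh (w.map p12) = 1 ∨ ev xh (w.map p12) = F ∨ ev xh (w.map p12) = TB.th ∨
      ev xh (w.map p12) = TB.th * F := by
    simp only [Subtype.ext_iff, e, Subgroup.coe_mul, wf]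
    rcases h with h | h
    · rcases q_eq (b := 1) ((fe w hw).symm.trans (by rw [h, map_one, map_one])) with a | a <;> rw [a]
      · exact .inl (by simpa using rho_sq cx)
      · exact .inr (.inl (by rwa [one_mul]))
    · rcases q_eq ((fe w hw).symm.trans (h ▸ hF)) with a | a <;> rw [a, Subgroup.coe_mul, wf]
      · exact .inr (.inr (.inl (by simpa using r1)))
      · refine .inr (.inr (.inr ?_))
        rw [sw_mul (rho_sq cx), r1, r2]
  have hw' : ∀ c ∈ w.map p12, c ∈ L3 := fun c hc => by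
    obtain ⟨d, hd, rfl⟩ := List.mem_map.1 hc
    exact (p12_L3 d (hw d hd)).1
  rw [← hf.1.eq_iff, ← hf.1.eq_iff (a := ev PY.e (w.map p12)), fe _ hw', hF, map_one]
  rcases k with k | k | k | k <;> rw [k]
  exacts [.inl (map_one _), .inr rfl, .inl qt, .inr (by rw [map_mul, qt, one_mul])]

end H29.CV
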