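import Mathlib
import Cfsg.Agent.H9.DC0

/-!
# Certified double coset enumeration

`N` is a group of permutations of the 24 points with a homomorphism `φ` to `G`, `t` is an
involution of `G` centralised by the image of the stabiliser of a block system, and `H` is a
subgroup of `G` that contains the image of `N`.  A fact `(j, k, a, q)` says
`H w_j a⁻¹ t = H w_k q`, or `H w_j a = H w_j` if `k = 255`.
-/

set_option autoImplicit false

namespace H9.DC

open Cfsg H29 MulAction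

attribute [local irreducible] mulF inT small

/-- Binary trees of numbers. -/
inductive NT
  | leaf (n : ℕ)
  | node (l r : NT)

/-- Lookup; the low bits of the index are read first. -/
noncomputable def NT.get (t : NT) : ℕ → ℕ :=
  NT.rec (motive := fun _ => ℕ → ℕ) (fun n _ => n)
    (fun _ _ il ir i => lit (Nat.shiftRight i 1) fun m =>
      Bool.rec (motive := fun _ => ℕ) (ir m) (il m) (Nat.beq (Nat.land i 1) 0)) t

def fj (f : ℕ) : ℕ := Nat.land f 255
def fk (f : ℕ) : ℕ := Nat.land (Nat.shiftRight f 8) 255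
def fa (f : ℕ) : ℕ := Nat.land (Nat.shiftRight f 16) 1329227995784915872903807060280344575
def fq (f : ℕ) : ℕ := Nat.shiftRight f 136
def lo (x : ℕ) : ℕ := Nat.land x 65535
def hi (x : ℕ) : ℕ := Nat.shiftRight x 16

/-- The fact is a stabiliser fact at node `j`. -/
noncomputable def isSt (f j : ℕ) : Bool := and2 (Nat.beq (fj f) j) (Nat.beq (fk f) 255)
/-- The fact is an edge that starts at node `j`. -/
noncomputable def isEd (f j : ℕ) : Bool := and2 (Nat.beq (fj f) j) (Nat.ble (fk f) 254)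

/-- The data of an enumeration. -/
structure Cfg where
  mc : ℕ
  tree : NT
  tm : List (ℕ × List ℕ × ℕ)
  base : List ℕ
  paths : List (List ℕ)

namespace Cfg

variable (C : Cfg)

/-- Fact number `e`, which must come before `i`. -/
noncomputable def ref (i e : ℕ) (k : ℕ → Bool) : Bool :=
  and2 (Nat.ble (Nat.succ e) i) (lit (C.tree.get e) k)

/-- Multiply on the left by the stabiliser element number `s`, if `s ≠ 0`. -/
noncomputable def withS (i s j p : ℕ) (k : ℕ → Bool) : Bool :=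
  Bool.rec (motive := fun _ => Bool)
    (C.ref i s fun fs => and2 (isSt fs j) (lit (mulF (fa fs) p) k)) (k p) (Nat.beq s 0)

/-- One step: multiply the coset `H w_j p` by `t m`. -/
noncomputable def step (i m j p x : ℕ) (k : ℕ → ℕ → ℕ → Bool) : Bool :=
  Bool.rec (motive := fun _ => Bool)
    (lit (lo x) fun e => lit (lo (hi x)) fun s => C.ref i e fun fe => and2 (isEd fe j)
      (C.withS i s j p fun p' => lit (fa fe) fun a => lit (mulF a p') fun d => and2 (inT C.mc d)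
        (lit (fq fe) fun q => lit (mulF q d) fun q' => lit (mulF q' m) fun p2 =>
          lit (fk fe) fun j2 => lit (Nat.shiftRight x 32) fun x2 => k j2 p2 x2)))
    (k 1 m x) (Nat.beq j 0)

/-- A sequence of steps. -/
noncomputable def walk (i : ℕ) (fin : ℕ → ℕ → Bool) (ms : List ℕ) : ℕ → ℕ → ℕ → Bool :=
  List.rec (motive := fun _ => ℕ → ℕ → ℕ → Bool) (fun j p _ => fin j p)
    (fun m _ ih j p x => C.step i m j p x ih) ms

/-- A walk along the relator `t m1 ⋯ t mr`. -/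
noncomputable def chkW (i f y m1 : ℕ) (mid : List ℕ) (mr : ℕ) : Bool :=
    C.ref i (lo (hi y)) fun fe => C.ref i (lo (Nat.shiftRight y 32)) fun u1 =>
    C.ref i (lo (Nat.shiftRight y 48)) fun u2 => lit (fa (Nat.shiftRight y 48)) fun p0 =>
    lit (fa fe) fun a => lit (mulF a p0) fun d => lit (fa u1) fun a1 => lit (fa u2) fun a2 =>
    and2 (and2 (and2 (Nat.ble (fk fe) 254) (small p0)) (and2 (inT C.mc d) (Nat.beq d (mulF a1 a2))))
      (lit (fq fe) fun q => lit (mulF q d) fun q' => lit (mulF q' m1) fun p1 =>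
        lit (fk fe) fun j1 => lit (Nat.shiftRight y 184) fun x => lit (fa f) fun A =>
        Bool.rec (motive := fun _ => Bool)
          (lit (fq f) fun Q => and2 (and2 (Nat.beq (fk f) (fj fe)) (Nat.beq (mulF Q mr) p0))
            (C.walk i (fun j p => and2 (Nat.beq j (fj f)) (Nat.beq (mulF A p) idP)) mid j1 p1 x))
          (and2 (Nat.beq (fj f) (fj fe))
            (C.walk i (fun j p => and2 (Nat.beq j (fj f)) (Nat.beq (mulF A p0) p))
              (mid ++ [mr]) j1 p1 x))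
          (Nat.beq (fk f) 255))

/-- A walk along a relator. -/
noncomputable def chkWalk (i f y : ℕ) : Bool :=
  Prod.rec (motive := fun _ => Bool) (fun m1 r => Prod.rec (motive := fun _ => Bool)
    (fun mid mr => C.chkW i f y m1 mid mr) r) (nth (idP, [], idP) C.tm (lo y))

noncomputable def chkMul (i f y : ℕ) : Bool :=
  C.ref i (lo y) fun f1 => C.ref i (hi y) fun f2 =>
    and2 (and2 (isSt f1 (fj f)) (isSt f2 (fj f))) (and2 (Nat.beq (fk f) 255)
      (lit (fa f1) fun a1 => lit (fa f2) fun a2 => Nat.beq (fa f) (mulF a1 a2)))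

noncomputable def chkInv (i f y : ℕ) : Bool :=
  C.ref i y fun f1 => and2 (isSt f1 (fj f)) (and2 (Nat.beq (fk f) 255)
    (lit (fa f) fun a => lit (fa f1) fun a1 => Nat.beq (mulF a a1) idP))

noncomputable def chkDef (i f y : ℕ) : Bool :=
  C.ref i y fun f1 => and2 (and2 (Nat.beq (fa f) (fa f1)) (Nat.beq (fq f) idP))
    (and2 (Nat.ble (fk f) 254) (eqL (nth [] C.paths (fk f)) (fa f :: nth [] C.paths (fj f))))

/-- The justification `x` of fact number `i`. -/
noncomputable def chkF (i x : ℕ) : Bool :=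
  lit (C.tree.get i) fun f => lit (hi x) fun y =>
    Nat.rec (motive := fun _ => Bool) (C.chkWalk i f y) (fun a _ =>
      Nat.rec (motive := fun _ => Bool) (C.chkMul i f y) (fun b _ =>
        Nat.rec (motive := fun _ => Bool) (C.chkInv i f y) (fun c _ =>
          Nat.rec (motive := fun _ => Bool) (C.chkDef i f y) (fun _ _ => memL f C.base) c) b) a)
      (lo x)

/-- The justifications of the facts from number `i` on. -/
noncomputable def chkAll (ops : List ℕ) : ℕ → Bool :=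
  List.rec (motive := fun _ => ℕ → Bool) (fun _ => true)
    (fun x _ ih i => and2 (C.chkF i x) (lit (Nat.succ i) ih)) ops

end Cfg

/-- Split a word at the letters `3`; the other letters have the codes `cl`. -/
noncomputable def parse {α : Type} (cl : List ℕ) (w : List ℕ) : (ℕ → List ℕ → α) → α :=
  List.rec (motive := fun _ => (ℕ → List ℕ → α) → α) (fun k => k idP [])
    (fun c _ ih k => ih fun p ms => Bool.rec (motive := fun _ => α)
      (lit (nth idP cl c) fun a => lit (mulF a p) fun p' => k p' ms) (k idP (p :: ms))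
      (Nat.beq c 3)) w

/-- The group-theoretic setting. -/
structure Ctx (G : Type) [Group G] where
  N : Subgroup (Equiv.Perm GolayPt)
  φ : N →* G
  H : Subgroup G
  t : G

namespace Ctx

variable {G : Type} [Group G] (X : Ctx G)

/-- The code is valid and lies in `N`. -/
def good (c : ℕ) : Prop := validP c = true ∧ pm c ∈ X.N

open Classical in
/-- The image of a permutation in `G`. -/
noncomputable def φ' (g : Equiv.Perm GolayPt) : G := if h : g ∈ X.N then X.φ ⟨g, h⟩ else 1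

/-- The image of a code in `G`. -/
noncomputable def ψ (c : ℕ) : G := X.φ' (pm c)

/-- Same right coset. -/
def E (g g' : G) : Prop := g * g'⁻¹ ∈ X.H

/-- The representative with a given path. -/
noncomputable def wOf : List ℕ → G
  | [] => 1
  | a :: r => wOf r * (X.ψ a)⁻¹ * X.t

noncomputable def prodT : List ℕ → G
  | [] => 1
  | m :: r => X.t * X.ψ m * prodT r

variable {X}

theorem φ'_mem {g : Equiv.Perm GolayPt} (h : g ∈ X.N) : X.φ' g = X.φ ⟨g, h⟩ := dif_pos h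

theorem φ'_coe (n : X.N) : X.φ' n = X.φ n := φ'_mem n.2

theorem φ'_mul {g g' : Equiv.Perm GolayPt} (h : g ∈ X.N) (h' : g' ∈ X.N) :
    X.φ' (g * g') = X.φ' g * X.φ' g' := by
  rw [φ'_mem h, φ'_mem h', φ'_mem (X.N.mul_mem h h'), ← map_mul]; rfl

theorem φ'_one : X.φ' 1 = 1 := by
  rw [φ'_mem X.N.one_mem]; exact map_one X.φ

theorem φ'_inv {g : Equiv.Perm GolayPt} (h : g ∈ X.N) : X.φ' g⁻¹ = (X.φ' g)⁻¹ :=
  eq_inv_of_mul_eq_one_left (by rw [← φ'_mul (X.N.inv_mem h) h, inv_mul_cancel, φ'_one])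

theorem good_id : X.good idP := ⟨validP_idP, by rw [pm_idP]; exact X.N.one_mem⟩

theorem ψ_id : X.ψ idP = 1 := by rw [ψ, pm_idP, φ'_one]

theorem good.mul {a b : ℕ} (ha : X.good a) (hb : X.good b) : X.good (mulF a b) := by
  rw [mulF_eq]
  exact ⟨validP_mulP ha.1 hb.1, by rw [pm_mulP ha.1 hb.1]; exact X.N.mul_mem ha.2 hb.2⟩

theorem ψ_mul {a b : ℕ} (ha : X.good a) (hb : X.good b) : X.ψ (mulF a b) = X.ψ a * X.ψ b := by
  rw [mulF_eq, ψ, pm_mulP ha.1 hb.1, φ'_mul ha.2 hb.2]; rfl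

theorem good.left {a b : ℕ} (hb : X.good b) (h : X.good (mulF a b)) : X.good a := by
  rw [mulF_eq] at h
  have hv := valid_left hb.1 h.1
  refine ⟨hv, ?_⟩
  have := X.N.mul_mem h.2 (X.N.inv_mem hb.2)
  rwa [pm_mulP hv hb.1, mul_inv_cancel_right] at this

theorem good.right {a b : ℕ} (ha : X.good a) (hb : small b = true) (h : X.good (mulF a b)) :
    X.good b := by
  rw [mulF_eq] at h
  have hv := valid_right ha.1 hb h.1
  refine ⟨hv, ?_⟩
  have := X.N.mul_mem (X.N.inv_mem ha.2) h.2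
  rwa [pm_mulP ha.1 hv, inv_mul_cancel_left] at this

theorem E.refl (g : G) : X.E g g := by rw [E, mul_inv_cancel]; exact X.H.one_mem

theorem E.of_eq {g g' : G} (h : g = g') : X.E g g' := h ▸ E.refl g

theorem E.symm {g g' : G} (h : X.E g g') : X.E g' g := by
  have := X.H.inv_mem h
  rwa [mul_inv_rev, inv_inv] at this

theorem E.trans {a b c : G} (h : X.E a b) (h' : X.E b c) : X.E a c := by
  have := X.H.mul_mem h h'
  rwa [mul_assoc, inv_mul_cancel_left] at this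

theorem E.mul {a b : G} (h : X.E a b) (c : G) : X.E (a * c) (b * c) := by
  rwa [E, mul_inv_rev, mul_assoc, mul_inv_cancel_left]

theorem prodT_append : ∀ u v : List ℕ, X.prodT (u ++ v) = X.prodT u * X.prodT v
  | [], v => by simp [prodT]
  | m :: u, v => by rw [List.cons_append, prodT, prodT, prodT_append u v]; group

theorem parse_spec {α : Type} {cl : List ℕ} (hcl : ∀ c ∈ cl, X.good c) {e : ℕ → G}
    (h3 : e 3 = X.t) : ∀ (w : List ℕ), (∀ c ∈ w, c ≠ 3 → e c = X.ψ (nth idP cl c)) →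
    ∀ k : ℕ → List ℕ → α, ∃ p ms, parse cl w k = k p ms ∧ X.good p ∧ (∀ m ∈ ms, X.good m) ∧
      ev e w = X.ψ p * X.prodT ms
  | [], _, k => ⟨idP, [], rfl, good_id, by simp, by simp [ψ_id, prodT]⟩
  | c :: w, hw, k => by
    obtain ⟨p, ms, h1, h2, h4, h5⟩ := parse_spec hcl h3 w
      (fun c hc => hw c (List.mem_cons_of_mem _ hc)) (fun p ms => Bool.rec (motive := fun _ => α)
      (lit (nth idP cl c) fun a => lit (mulF a p) fun p' => k p' ms) (k idP (p :: ms))
      (Nat.beq c 3))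
    have h6 : parse cl (c :: w) k = _ := h1
    cases h7 : Nat.beq c 3 with
    | true =>
      rw [h7] at h6
      refine ⟨idP, p :: ms, h6, good_id, List.forall_mem_cons.2 ⟨h2, h4⟩, ?_⟩
      rw [ev_cons, h5, H29.beq_true.1 h7, h3, ψ_id, prodT]; group
    | false =>
      rw [h7] at h6
      have h8 : X.good (nth idP cl c) := nth_forall (p := X.good) good_id hcl c
      refine ⟨_, ms, h6, h8.mul h2, h4, ?_⟩
      rw [ev_cons, h5, hw c (by simp) (fun h => by rw [h] at h7; exact absurd h7 (by decide)),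
        ψ_mul h8 h2, mul_assoc]

variable (X) (C : Cfg)

/-- The representatives. -/
noncomputable def w (j : ℕ) : G := X.wOf (nth [] C.paths j)

/-- The meaning of a fact. -/
def Valid (f : ℕ) : Prop :=
  X.good (fa f) ∧ (fk f = 255 → X.E (X.w C (fj f) * X.ψ (fa f)) (X.w C (fj f))) ∧
    (fk f ≤ 254 → X.good (fq f) ∧
      X.E (X.w C (fj f) * (X.ψ (fa f))⁻¹ * X.t) (X.w C (fk f) * X.ψ (fq f)))

/-- A relator in symmetric form. -/
def TOK (τ : ℕ × List ℕ × ℕ) : Prop :=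
  X.good τ.1 ∧ (∀ m ∈ τ.2.1, X.good m) ∧ X.good τ.2.2 ∧ X.prodT (τ.1 :: (τ.2.1 ++ [τ.2.2])) = 1

/-- The hypotheses. -/
structure OK : Prop where
  hN : ∀ n, X.φ n ∈ X.H
  tt : X.t * X.t = 1
  hT : ∀ d, X.good d → inT C.mc d = true → X.ψ d * X.t = X.t * X.ψ d
  tm : ∀ τ ∈ C.tm, X.TOK τ
  base : ∀ b ∈ C.base, X.Valid C b
  p0 : nth [] C.paths 0 = []
  p1 : nth [] C.paths 1 = [idP]

/-- The facts before number `i` hold. -/
def Upto (i : ℕ) : Prop := ∀ e < i, X.Valid C (C.tree.get e)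

variable {X C}

theorem upto_zero : X.Upto C 0 := fun _ h => absurd h (Nat.not_lt_zero _)

theorem ψ_mem (hN : ∀ n, X.φ n ∈ X.H) (c : ℕ) : X.ψ c ∈ X.H := by
  unfold ψ φ'
  split_ifs
  · exact hN _
  · exact X.H.one_mem

theorem OK.w0 (h : X.OK C) : X.w C 0 = 1 := by rw [w, h.p0]; rfl

theorem OK.w1 (h : X.OK C) : X.w C 1 = X.t := by rw [w, h.p1, wOf, wOf, ψ_id]; simp

theorem ref_spec {i e : ℕ} (hV : X.Upto C i) {k : ℕ → Bool} (h : C.ref i e k = true) :
    ∃ f, X.Valid C f ∧ k f = true := by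
  rw [Cfg.ref, and2_true, ble_true] at h
  exact ⟨_, hV e h.1, h.2⟩

theorem Valid.st {f j : ℕ} (h : X.Valid C f) (hs : isSt f j = true) :
    X.E (X.w C j * X.ψ (fa f)) (X.w C j) := by
  rw [isSt, and2_true, H29.beq_true, H29.beq_true] at hs
  exact hs.1 ▸ h.2.1 hs.2

theorem withS_spec {i s j p : ℕ} (hV : X.Upto C i) (hp : X.good p) {k : ℕ → Bool}
    (h : C.withS i s j p k = true) :
    ∃ p', X.good p' ∧ k p' = true ∧ X.E (X.w C j * X.ψ p) (X.w C j * X.ψ p') := by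
  rw [Cfg.withS] at h
  cases h1 : Nat.beq s 0 with
  | true => rw [h1] at h; exact ⟨p, hp, h, E.refl _⟩
  | false =>
    rw [h1] at h
    obtain ⟨f, hf, h2⟩ := ref_spec hV h
    rw [and2_true] at h2
    refine ⟨_, hf.1.mul hp, h2.2, ?_⟩
    rw [ψ_mul hf.1 hp, ← mul_assoc]
    exact ((hf.st h2.1).mul _).symm

theorem OK.edge (h : X.OK C) {f p : ℕ} (hf : X.Valid C f) (hk : fk f ≤ 254) (hp : X.good p)
    (hd : inT C.mc (mulF (fa f) p) = true) : X.E (X.w C (fj f) * X.ψ p * X.t)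
      (X.w C (fk f) * X.ψ (mulF (fq f) (mulF (fa f) p))) := by
  obtain ⟨h1, h2⟩ := hf.2.2 hk
  have h3 := hf.1.mul hp
  have h4 := h.hT _ h3 hd
  rw [ψ_mul h1 h3, ← mul_assoc]
  refine (E.of_eq ?_).trans (h2.mul _)
  rw [mul_assoc _ X.t, ← h4, ψ_mul hf.1 hp]; group

theorem OK.step (h : X.OK C) {i m j p x : ℕ} (hV : X.Upto C i) (hm : X.good m) (hp : X.good p)
    {k : ℕ → ℕ → ℕ → Bool} (hc : C.step i m j p x k = true) : ∃ j' p' x', X.good p' ∧
      k j' p' x' = true ∧ X.E (X.w C j * X.ψ p * (X.t * X.ψ m)) (X.w C j' * X.ψ p') := by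
  rw [Cfg.step] at hc
  cases h1 : Nat.beq j 0 with
  | true =>
    rw [h1] at hc
    refine ⟨1, m, x, hm, hc, ?_⟩
    rw [H29.beq_true.1 h1, h.w0, h.w1, E, one_mul, mul_inv_cancel_right]
    exact ψ_mem h.hN p
  | false =>
    rw [h1] at hc
    obtain ⟨f, hf, h2⟩ := ref_spec hV hc
    rw [and2_true, isEd, and2_true, H29.beq_true, ble_true] at h2
    obtain ⟨⟨rfl, h3⟩, h4⟩ := h2
    obtain ⟨p', h5, h6, h7⟩ := withS_spec hV hp h4
    simp only [lit_eq, and2_true] at h6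
    have h8 := (hf.2.2 h3).1.mul (hf.1.mul h5)
    refine ⟨_, _, _, h8.mul hm, h6.2, ?_⟩
    rw [ψ_mul h8 hm, ← mul_assoc, ← mul_assoc]
    exact ((h7.mul _).trans (h.edge hf h3 h5 h6.1)).mul _

theorem OK.walk (h : X.OK C) {i : ℕ} (hV : X.Upto C i) {fin : ℕ → ℕ → Bool} (ms : List ℕ) :
    ∀ {j p x : ℕ}, (∀ m ∈ ms, X.good m) → X.good p → C.walk i fin ms j p x = true →
      ∃ j' p', X.good p' ∧ fin j' p' = true ∧
        X.E (X.w C j * X.ψ p * X.prodT ms) (X.w C j' * X.ψ p') := by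
  induction ms with
  | nil => exact fun {j p _} _ hp hc => ⟨j, p, hp, hc, E.of_eq (mul_one _)⟩
  | cons m ms ih =>
    intro j p x hm hp hc
    have hc' : C.step i m j p x (C.walk i fin ms) = true := hc
    obtain ⟨j1, p1, x1, h1, h2, h3⟩ := h.step hV (hm m (by simp)) hp hc'
    obtain ⟨j2, p2, h4, h5, h6⟩ := ih (fun m hm' => hm m (by simp [hm'])) h1 h2
    refine ⟨j2, p2, h4, h5, E.trans ?_ h6⟩
    rw [prodT, ← mul_assoc]
    exact h3.mul _

theorem OK.chkWalk (h : X.OK C) {i f y : ℕ} (hV : X.Upto C i) (hc : C.chkWalk i f y = true) :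
    X.Valid C f := by
  have h0 : X.TOK (idP, [], idP) := by
    refine ⟨good_id, fun _ hm => absurd hm List.not_mem_nil, good_id, ?_⟩
    show X.t * X.ψ idP * (X.t * X.ψ idP * 1) = 1
    rw [ψ_id, mul_one, mul_one, h.tt]
  have hτ : X.TOK (nth (idP, [], idP) C.tm (lo y)) := nth_forall h0 h.tm _
  rw [Cfg.chkWalk] at hc
  generalize nth (idP, [], idP) C.tm (lo y) = τ at hτ hc
  obtain ⟨m1, mid, mr⟩ := τ
  obtain ⟨g1, g2, g3, g4⟩ := hτ
  dsimp only at g1 g2 g3 g4
  replace hc : C.chkW i f y m1 mid mr = true := hc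
  rw [Cfg.chkW] at hc
  obtain ⟨fe, hfe, hc⟩ := ref_spec hV hc
  obtain ⟨u1, hu1, hc⟩ := ref_spec hV hc
  obtain ⟨u2, hu2, hc⟩ := ref_spec hV hc
  simp only [lit_eq, and2_true, ble_true, H29.beq_true] at hc
  generalize fa (Nat.shiftRight y 48) = p0 at hc
  obtain ⟨⟨⟨h1, h2⟩, h3, h4⟩, h5⟩ := hc
  have hp0 : X.good p0 := hfe.1.right h2 (h4 ▸ hu1.1.mul hu2.1)
  have h6 := (hfe.2.2 h1).1.mul (hfe.1.mul hp0)
  have h7 : X.E (X.w C (fj fe) * X.ψ p0 * (X.t * X.ψ m1)) (X.w C (fk fe) *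
      X.ψ (mulF (mulF (fq fe) (mulF (fa fe) p0)) m1)) := by
    rw [ψ_mul h6 g1, ← mul_assoc, ← mul_assoc]
    exact (h.edge hfe h1 hp0 h3).mul _
  rw [prodT] at g4
  cases h8 : Nat.beq (fk f) 255 with
  | true =>
    rw [h8] at h5
    simp only [and2_true, H29.beq_true] at h5
    obtain ⟨j, p, k1, k2, k3⟩ := h.walk hV _ (List.forall_mem_append.2 ⟨g2, by simpa using g3⟩)
      (h6.mul g1) h5.2
    simp only [and2_true, H29.beq_true] at k2
    obtain ⟨rfl, rfl⟩ := k2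
    have k4 := hp0.left k1
    refine ⟨k4, fun _ => ?_, fun h9 => absurd (H29.beq_true.1 h8) (by omega)⟩
    have k5 := ((h7.mul _).trans k3).mul (X.ψ p0)⁻¹
    rw [mul_assoc _ (X.t * _), g4, ψ_mul k4 hp0, ← h5.1] at k5
    simpa [mul_assoc] using k5.symm
  | false =>
    rw [h8] at h5
    simp only [and2_true, H29.beq_true] at h5
    obtain ⟨⟨k6, rfl⟩, k7⟩ := h5
    obtain ⟨j, p, k1, k2, k3⟩ := h.walk hV _ g2 (h6.mul g1) k7
    simp only [and2_true, H29.beq_true] at k2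
    obtain ⟨rfl, k2⟩ := k2
    have k4 : X.good (fa f) := k1.left (k2 ▸ good_id)
    have k8 : X.good (fq f) := g3.left hp0
    refine ⟨k4, fun h9 => absurd (H29.beq_true.2 h9) (by simp [h8]), fun _ => ⟨k8, ?_⟩⟩
    have k9 : (X.ψ (fa f))⁻¹ = X.ψ p := by
      rw [inv_eq_iff_mul_eq_one, ← ψ_mul k4 k1, k2, ψ_id]
    have k5 := ((h7.mul _).trans k3).mul X.t
    rw [prodT_append, prodT, prodT, mul_one] at g4
    rw [k9, k6]
    refine k5.symm.trans (E.of_eq ?_)
    rw [ψ_mul k8 g3]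
    have : X.t * X.ψ m1 * X.prodT mid * X.t = (X.ψ mr)⁻¹ := by
      rw [eq_inv_iff_mul_eq_one, ← g4]; group
    calc _ = X.w C (fj fe) * (X.ψ (fq f) * X.ψ mr) * (X.t * X.ψ m1 * X.prodT mid * X.t) := by group
      _ = _ := by rw [this]; group

theorem chkMul_sound {i f y : ℕ} (hV : X.Upto C i) (hc : C.chkMul i f y = true) : X.Valid C f := by
  obtain ⟨f1, h1, hc⟩ := ref_spec hV hc
  obtain ⟨f2, h2, hc⟩ := ref_spec hV hc
  simp only [lit_eq, and2_true, H29.beq_true] at hc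
  obtain ⟨⟨h3, h4⟩, h5, h6⟩ := hc
  refine ⟨h6 ▸ h1.1.mul h2.1, fun _ => ?_, fun h => by omega⟩
  rw [h6, ψ_mul h1.1 h2.1, ← mul_assoc]
  exact ((h1.st h3).mul _).trans (h2.st h4)

theorem chkInv_sound {i f y : ℕ} (hV : X.Upto C i) (hc : C.chkInv i f y = true) : X.Valid C f := by
  obtain ⟨f1, h1, hc⟩ := ref_spec hV hc
  simp only [lit_eq, and2_true, H29.beq_true] at hc
  obtain ⟨h3, h5, h6⟩ := hc
  have h2 : X.good (fa f) := h1.1.left (h6 ▸ good_id)
  refine ⟨h2, fun _ => ?_, fun h => by omega⟩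
  have h4 : X.ψ (fa f) = (X.ψ (fa f1))⁻¹ := by
    rw [eq_inv_iff_mul_eq_one, ← ψ_mul h2 h1.1, h6, ψ_id]
  have := ((h1.st h3).mul (X.ψ (fa f))).symm
  rwa [h4, mul_inv_cancel_right, ← h4] at this

theorem chkDef_sound {i f y : ℕ} (hV : X.Upto C i) (hc : C.chkDef i f y = true) : X.Valid C f := by
  obtain ⟨f1, h1, hc⟩ := ref_spec hV hc
  simp only [and2_true, H29.beq_true, ble_true] at hc
  obtain ⟨⟨h2, h3⟩, h4, h5⟩ := hc
  refine ⟨h2 ▸ h1.1, fun h => by omega, fun _ => ⟨h3 ▸ good_id, E.of_eq ?_⟩⟩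
  rw [h3, ψ_id, mul_one, w, w, eqL_true h5, wOf]

theorem OK.chkF (h : X.OK C) {i x : ℕ} (hV : X.Upto C i) (hc : C.chkF i x = true) :
    X.Valid C (C.tree.get i) := by
  rw [Cfg.chkF, lit_eq, lit_eq] at hc
  generalize lo x = n at hc
  match n, hc with
  | 0, hc => exact h.chkWalk hV hc
  | 1, hc => exact chkMul_sound hV hc
  | 2, hc => exact chkInv_sound hV hc
  | 3, hc => exact chkDef_sound hV hc
  | _ + 4, hc => exact h.base _ (memL_true.1 hc)

theorem OK.chkAll (h : X.OK C) : ∀ (ops : List ℕ) {i : ℕ}, X.Upto C i → C.chkAll ops i = true →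
    X.Upto C (i + ops.length)
  | [], _, hV, _ => hV
  | x :: ops, i, hV, hc => by
    rw [show C.chkAll (x :: ops) i = and2 (C.chkF i x) (C.chkAll ops (i + 1)) from rfl,
      and2_true] at hc
    rw [List.length_cons, add_comm ops.length, ← add_assoc]
    refine h.chkAll ops (fun e he => ?_) hc.2
    rcases Nat.lt_succ_iff_lt_or_eq.1 he with h1 | rfl
    · exact hV e h1
    · exact h.chkF hV hc.1

theorem OK.next (h : X.OK C) {ops : List ℕ} {i n : ℕ} (hV : X.Upto C i)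
    (hc : and2 (C.chkAll ops i) (Nat.beq (Nat.add i ops.length) n) = true) : X.Upto C n := by
  rw [and2_true, H29.beq_true] at hc
  exact hc.2 ▸ h.chkAll ops hV hc.1

/-- A word that leads from node `0` back to node `0` lies in `H`. -/
theorem OK.trace (h : X.OK C) {i : ℕ} (hV : X.Upto C i) {cl : List ℕ} (hcl : ∀ c ∈ cl, X.good c)
    {e : ℕ → G} (h3 : e 3 = X.t) {u : List ℕ} (hu : ∀ c ∈ u, c ≠ 3 → e c = X.ψ (nth idP cl c))
    {x : ℕ} (hc : (parse cl u fun p ms => C.walk i (fun j _ => Nat.beq j 0) ms 0 p x) = true) :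
    ev e u ∈ X.H := by
  obtain ⟨p, ms, h1, h2, h4, h5⟩ := parse_spec hcl h3 u hu
    fun p ms => C.walk i (fun j _ => Nat.beq j 0) ms 0 p x
  rw [h1] at hc
  obtain ⟨j, q, -, h6, h7⟩ := h.walk hV ms h4 h2 hc
  rw [H29.beq_true.1 h6, h.w0, one_mul, one_mul, ← h5] at h7
  simpa using X.H.mul_mem h7 (ψ_mem h.hN q)

/-- A relator that starts with `t`, in symmetric form. -/
theorem tok_of_word {cl : List ℕ} (hcl : ∀ c ∈ cl, X.good c) {e : ℕ → G} (h3 : e 3 = X.t)
    {u : List ℕ} (hu : ∀ c ∈ u, c ≠ 3 → e c = X.ψ (nth idP cl c)) (h1 : ev e u = 1)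
    {τ : ℕ × List ℕ × ℕ}
    (hc : (parse cl u fun p ms => eqL (p :: ms) (idP :: τ.1 :: (τ.2.1 ++ [τ.2.2]))) = true) :
    X.TOK τ := by
  obtain ⟨p, ms, h2, -, h4, h5⟩ := parse_spec hcl h3 u hu
    fun p ms => eqL (p :: ms) (idP :: τ.1 :: (τ.2.1 ++ [τ.2.2]))
  rw [h2] at hc
  obtain ⟨rfl, rfl⟩ := List.cons.inj (eqL_true hc)
  rw [h1, ψ_id, one_mul] at h5
  exact ⟨h4 _ (by simp), fun m hm => h4 _ (by simp [hm]), h4 _ (by simp), h5.symm⟩

/-- Elements of `N` stabilise node `0`. -/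
theorem valid_zero (hN : ∀ n, X.φ n ∈ X.H) (p0 : nth [] C.paths 0 = []) {f : ℕ}
    (hf : X.good (fa f)) (hs : isSt f 0 = true) : X.Valid C f := by
  rw [isSt, and2_true, H29.beq_true, H29.beq_true] at hs
  refine ⟨hf, fun _ => ?_, fun h => by omega⟩
  rw [hs.1, w, p0, wOf, E]
  simpa using ψ_mem hN _

/-- The edge given by a word of `H` with three letters `t`. -/
theorem valid_sub (hN : ∀ n, X.φ n ∈ X.H) (tt : X.t * X.t = 1) (p1 : nth [] C.paths 1 = [idP])
    {cl : List ℕ} (hcl : ∀ c ∈ cl, X.good c) {e : ℕ → G} (h3 : e 3 = X.t)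
    {u : List ℕ} (hu : ∀ c ∈ u, c ≠ 3 → e c = X.ψ (nth idP cl c)) (h1 : ev e u ∈ X.H) {f : ℕ}
    (hc : (parse cl u fun _ ms => and2 (and2 (Nat.beq ms.length 3)
      (and2 (Nat.beq (fj f) 1) (Nat.beq (fk f) 1))) (and2 (Nat.beq (mulF (fa f) (nth 0 ms 0)) idP)
        (Nat.beq (mulF (fq f) (nth 0 ms 1)) idP))) = true) : X.Valid C f := by
  obtain ⟨p, ms, h2, -, h4, h5⟩ := parse_spec hcl h3 u hu fun _ ms => and2 (and2 (Nat.beq ms.length 3)
      (and2 (Nat.beq (fj f) 1) (Nat.beq (fk f) 1))) (and2 (Nat.beq (mulF (fa f) (nth 0 ms 0)) idP)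
        (Nat.beq (mulF (fq f) (nth 0 ms 1)) idP))
  rw [h2] at hc
  simp only [and2_true, H29.beq_true] at hc
  obtain ⟨⟨k1, k2, k3⟩, k4, k5⟩ := hc
  obtain ⟨m1, m2, m3, rfl⟩ := List.length_eq_three.1 k1
  change mulF _ m1 = _ at k4
  change mulF _ m2 = _ at k5
  have g1 := h4 m1 (by simp)
  have g2 := h4 m2 (by simp)
  have g3 : X.good (fa f) := g1.left (k4 ▸ good_id)
  have g4 : X.good (fq f) := g2.left (k5 ▸ good_id)
  refine ⟨g3, fun h => by omega, fun _ => ⟨g4, ?_⟩⟩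
  have e1 : (X.ψ (fa f))⁻¹ = X.ψ m1 := by
    rw [inv_eq_iff_mul_eq_one, ← ψ_mul g3 g1, k4, ψ_id]
  have e2 : (X.ψ (fq f))⁻¹ = X.ψ m2 := by
    rw [inv_eq_iff_mul_eq_one, ← ψ_mul g4 g2, k5, ψ_id]
  have e3 : X.w C 1 = X.t := by rw [w, p1, wOf, wOf, ψ_id]; simp
  have := X.H.mul_mem (X.H.mul_mem (X.H.inv_mem (ψ_mem hN p)) h1) (X.H.inv_mem (ψ_mem hN m3))
  rw [k2, k3, e3, E, mul_inv_rev, e1, e2, inv_eq_of_mul_eq_one_left tt]
  rw [h5] at this
  simpa [prodT, mul_assoc] using this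

end Ctx

end H9.DC
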