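import Mathlib
import Cfsg.Agent.H9.DC

/-!
# Certified double coset enumeration: completeness of the table, and the count of the cosets
-/

set_option autoImplicit false

namespace H9.DC

open Cfsg H29 MulAction

attribute [local irreducible] mulF inT small invT hsh

/-- A stack machine that lists elements and marks their hash values. -/
noncomputable def covChunk (rootK genK : ℕ → (ℕ → Bool) → Bool) (hs : ℕ → ℕ)
    (k : List ℕ → ℕ → Bool) (fuel : ℕ) : ℕ → List ℕ → ℕ → Bool :=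
  Nat.rec (motive := fun _ => ℕ → List ℕ → ℕ → Bool) (fun _ st M => k st M)
    (fun _ ih x st M => lit (Nat.shiftRight x 18) fun x' => lit (lo (Nat.shiftRight x 2)) fun s =>
      Nat.rec (motive := fun _ => Bool)
        (List.rec (motive := fun _ => Bool) false (fun _ t _ => ih x' t M) st)
        (fun a _ => Nat.rec (motive := fun _ => Bool)
          (rootK s fun a => lit (Nat.lor M (Nat.shiftLeft 1 (hs a))) fun M' => ih x' [a] M')
          (fun b _ => List.rec (motive := fun _ => Bool) false (fun top t _ => genK s fun g =>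
            lit (mulF top g) fun a => lit (Nat.lor M (Nat.shiftLeft 1 (hs a))) fun M' =>
              Nat.rec (motive := fun _ => Bool) (ih x' (a :: top :: t) M')
                (fun _ _ => ih x' (top :: t) M') b) st) a) (Nat.land x 3)) fuel

noncomputable def covRun (rootK genK : ℕ → (ℕ → Bool) → Bool) (hs : ℕ → ℕ) (n0 : ℕ)
    (l : List (ℕ × ℕ)) : List ℕ → ℕ → Bool :=
  List.rec (motive := fun _ => List ℕ → ℕ → Bool) (fun _ M => Nat.ble n0 (popc 12 M))
    (fun c _ ih st M => covChunk rootK genK hs ih c.1 c.2 st M) l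

section Machine

variable {rootK genK : ℕ → (ℕ → Bool) → Bool} {hs : ℕ → ℕ} {Q Gn : ℕ → Prop}

/-- The invariant of the machine. -/
def CInv (Q : ℕ → Prop) (hs : ℕ → ℕ) (st : List ℕ) (M : ℕ) : Prop :=
  (∀ a ∈ st, Q a) ∧ ∀ n, M.testBit n = true → ∃ a, Q a ∧ hs a = n

theorem CInv.mark {st st' : List ℕ} {M a : ℕ} (h : CInv Q hs st M) (ha : Q a)
    (h' : ∀ b ∈ st', Q b) : CInv Q hs st' (Nat.lor M (Nat.shiftLeft 1 (hs a))) := by
  refine ⟨h', fun n hn => ?_⟩
  rw [lor_eq, Nat.testBit_or, Bool.or_eq_true] at hn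
  rcases hn with hn | hn
  · exact h.2 n hn
  · rw [shl_eq, Nat.one_shiftLeft, Nat.testBit_two_pow, decide_eq_true_eq] at hn
    exact ⟨a, ha, hn⟩

theorem covChunk_spec (hr : ∀ s k, rootK s k = true → ∃ a, Q a ∧ k a = true)
    (hg : ∀ s k, genK s k = true → ∃ g, Gn g ∧ k g = true)
    (hq : ∀ a g, Q a → Gn g → Q (mulF a g)) {k : List ℕ → ℕ → Bool} (fuel : ℕ) :
    ∀ x st M, CInv Q hs st M → covChunk rootK genK hs k fuel x st M = true →
      ∃ st' M', CInv Q hs st' M' ∧ k st' M' = true := by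
  induction fuel with
  | zero => exact fun _ st M h hc => ⟨st, M, h, hc⟩
  | succ n ih =>
    intro x st M h hc
    replace hc : (Nat.rec (motive := fun _ => Bool)
        (List.rec (motive := fun _ => Bool) false
          (fun _ t _ => covChunk rootK genK hs k n (Nat.shiftRight x 18) t M) st)
        (fun a _ => Nat.rec (motive := fun _ => Bool)
          (rootK (lo (Nat.shiftRight x 2)) fun a => covChunk rootK genK hs k n (Nat.shiftRight x 18)
            [a] (Nat.lor M (Nat.shiftLeft 1 (hs a))))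
          (fun b _ => List.rec (motive := fun _ => Bool) false (fun top t _ =>
            genK (lo (Nat.shiftRight x 2)) fun g =>
              Nat.rec (motive := fun _ => Bool) (covChunk rootK genK hs k n (Nat.shiftRight x 18)
                (mulF top g :: top :: t) (Nat.lor M (Nat.shiftLeft 1 (hs (mulF top g)))))
                (fun _ _ => covChunk rootK genK hs k n (Nat.shiftRight x 18) (top :: t)
                  (Nat.lor M (Nat.shiftLeft 1 (hs (mulF top g))))) b) st) a) (Nat.land x 3)) = true := hc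
    generalize Nat.land x 3 = c at hc
    match c, st, h, hc with
    | 0, [], _, hc => exact absurd hc Bool.false_ne_true
    | 0, _ :: t, h, hc => exact ih _ t M ⟨fun a ha => h.1 a (List.mem_cons_of_mem _ ha), h.2⟩ hc
    | 1, _, h, hc =>
      obtain ⟨a, h1, h2⟩ := hr _ _ hc
      exact ih _ _ _ (h.mark h1 (by simpa using h1)) h2
    | _ + 2, [], _, hc => exact absurd hc Bool.false_ne_true
    | 2, top :: t, h, hc =>
      obtain ⟨g, h1, h2⟩ := hg _ _ hc
      have h3 := hq _ _ (h.1 top (by simp)) h1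
      exact ih _ _ _ (h.mark h3 (List.forall_mem_cons.2 ⟨h3, h.1⟩)) h2
    | _ + 3, top :: t, h, hc =>
      obtain ⟨g, h1, h2⟩ := hg _ _ hc
      exact ih _ _ _ (h.mark (hq _ _ (h.1 top (by simp)) h1) h.1) h2

theorem covRun_spec (hr : ∀ s k, rootK s k = true → ∃ a, Q a ∧ k a = true)
    (hg : ∀ s k, genK s k = true → ∃ g, Gn g ∧ k g = true)
    (hq : ∀ a g, Q a → Gn g → Q (mulF a g)) {n0 : ℕ} (l : List (ℕ × ℕ)) :
    ∀ st M, CInv Q hs st M → covRun rootK genK hs n0 l st M = true →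
      ∃ M', CInv Q hs [] M' ∧ n0 ≤ popc 12 M' := by
  induction l with
  | nil => exact fun st M h hc => ⟨M, ⟨by simp, h.2⟩, ble_true.1 hc⟩
  | cons c l ih =>
    intro st M h hc
    obtain ⟨st', M', h1, h2⟩ := covChunk_spec hr hg hq c.1 c.2 st M h hc
    exact ih _ _ h1 h2

theorem cinv_zero : CInv Q hs [] 0 := ⟨by simp, by simp⟩

end Machine

/-- The cosets of the block stabiliser that are met by the inverses of codes with property `Q`. -/
def Met (N : Subgroup (Equiv.Perm GolayPt)) (β : ℕ) (Q : ℕ → Prop) :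
    Set (N ⧸ (TS β).subgroupOf N) :=
  {c | ∃ a, Q a ∧ ∃ n : N, (n : Equiv.Perm GolayPt) = (pm a)⁻¹ ∧ c = n}

theorem popc_le_met {N : Subgroup (Equiv.Perm GolayPt)} {β : ℕ} (hβ : β = 2 ∨ β = 3)
    {Q : ℕ → Prop} (hQ : ∀ a, Q a → validP a = true ∧ pm a ∈ N) {F : ℕ → ℕ} {M : ℕ}
    (h : CInv Q (fun a => F (invT β a)) [] M) : popc 12 M ≤ (Met N β Q).ncard := by
  classical
  choose f hf1 hf2 using h.2
  rw [popc_eq, ← Set.ncard_coe_finset]
  let g : ℕ → N ⧸ (TS β).subgroupOf N := fun n => if hn : M.testBit n = true then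
    ((⟨(pm (f n hn))⁻¹, N.inv_mem (hQ _ (hf1 n hn)).2⟩ : N) : N ⧸ _) else ((1 : N) : N ⧸ _)
  refine Set.ncard_le_ncard_of_injOn g (fun n hn => ?_) (fun n hn m hm e => ?_) (Set.toFinite _)
  · have hn' := (Finset.mem_filter.1 hn).2
    exact ⟨_, hf1 n hn', _, rfl, dif_pos hn'⟩
  · have hn' := (Finset.mem_filter.1 hn).2
    have hm' := (Finset.mem_filter.1 hm).2
    simp only [g, dif_pos hn', dif_pos hm', QuotientGroup.eq, Subgroup.mem_subgroupOf] at e
    rw [← hf2 n hn', ← hf2 m hm']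
    exact congrArg F (invT_congr hβ (hQ _ (hf1 m hm')).1 (hQ _ (hf1 n hn')).1 (by simpa using e))

theorem bd_of_set {G : Type*} [Group G] {K H : Subgroup G} {m : ℕ} {U : Set (G ⧸ H)}
    (hU : U.Finite) (h : ∀ g ∈ K, (g : G ⧸ H) ∈ U) (hH : Bd H m) : Bd K (U.ncard * m) := by
  have := hH.1
  have := hU.to_subtype
  let φ : K → U × H := fun g => (⟨(g : G), h g g.2⟩,
    ⟨((g : G) : G ⧸ H).out⁻¹ * g, by rw [← QuotientGroup.eq, QuotientGroup.out_eq']⟩)
  have hφ : Function.Injective φ := by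
    intro g g' hg
    simp only [φ, Prod.mk.injEq, Subtype.mk.injEq] at hg
    rw [hg.1] at hg
    exact Subtype.ext (mul_left_cancel hg.2)
  refine ⟨Finite.of_injective φ hφ, (Nat.card_le_card_of_injective φ hφ).trans ?_⟩
  rw [Nat.card_prod, Nat.card_coe_set_eq]
  exact Nat.mul_le_mul_left _ hH.2

namespace Cfg

variable (C : Cfg)

noncomputable def rootK (tot K j s : ℕ) (k : ℕ → Bool) : Bool :=
  C.ref tot s fun f => and2 (and2 (Nat.beq (fj f) j) (Nat.ble (Nat.succ (fk f)) K)) (lit (fa f) k)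

noncomputable def genK (tot j s : ℕ) (k : ℕ → Bool) : Bool :=
  C.ref tot s fun f => and2 (isSt f j) (lit (fa f) k)

/-- The edges at node `j` meet `n0` cosets of the block stabiliser. -/
noncomputable def chkCov (tot K β n0 : ℕ) (F : ℕ → ℕ) (j : ℕ) (l : List (ℕ × ℕ)) : Bool :=
  covRun (C.rootK tot K j) (C.genK tot j) (fun a => F (invT β a)) n0 l [] 0

noncomputable def stG (tot j s : ℕ) : ℕ :=
  lit (C.tree.get s) fun f => Bool.rec (motive := fun _ => ℕ) idP (fa f)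
    (and2 (Nat.ble (Nat.succ s) tot) (isSt f j))

/-- The stabiliser of node `j` has index at most `o` in a group of order at most `nN`. -/
noncomputable def chkSt (tot nN j o : ℕ) (ids : List ℕ) (ch : List (ℕ × ℕ × List (List ℕ))) : Bool :=
  and2 (seqL (ids.map (C.stG tot j)) (chkCh ch)) (and2 (Nat.ble 1 (ch.map fun a => a.2.1).prod)
    (Nat.ble nN (Nat.mul o (ch.map fun a => a.2.1).prod)))

end Cfg

/-- The generators reach `n0` cosets of the block stabiliser. -/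
noncomputable def chkIdx (gens : List ℕ) (β n0 : ℕ) (F : ℕ → ℕ) (l : List (ℕ × ℕ)) : Bool :=
  covRun (fun _ k => k idP) (fun s k => lit (nth idP gens s) k) (fun a => F (invT β a)) n0 l [] 0

theorem le_index_of_chk {N : Subgroup (Equiv.Perm GolayPt)} {gens : List ℕ} (hg : GensIn gens N)
    {β : ℕ} (hβ : β = 2 ∨ β = 3) {n0 : ℕ} {F : ℕ → ℕ} {l : List (ℕ × ℕ)}
    (h : chkIdx gens β n0 F l = true) : n0 ≤ ((TS β).subgroupOf N).index := by
  have h0 : validP idP = true ∧ pm idP ∈ N := ⟨validP_idP, by rw [pm_idP]; exact N.one_mem⟩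
  obtain ⟨M, h1, h2⟩ := covRun_spec (Q := fun a => validP a = true ∧ pm a ∈ N)
    (Gn := fun a => validP a = true ∧ pm a ∈ N) (fun _ _ h => ⟨_, h0, h⟩)
    (fun s _ h => ⟨_, nth_forall (p := fun a => validP a = true ∧ pm a ∈ N) h0 hg s, h⟩)
    (fun a g ha hg => by
      rw [mulF_eq]
      exact ⟨validP_mulP ha.1 hg.1, by rw [pm_mulP ha.1 hg.1]; exact N.mul_mem ha.2 hg.2⟩)
    l _ _ cinv_zero h
  refine h2.trans ((popc_le_met hβ (fun _ h => h) h1).trans ?_)
  rw [Subgroup.index, ← Set.ncard_univ]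
  exact Set.ncard_le_ncard (Set.subset_univ _) (Set.toFinite _)

namespace Ctx

variable {G : Type} [Group G] (X : Ctx G) (C : Cfg)

/-- The elements of `N` whose image commutes with `t`. -/
def CT : Subgroup (Equiv.Perm GolayPt) where
  carrier := {g | g ∈ X.N ∧ X.φ' g * X.t = X.t * X.φ' g}
  one_mem' := ⟨X.N.one_mem, by rw [φ'_one, one_mul, mul_one]⟩
  mul_mem' := fun ha hb => ⟨X.N.mul_mem ha.1 hb.1, by
    rw [φ'_mul ha.1 hb.1, mul_assoc, hb.2, ← mul_assoc, ha.2, mul_assoc]⟩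
  inv_mem' := fun ha => ⟨X.N.inv_mem ha.1, by
    rw [φ'_inv ha.1, inv_mul_eq_iff_eq_mul, ← mul_assoc, ha.2, mul_inv_cancel_right]⟩

/-- The stabiliser of node `j`. -/
def SJ (j : ℕ) : Subgroup (Equiv.Perm GolayPt) where
  carrier := {g | g ∈ X.N ∧ X.E (X.w C j * X.φ' g) (X.w C j)}
  one_mem' := ⟨X.N.one_mem, by rw [φ'_one, mul_one]; exact E.refl _⟩
  mul_mem' := fun ha hb => ⟨X.N.mul_mem ha.1 hb.1, by
    rw [φ'_mul ha.1 hb.1, ← mul_assoc]; exact (ha.2.mul _).trans hb.2⟩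
  inv_mem' := fun {a} ha => ⟨X.N.inv_mem ha.1, by
    have := (ha.2.mul (X.φ' a)⁻¹).symm
    rwa [mul_inv_cancel_right, ← φ'_inv ha.1] at this⟩

/-- All edges at node `j` lead to nodes below `K`. -/
def Cov (K j : ℕ) : Prop :=
  ∀ n : X.N, ∃ k < K, ∃ q : X.N, X.E (X.w C j * X.φ n * X.t) (X.w C k * X.φ q)

/-- The cosets in the double coset of node `j`. -/
def O (j : ℕ) : Set (G ⧸ X.H) := {c | ∃ n : X.N, c = (((X.w C j * X.φ n)⁻¹ : G) : G ⧸ X.H)}

variable {X C}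

/-- The centraliser of `t` contains the block stabiliser. -/
theorem blk {β mc c0 n0 : ℕ} (hm : McOK β mc) {g0 : List ℕ} (h0 : GensIn g0 X.CT)
    (h1 : (H29.allL g0 (inT mc)) = true) {ch : List (ℕ × ℕ × List (List ℕ))}
    (h2 : chkCh ch g0 = true) (h3 : (ch.map fun a => a.2.1).prod = c0)
    (h4 : n0 ≤ ((TS β).subgroupOf X.N).index) (h5 : Nat.card X.N ≤ c0 * n0) :
    (∀ g ∈ X.N, g ∈ TS β → X.φ' g * X.t = X.t * X.φ' g) ∧
      ((TS β).subgroupOf X.N).index ≤ n0 := by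
  have k1 : GensIn g0 (X.CT ⊓ TS β) := fun c hc =>
    ⟨(h0 c hc).1, (h0 c hc).2, mem_TS hm (h0 c hc).1 (allL_true.1 h1 c hc)⟩
  have k2 := h3 ▸ le_card_of_chkCh ch k1 h2
  have k3 : X.CT ⊓ TS β ≤ TS β ⊓ X.N := fun g hg => ⟨hg.2, hg.1.1⟩
  have k4 : Nat.card ((TS β).subgroupOf X.N) = Nat.card ↥(TS β ⊓ X.N) := by
    rw [← Subgroup.inf_subgroupOf_right]
    exact Nat.card_congr (Subgroup.subgroupOfEquivOfLe inf_le_right).toEquiv
  have k5 := ((TS β).subgroupOf X.N).card_mul_index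
  have k6 := Subgroup.card_le_of_le k3
  have k7 : 0 < Nat.card X.N := Nat.card_pos
  rw [k4] at k5
  generalize ((TS β).subgroupOf X.N).index = i at *
  have hc : 0 < c0 := Nat.pos_of_ne_zero fun h => by rw [h] at h5; omega
  have hn : 0 < n0 := Nat.pos_of_ne_zero fun h => by rw [h] at h5; omega
  have k8 : Nat.card ↥(TS β ⊓ X.N) ≤ c0 := by
    by_contra h
    have : (c0 + 1) * n0 ≤ Nat.card ↥(TS β ⊓ X.N) * i := Nat.mul_le_mul (by omega) h4
    nlinarith
  refine ⟨fun d hd hd' => ?_, ?_⟩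
  · have : X.CT ⊓ TS β = TS β ⊓ X.N := Subgroup.eq_of_le_of_card_ge k3 (by omega)
    have k9 : d ∈ X.CT ⊓ TS β := this ▸ ⟨hd', hd⟩
    exact k9.1.2
  · by_contra h
    have : c0 * (n0 + 1) ≤ Nat.card ↥(TS β ⊓ X.N) * i := Nat.mul_le_mul (by omega) (by omega)
    nlinarith

theorem cov_of_chk {β mc n0 tot K j : ℕ} (hβ : β = 2 ∨ β = 3)
    (hT : ∀ g ∈ X.N, g ∈ TS β → X.φ' g * X.t = X.t * X.φ' g)
    (hi : ((TS β).subgroupOf X.N).index ≤ n0) (hV : X.Upto C tot) (hK : K ≤ 255) {F : ℕ → ℕ}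
    {l : List (ℕ × ℕ)} (h : C.chkCov tot K β n0 F j l = true) : X.Cov C K j := by
  let Q : ℕ → Prop := fun a => X.good a ∧ ∃ k < K, ∃ q, X.good q ∧
    X.E (X.w C j * (X.ψ a)⁻¹ * X.t) (X.w C k * X.ψ q)
  obtain ⟨M, h1, h2⟩ := covRun_spec (Q := Q)
    (Gn := fun g => X.good g ∧ X.E (X.w C j * X.ψ g) (X.w C j))
    (fun s k hc => by
      obtain ⟨f, hf, hc⟩ := ref_spec hV hc
      simp only [and2_true, H29.beq_true, ble_true, lit_eq] at hc
      obtain ⟨⟨rfl, k1⟩, k2⟩ := hc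
      obtain ⟨k3, k4⟩ := hf.2.2 (by omega)
      exact ⟨_, ⟨hf.1, _, k1, _, k3, k4⟩, k2⟩)
    (fun s k hc => by
      obtain ⟨f, hf, hc⟩ := ref_spec hV hc
      rw [and2_true] at hc
      exact ⟨_, ⟨hf.1, hf.st hc.1⟩, hc.2⟩)
    (fun a g ⟨ha, k, hk, q, hq, e⟩ hg => ⟨ha.mul hg.1, k, hk, q, hq, by
      refine E.trans ?_ e
      have := (((hg.2.mul (X.ψ g)⁻¹).mul (X.ψ a)⁻¹).mul X.t).symm
      rwa [mul_inv_cancel_right, mul_assoc _ _ (X.ψ a)⁻¹, ← mul_inv_rev, ← ψ_mul ha hg.1] at this⟩)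
    l _ _ cinv_zero h
  have h3 := h2.trans (popc_le_met hβ (fun _ h => h.1) h1)
  have h4 : Met X.N β Q = Set.univ := Set.eq_of_subset_of_ncard_le (Set.subset_univ _)
    (by rw [Set.ncard_univ]; exact hi.trans h3) (Set.toFinite _)
  intro n
  obtain ⟨a, ⟨ha, k, hk, q, hq, e⟩, m, hm, e2⟩ :
    ((n : X.N) : X.N ⧸ (TS β).subgroupOf X.N) ∈ Met X.N β Q := h4 ▸ Set.mem_univ _
  have h5 := hT _ (m⁻¹ * n).2 (Subgroup.mem_subgroupOf.1 (QuotientGroup.eq.1 e2.symm))
  rw [φ'_coe] at h5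
  have h6 : (X.ψ a)⁻¹ = X.φ m := by rw [ψ, ← φ'_inv ha.2, ← hm, φ'_coe]
  refine ⟨k, hk, ⟨pm q, hq.2⟩ * (m⁻¹ * n), ?_⟩
  rw [map_mul, ← φ'_mem hq.2, ← mul_assoc]
  refine (E.of_eq ?_).trans (e.mul _)
  rw [mul_assoc _ X.t, ← h5, h6, map_mul, map_inv]; group

theorem hT_code {β mc : ℕ} (hm : McOK β mc)
    (hT : ∀ g ∈ X.N, g ∈ TS β → X.φ' g * X.t = X.t * X.φ' g) :
    ∀ d, X.good d → inT mc d = true → X.ψ d * X.t = X.t * X.ψ d :=
  fun _ hd h => hT _ hd.2 (mem_TS hm hd.1 h)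

theorem OK.cover (h : X.OK C) {K : ℕ} (hK : 1 < K) (hc : ∀ j, 0 < j → j < K → X.Cov C K j)
    {g : G} (hg : g ∈ Subgroup.closure (Set.range X.φ ∪ {X.t})) :
    ∃ j < K, ∃ n : X.N, X.E g (X.w C j * X.φ n) := by
  have step : ∀ g, (∃ j < K, ∃ n : X.N, X.E g (X.w C j * X.φ n)) →
      ∃ j < K, ∃ n : X.N, X.E (g * X.t) (X.w C j * X.φ n) := by
    rintro g ⟨j, hj, n, e⟩
    rcases Nat.eq_zero_or_pos j with rfl | h0
    · refine ⟨1, hK, 1, (e.mul _).trans ?_⟩
      rw [h.w0, h.w1, map_one, mul_one, one_mul, E, mul_inv_cancel_right]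
      exact h.hN n
    · obtain ⟨k, hk, q, e'⟩ := hc j h0 hj n
      exact ⟨k, hk, q, (e.mul _).trans e'⟩
  induction hg using Subgroup.closure_induction_right with
  | one => exact ⟨0, by omega, 1, E.of_eq (by rw [h.w0, map_one, mul_one])⟩
  | mul_right x _ y hy ih =>
    rcases hy with ⟨m, rfl⟩ | rfl
    · obtain ⟨j, hj, n, e⟩ := ih
      exact ⟨j, hj, n * m, by rw [map_mul, ← mul_assoc]; exact e.mul _⟩
    · exact step _ ih
  | mul_inv_cancel x _ y hy ih =>
    rcases hy with ⟨m, rfl⟩ | rfl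
    · obtain ⟨j, hj, n, e⟩ := ih
      exact ⟨j, hj, n * m⁻¹, by rw [map_mul, map_inv, ← mul_assoc]; exact e.mul _⟩
    · rw [inv_eq_of_mul_eq_one_left h.tt]
      exact step _ ih

theorem OK.mem_O (h : X.OK C) {K : ℕ} (hK : 1 < K) (hc : ∀ j, 0 < j → j < K → X.Cov C K j)
    {g : G} (hg : g ∈ Subgroup.closure (Set.range X.φ ∪ {X.t})) :
    ∃ j < K, (g : G ⧸ X.H) ∈ X.O C j := by
  obtain ⟨j, hj, n, e⟩ := h.cover hK hc (Subgroup.inv_mem _ hg)
  exact ⟨j, hj, n, QuotientGroup.eq.2 e⟩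

theorem O_finite (j : ℕ) : (X.O C j).Finite :=
  (Set.finite_range fun n : X.N => (((X.w C j * X.φ n)⁻¹ : G) : G ⧸ X.H)).subset
    fun _ ⟨n, hn⟩ => ⟨n, hn.symm⟩

theorem ncard_O_mul (j : ℕ) : (X.O C j).ncard * Nat.card (X.SJ C j) ≤ Nat.card X.N := by
  letI : MulAction X.N (G ⧸ X.H) := MulAction.compHom _ X.φ
  have h1 : X.O C j = orbit X.N (((X.w C j)⁻¹ : G) : G ⧸ X.H) := by
    ext c
    constructor
    · rintro ⟨n, rfl⟩
      exact ⟨n⁻¹, by simp [MulAction.compHom_smul_def, mul_inv_rev]⟩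
    · rintro ⟨n, rfl⟩
      exact ⟨n⁻¹, by simp [MulAction.compHom_smul_def, mul_inv_rev]⟩
  have h2 : (X.SJ C j).subgroupOf X.N ≤ stabilizer X.N (((X.w C j)⁻¹ : G) : G ⧸ X.H) := by
    intro n hn
    have := ((X.SJ C j).inv_mem (Subgroup.mem_subgroupOf.1 hn)).2
    rw [φ'_inv n.2, φ'_coe] at this
    rw [mem_stabilizer_iff, MulAction.compHom_smul_def, MulAction.Quotient.smul_coe, smul_eq_mul,
      QuotientGroup.eq]
    simpa [E] using this
  have h3 : Nat.card (X.SJ C j) = Nat.card ((X.SJ C j).subgroupOf X.N) :=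
    (Nat.card_congr (Subgroup.subgroupOfEquivOfLe (show X.SJ C j ≤ X.N from fun _ h => h.1)).toEquiv).symm
  rw [h1, h3, ← index_stabilizer, ← (stabilizer X.N (((X.w C j)⁻¹ : G) : G ⧸ X.H)).index_mul_card]
  exact Nat.mul_le_mul_left _ (Subgroup.card_le_of_le h2)

theorem ncard_O_le {tot nN j o : ℕ} (hV : X.Upto C tot) (hN : Nat.card X.N ≤ nN) {ids : List ℕ}
    {ch : List (ℕ × ℕ × List (List ℕ))} (h : C.chkSt tot nN j o ids ch = true) :
    (X.O C j).ncard ≤ o := by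
  simp only [Cfg.chkSt, and2_true, seqL_eq, ble_true] at h
  have h1 : GensIn (ids.map (C.stG tot j)) (X.SJ C j) := by
    intro c hc
    obtain ⟨s, -, rfl⟩ := List.mem_map.1 hc
    rw [Cfg.stG, lit_eq]
    cases h2 : and2 (Nat.ble (Nat.succ s) tot) (isSt (C.tree.get s) j) with
    | false => exact ⟨validP_idP, by rw [show pm _ = 1 from pm_idP]; exact Subgroup.one_mem _⟩
    | true =>
      rw [and2_true, ble_true] at h2
      have h3 := hV s h2.1
      exact ⟨h3.1.1, h3.1.2, h3.st h2.2⟩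
  have h2 := le_card_of_chkCh ch h1 h.1
  have h3 := ncard_O_mul (X := X) (C := C) j
  generalize (ch.map fun a => a.2.1).prod = s at *
  refine Nat.le_of_mul_le_mul_right ((Nat.mul_le_mul_left _ h2).trans (h3.trans (hN.trans h.2.2))) h.2.1

theorem OK.ncard_O_zero (h : X.OK C) : (X.O C 0).ncard ≤ 1 := by
  rw [Set.ncard_le_one (O_finite 0)]
  rintro _ ⟨n, rfl⟩ _ ⟨m, rfl⟩
  rw [QuotientGroup.eq, h.w0]
  simpa using X.H.mul_mem (h.hN n) (X.H.inv_mem (h.hN m))

theorem ncard_union_le {α : Type*} {O : ℕ → Set α} (o : ℕ → ℕ) :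
    ∀ K, (∀ j < K, (O j).ncard ≤ o j) → {c | ∃ j < K, c ∈ O j}.ncard ≤ ∑ j ∈ Finset.range K, o j
  | 0, _ => by simp
  | K + 1, h => by
    have : {c | ∃ j < K + 1, c ∈ O j} = {c | ∃ j < K, c ∈ O j} ∪ O K := by
      ext c
      simp only [Set.mem_setOf_eq, Set.mem_union]
      constructor
      · rintro ⟨j, hj, hc⟩
        rcases Nat.lt_succ_iff_lt_or_eq.1 hj with h1 | rfl
        · exact Or.inl ⟨j, h1, hc⟩
        · exact Or.inr hc
      · rintro (⟨j, hj, hc⟩ | hc)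
        · exact ⟨j, by omega, hc⟩
        · exact ⟨K, by omega, hc⟩
    rw [this, Finset.sum_range_succ]
    exact (Set.ncard_union_le _ _).trans
      (Nat.add_le_add (ncard_union_le o K fun j hj => h j (by omega)) (h K (by omega)))

theorem OK.bd (h : X.OK C) {K : ℕ} (hK : 1 < K) (hc : ∀ j, 0 < j → j < K → X.Cov C K j)
    {o : ℕ → ℕ} (ho : ∀ j < K, (X.O C j).ncard ≤ o j) {m n : ℕ} (hH : Bd X.H m)
    (hn : ∑ j ∈ Finset.range K, o j = n) :
    Bd (Subgroup.closure (Set.range X.φ ∪ {X.t})) (n * m) := by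
  have hf : {c | ∃ j < K, c ∈ X.O C j}.Finite :=
    (Set.Finite.biUnion (Set.finite_lt_nat K) fun j _ => O_finite (X := X) (C := C) j).subset
      fun c ⟨j, hj, hc⟩ => Set.mem_biUnion hj hc
  exact (bd_of_set hf (fun g hg => h.mem_O hK hc hg) hH).mono
    (Nat.mul_le_mul_right _ (hn ▸ ncard_union_le o K ho))

end Ctx

end H9.DC
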