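import Mathlib
import Cfsg.Agent.H9.DC2

/-!
# Certified double coset enumeration: the completeness check with a cheaper invariant
-/

set_option autoImplicit false

namespace H9.DC

open Cfsg H29 MulAction

attribute [local irreducible] mulF inT small hsh

/-- A number that depends on the partition only. -/
noncomputable def invU (β a : ℕ) : ℕ :=
  lit (difM β a 0) fun z => Nat.add z (Nat.shiftLeft (difM β a (Nat.mod (Nat.land (Nat.shiftRight
    19665088320641531581543494316743145742713856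
    (Nat.mul 5 (Nat.mod (Nat.xor z (Nat.land z (Nat.sub z 1))) 29))) 31) 24)) 1)

theorem invU_congr {β : ℕ} (hβ : β = 2 ∨ β = 3) {a a' : ℕ} (ha : validP a = true)
    (ha' : validP a' = true) (h : pm a' * (pm a)⁻¹ ∈ TS β) : invU β a' = invU β a := by
  rw [invU, invU, lit_eq, lit_eq, difM_congr hβ ha ha' h (by norm_num),
    difM_congr hβ ha ha' h (i := Nat.mod _ 24) (Nat.mod_lt _ (by norm_num))]

attribute [local irreducible] invU

theorem popc_le_metU {N : Subgroup (Equiv.Perm GolayPt)} {β : ℕ} (hβ : β = 2 ∨ β = 3)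
    {Q : ℕ → Prop} (hQ : ∀ a, Q a → validP a = true ∧ pm a ∈ N) {F : ℕ → ℕ} {M : ℕ}
    (h : CInv Q (fun a => F (invU β a)) [] M) : popc 12 M ≤ (Met N β Q).ncard := by
  classical
  choose f hf1 hf2 using h.2
  rw [popc_eq, ← Set.ncard_coe_finset]
  let g : ℕ → N ⧸ (TS β).subgroupOf N := fun n => if hn : M.testBit n = true then
    ((⟨(pm (f n hn))⁻¹, N.inv_mem (hQ _ (hf1 n hn)).2⟩ : N) : N ⧸ _) else ((1 : N) : N ⧸ _)
  refine Set.ncard_le_ncard_of_injOn g (fun n hn => ?_) (fun n hn m hm e => ?_) (Set.toFinite _)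
  · have hn' := (Finset.mem_filter.1 hn).2
    exact ⟨_, hf1 n hn', _, rfl, dif_pos hn'⟩
  · have hn' := (Finset.mem_filter.1 hn).2
    have hm' := (Finset.mem_filter.1 hm).2
    simp only [g, dif_pos hn', dif_pos hm', QuotientGroup.eq, Subgroup.mem_subgroupOf] at e
    rw [← hf2 n hn', ← hf2 m hm']
    exact congrArg F (invU_congr hβ (hQ _ (hf1 m hm')).1 (hQ _ (hf1 n hn')).1 (by simpa using e))

/-- The edges at node `j` meet `n0` cosets of the block stabiliser. -/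
noncomputable def Cfg.chkCovU (C : Cfg) (tot K β n0 : ℕ) (F : ℕ → ℕ) (j : ℕ) (l : List (ℕ × ℕ)) : Bool :=
  covRun (C.rootK tot K j) (C.genK tot j) (fun a => F (invU β a)) n0 l [] 0

/-- The generators reach `n0` cosets of the block stabiliser. -/
noncomputable def chkIdxU (gens : List ℕ) (β n0 : ℕ) (F : ℕ → ℕ) (l : List (ℕ × ℕ)) : Bool :=
  covRun (fun _ k => k idP) (fun s k => lit (nth idP gens s) k) (fun a => F (invU β a)) n0 l [] 0

theorem le_index_of_chkU {N : Subgroup (Equiv.Perm GolayPt)} {gens : List ℕ} (hg : GensIn gens N)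
    {β : ℕ} (hβ : β = 2 ∨ β = 3) {n0 : ℕ} {F : ℕ → ℕ} {l : List (ℕ × ℕ)}
    (h : chkIdxU gens β n0 F l = true) : n0 ≤ ((TS β).subgroupOf N).index := by
  have h0 : validP idP = true ∧ pm idP ∈ N := ⟨validP_idP, by rw [pm_idP]; exact N.one_mem⟩
  obtain ⟨M, h1, h2⟩ := covRun_spec (Q := fun a => validP a = true ∧ pm a ∈ N)
    (Gn := fun a => validP a = true ∧ pm a ∈ N) (fun _ _ h => ⟨_, h0, h⟩)
    (fun s _ h => ⟨_, nth_forall (p := fun a => validP a = true ∧ pm a ∈ N) h0 hg s, h⟩)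
    (fun a g ha hg => by
      rw [mulF_eq]
      exact ⟨validP_mulP ha.1 hg.1, by rw [pm_mulP ha.1 hg.1]; exact N.mul_mem ha.2 hg.2⟩)
    l _ _ cinv_zero h
  refine h2.trans ((popc_le_metU hβ (fun _ h => h) h1).trans ?_)
  rw [Subgroup.index, ← Set.ncard_univ]
  exact Set.ncard_le_ncard (Set.subset_univ _) (Set.toFinite _)

namespace Ctx

variable {G : Type} [Group G] {X : Ctx G} {C : Cfg}

theorem cov_of_chkU {β n0 tot K j : ℕ} (hβ : β = 2 ∨ β = 3)
    (hT : ∀ g ∈ X.N, g ∈ TS β → X.φ' g * X.t = X.t * X.φ' g)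
    (hi : ((TS β).subgroupOf X.N).index ≤ n0) (hV : X.Upto C tot) (hK : K ≤ 255) {F : ℕ → ℕ}
    {l : List (ℕ × ℕ)} (h : C.chkCovU tot K β n0 F j l = true) : X.Cov C K j := by
  let Q : ℕ → Prop := fun a => X.good a ∧ ∃ k < K, ∃ q, X.good q ∧
    X.E (X.w C j * (X.ψ a)⁻¹ * X.t) (X.w C k * X.ψ q)
  obtain ⟨M, h1, h2⟩ := covRun_spec (Q := Q)
    (Gn := fun g => X.good g ∧ X.E (X.w C j * X.ψ g) (X.w C j))
    (fun s k hc => by
      obtain ⟨f, hf, hc⟩ := ref_spec hV hc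
      simp only [and2_true, H29.beq_true, ble_true, lit_eq] at hc
      obtain ⟨⟨rfl, k1⟩, k2⟩ := hc
      obtain ⟨k3, k4⟩ := hf.2.2 (by omega)
      exact ⟨_, ⟨hf.1, _, k1, _, k3, k4⟩, k2⟩)
    (fun s k hc => by
      obtain ⟨f, hf, hc⟩ := ref_spec hV hc
      rw [and2_true] at hc
      exact ⟨_, ⟨hf.1, hf.st hc.1⟩, hc.2⟩)
    (fun a g ⟨ha, k, hk, q, hq, e⟩ hg => ⟨ha.mul hg.1, k, hk, q, hq, by
      refine E.trans ?_ e
      have := (((hg.2.mul (X.ψ g)⁻¹).mul (X.ψ a)⁻¹).mul X.t).symm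
      rwa [mul_inv_cancel_right, mul_assoc _ _ (X.ψ a)⁻¹, ← mul_inv_rev, ← ψ_mul ha hg.1] at this⟩)
    l _ _ cinv_zero h
  have h3 := h2.trans (popc_le_metU hβ (fun _ h => h.1) h1)
  have h4 : Met X.N β Q = Set.univ := Set.eq_of_subset_of_ncard_le (Set.subset_univ _)
    (by rw [Set.ncard_univ]; exact hi.trans h3) (Set.toFinite _)
  intro n
  obtain ⟨a, ⟨ha, k, hk, q, hq, e⟩, m, hm, e2⟩ :
    ((n : X.N) : X.N ⧸ (TS β).subgroupOf X.N) ∈ Met X.N β Q := h4 ▸ Set.mem_univ _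
  have h5 := hT _ (m⁻¹ * n).2 (Subgroup.mem_subgroupOf.1 (QuotientGroup.eq.1 e2.symm))
  rw [φ'_coe] at h5
  have h6 : (X.ψ a)⁻¹ = X.φ m := by rw [ψ, ← φ'_inv ha.2, ← hm, φ'_coe]
  refine ⟨k, hk, ⟨pm q, hq.2⟩ * (m⁻¹ * n), ?_⟩
  rw [map_mul, ← φ'_mem hq.2, ← mul_assoc]
  refine (E.of_eq ?_).trans (e.mul _)
  rw [mul_assoc _ X.t, ← h5, h6, map_mul, map_inv]; group

end Ctx

end H9.DC
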