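import Mathlib
import Cfsg.Agent.H29.Fi24M
import Cfsg.Agent.H9.FA2
import Cfsg.Agent.H9.TT

/-! # The facts on `Fi₂₄` used in the recognition theorem -/

set_option autoImplicit false
set_option maxRecDepth 100000
set_option Elab.async false
set_option linter.all false

namespace H9.FB

open H0 H29 H29.Fi24 Subgroup

noncomputable def mkS (l : List ℕ) : ℕ := List.rec (motive := fun _ => ℕ) 0 (fun a _ ih => seqN ih fun b => Nat.lor (H29.bit a) b) l
noncomputable def O0 : ℕ := mkS [12, 13, 17, 18, 19, 23, 24, 31, 32, 33, 34, 35, 36, 37, 38, 45, 46, 47, 48, 49, 50, 59, 61, 62, 63, 64, 65, 66, 67, 68, 80, 82, 83, 84, 85, 86, 87, 88, 89, 90, 91, 92, 104, 108, 109, 111, 112, 113, 114, 115, 116, 117, 118, 119, 120, 121, 136, 140, 141, 143, 144, 145, 165, 169, 171, 172, 173, 175, 176, 177, 178, 179, 180, 181, 200, 205, 209, 210, 214, 216, 217, 218, 220, 221, 222, 223, 224, 225, 226, 227, 228, 229, 243, 253, 254, 265, 266, 267, 268, 274, 277, 279, 280, 281, 282, 283, 286,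 288, 290, 291, 292, 293, 294, 295, 297, 298, 299, 300, 301, 302, 303, 390, 399, 400, 405, 406, 408, 441, 459, 463, 464, 465, 478, 482, 483, 485, 486, 487, 488, 496, 497, 499, 500, 501, 502, 503, 506, 507, 508, 524, 530, 534, 536, 548, 552, 553, 555, 556, 557, 558, 559, 560, 561, 580, 588, 593, 594, 596, 597, 598, 712, 723, 731, 732, 735, 767, 788, 790, 806, 808, 810, 819, 821, 822, 825, 910, 927, 930, 931, 949, 952, 954, 955, 971, 974, 976, 977, 978, 991, 992, 993, 998, 1041, 1066, 1072, 1074, 1101, 1104, 1106, 1107, 1127, 1129, 1130, 1140, 1151, 1181, 1199, 1202, 1215, 1218, 1220, 1227, 1229, 1232, 1286, 1301, 1306, 1315, 1318, 1323, 1327, 1328, 1333, 1336, 1338, 1342, 1343, 1345, 1346, 1349, 1351, 1352, 1353, 1355, 1356, 1358, 1359, 1360, 1375, 1378, 1380, 1381, 1383, 1384, 1385, 1386, 1387, 1388, 1389, 1390, 1391, 1392, 1393, 1394, 1395, 1396, 1528, 1551, 1554, 1556, 1574, 1576, 1578, 1579, 1589, 1590, 1591, 1594, 1595, 1742, 1760, 1766, 1785, 1791, 1797, 1806,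 1822, 1827, 1833, 1842, 1851, 1863, 1864, 1876, 1878, 1879, 1885, 1894, 1906, 1918, 1919, 1929, 1933, 1935, 1936, 1945, 1957, 1958, 1968, 1969, 1979, 1983, 1984, 1996, 1997, 2007, 2011, 2015, 2016, 2026, 2030, 2061, 2073, 2075, 2083, 2084, 2087, 2129, 2155, 2159, 2161, 2183, 2185, 2186, 2188, 2200, 2202, 2203, 2207, 2241, 2263, 2266, 2283, 2286, 2288, 2298, 2300, 2301, 2305, 2320, 2326, 2336, 2351, 2352, 2367, 2368, 2378, 2426, 2471, 2473, 2520, 2530, 2533, 2535, 2585, 2587, 2589, 2593, 2596, 2599, 2601, 2642, 2644, 2646, 2647, 2648, 2651, 2653, 2655, 2678, 2680, 2681, 2682, 2684, 2685, 2692, 2693, 3123, 3124, 3125, 3126, 3127, 3128, 3129, 3130, 3131, 3132, 3133, 3134, 3135, 3136, 3137, 3138, 3139, 3140, 3141, 3142, 3143, 3144, 3145, 3146, 3147, 3148, 3149, 3150, 3151, 3152, 3153, 3154, 3155, 3156, 3157, 3158, 3159, 3160, 3161, 3162, 3163, 3164, 3165, 3166, 3167, 3168, 3169, 3170, 3171, 3172, 3173, 3174, 3175, 3176, 3177, 3178, 3179, 3180, 3181, 3182, 3183, 3184,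 3185, 3186, 3187, 3188, 3189, 3190, 3191, 3246, 3258, 3260, 3261, 3262, 3268, 3269, 3270, 3271, 3272, 3273, 3275, 3276, 3277, 3278, 3279, 3305, 3317, 3320, 3321, 3328, 3330, 3331, 3333, 3334, 3337, 3338, 3339, 3340, 3341, 3342, 3343, 3355, 3359, 3360, 3362, 3363, 3364, 3365, 3366, 3367, 3368, 3369, 3370, 3371, 3372, 3373, 3374, 3773, 3786, 3789, 3791, 3792, 3800, 3801, 3802, 3804, 3805, 3806, 3807, 3810, 3811, 3812, 3813, 3814, 3815, 3816, 3817, 3859, 3890, 3894, 3924, 3928, 3929, 3931, 3932, 3950, 3952, 3953, 3954, 3955, 3960, 3961, 3962, 3963, 4123, 4127, 4130, 4133, 4135, 4137, 4138, 4139, 4173, 4194, 4201, 4219, 4226, 4235, 4248, 4250, 4259, 4267, 4274, 4275, 4283, 4288, 4329, 4350, 4358, 4361, 4370, 4380, 4386, 4388, 4394, 4396, 4401, 4403, 4405, 4413, 4415, 4418, 4420, 4424, 4425, 4427, 4429, 4430, 4435, 4437, 4438, 4440, 4442, 4443, 4445, 4447, 4448, 4449, 4725, 4732, 4734, 4739, 4740, 4742, 4785, 4811, 4815, 4817, 4839, 4841, 4842, 4844, 4857, 4858, 4859,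 4863, 4864, 4865, 4866, 4867, 4868, 4869, 4870, 4872, 4873, 4875, 4876, 4877, 4882, 4883, 4888, 4889, 4901, 4902, 4903, 4913, 4914, 4936, 4937, 4938, 4939, 4956, 4957, 4989, 4990, 4991, 4992, 5017, 5018, 5055, 5056, 5332, 5374, 5435, 5444, 5447, 5529, 5534, 5535, 5547, 5549, 5550, 5639, 5650, 5652, 5653, 5655, 5656, 5657, 5669, 5672, 5674, 5765, 5766, 5773, 5775, 5777, 5778, 5779, 5780, 5781, 5782, 5788, 5794, 5797, 5799, 5873, 5876, 5878, 5880, 5881, 5882, 5883, 5884, 5885, 5889, 5892, 5894, 5897, 5899, 5945, 5947, 5948, 5949, 5950, 5951, 5954, 5956, 5957, 5959, 5977, 5978, 5980, 5981, 5985, 5986, 5987, 5988, 5989, 5990, 5991, 5992, 6034, 6060, 6080, 6149, 6179, 6180, 6200, 6222, 6237, 6249, 6255, 6263, 6266, 6271, 7791, 7811, 7820, 7939, 7990, 7994, 7997, 7998, 8000, 8033, 8035, 8036, 8039, 8041, 8042, 8043, 8045, 8046, 8063, 8064, 8065, 8067, 8068, 8069, 8070, 8076, 8077, 8079, 8081, 8083, 8084, 8087, 8128, 8163, 8168, 8208, 8218, 8221, 8224, 8258, 8269, 8274,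 8281, 8284, 8286, 8287, 8318, 8325, 8330, 8334, 8336, 8337, 8340, 8342, 8363, 8365, 8366, 8369, 8373, 8374, 8376, 8377, 8379, 8389, 8390, 8392, 8393, 8395, 8396, 8399, 8400, 8665, 8686, 8689, 8709, 8711, 8724, 8731, 8732, 8733, 8734, 8735, 8736, 10893, 10932, 10933, 10977, 10979, 10980, 11015, 11017, 11018, 11019, 11020, 11043, 11044, 11045, 11046, 11047, 11060, 11061, 11066, 11068, 11069, 11072, 11073, 11074, 11078, 11079, 11080, 11081, 11082, 11088, 11089, 11090, 11091, 11092, 11098, 11099, 11276, 11309, 11313, 11314, 11316, 11317, 11347, 11348, 11349, 11350, 11352, 11353, 11354, 11355, 11374, 11375, 11376, 11377, 11378, 11379, 11389, 11390, 11391, 11396, 12388, 12389, 12390, 12391, 12392, 13325, 13326, 13327, 13328, 13329, 13330, 13331, 13332, 13333, 13334, 13335, 13336, 13337, 13338, 13339, 13340, 14049, 14050, 14051, 14052, 14069, 14079, 14087, 14092, 14121, 14136, 14138, 14139, 14149, 14151, 14153, 14154, 14155, 14160, 14162, 14163, 14164, 14165, 14166,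 14168, 14169, 14170, 14171, 14172, 14329, 14331, 14332, 14333, 14338, 14339, 14340, 14341, 14352, 14353, 14354, 14355, 14356, 14378, 14379, 14380, 14381, 14382, 14383, 14384, 14423, 14424, 14425, 14426, 14427, 14428, 14429, 14430, 14492, 14493, 14494, 14495, 14496, 14497, 14498, 14499, 14500, 14594, 14595, 14596, 14597, 14598, 14599, 14600, 14601, 14602, 14735, 14736, 14737, 14738, 14739, 14740, 14741, 14742, 14743, 14744, 14745, 14746, 14882, 14928, 14929, 14930, 14931, 14932, 14933, 14934, 14935, 14936, 14937, 14938, 15134, 15189, 15190, 15191, 15192, 15193, 15194, 15523, 20940, 20962, 20963, 20964, 20969, 20970, 20971, 20972, 35550, 35553, 35569, 35579, 45109, 45110, 45111, 45112, 45113, 45209, 45227, 45228, 45246, 45252, 45253, 45272, 45273, 45274, 45279, 45280, 45295, 45296, 45297, 45298, 45299, 45303, 45312, 45313, 45314, 45685, 45686, 45687, 45688, 45689, 45690, 45691, 45692, 45693, 45694, 45695, 45696, 45697, 45698, 45699, 45700, 45701, 45702, 45703, 45704,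 45705, 45706, 45707, 45708, 45709, 45710, 45711, 56764, 56773, 56774, 112891, 113397, 113398, 113399, 113400, 204483, 204484, 269256, 299122, 306455]
def O1 : ℕ := Nat.shiftLeft (nat_lit 0xe1c8fff80000003fffffffff00000003fff831f01fc2e1d03ffe0003ff820000000000000000000000000000000000000000000000000000000000000000000000000000000000000000000000000000000000000000000000000000000000084800060080020000003c00000000000001ff8000000000007c020180008000000000080be00000000040f000099001222000000e0000000000007390000000730444480e000000000000110080400000001fc000003fffffffffffff000000000000000000001fffffffffffffffffffffffffc00000000000000000000000000000ffffffffffffffffffffffffffffffff0000000000000000000000000000001ffffffffffffffffffffffc0000000000007fffffe003c30048c000200003c000000d0091000000000000000000000000000000000000000000000000000000000042600002020000003c000000e00018000000001fc000011780014820000000003fc0000007ffffffffffffffe000000000000000000000000000ffffffffffffffffffffffffffffffffffff800000000000000000000000000000000000007fffffffffffffffffffffffffffffffc000000000000000000000007ffffffffffffffc00000001fffc1)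 303251
def O2 : ℕ := Nat.shiftLeft (nat_lit 0x11e370007ffffffc000000000fffffffc0007ce0fe03d1e2fc001fffc007c0000000000000000000000000000000000000000000000000000000000000000000000000000000000000000000000000000000000000000000000000000000000060080086000010008000000000ff0000000000000007fc0000008c0018000000001c000000002027e00000007020c8800018810000000400000038003248cc0800000000019200888048000000000040000203fffffc0000000000000ffffffffffffffffffffe00000000000000000000000003fffffffffffffffffffffffffffff00000000000000000000000000000000ffffffffffffffffffffffffffffffe00000000000000000000003ffffffffffff8000001ffc301880088800001c04000010a6001000000000000000000000000000000000000000000000000000000000300080046000010000003e00010000000fc000000003c06029b0000040000000403ffffff8000000000000001fffffffffffffffffffffffffff0000000000000000000000000000000000007fffffffffffffffffffffffffffffffffffff800000000000000000000000000000003fffffffffffffffffffffff8000000000000003fffffffe0003e) 303251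
def wX : List ℕ := [0, 1, 2, 3, 4, 5, 6, 7, 3, 2, 1, 4, 3, 5, 8, 7, 3, 2, 1, 0, 4, 3, 2, 1, 5, 4, 7, 3, 2, 8, 7, 3, 4, 5, 6]
def wl2 : List (List ℕ) := [wX ++ 9 :: wX.reverse, [1], [2], [3], [4], [5], [6], [7], [8], [9]]
noncomputable abbrev nn : ℕ → Net := nth Net.nil Fi24T.nl

/-- The fixed points of a network. -/
noncomputable def fixA (n : Net) (k : ℕ) : ℕ :=
  Nat.rec (motive := fun _ => ℕ) (ones 306936) (fun j ih => seqN ih fun a => seqN (idp 19 j) fun b =>
    Nat.land a (Nat.xor (ones 524288) (Nat.xor b (n.pull b)))) k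

theorem k_fix : H29.sub (Nat.land (fixA (nn 10) 19) (fixA (nn 11) 19)) (Nat.lor O0 (Nat.lor O1 O2)) = true := by
  decide +kernel
theorem k_disj : (and2 (disj O0 O1) (and2 (disj O0 O2) (disj O1 O2))) = true := by decide +kernel
theorem k_c0 : H29.sub O0 (orb nn L9 6 (H29.bit 18)) = true := by decide +kernel
theorem k_c1 : (seqN O0 fun a => H29.allL L9 fun c => and2 (H29.sub a (pullW nn [c] a))
    (and2 (H29.sub O1 (pullW nn [c] O2)) (H29.sub O2 (pullW nn [c] O1)))) = true := by decide +kernel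
theorem k_c2 : (seqN O0 fun a => and2 (H29.sub a (pullW nn (nth [] wl2 0) O2))
    (and2 (H29.sub O1 (pullW nn (nth [] wl2 0) O1)) (H29.sub O2 (pullW nn (nth [] wl2 0) a)))) = true := by decide +kernel
theorem k_cov : H29.sub (ones 306936) (orb (wNets nn wl2) [1, 2, 3, 4, 5, 6, 7, 8, 9, 0] 2 (fixA (nn 2) 19)) = true := by
  decide +kernel
theorem k_x : (and2 (chkPt nn wX 1595 303251) (and2 (and2 (chkPt nn [10] 303251 303251)
    (chkPt nn [11] 303251 303251)) (O1.testBit 303251))) = true := by decide +kernel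

theorem testBit_fixA {n : Net} (hn : n.valid 306936 = true) {i : ℕ} (h : n.perm i < 2 ^ 19) : ∀ k,
    (fixA n k).testBit i = true ↔ i < 306936 ∧ ∀ j < k, i.testBit j = (n.perm i).testBit j
  | 0 => by simp [show fixA n 0 = ones 306936 from rfl, testBit_ones]
  | k + 1 => by
    rw [show fixA n (k + 1) = seqN (fixA n k) fun a => seqN (idp 19 k) fun b =>
      Nat.land a (Nat.xor (ones 524288) (Nat.xor b (n.pull b))) from rfl, seqN_eq, seqN_eq, land_eq,
      Nat.testBit_and, Bool.and_eq_true, testBit_fixA hn h k, xor_eq, xor_eq, Nat.testBit_xor, Nat.testBit_xor,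
      Net.testBit_pull hn, testBit_idp, testBit_idp, testBit_ones, decide_eq_true h, Nat.forall_lt_succ_right,
      and_assoc]
    refine and_congr_right fun h1 => and_congr_right fun _ => ?_
    rw [decide_eq_true (by omega), decide_eq_true (by omega)]
    cases i.testBit k <;> cases (n.perm i).testBit k <;> simp

theorem fix_iff {c i : ℕ} (hi : i < 306936) : (fixA (nn c) 19).testBit i = true ↔ ρ (P.e c) i = i := by
  have h := cm.lt (P.e c) i hi
  rw [hρ] at h ⊢
  have h1 : (nn c).perm i < 2 ^ 19 := h.trans (by norm_num)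
  rw [testBit_fixA (Fi24T.hn c) h1]
  refine ⟨fun e => Nat.eq_of_testBit_eq fun j => ?_, fun e => ⟨hi, fun j _ => congrArg (·.testBit j) e.symm⟩⟩
  by_cases hj : j < 19
  · exact (e.2 j hj).symm
  · have : 2 ^ 19 ≤ 2 ^ j := Nat.pow_le_pow_right two_pos (not_lt.1 hj)
    exact (Nat.testBit_lt_two_pow (h1.trans_le this)).trans (Nat.testBit_lt_two_pow (by omega)).symm

theorem cent24 : centralizer ({P.e 11} : Set P.G) = H := by
  have h1 : H ≤ centralizer ({P.e 11} : Set P.G) := fun g hg => mem_centralizer_singleton_iff.2 (hl g hg)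
  have h2 := Fi24Q.prim.isCoatom Fi24Q.hn cm.toTrans (map_wE hρ _) (by norm_num)
  rw [← cm.eq_stab] at h2
  by_contra h3
  have h4 := h2.2 _ (lt_of_le_of_ne h1 (Ne.symm h3))
  obtain ⟨g, hg⟩ := cm.trans 3 (by norm_num)
  have h5 : g * P.e 11 = P.e 11 * g := mem_centralizer_singleton_iff.1 (h4 ▸ mem_top _)
  have h6 : ρ (P.e 11) 3 = 1 := by simpa using Fi24.pt Fi24Q.pl
  rw [← hg, ← Equiv.Perm.mul_apply, ← map_mul, ← h5, map_mul, Equiv.Perm.mul_apply,
    (cm.mem _).2 (mem_gen (by decide)), hg] at h6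
  omega

theorem isT_inj {p q : ℕ} {y : P.G} (h : IsT ρ (P.e 11) p y) (h' : IsT ρ (P.e 11) q y) : p = q := by
  obtain ⟨g, rfl, rfl⟩ := h
  obtain ⟨k, rfl, e⟩ := h'
  have : k⁻¹ * g ∈ H := cent24 ▸ mem_centralizer_singleton_iff.2 (by
    calc k⁻¹ * g * P.e 11 = k⁻¹ * (g * P.e 11 * g⁻¹) * g := by group
      _ = _ := by rw [e]; group)
  have h1 := (cm.mem _).2 this
  rw [map_mul, map_inv, Equiv.Perm.mul_apply, Equiv.Perm.inv_eq_iff_eq] at h1
  exact h1

theorem isT_comm {p : ℕ} {y g : P.G} (h : IsT ρ (P.e 11) p y) : Commute y g ↔ ρ g p = p := by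
  refine ⟨fun e => isT_inj (h.map g) (by rwa [← e.eq, mul_inv_cancel_right]), fun e => ?_⟩
  have := h.conj cm hl h e
  exact (mul_inv_eq_iff_eq_mul.1 this).symm

open Classical in
/-- The point of a transposition. -/
noncomputable def ptf (y : P.G) : ℕ := if h : ∃ p, IsT ρ (P.e 11) p y then h.choose else 0
theorem ptf_eq {p : ℕ} {y : P.G} (h : IsT ρ (P.e 11) p y) : ptf y = p := by
  have k : ∃ p, IsT ρ (P.e 11) p y := ⟨p, h⟩
  rw [ptf, dif_pos k]; exact isT_inj k.choose_spec h
theorem exists_isT {y : P.G} (h : y ∈ Cl (P.e 11)) : ∃ p < 306936, IsT ρ (P.e 11) p y :=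
  let ⟨g, e⟩ := h; ⟨_, cm.lt g 0 cm.pos, g, rfl, e.symm⟩
theorem mem_of_isT {p : ℕ} {y : P.G} (h : IsT ρ (P.e 11) p y) : y ∈ Cl (P.e 11) :=
  let ⟨g, _, e⟩ := h; ⟨g, e.symm⟩

/-- The colour of a point. -/
noncomputable def colN (p : ℕ) : ZMod 3 := if O0.testBit p then 0 else if O1.testBit p then 1 else -1
theorem colN0 {p : ℕ} (h : O0.testBit p = true) : colN p = 0 := if_pos h
theorem colN1 {p : ℕ} (h : O1.testBit p = true) : colN p = 1 := by
  have := disj_true (and2_true.1 k_disj).1 (i := p)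
  rw [colN, if_neg (fun e => by simp [e, h] at this), if_pos h]
theorem colN2 {p : ℕ} (h : O2.testBit p = true) : colN p = -1 := by
  have h1 := disj_true (and2_true.1 (and2_true.1 k_disj).2).1 (i := p)
  have h2 := disj_true (and2_true.1 (and2_true.1 k_disj).2).2 (i := p)
  rw [colN, if_neg (fun e => by simp [e, h] at h1), if_neg (fun e => by simp [e, h] at h2)]

theorem dkl {y : P.G} (h : y ∈ DKL (Cl (P.e 11)) P.e) : ∃ p, IsT ρ (P.e 11) p y ∧
    (O0.testBit p = true ∨ O1.testBit p = true ∨ O2.testBit p = true) := by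
  obtain ⟨p, hp, e⟩ := exists_isT h.1
  have := sub_true k_fix (i := p) (by
    rw [land_eq, Nat.testBit_and, (fix_iff hp).2 ((isT_comm e).1 h.2.1), (fix_iff hp).2 ((isT_comm e).1 h.2.2)]; rfl)
  exact ⟨p, e, by simpa [lor_eq] using this⟩

/-- rank three -/
theorem rk3 {y : P.G} (h : y ∈ Cl (P.e 11)) :
    y = P.e 11 ∨ ∃ m ∈ φ.range, y = cj m (P.e 10) ∨ y = cj m (P.e 0) := by
  obtain ⟨p, hp, e⟩ := exists_isT h
  obtain ⟨m, hm, s, a1, a2⟩ := Fi24Q.prim.cover.exists_mem (e := wE P.e Fi24Q.wl) (fun c _ => map_wE hρ _ c)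
    (i := p) (by simp only [testBit_ones, decide_eq_true_eq]; exact hp)
  have pr : ∀ a < 10, ∀ b < 10, ev P.e [a, b] ∈ φ.range := fun a ha b hb =>
    ⟨Fi23.P.e a * Fi23.P.e b, by
      rw [map_mul, hφ a ha, hφ b hb, mul_assoc, ← mul_assoc (P.e 11), ← hl0 b hb, mul_assoc, Fi24.sq]; simp⟩
  have hm' : m ∈ φ.range := gen_le.2 (by
    simp only [List.forall_mem_cons]
    exact ⟨pr 0 (by decide) 1 (by decide), pr 2 (by decide) 3 (by decide), pr 4 (by decide) 5 (by decide),
      pr 6 (by decide) 9 (by decide), pr 7 (by decide) 8 (by decide), pr 1 (by decide) 2 (by decide),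
      pr 3 (by decide) 4 (by decide), pr 5 (by decide) 6 (by decide), pr 3 (by decide) 7 (by decide), by simp⟩) hm
  have key : ∀ g : P.G, ρ g s = 0 → y = cj m (g⁻¹ * P.e 11 * g) := fun g hg =>
    ((show IsT ρ (P.e 11) s (g⁻¹ * P.e 11 * g) from ⟨g⁻¹, by rw [← hg]; simp, by simp⟩).conj cm hl e a2).symm
  rcases testBit_primStart Fi24Q.hn a1 with rfl | ⟨x, hx1, h3⟩
  · left
    rw [key 1 (by simp), cj, inv_one, one_mul, mul_one, hl m (K_le hm'), mul_inv_cancel_right]
  · right
    refine ⟨m, hm', ?_⟩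
    have h4 := key _ ((congrArg (· s) (map_wE hρ Fi24Q.wl x)).trans h3)
    simp only [List.mem_cons, List.not_mem_nil, or_false] at hx1
    rcases hx1 with rfl | rfl
    · rw [show wE P.e Fi24Q.wl 9 = (ev P.e [11, 10])⁻¹ from (ev_invW hiv0 [11, 10] :), inv_inv, u10] at h4
      exact Or.inl h4
    · rw [show wE P.e Fi24Q.wl 10 = (ev P.e [10, 0, 11, 10])⁻¹ from (ev_invW hiv0 [10, 0, 11, 10] :), inv_inv,
        u0] at h4
      exact Or.inr h4

theorem dg24 : Dg P.e 12 A24 := fun s hs t ht => by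
  have k1 : ∀ s < 12, ∀ t < 12, (s, t) ∈ A24 → memLL [s, t, s, t, s, t] P.relL = true ∨
      memLL [t, s, t, s, t, s] P.relL = true := by decide +kernel
  have k2 : ∀ s < 12, ∀ t < 12, ((s, t) ∈ A24 ∨ (t, s) ∈ A24) ∨ s = t ∨
      (memLL [s, t, s, t] P.relL || memLL [t, s, t, s] P.relL) = true := by decide +kernel
  simp only [Bool.or_eq_true, or_assoc] at k2
  refine ⟨fun h => ?_, fun h h' => ?_⟩
  · rcases k1 s hs t ht h with h | h
    · exact braid_of_cube (Fi24.sq s) (Fi24.sq t) (by simpa [pow_succ, mul_assoc] using hR _ (memLL_true h))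
    · exact (braid_of_cube (Fi24.sq t) (Fi24.sq s) (by simpa [pow_succ, mul_assoc] using hR _ (memLL_true h))).symm
  · rcases ((k2 s hs t ht).resolve_left h).resolve_left h' with rfl | h | h
    exacts [rfl, comm_of_rel hiv0 (hR _ (memLL_true h)), (comm_of_rel hiv0 (hR _ (memLL_true h))).symm]

theorem mem24 : ∀ c < 12, P.e c ∈ Cl (P.e 11) := fun c hc => mem_of_isT (isT c (by revert c; decide))

theorem cK {m : P.G} (h : m ∈ φ.range) : Commute m (P.e 11) := hl m (K_le h)

theorem adj24 : ¬ Commute (P.e 10) (P.e 11) := fun h => by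
  have h1 := (isT_comm (isT 10 (by decide))).1 h
  have h6 : ρ (P.e 11) 3 = 1 := by simpa using Fi24.pt Fi24Q.pl
  exact absurd (h6.symm.trans h1) (by decide)

theorem tt24 : TT (Cl (P.e 11)) := by
  have k : ∀ y ∈ Cl (P.e 11), Commute (P.e 11) y ∨ cj (P.e 11) y = cj y (P.e 11) := fun y hy => by
    rcases rk3 hy with rfl | ⟨m, hm, rfl | rfl⟩
    · exact Or.inl rfl
    · right
      conv => lhs; rw [← cj_eq_self.2 (cK hm)]
      conv => rhs; rw [← cj_eq_self.2 (cK hm)]
      rw [← cj_cj_conj, ← cj_cj_conj, (dg24 10 (by decide) 11 (by decide)).1 (by decide)]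
    · left
      rw [← cj_eq_self.2 (cK hm)]
      exact commute_cj.2 (hl0 0 (by decide)).symm
  refine ⟨?_, ?_, fun d hd g => Cl.conj hd g, ?_, ?_⟩
  · rintro _ ⟨g, rfl⟩; rw [← cj_mul, Fi24.sq]; simp [cj]
  · rintro _ ⟨g, rfl⟩ e he
    have := k _ (Cl.conj he g⁻¹)
    rw [← cj_cj_inv g e]
    exact this.imp (fun h => commute_cj.2 h) fun h => by rw [← cj_cj_conj, ← cj_cj_conj, h]
  · rintro _ ⟨g, rfl⟩ _ ⟨k, rfl⟩; exact ⟨k * g⁻¹, by rw [cj_cj]; simp⟩
  · rw [eq_top_iff, ← top, gen_le]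
    exact fun c hc => subset_closure (mem_of_isT (isT c hc))

theorem ker24 : χ.ker = commutator P.G :=
  le_antisymm (fun _ h => mem_comm h) fun g h => χ_comm g h

theorem isX : IsT ρ (P.e 11) 303251 (ev P.e (nth [] wl2 0)) := by
  have := (isT 9 (by decide)).map (ev P.e wX)
  rw [show nth 0 Fi24Q.PT 9 = 1595 from rfl, Fi24.pt (and2_true.1 k_x).1, ← ev_invW hiv0] at this
  rwa [show nth [] wl2 0 = wX ++ 9 :: invW (ivOf []) wX by decide +kernel, ev_append, ev_cons, ← mul_assoc]

theorem model : ∃ x2 col, FI (Cl (Fi24.P.e 11)) Fi24.P.e Fi24.χ Fi24.φ x2 col := by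
  have sqX := tt24.sq _ (mem_of_isT isX)
  have mv : ∀ {g : P.G} {A B p : ℕ} {w : List ℕ}, g = ev P.e w → H29.sub A (pullW nn w B) = true →
      A.testBit p = true → B.testBit (ρ g p) = true := fun {g A B p w} hg h hp => by
    have := sub_true h hp
    rwa [testBit_pullW Fi24T.hn, ← map_ev_sg (ρ := ρ) (e := P.e) fun c _ => hρ c, ← hg] at this
  refine ⟨ev P.e (nth [] wl2 0), fun y => colN (ptf y), tt24, mem24, ?_, φ_inj, hφ, fun g => ?_, fun x => ?_,
    fun M h1 h2 => ?_, dg24, adj24, fun x hx h => ?_, ⟨mem_of_isT isX, ?_, ?_⟩, ?_, fun y hy h => ?_,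
    fun c hc y hy => ?_, fun y hy => ?_, fun x hx => ?_⟩
  · rintro _ ⟨g, rfl⟩
    rw [cj, map_mul, map_mul, mul_right_comm, ← map_mul, mul_inv_cancel, map_one, one_mul, hχ 11 (by decide)]
  · refine ⟨fun h => ⟨cK h, K_χ h⟩, fun h => (dichH g (cent24 ▸ mem_centralizer_singleton_iff.2 h.1)).resolve_right
      fun h1 => ?_⟩
    have := K_χ h1
    rw [MonoidHom.mem_ker, map_mul, h.2, hχ 11 (by decide)] at this
    exact absurd this (by decide)
  · constructor
    · rintro ⟨h1, h2, h3⟩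
      rcases rk3 h1 with rfl | ⟨_, ⟨m, rfl⟩, rfl | rfl⟩
      · exact absurd rfl h2
      · exact absurd ((commute_cj_right (cK ⟨m, rfl⟩)).1 h3).symm adj24
      · refine ⟨cj m (Fi23.P.e 0), Cl.conj (mem23.1 0 (by decide)) m, ?_⟩
        rw [map_cj, hφ 0 (by decide), cj_mul, cj_of_commute (cK ⟨m, rfl⟩)]
    · rintro ⟨y, hy, e⟩
      obtain ⟨m, rfl⟩ := d23.1.toTT.trans _ (mem23.1 0 (by decide)) y hy
      rw [map_cj, hφ 0 (by decide), cj_mul, cj_of_commute (cK ⟨m, rfl⟩), mul_left_inj] at e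
      subst e
      refine ⟨Cl.conj (mem24 0 (by decide)) _, fun h => ?_,
        (commute_cj_right (cK ⟨m, rfl⟩)).2 (hl0 0 (by decide)).symm⟩
      rw [← cj_of_commute (cK ⟨m, rfl⟩), cj_inj] at h
      have := isT 0 (by decide)
      rw [h] at this
      exact absurd (isT_inj this (isT 11 (by decide))) (by decide)
  · rw [eq_top_iff, ← top, gen_le]
    intro c hc
    by_cases h : c = 10
    · exact h ▸ h2
    · exact h1 (cent24.ge (mem_gen (by revert c; decide)))
  · rcases rk3 hx with rfl | ⟨m, hm, rfl | rfl⟩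
    · exact absurd rfl h
    · exact ⟨m, cK hm, rfl⟩
    · exact absurd ((commute_cj_left (cK hm)).2 (hl0 0 (by decide))) h
  · exact (isT_comm isX).2 (by simpa using Fi24.pt (and2_true.1 (and2_true.1 (and2_true.1 k_x).2).1).1)
  · exact (isT_comm isX).2 (by simpa using Fi24.pt (and2_true.1 (and2_true.1 (and2_true.1 k_x).2).1).2)
  · rw [ptf_eq isX]; exact colN1 (and2_true.1 (and2_true.1 k_x).2).2
  · obtain ⟨p, e, h1⟩ := dkl hy
    rw [ptf_eq e] at h
    have h2 : O0.testBit p = true := by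
      rcases h1 with h1 | h1 | h1
      · exact h1
      · exact absurd ((colN1 h1).symm.trans h) (by decide)
      · exact absurd ((colN2 h1).symm.trans h) (by decide)
    obtain ⟨g, hg, s, a1, a2⟩ := (reach_of_chk Fi24T.hn k_c0).exists_mem (e := P.e) (fun c _ => hρ c) h2
    rw [testBit_bit, decide_eq_true_eq] at a1
    subst a1
    exact ⟨g, hg, (isT 2 (by decide)).conj cm hl e a2⟩
  · obtain ⟨p, e, h1⟩ := dkl hy
    have k := allL_true.1 (seqN_eq _ _ ▸ k_c1) c hc
    simp only [and2_true] at k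
    have hw : P.e c = ev P.e [c] := by simp
    rw [ptf_eq e, show cj (P.e c) y = _ from rfl, cj, ptf_eq (e.map _)]
    rcases h1 with h1 | h1 | h1
    · rw [colN0 h1, colN0 (mv hw k.1 h1)]; rfl
    · rw [colN1 h1, colN2 (mv hw k.2.1 h1)]
    · rw [colN2 h1, colN1 (mv hw k.2.2 h1)]; rfl
  · obtain ⟨p, e, h1⟩ := dkl hy
    have k := seqN_eq _ _ ▸ k_c2
    simp only [and2_true] at k
    rw [ptf_eq e, cj, ptf_eq (e.map _)]
    rcases h1 with h1 | h1 | h1
    · rw [colN0 h1, colN2 (mv rfl k.1 h1)]; rfl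
    · rw [colN1 h1, colN1 (mv rfl k.2.1 h1)]; rfl
    · rw [colN2 h1, colN0 (mv rfl k.2.2 h1)]; rfl
  · obtain ⟨p, hp, e⟩ := exists_isT hx
    obtain ⟨g, hg, s, a1, a2⟩ := (reach_of_chk (Fi24T.hn.wNets wl2) k_cov).exists_mem (e := wE P.e wl2)
      (fun c _ => map_wE hρ _ c) (i := p) (by simp only [testBit_ones, decide_eq_true_eq]; exact hp)
    have hs : ρ g⁻¹ p = s := by rw [← a2]; simp
    refine ⟨g⁻¹, inv_mem (gen_le.2 (fun c hc => ?_) hg), (isT_comm (e.map g⁻¹)).2 ?_⟩
    · by_cases h : c = 0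
      · rw [h]; exact mem_sup_right (mem_zpowers _)
      · have k : ∀ c ∈ [1, 2, 3, 4, 5, 6, 7, 8, 9, 0], c ≠ 0 → nth [] wl2 c = [c] ∧ c ∈ L9 := by decide +kernel
        rw [wE, (k c hc h).1, ev_cons, ev_nil, mul_one]
        exact mem_sup_left (mem_gen (k c hc h).2)
    · rw [hs]; exact (fix_iff (hs ▸ cm.lt _ p hp)).1 a1

end H9.FB
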