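import Mathlib
import Cfsg.Agent.H9.CG
import Cfsg.Agent.H9.G24X
import Cfsg.Agent.H29.Suz3
import Cfsg.Agent.H29.Suz4
import Cfsg.Agent.H29.Suz5

set_option autoImplicit false
set_option maxRecDepth 100000
set_option Elab.async false
set_option linter.all false

namespace H9.G24

open H29 H9.MX

def R : List (List ℕ) := [[0, 1, 0, 1, 0, 1, 0, 1, 0, 1],
 [0, 2, 0, 2],
 [0, 3, 0, 3],
 [0, 4, 0, 4],
 [0, 5, 0, 5],
 [1, 2, 1, 2, 1, 2],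
 [1, 3, 1, 3],
 [1, 4, 1, 4],
 [1, 5, 1, 5, 1, 5],
 [2, 3, 2, 3, 2, 3, 2, 3, 2, 3, 2, 3, 2, 3, 2, 3],
 [2, 4, 2, 4],
 [2, 5, 2, 5],
 [3, 4, 3, 4, 3, 4],
 [3, 5, 3, 5],
 [4, 5, 4, 5],
 [0, 3, 2, 3, 2, 3, 2, 3, 2],
 [0, 1, 2, 5, 0, 1, 2, 5, 0, 1, 2, 5, 0, 1, 2, 5, 0, 1, 2, 5],
 [1, 2, 3, 2, 3, 1, 2, 3, 2, 3, 1, 2, 3, 2, 3, 1, 2, 3, 2, 3, 1, 2, 3, 2, 3, 4, 1, 2, 3, 2, 3, 1, 2, 3, 2, 3, 1, 2, 3, 2, 3, 1, 2, 3, 2, 3, 1, 2, 3, 2, 3, 4, 1, 2, 3, 2, 3, 1, 2, 3, 2, 3, 1, 2, 3, 2, 3, 1, 2, 3, 2, 3, 1, 2, 3, 2, 3, 4]]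
theorem ubd : UBd (ivOf []) R [0, 1, 2, 3, 4, 5] 251596800 := fun _ _ _ h1 h2 =>
  (Suz2.bd h1 (rels_sub h2 (by decide +kernel))
    (Suz3.bd h1 (rels_sub h2 (by decide +kernel))
    (Suz4.bd h1 (rels_sub h2 (by decide +kernel))
    (Suz5.bd h1 (rels_sub h2 (by decide +kernel))
    (bd_nil _)))))
theorem top : gen (pe Suz2.nl) [0, 1, 2, 3, 4, 5] = ⊤ := pe_top (by decide +kernel)
theorem hivS : IvOK (pe Suz2.nl) (ivOf []) := ivOK_sub _ Suz2.hiv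
theorem hRS : ∀ r ∈ R, ev (pe Suz2.nl) r = 1 := rels_subE _ (rels_sub Suz2.hR0 (by decide +kernel))
theorem cardS : Nat.card (PG Suz2.nl) = 251596800 :=
  (card_eq_of_chain G24X.hn ((ubd _ _ hivS hRS).of_top top) (fun c _ => G24X.map (pe_rho _) c) G24X.ch
    (by decide +kernel)).1
theorem simpleS : IsSimpleGroup (PG Suz2.nl) :=
  simple_of_cert (q := 13) (m := 19353600) G24X.hn G24X.prim
    (trans_of_reach (by decide) (PG_lt Suz2.hn) (fun c _ => G24X.map (pe_rho _) c) G24X.reach)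
    (G24X.map (pe_rho _)) (PG_faithful Suz2.hn) cardS G24X.wit (ivOK_extE hivS G24X.hext)
    (rels_extE hRS (by decide +kernel)) ((gen_extE _ _ (by decide)).trans top)
    (l := [(0, 0), (5, 0), (8, 0), (17, 0), (12, 0)]) (by decide +kernel) (by norm_num)
theorem tr {G : Type} [Group G] {e : ℕ → G} (h1 : IvOK e (ivOf [])) (h2 : ∀ r ∈ R, ev e r = 1) :
    Tr (pe Suz2.nl) e [0, 1, 2, 3, 4, 5] :=
  tr_of_bd ubd (by decide) hivS h1 hRS h2 (by rw [top, Subgroup.card_top, cardS])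
theorem equiv {G : Type} [Group G] {e : ℕ → G} (h1 : IvOK e (ivOf [])) (h2 : ∀ r ∈ R, ev e r = 1)
    (hne : ∃ w : List ℕ, (∀ c ∈ w, c ∈ [0, 1, 2, 3, 4, 5]) ∧ ev e w ≠ 1) :
    Nonempty (PG Suz2.nl ≃* gen e [0, 1, 2, 3, 4, 5]) :=
  haveI := simpleS
  equiv_of_simple (tr h1 h2) hivS h1 (by decide) top hne
theorem equivT {G : Type} [Group G] {e : ℕ → G} (h1 : IvOK e (ivOf [])) (h2 : ∀ r ∈ R, ev e r = 1)
    (hne : ∃ w : List ℕ, (∀ c ∈ w, c ∈ [0, 1, 2, 3, 4, 5]) ∧ ev e w ≠ 1) (hG : Nat.card G = 251596800) :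
    Nonempty (PG Suz2.nl ≃* G) :=
  haveI := simpleS
  equiv_of_simple_card (tr h1 h2) hivS h1 (by decide) top hne (by norm_num) cardS hG

end H9.G24
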