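import Mathlib
import Cfsg.Agent.H9.GF2
import Cfsg.Agent.H9.J4L

/-!
# Row vectors over the field with two elements, and counting in elementary abelian groups
-/

set_option autoImplicit false

namespace H9.GF2

open H29 H9.MX H9.JL Matrix

namespace Par

variable (P : Par)

/-- The vector of a number. -/
def vec (r : ℕ) : Fin P.n → ZMod 2 := fun j => bz (r.testBit j)

/-- Row `i` as a vector. -/
def rv (X i : ℕ) : Fin P.n → ZMod 2 := P.vec (P.row X i)

variable {P}

theorem vec_xor (a b : ℕ) : P.vec (Nat.xor a b) = P.vec a + P.vec b := by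
  ext j; simp [vec, bz_xor]

theorem rv_eq (h : P.OK) (X : ℕ) (i : Fin P.n) : P.rv X i = P.mat X i := by
  ext j; simp [rv, vec, mat, testBit_row h]

theorem rv_mul (h : P.OK) (A B : ℕ) {i : ℕ} (hi : i < P.n) :
    P.rv (P.mul A B) i = P.rv A i ᵥ* P.mat B := by
  rw [rv_eq h _ ⟨i, hi⟩, rv_eq h _ ⟨i, hi⟩, mat_mul h]
  rfl

theorem eq_of_vec {a b : ℕ} (ha : ∀ j, P.n ≤ j → a.testBit j = false)
    (hb : ∀ j, P.n ≤ j → b.testBit j = false) (h : P.vec a = P.vec b) : a = b :=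
  Nat.eq_of_testBit_eq fun j => by
    by_cases hj : j < P.n
    · exact bz_inj (congrFun h ⟨j, hj⟩)
    · rw [ha j (not_lt.1 hj), hb j (not_lt.1 hj)]

theorem row_small (h : P.OK) (X i : ℕ) : ∀ j, P.n ≤ j → (P.row X i).testBit j = false :=
  fun j hj => by rw [testBit_row h, decide_eq_false (by omega), Bool.false_and]

theorem row_eq_iff (h : P.OK) {X Y i k : ℕ} : P.row X i = P.row Y k ↔ P.rv X i = P.rv Y k :=
  ⟨congrArg P.vec, eq_of_vec (row_small h _ _) (row_small h _ _)⟩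

theorem row_xor_iff (h : P.OK) {X Y i k r : ℕ} :
    P.row X i = Nat.xor (P.row Y k) (P.row Y r) ↔ P.rv X i = P.rv Y k + P.rv Y r :=
  ⟨fun h1 => (congrArg P.vec h1).trans (vec_xor _ _), fun h1 => eq_of_vec (row_small h _ _)
    (fun j hj => by simp [row_small h _ _ j hj]) (h1.trans (vec_xor _ _).symm)⟩

variable (P)

/-- Row `r` is fixed and the rows of `I` are fixed modulo row `r`. -/
noncomputable def test (A B r : ℕ) (I : List (ℕ × ℕ)) : Bool :=
  and2 (Nat.beq (P.row B r) (P.row A r)) (H29.allL I fun i =>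
    Bool.rec (Nat.beq (P.row B i.1) (Nat.xor (P.row A i.1) (P.row A r))) true
      (Nat.beq (P.row B i.1) (P.row A i.1)))

/-- The total weight of the tests passed. -/
noncomputable def wt (o : ℕ → ℕ) (A : ℕ) (nodes : List (ℕ × ℕ × List (ℕ × ℕ))) (B : ℕ) : ℕ :=
  List.rec (motive := fun _ => ℕ) 0
    (fun a _ ih => Nat.add (Bool.rec 0 (o a.1) (P.test A B a.2.1 a.2.2)) ih) nodes

/-- The sum of `f` over the products of sublists. -/
noncomputable def cnt (f : ℕ → ℕ) (T : ℕ → ℕ) (L : List ℕ) : ℕ → ℕ :=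
  List.rec (motive := fun _ => ℕ → ℕ) f
    (fun c _ ih B => seqN (ih B) fun a => seqN (P.mul B (T c)) fun B' => Nat.add a (ih B')) L

/-- The rows `r` and `i` of `A` are the rows `0` and `k` of `B`. -/
noncomputable def chkNode (A B r : ℕ) (I : List (ℕ × ℕ)) (ks : List ℕ) : Bool :=
  and2 (and2 (Nat.ble (Nat.succ r) P.n) (Nat.beq (P.row A r) (P.row B 0))) (H29.allL I fun i =>
    and2 (and2 (Nat.ble (Nat.succ i.1) P.n) (memL i.2 ks)) (Nat.beq (P.row A i.1) (P.row B i.2)))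

/-- The letters permute the first `N` rows of `A` as the networks do. -/
noncomputable def chkAct (A N : ℕ) (l : List ℕ) (nets : ℕ → Net) (pl : List (List ℕ)) (L : List ℕ) : Bool :=
  H29.allL L fun c => seqN (P.mul A (P.lets l c)) fun B => allN N fun i =>
    seqN (nth i (nth [] pl c) i) fun j =>
      and2 (H29.sub (H29.bit i) ((nets c).pull (H29.bit j))) (Nat.beq (P.row B j) (P.row A i))

/-- The first `N` rows of `A` are distinct. -/
noncomputable def chkDist (A N : ℕ) : Bool :=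
  allN N fun i => seqN (P.row A i) fun r => allN i fun j => Bool.rec true false (Nat.beq (P.row A j) r)

end Par

variable {P : Par} {Γ : Type*} [Group Γ] {val : Γ →* Matrix (Fin P.n) (Fin P.n) (ZMod 2)}

/-- The elements that fix `a` and fix the vectors of `bs` modulo `a`. -/
def St (val : Γ →* Matrix (Fin P.n) (Fin P.n) (ZMod 2)) (a : Fin P.n → ZMod 2)
    (bs : Set (Fin P.n → ZMod 2)) : Subgroup Γ where
  carrier := {g | a ᵥ* val g = a ∧ ∀ b ∈ bs, b ᵥ* val g = b ∨ b ᵥ* val g = b + a}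
  one_mem' := by simp
  mul_mem' := fun {g h} hg hh => by
    refine ⟨by rw [map_mul, ← vecMul_vecMul, hg.1, hh.1], fun b hb => ?_⟩
    have : a + a = 0 := by ext j; exact CharTwo.add_self_eq_zero _
    rw [map_mul, ← vecMul_vecMul]
    rcases hg.2 b hb with h1 | h1 <;> rcases hh.2 b hb with h2 | h2 <;>
      simp [h1, h2, add_vecMul, hh.1, add_assoc, this]
  inv_mem' := fun {g} hg => by
    have k : ∀ u, (u ᵥ* val g) ᵥ* val g⁻¹ = u := fun u => by
      rw [vecMul_vecMul, ← map_mul, mul_inv_cancel, map_one, vecMul_one]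
    have h0 : a ᵥ* val g⁻¹ = a := by have := k a; rwa [hg.1] at this
    have : a + a = 0 := by ext j; exact CharTwo.add_self_eq_zero _
    refine ⟨h0, fun b hb => (hg.2 b hb).imp (fun h1 => ?_) fun h1 => ?_⟩
    · have := k b; rwa [h1] at this
    · have h2 := k b
      rw [h1, add_vecMul, h0] at h2
      conv_rhs => rw [← h2, add_assoc, this, add_zero]

/-- The rows of `B` are those of `A` times the matrix of `g`. -/
def Trk (val : Γ →* Matrix (Fin P.n) (Fin P.n) (ZMod 2)) (A B : ℕ) (g : Γ) : Prop :=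
  ∀ i < P.n, P.rv B i = P.rv A i ᵥ* val g

theorem Trk.one (A : ℕ) : Trk val A A 1 := fun _ _ => by simp

theorem Trk.mul (h : P.OK) {A B T : ℕ} {g k : Γ} (h1 : Trk val A B g) (h2 : val k = P.mat T) :
    Trk val A (P.mul B T) (g * k) := fun i hi => by
  rw [Par.rv_mul h _ _ hi, h1 i hi, map_mul, vecMul_vecMul, h2]

theorem Trk.test_iff (h : P.OK) {A B r : ℕ} {g : Γ} (h1 : Trk val A B g) {I : List (ℕ × ℕ)}
    (hr : r < P.n) (hI : ∀ i ∈ I, i.1 < P.n) :
    P.test A B r I = true ↔ g ∈ St val (P.rv A r) {b | ∃ i ∈ I, b = P.rv A i.1} := by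
  rw [Par.test, and2_true, H29.beq_true, Par.row_eq_iff h, h1 r hr, allL_true]
  refine and_congr Iff.rfl ⟨?_, fun h2 i hi => ?_⟩
  · rintro h2 _ ⟨i, hi, rfl⟩
    have := h2 i hi
    rw [← h1 _ (hI i hi), ← Par.row_eq_iff h, ← Par.row_xor_iff h]
    cases h3 : Nat.beq (P.row B i.1) (P.row A i.1)
    · rw [h3] at this; exact Or.inr (H29.beq_true.1 this)
    · exact Or.inl (H29.beq_true.1 h3)
  · have := h2 _ ⟨i, hi, rfl⟩
    rw [← h1 _ (hI i hi), ← Par.row_eq_iff h, ← Par.row_xor_iff h, ← H29.beq_true, ← H29.beq_true] at this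
    cases h3 : Nat.beq (P.row B i.1) (P.row A i.1)
    · rw [h3] at this; exact this.resolve_left (by simp)
    · rfl

theorem test_of_conj (h : P.OK) (hn : 0 < P.n) {A B B0 T r : ℕ} {g w : Γ} (h1 : Trk val A B g)
    {I : List (ℕ × ℕ)} {ks : List ℕ} (hk : ∀ k ∈ ks, k < P.n) (hw : val w = P.mat T)
    (hc : P.chkNode A (P.mul B0 T) r I ks = true)
    (h2 : w * g * w⁻¹ ∈ St val (P.rv B0 0) {b | ∃ k ∈ ks, b = P.rv B0 k}) : P.test A B r I = true := by
  simp only [Par.chkNode, and2_true, ble_true, H29.beq_true, allL_true, memL_true,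
    Par.row_eq_iff h] at hc
  have k : ∀ u, (u ᵥ* val w) ᵥ* val g = (u ᵥ* val (w * g * w⁻¹)) ᵥ* val w := fun u => by
    rw [vecMul_vecMul, vecMul_vecMul, ← map_mul, ← map_mul, inv_mul_cancel_right]
  have k0 : P.rv A r = P.rv B0 0 ᵥ* val w := by rw [hc.1.2, Par.rv_mul h _ _ hn, hw]
  refine (h1.test_iff h hc.1.1 fun i hi => (hc.2 i hi).1.1).2 ⟨by rw [k0, k, h2.1], ?_⟩
  rintro _ ⟨i, hi, rfl⟩
  rw [(hc.2 i hi).2, Par.rv_mul h _ _ (hk _ (hc.2 i hi).1.2), ← hw, k, k0, ← add_vecMul]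
  exact (h2.2 _ ⟨_, (hc.2 i hi).1.2, rfl⟩).imp (fun h3 => by rw [h3]) fun h3 => by rw [h3]

theorem wt_eq (o : ℕ → ℕ) (A B : ℕ) : ∀ nodes : List (ℕ × ℕ × List (ℕ × ℕ)),
    P.wt o A nodes B = (nodes.map fun a => if P.test A B a.2.1 a.2.2 = true then o a.1 else 0).sum
  | [] => rfl
  | a :: t => by
    rw [show P.wt o A (a :: t) B = Nat.add (Bool.rec 0 (o a.1) (P.test A B a.2.1 a.2.2))
      (P.wt o A t B) from rfl, wt_eq o A B t, List.map_cons, List.sum_cons]
    cases P.test A B a.2.1 a.2.2 <;> rfl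

theorem mem_cons_gen {e : ℕ → Γ} {c : ℕ} {L : List ℕ} (h : ∀ a ∈ L, e c * e a = e a * e c)
    (h2 : e c ^ 2 = 1) {x : Γ} (hx : x ∈ gen e (c :: L)) : x ∈ gen e L ∨ e c * x ∈ gen e L := by
  have k0 : gen e L ≤ Subgroup.centralizer {e c} :=
    gen_le.2 fun a ha => Subgroup.mem_centralizer_singleton_iff.2 (h a ha).symm
  have k1 : ∀ y ∈ gen e L, y * e c = e c * y := fun y hy =>
    Subgroup.mem_centralizer_singleton_iff.1 (k0 hy)
  have k2 : ∀ y, e c * (e c * y) = y := fun y => by rw [← mul_assoc, ← sq, h2, one_mul]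
  induction hx using Subgroup.closure_induction with
  | mem x hx =>
    obtain ⟨a, ha, rfl⟩ := hx
    rcases List.mem_cons.1 ha with rfl | ha
    · exact Or.inr (by rw [← sq, h2]; exact one_mem _)
    · exact Or.inl (mem_gen ha)
  | one => exact Or.inl (one_mem _)
  | mul x y _ _ hx hy =>
    rcases hx with hx | hx <;> rcases hy with hy | hy
    · exact Or.inl (mul_mem hx hy)
    · exact Or.inr (by rw [← mul_assoc, ← k1 x hx, mul_assoc]; exact mul_mem hx hy)
    · exact Or.inr (by rw [← mul_assoc]; exact mul_mem hx hy)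
    · refine Or.inl ?_
      have := mul_mem hx hy
      rwa [← mul_assoc, k1 _ hx, k2] at this
  | inv x _ hx =>
    refine hx.imp inv_mem fun hx => ?_
    have h3 := inv_mem hx
    have h4 := k1 _ h3
    rw [_root_.mul_inv_rev, inv_mul_cancel_right] at h4
    rw [h4, k2, ← _root_.mul_inv_rev]
    exact h3

theorem card_gen_le [Finite Γ] {e : ℕ → Γ} : ∀ {L : List ℕ}, (∀ a ∈ L, ∀ b ∈ L, e a * e b = e b * e a) →
    (∀ a ∈ L, e a ^ 2 = 1) → Nat.card (gen e L) ≤ 2 ^ L.length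
  | [], _, _ => (bd_nil e).2
  | c :: L, h, h2 => by
    have ih := card_gen_le (L := L) (fun a ha b hb => h a (by simp [ha]) b (by simp [hb]))
      fun a ha => h2 a (by simp [ha])
    have h3 : (gen e (c :: L) : Set Γ) ⊆ gen e L ∪ (fun x => (e c)⁻¹ * x) '' gen e L := fun x hx =>
      (mem_cons_gen (fun a ha => h c (by simp) a (by simp [ha])) (h2 c (by simp)) hx).imp id
        fun h4 => ⟨_, h4, by simp⟩
    have h4 := (Set.ncard_le_ncard h3).trans (Set.ncard_union_le _ _)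
    rw [Set.ncard_image_of_injective _ (mul_right_injective _)] at h4
    rw [List.length_cons, pow_succ]
    change (gen e (c :: L) : Set Γ).ncard ≤ _
    change (gen e L : Set Γ).ncard ≤ _ at ih
    omega

/-- The elements of a subgroup. -/
noncomputable def fs [Finite Γ] (K : Subgroup Γ) : Finset Γ := (Set.toFinite (K : Set Γ)).toFinset

theorem mem_fs [Finite Γ] {K : Subgroup Γ} {g : Γ} : g ∈ fs K ↔ g ∈ K := by simp [fs]

theorem sum_le_cnt [Finite Γ] (h : P.OK) {e : ℕ → Γ} {l : List ℕ} (hm : Mod P val e l) {A : ℕ}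
    {V : Subgroup Γ} {W : Γ → ℕ} {f : ℕ → ℕ} (hW : ∀ g ∈ V, ∀ B, Trk val A B g → W g ≤ f B) :
    ∀ (L : List ℕ), (∀ a ∈ L, ∀ b ∈ L, e a * e b = e b * e a) → (∀ a ∈ L, e a ^ 2 = 1) →
      (∀ a ∈ L, e a ∈ V) → ∀ g ∈ V, ∀ B, Trk val A B g →
        ∑ y ∈ fs (gen e L), W (g * y) ≤ P.cnt f (P.lets l) L B
  | [], _, _, _, g, hg, B, hB => by
    have : fs (gen e []) = {1} := by ext; simp [mem_fs, gen_nil]
    rw [this, Finset.sum_singleton, mul_one]
    exact hW g hg B hB
  | c :: L, h1, h2, h3, g, hg, B, hB => by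
    classical
    have ih := sum_le_cnt h hm hW L (fun a ha b hb => h1 a (by simp [ha]) b (by simp [hb]))
      (fun a ha => h2 a (by simp [ha])) fun a ha => h3 a (by simp [ha])
    have k1 := ih g hg B hB
    have k2 := ih _ (mul_mem hg (h3 c (by simp))) _ (hB.mul h (hm c))
    have k3 : fs (gen e (c :: L)) ⊆ fs (gen e L) ∪ (fs (gen e L)).image (e c * ·) := fun x hx => by
      rw [Finset.mem_union, Finset.mem_image]
      refine (mem_cons_gen (fun a ha => h1 c (by simp) a (by simp [ha])) (h2 c (by simp))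
        (mem_fs.1 hx)).imp mem_fs.2 fun h4 => ⟨_, mem_fs.2 h4, ?_⟩
      rw [← mul_assoc, ← sq, h2 c (by simp), one_mul]
    have k4 := Finset.sum_union_inter (s₁ := fs (gen e L)) (s₂ := (fs (gen e L)).image (e c * ·))
      (f := fun y => W (g * y))
    rw [Finset.sum_image (mul_right_injective _).injOn] at k4
    rw [show P.cnt f (P.lets l) (c :: L) B = seqN (P.cnt f (P.lets l) L B) fun a =>
      seqN (P.mul B (P.lets l c)) fun B' => Nat.add a (P.cnt f (P.lets l) L B') from rfl, seqN_eq,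
      seqN_eq, Nat.add_eq]
    refine (Finset.sum_le_sum_of_subset k3).trans ?_
    simp only [mul_assoc] at k2
    omega

theorem tr_of_act (h : P.OK) {e : ℕ → Γ} {l : List ℕ} (hm : Mod P val e l) {A N : ℕ} (hN : N ≤ P.n)
    {nets : ℕ → Net} (hn : NetsOK N nets) {pl : List (List ℕ)} {L : List ℕ}
    (h1 : P.chkAct A N l nets pl L = true) (h2 : P.chkDist A N = true) : Tr e (sg nets) L := by
  have lt : ∀ w, ∀ i < N, ev (sg nets) w i < N := fun w i hi => lt_of_fix (fun _ => ev_sg_fix hn w) hi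
  have key : ∀ w : List ℕ, (∀ c ∈ w, c ∈ L) → ∀ i < N,
      P.rv A (ev (sg nets) w i) ᵥ* val (ev e w) = P.rv A i := by
    intro w
    induction w with
    | nil => simp
    | cons c w ih =>
      intro hw i hi
      have k1 := allL_true.1 h1 c (hw c (by simp))
      rw [seqN_eq] at k1
      have k2 := allN_true.1 k1 _ (lt w i hi)
      rw [seqN_eq, and2_true, H29.beq_true, Par.row_eq_iff h] at k2
      have k3 := sub_true k2.1 (i := ev (sg nets) w i) (by simp [testBit_bit])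
      rw [Net.testBit_pull (hn c), testBit_bit, decide_eq_true_eq] at k3
      have k4 := lt (c :: w) i hi
      rw [ev_cons, Equiv.Perm.mul_apply, sg] at k4 ⊢
      rw [k3, Par.rv_mul h _ _ (k4.trans_le hN), ← hm c] at k2
      rw [ev_cons, map_mul, ← vecMul_vecMul, k2.2, ih (fun c hc => hw c (by simp [hc])) i hi]
  have inj : ∀ i < N, ∀ j < i, P.rv A j ≠ P.rv A i := fun i hi j hj h3 => by
    have := allN_true.1 h2 i hi
    rw [seqN_eq] at this
    have := allN_true.1 this j hj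
    rw [H29.beq_true.2 ((Par.row_eq_iff h).2 h3)] at this
    exact absurd this (by simp)
  intro w hw h3
  ext i
  by_cases hi : i < N
  · have := key w hw i hi
    rw [h3, map_one, vecMul_one] at this
    rcases lt_trichotomy (ev (sg nets) w i) i with h4 | h4 | h4
    · exact absurd this (inj _ hi _ h4)
    · exact h4
    · exact absurd this.symm (inj _ (lt w i hi) _ h4)
  · exact ev_sg_fix hn w (not_lt.1 hi)

end H9.GF2

namespace H9.JL

open Subgroup H9.GF2 Finset

variable {Γ : Type*} [Group Γ] [Finite Γ] {H V N : Subgroup Γ} {z : Γ}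

/-- The element `v` lies in the conjugate of `V` that belongs to the coset `c`. -/
def Rel (V : Subgroup Γ) {H : Subgroup Γ} (c : Γ ⧸ H) (v : Γ) : Prop :=
  ∃ g : Γ, (g : Γ ⧸ H) = c ∧ g⁻¹ * v * g ∈ V

open Classical in
/-- The conjugates of `z` under `N`. -/
noncomputable def cl (N : Subgroup Γ) (z : Γ) : Finset Γ := (fs N).image fun n => n * z * n⁻¹

theorem mem_cl {v : Γ} : v ∈ cl N z ↔ ∃ n ∈ N, n * z * n⁻¹ = v := by simp [cl, mem_fs]

theorem conj_mem_cl {v n : Γ} (hv : v ∈ cl N z) (hn : n ∈ N) : n * v * n⁻¹ ∈ cl N z := by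
  obtain ⟨m, hm, rfl⟩ := mem_cl.1 hv
  exact mem_cl.2 ⟨n * m, mul_mem hn hm, by group⟩

open Classical in
theorem dcount (hN : N ≤ H) (hV : H ≤ normalizer (V : Set Γ)) {ι : Type*} (J : Finset ι) (w : ι → Γ)
    (O : ι → Set (Γ ⧸ H)) (o : ι → ℕ)
    (hO : ∀ j ∈ J, ∀ c ∈ O j, ∃ n ∈ N, c = (((w j * n)⁻¹ : Γ) : Γ ⧸ H))
    (cov : ∀ c : Γ ⧸ H, c ≠ ((1 : Γ) : Γ ⧸ H) → ∃ j ∈ J, c ∈ O j) (ho : ∀ j ∈ J, (O j).ncard ≤ o j) :
    (cl N z).card * {c : Γ ⧸ H | c ≠ ((1 : Γ) : Γ ⧸ H) ∧ Rel V c z}.ncard ≤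
      ∑ v ∈ cl N z, ∑ j ∈ J, if w j * v * (w j)⁻¹ ∈ V then o j else 0 := by
  have k1 : ∀ v ∈ cl N z, {c : Γ ⧸ H | c ≠ ((1 : Γ) : Γ ⧸ H) ∧ Rel V c z}.ncard ≤
      ∑ j ∈ J, ((O j).toFinite.toFinset.filter fun c => Rel V c v).card := fun v hv => by
    obtain ⟨n, hn, rfl⟩ := mem_cl.1 hv
    refine le_trans ?_ card_biUnion_le
    rw [← Set.ncard_coe_finset]
    refine Set.ncard_le_ncard_of_injOn (fun c => n • c) ?_ (MulAction.injective n).injOn
    rintro _ ⟨h1, g, rfl, h2⟩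
    obtain ⟨j, hj, h3⟩ := cov (n • (g : Γ ⧸ H)) fun h3 => h1 (by
      rw [MulAction.Quotient.smul_coe, QuotientGroup.eq] at h3
      rw [QuotientGroup.eq]
      simpa using mul_mem h3 (hN hn))
    simp only [coe_biUnion, Set.mem_iUnion, mem_coe, mem_filter, Set.Finite.mem_toFinset]
    exact ⟨j, hj, h3, n * g, rfl, by simpa [mul_assoc] using h2⟩
  rw [← smul_eq_mul, ← sum_const]
  refine (sum_le_sum k1).trans ?_
  rw [sum_comm, sum_comm (s := cl N z)]
  refine sum_le_sum fun j hj => ?_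
  simp only [card_filter]
  rw [sum_comm]
  have k2 : ∀ c ∈ (O j).toFinite.toFinset, ∑ v ∈ cl N z, (if Rel V c v then 1 else 0) ≤
      ∑ v ∈ cl N z, if w j * v * (w j)⁻¹ ∈ V then 1 else 0 := fun c hc => by
    rw [← card_filter, ← card_filter]
    obtain ⟨n, hn, rfl⟩ := hO j hj c (by simpa using hc)
    refine card_le_card_of_injOn (fun v => n * v * n⁻¹) ?_ fun a _ b _ h => by simpa using h
    intro v hv
    rw [mem_coe, mem_filter] at hv ⊢
    obtain ⟨h1, g, h2, h3⟩ := hv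
    refine ⟨conj_mem_cl h1 hn, ?_⟩
    have := (mem_normalizer_iff''.1 (hV (QuotientGroup.eq.1 h2)) _).1 h3
    convert this using 1
    group
  refine (sum_le_sum k2).trans ?_
  rw [sum_const, smul_eq_mul, ← Set.ncard_eq_toFinset_card _ (O j).toFinite, mul_sum]
  refine sum_le_sum fun v _ => ?_
  split_ifs
  · simpa using ho j hj
  · simp

theorem card_cent_le (hz : z ∈ V) : Nat.card (centralizer {z}) ≤
    ({c : Γ ⧸ H | c ≠ ((1 : Γ) : Γ ⧸ H) ∧ Rel V c z}.ncard + 1) * Nat.card ↥(centralizer {z} ⊓ H) := by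
  rw [← (MulAction.stabilizer (centralizer {z}) ((1 : Γ) : Γ ⧸ H)).index_mul_card,
    MulAction.index_stabilizer]
  refine Nat.mul_le_mul ?_ ?_
  · refine le_trans (Set.ncard_le_ncard ?_) (Set.ncard_insert_le ((1 : Γ) : Γ ⧸ H) _)
    rintro _ ⟨g, rfl⟩
    refine (em _).imp id fun h => ⟨h, g, congrArg _ (mul_one g.1).symm, ?_⟩
    rw [mul_assoc, ← mem_centralizer_singleton_iff.1 g.2, inv_mul_cancel_left]
    exact hz
  · refine Nat.card_le_card_of_injective (fun g => ⟨g.1.1, g.1.2, ?_⟩) fun a b h => ?_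
    · have : ((g.1.1 * 1 : Γ) : Γ ⧸ H) = (1 : Γ) := g.2
      simpa using QuotientGroup.eq.1 this
    · exact Subtype.ext (Subtype.ext (congrArg (fun x : ↥(centralizer {z} ⊓ H) => x.1) h))

theorem card_inf_mul (hN : N ≤ H) : Nat.card ↥(centralizer {z} ⊓ H) * (cl N z).card ≤ Nat.card H := by
  choose f h1 h2 using fun v : cl N z => mem_cl.1 v.2
  rw [← Nat.card_eq_finsetCard, ← Nat.card_prod]
  refine Nat.card_le_card_of_injective (fun a => ⟨f a.2 * a.1, mul_mem (hN (h1 _)) a.1.2.2⟩) ?_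
  rintro ⟨a, u⟩ ⟨b, v⟩ h
  have h3 : f u * a = f v * b := congrArg Subtype.val h
  have k : ∀ (c : ↥(centralizer {z} ⊓ H)) (t : cl N z), f t * c * z * (f t * c)⁻¹ = t := fun c t => by
    rw [mul_assoc (f t), mem_centralizer_singleton_iff.1 c.2.1, ← h2 t]; group
  have h4 : u = v := Subtype.ext (by rw [← k a u, h3, k])
  subst h4
  exact Prod.ext (Subtype.ext (mul_left_cancel h3)) rfl

end H9.JL
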