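import Mathlib
import Cfsg.Agent.H9.CG
import Cfsg.Agent.H9.M24A.B
import Cfsg.Agent.H9.M24A.C0
import Cfsg.Agent.H9.M24A.C1
import Cfsg.Agent.H9.M24A.P0

set_option autoImplicit false
set_option maxRecDepth 100000
set_option Elab.async false
set_option linter.all false

namespace H9.M24A

open H29 H9.MX

theorem der : Derives (ivOf ivl) R0 R35 := (((((((((((((((((((((((((((((((((((Derives.refl _ _).prog hii p0).prog hii p1).prog hii p2).prog hii p3).prog hii p4).prog hii p5).prog hii p6).prog hii p7).prog hii p8).prog hii p9).prog hii p10).prog hii p11).prog hii p12).prog hii p13).prog hii p14).prog hii p15).prog hii p16).prog hii p17).prog hii p18).prog hii p19).prog hii p20).prog hii p21).prog hii p22).prog hii p23).prog hii p24).prog hii p25).prog hii p26).prog hii p27).prog hii p28).prog hii p29).prog hii p30).prog hii p31).prog hii p32).prog hii p33).prog hii p34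
theorem hG0 : ∀ r ∈ G0, ev (sg (nth Net.nil nl)) r = 1 :=
  rels_of_chk (k := 16) hn (by decide) hiv (lt_step (lt_step (lt_step (lt_step (lt_step (lt_step (lt_step (lt_step (lt_step (lt_step (lt_step (lt_step (lt_step (lt_step (lt_step (lt_step lt_base r0_0) r0_1) r0_2) r0_3) r0_4) r0_5) r0_6) r0_7) r0_8) r0_9) r0_10) r0_11) r0_12) r0_13) r0_14) r0_15)
theorem hR0 : ∀ r ∈ R0, ev (sg (nth Net.nil nl)) r = 1 := hG0
theorem col0 : T.ColOK 0 := TCData.colOK_of_chk (U := (Nat.lor (Nat.lor (T.mask0 0) v0_0) v0_1)) (V := (Nat.lor (Nat.lor (T.mask0 0) v0_0) v0_1)) hb (((T.cov_mask0 0).or cv0_0).or cv0_1) (((T.cov_mask0 0).or cv0_0).or cv0_1) (by decide +kernel)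
theorem col1 : T.ColOK 1 := TCData.colOK_of_chk (U := (Nat.lor (T.mask0 1) v1_0)) (V := (Nat.lor (T.mask0 2) v2_0)) hb ((T.cov_mask0 1).or cv1_0) ((T.cov_mask0 2).or cv2_0) (by decide +kernel)
theorem col2 : T.ColOK 2 := TCData.colOK_of_chk (U := (Nat.lor (T.mask0 2) v2_0)) (V := (Nat.lor (T.mask0 1) v1_0)) hb ((T.cov_mask0 2).or cv2_0) ((T.cov_mask0 1).or cv1_0) (by decide +kernel)
theorem col4 : T.ColOK 4 := TCData.colOK_of_chk (U := (Nat.lor (Nat.lor (T.mask0 4) v4_0) v4_1)) (V := (Nat.lor (T.mask0 5) v5_0)) hb (((T.cov_mask0 4).or cv4_0).or cv4_1) ((T.cov_mask0 5).or cv5_0) (by decide +kernel)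
theorem col5 : T.ColOK 5 := TCData.colOK_of_chk (U := (Nat.lor (T.mask0 5) v5_0)) (V := (Nat.lor (Nat.lor (T.mask0 4) v4_0) v4_1)) hb ((T.cov_mask0 5).or cv5_0) (((T.cov_mask0 4).or cv4_0).or cv4_1) (by decide +kernel)
theorem ok : T.OK := ⟨hb, TCData.treeOK_of_chk hn (by decide +kernel), (List.forall_mem_cons.2 ⟨col0, (List.forall_mem_cons.2 ⟨col1, (List.forall_mem_cons.2 ⟨col2, (List.forall_mem_cons.2 ⟨col4, (List.forall_mem_cons.2 ⟨col5, (fun _ h => absurd h List.not_mem_nil)⟩)⟩)⟩)⟩)⟩), der _ _ hiv hR0⟩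
theorem bd {G : Type} [Group G] {e : ℕ → G} (h1 : IvOK e (ivOf ivl)) (h2 : ∀ r ∈ R0, ev e r = 1)
    {m : ℕ} (h : Bd (gen e hcols) m) : Bd (gen e cols) (42504 * m) := ok.bd h1 (der G e h1 h2) h
theorem cm {G : Type} [Group G] {e : ℕ → G} (h1 : IvOK e (ivOf ivl)) (h2 : ∀ r ∈ R0, ev e r = 1)
    (h3 : gen e cols = ⊤) {ρ : G →* Equiv.Perm ℕ} (h4 : ∀ c, ρ (e c) = sg (nth Net.nil nl) c) :
    CosetModel ρ (gen e hcols) 42504 := ok.cosetModel h1 (der G e h1 h2) h3 fun c _ => h4 c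

end H9.M24A
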