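import Mathlib
import Cfsg.Agent.H9.DC2
import Cfsg.Agent.H9.M24
import Cfsg.Agent.H9.M24A
import Cfsg.Agent.H9.M24B
import Cfsg.Agent.H9.M24C
import Cfsg.Agent.H9.M24D
import Cfsg.Agent.H29.Pres
import Cfsg.Prelude.Def_Spor_J4

set_option autoImplicit false
set_option maxRecDepth 100000
set_option Elab.async false
set_option linter.all false

namespace H9.J4

open Cfsg H29 H9.MX H9.DC

def idx : Cfsg.Spor.J4.Gen → ℕ
  | .x => 0
  | .y => 1
  | .t => 3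
def P : PData Cfsg.Spor.J4.Gen := ⟨Cfsg.Spor.J4.edges, Cfsg.Spor.J4.extra, [.x, .y, .t],
  [(.x, true), (.y, true), (.y, false), (.t, true)], idx, [0, 2, 1, 3]⟩
theorem coh : P.Coh := by decide +kernel
theorem hg : ∀ x, x ∈ P.gens := by intro x; cases x <;> decide
theorem hiv0 : IvOK P.e (ivOf [0, 2, 1, 3]) := PData.ivOK coh
theorem hR : ∀ r ∈ P.relL, ev P.e r = 1 := PData.rels coh hg
abbrev G : Type := P.G
def R7 : List (List ℕ) := [[1, 1, 1], [0, 1, 0, 1, 0, 1, 0, 1, 0, 1, 0, 1, 0, 1, 0, 1, 0, 1, 0, 1, 0, 1, 0, 1, 0, 1, 0, 1, 0, 1, 0, 1, 0, 1, 0, 1, 0, 1, 0, 1, 0, 1, 0, 1, 0, 1], [0, 2, 0, 1, 0, 2, 0, 1, 0, 2, 0, 1, 0, 2, 0, 1, 0, 2, 0, 1, 0, 2, 0, 1, 0, 2, 0, 1, 0, 2, 0, 1, 0, 2, 0, 1, 0, 2, 0, 1, 0, 2, 0, 1, 0, 2, 0, 1], [0, 2, 0, 2, 0, 1, 0, 1, 0, 2, 0, 2, 0, 1, 0, 1, 0, 2, 0, 2, 0, 1, 0, 1, 0, 2, 0, 2, 0, 1, 0, 1, 0, 2, 0, 2, 0, 1, 0, 1], [0, 1, 0, 1, 0, 2, 0, 1, 0, 2, 0, 1, 0, 2,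 0, 1, 0, 1, 0, 2, 0, 1, 0, 2, 0, 1, 0, 2, 0, 1, 0, 1, 0, 2, 0, 1, 0, 2, 0, 1, 0, 2, 0, 1, 0, 1, 0, 2, 0, 1, 0, 2, 0, 1, 0, 2], [0, 1, 0, 1, 0, 2, 0, 1, 0, 1, 0, 2, 0, 1, 0, 1, 0, 2, 0, 1, 0, 2, 0, 2, 0, 1, 0, 2, 0, 2, 0, 1, 0, 2, 0, 2]]
theorem ubd7 : UBd (ivOf [0, 2, 1, 3]) R7 [0, 1, 2] 244823040 := by
  intro G _ e h1 h2
  have hx : chkExt 4 [[0, 1, 0, 1, 0, 2, 0]] [0, 2, 1, 3] [0, 2, 1, 3, 5, 4] = true := by decide +kernel
  have i1 := ivOK_extE h1 hx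
  have r1 : ∀ r ∈ M24D.R0, ev (extE e 4 [[0, 1, 0, 1, 0, 2, 0]]) r = 1 :=
    rels_sub (rels_append (rels_extE h2 (by decide +kernel)) (isExt_extE e (chkExt_wf hx)).rels)
      (by decide +kernel)
  have r2 := M24D.der _ _ i1 r1
  have b := M24A.bd i1 (rels_sub r1 (by decide +kernel)) (M24B.bd i1 (rels_sub r2 (by decide +kernel))
    ((M24C.bd i1 (rels_sub r2 (by decide +kernel)) (bd_nil _)).of_le (gen_sub (by decide +kernel)))
      |>.of_le (gen_sub (l := M24A.hcols) (by decide +kernel)))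
  rw [← gen_extE e (n := 4) [[0, 1, 0, 1, 0, 2, 0]] (by decide +kernel)]
  exact b.of_le (gen_sub (by decide +kernel))
def cl3 : List ℕ := [635298756326989702480773699161167873, 975271645700598306547486930422597646, 965244088940132618471861256154548673]
noncomputable def e1 (c : ℕ) : Equiv.Perm GolayPt := pm (nth idP cl3 c)
theorem v3 : ∀ c, validP (nth idP cl3 c) = true :=
  nth_forall (p := fun c => validP c = true) validP_idP (by decide +kernel)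
theorem ev_e1 : ∀ w : List ℕ, validP (evalW cl3 w) = true ∧ ev e1 w = pm (evalW cl3 w)
  | [] => ⟨validP_idP, pm_idP.symm⟩
  | c :: w => by
    have e : evalW cl3 (c :: w) = mulP (nth idP cl3 c) (evalW cl3 w) := by
      rw [nth_eq]; exact force_eq _ _
    obtain ⟨h1, h2⟩ := ev_e1 w
    rw [e, pm_mulP (v3 c) h1, ev_cons, h2]
    exact ⟨validP_mulP (v3 c) h1, rfl⟩
theorem rels_e1 {R : List (List ℕ)} (h : (H29.allL R fun w => Nat.beq (evalW cl3 w) idP) = true) :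
    ∀ r ∈ R, ev e1 r = 1 := fun r hr => by
  rw [(ev_e1 r).2, H29.beq_true.1 (allL_true.1 h r hr), pm_idP]
theorem hiv1 : IvOK e1 (ivOf [0, 2, 1, 3]) := by
  have h := rels_e1 (R := [[0, 0], [2, 1], [1, 2]]) (by decide +kernel)
  simp only [List.forall_mem_cons, ev_cons, ev_nil, mul_one] at h
  intro c
  match c with
  | 0 => exact eq_inv_of_mul_eq_one_left h.1
  | 1 => exact eq_inv_of_mul_eq_one_left h.2.1
  | 2 => exact eq_inv_of_mul_eq_one_left h.2.2.1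
  | c + 3 =>
    have h1 : e1 (c + 3) = 1 := pm_idP
    have h2 : ivOf [0, 2, 1, 3] (c + 3) = c + 3 := by cases c <;> rfl
    rw [h2, h1, inv_one]
/-- The group generated by the two permutations. -/
noncomputable def Nb : Subgroup (Equiv.Perm GolayPt) := gen e1 [0, 1, 2]
theorem gi3 : GensIn cl3 Nb := by
  intro c hc
  simp only [cl3, List.mem_cons, List.not_mem_nil, or_false] at hc
  rcases hc with rfl | rfl | rfl
  · exact ⟨v3 0, mem_gen (e := e1) (c := 0) (by simp)⟩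
  · exact ⟨v3 1, mem_gen (e := e1) (c := 1) (by simp)⟩
  · exact ⟨v3 2, mem_gen (e := e1) (c := 2) (by simp)⟩
theorem hR1 : ∀ r ∈ R7, ev e1 r = 1 := rels_e1 (by decide +kernel)
theorem card_Nb : Nat.card Nb = 244823040 :=
  le_antisymm (ubd7 _ _ hiv1 hR1).2 (le_card_of_chkCh
    [(0, 24, [[1, 0], [0, 1, 0, 1, 0, 1, 0, 1, 1, 0, 1]]),
 (1, 23, [[0, 1, 0, 0], [1, 1, 1, 0, 0, 0, 0]]),
 (2, 22, [[1, 1], [1, 0, 0]]),
 (3, 21, [[0, 0, 1, 0, 1, 1, 1], [0, 0, 1, 1, 0, 1, 0]]),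
 (4, 20, [[0, 1, 1, 0], [0, 0, 0, 1], [1, 0, 1, 1, 1]]),
 (8, 16, [[2, 0, 1, 0]]),
 (5, 3, [])] gi3 (by decide +kernel))
def pc0 : ℕ := 675631997968841421300273715087509536
theorem iso_M24 : Nonempty (Nb ≃* M24) := by
  have hv : validP pc0 = true := by decide +kernel
  have key : ∀ c ∈ [0, 1, 2], MulAut.conj (pm pc0) (e1 c) ∈ M24 := by
    have : ∀ c ∈ [0, 1, 2], ∃ d ∈ [358864966823891061721071266500325377, 143422908293729086565942473832105995, 805521103547338060537010768023619937],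
        isM24 d = true ∧ mulP d pc0 = mulP pc0 (nth idP cl3 c) := by decide +kernel
    intro c hc
    obtain ⟨d, -, h1, h2⟩ := this c hc
    have h3 := congrArg pm h2
    rw [pm_mulP (validP_of_isM24 h1) hv, pm_mulP hv (v3 c)] at h3
    rw [MulAut.conj_apply, e1, ← h3, mul_inv_cancel_right]
    exact mem_M24_of_isM24 h1
  have h1 : Nb.map (MulAut.conj (pm pc0)).toMonoidHom ≤ M24 := by
    rw [Nb, map_gen]; exact gen_le.2 key
  have f := (MulAut.conj (pm pc0)).subgroupMap Nb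
  have h2 : Nb.map (MulAut.conj (pm pc0)).toMonoidHom = M24 :=
    Subgroup.eq_of_le_of_card_ge h1 (by rw [card_M24, ← card_Nb]; exact (Nat.card_congr f.toEquiv).le)
  exact ⟨f.trans (MulEquiv.subgroupCongr h2)⟩
instance simple_Nb : IsSimpleGroup Nb := by
  obtain ⟨f⟩ := iso_M24
  have := simple_M24
  exact f.isSimpleGroup
theorem hR7 : ∀ r ∈ R7, ev P.e r = 1 := rels_sub hR (by decide +kernel)
theorem exists_phi {K : Type} [Group K] {e : ℕ → K} (h1 : IvOK e (ivOf [0, 2, 1, 3]))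
    (h2 : ∀ r ∈ R7, ev e r = 1) : ∃ φ : Nb →* K, ∀ c (hc : c ∈ [0, 1, 2]), φ ⟨e1 c, mem_gen hc⟩ = e c := by
  obtain ⟨f, hf⟩ := (tr_of_bd ubd7 (by decide) hiv1 h1 hR1 h2 card_Nb.ge).exists_hom hiv1 h1 (by decide)
  refine ⟨f, fun c hc => ?_⟩
  have := hf [c] (by simpa using hc)
  simp only [ev_cons, ev_nil, mul_one] at this
  exact this
/-- The homomorphism from the permutation group to the presented group. -/
noncomputable def φ : Nb →* G := (exists_phi hiv0 hR7).choose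
theorem φ_e : ∀ c (hc : c ∈ [0, 1, 2]), φ ⟨e1 c, mem_gen hc⟩ = P.e c := (exists_phi hiv0 hR7).choose_spec
theorem range_φ : φ.range = gen P.e [0, 1, 2] := by
  have h1 : (⊤ : Subgroup Nb) = gen (fun c => if h : c ∈ [0, 1, 2] then (⟨e1 c, mem_gen h⟩ : Nb) else 1)
      [0, 1, 2] := by
    apply Subgroup.map_injective Nb.subtype_injective
    rw [map_gen, ← MonoidHom.range_eq_map, Subgroup.range_subtype]
    exact gen_congr fun c hc => by rw [dif_pos hc]; rfl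
  rw [MonoidHom.range_eq_map, h1, map_gen]
  exact gen_congr fun c hc => by rw [dif_pos hc, φ_e c hc]
theorem top : gen P.e [0, 1, 2, 3] = ⊤ := PData.gen_top coh hg (by decide)

end H9.J4
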