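import Mathlib
import Cfsg.Agent.H9.GF2V
import Cfsg.Agent.H9.Bits

/-!
# Vectors and matrices of dimension twelve over the field with two elements
-/

set_option autoImplicit false
set_option linter.all false

namespace H9.R

open H29 H9.GF2 Matrix

/-- The parameters. -/
def P12 : Par := ⟨12, 13, 11151733894906779683522195341810241573494785, 4095, 22837356964946050604904066237891012209724637185⟩

theorem ok12 : P12.OK := Par.ok_of _ (by decide +kernel)

abbrev V : Type := Fin P12.n → ZMod 2
abbrev Mx : Type := Matrix (Fin P12.n) (Fin P12.n) (ZMod 2)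

def vec (r : ℕ) : V := P12.vec r
def mat (X : ℕ) : Mx := P12.mat X
noncomputable def mu (A B : ℕ) : ℕ := P12.mul A B
def one : ℕ := 22837356964946050604904066237891012209724637185
def row (X i : ℕ) : ℕ := P12.row X i
/-- A vector times a matrix. -/
noncomputable def va (r X : ℕ) : ℕ := P12.row (P12.mul r X) 0

theorem card_V : Nat.card V = 4096 := by
  simp [V, show P12.n = 12 from rfl]

theorem add_self (x : V) : x + x = 0 := by ext j; exact CharTwo.add_self_eq_zero _

theorem add_self' (x y : V) : x + (x + y) = y := by rw [← add_assoc, add_self, zero_add]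

theorem add_eq_zero' {x y : V} : x + y = 0 ↔ x = y :=
  ⟨fun h => by rw [← add_self' x y, h, add_zero], fun h => h ▸ add_self x⟩

theorem madd_self (x : Mx) : x + x = 0 := by ext i j; exact CharTwo.add_self_eq_zero _

@[simp] theorem mat_mu (A B : ℕ) : mat (mu A B) = mat A * mat B := Par.mat_mul ok12 A B
@[simp] theorem mat_one : mat one = 1 := Par.mat_one ok12
@[simp] theorem vec_xor (a b : ℕ) : vec (Nat.xor a b) = vec a + vec b := Par.vec_xor a b
@[simp] theorem vec_xor' (a b : ℕ) : vec (a ^^^ b) = vec a + vec b := Par.vec_xor a b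
@[simp] theorem vec_zero : vec 0 = 0 := by ext j; simp [vec, Par.vec, bz]
@[simp] theorem mat_xor (a b : ℕ) : mat (Nat.xor a b) = mat a + mat b := by
  ext i j; simp [mat, Par.mat, bz_xor]

theorem vec_row (X : ℕ) (i : Fin P12.n) : vec (row X i) = mat X i := Par.rv_eq ok12 X i

theorem row_lt (X i : ℕ) : row X i < 4096 :=
  Nat.lt_pow_two_of_testBit (n := 12) _ (Par.row_small ok12 X i)

@[simp] theorem vec_va (r X : ℕ) : vec (va r X) = vec r ᵥ* mat X := by
  have h := Par.rv_mul ok12 r X (i := 0) (by decide)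
  have h1 : P12.rv r 0 = vec r := by
    ext j; simp [Par.rv, Par.vec, vec, Par.testBit_row ok12]
  rw [h1] at h
  exact h

theorem va_lt (r X : ℕ) : va r X < 4096 := row_lt _ 0

theorem vec_inj {a b : ℕ} (ha : a < 4096) (hb : b < 4096) (h : vec a = vec b) : a = b :=
  have k : ∀ j, 12 ≤ j → 4096 ≤ 2 ^ j := fun j hj => Nat.pow_le_pow_right (n := 2) two_pos hj
  Par.eq_of_vec (P := P12) (fun j hj => Nat.testBit_lt_two_pow (ha.trans_le (k j hj)))
    (fun j hj => Nat.testBit_lt_two_pow (hb.trans_le (k j hj))) h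

theorem vec_mod (a : ℕ) : vec (a % 4096) = vec a := by
  ext j
  have : (j : ℕ) < 12 := j.2
  simp only [vec, Par.vec]
  rw [show 4096 = 2 ^ 12 from rfl, Nat.testBit_mod_two_pow, decide_eq_true this, Bool.true_and]

theorem vec_bij : Function.Bijective fun a : Fin 4096 => vec a :=
  (Nat.bijective_iff_injective_and_card _).2
    ⟨fun a b h => Fin.ext (vec_inj a.2 b.2 h), by rw [card_V]; simp⟩

theorem exists_cd (x : V) : ∃ r < 4096, vec r = x := by
  obtain ⟨a, h⟩ := vec_bij.2 x
  exact ⟨a, a.2, h⟩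

/-- The code of a vector. -/
noncomputable def cd (x : V) : ℕ := (exists_cd x).choose
theorem cd_lt (x : V) : cd x < 4096 := (exists_cd x).choose_spec.1
@[simp] theorem vec_cd (x : V) : vec (cd x) = x := (exists_cd x).choose_spec.2
theorem cd_vec {a : ℕ} (h : a < 4096) : cd (vec a) = a := vec_inj (cd_lt _) h (vec_cd _)
theorem xor_lt {a b : ℕ} (ha : a < 4096) (hb : b < 4096) : a ^^^ b < 4096 :=
  Nat.xor_lt_two_pow (n := 12) ha hb
theorem cd_add (x y : V) : cd (x + y) = cd x ^^^ cd y :=
  vec_inj (cd_lt _) (xor_lt (cd_lt _) (cd_lt _)) (by simp)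
theorem cd_vecMul (x : V) (X : ℕ) : cd (x ᵥ* mat X) = va (cd x) X :=
  vec_inj (cd_lt _) (va_lt _ _) (by simp)
theorem cd_zero : cd 0 = 0 := by rw [← vec_zero, cd_vec (by norm_num)]

theorem va_eq_iff {a b X : ℕ} (hb : b < 4096) : va a X = b ↔ vec a ᵥ* mat X = vec b :=
  ⟨fun h => by rw [← h, vec_va], fun h => vec_inj (va_lt _ _) hb (by rw [vec_va, h])⟩

theorem all12 {f : ℕ → Bool} (h : treeAll f 12 0 = true) (x : V) : f (cd x) = true :=
  (treeAll_iff f 12).1 h _ (cd_lt x)

theorem ncard_cd (p : ℕ → Bool) : {x : V | p (cd x) = true}.ncard = treeCnt p 12 := by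
  rw [treeCnt_eq, ← Set.ncard_coe_finset]
  refine Set.ncard_congr (fun x _ => cd x) (fun x hx => by simpa using ⟨cd_lt x, hx⟩)
    (fun a b _ _ h => by rw [← vec_cd a, h, vec_cd]) fun b hb => ?_
  simp only [Finset.coe_filter, Finset.mem_range, Set.mem_setOf_eq] at hb
  exact ⟨vec b, by rw [Set.mem_setOf_eq, cd_vec hb.1]; exact hb.2, cd_vec hb.1⟩

/-- The matrix with the given rows. -/
noncomputable def pk (l : List ℕ) : ℕ :=
  List.rec (motive := fun _ => ℕ) 0 (fun a _ ih => Nat.lor (Nat.land a 4095) (Nat.shiftLeft ih 13)) l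

theorem testBit_pk : ∀ (l : List ℕ) (i j : ℕ), j < 12 →
    (pk l).testBit (13 * i + j) = (nth 0 l i).testBit j
  | [], i, j, _ => by simp [show pk [] = 0 from rfl, show nth 0 [] i = 0 from rfl]
  | a :: l, i, j, hj => by
    have e : pk (a :: l) = (a &&& (2 ^ 12 - 1)) ||| (pk l <<< 13) := rfl
    rw [e, Nat.testBit_or, Nat.testBit_and, Nat.testBit_two_pow_sub_one, Nat.testBit_shiftLeft]
    cases i with
    | zero => simp [hj, show nth 0 (a :: l) 0 = a from rfl]; omega
    | succ i =>
      rw [show nth 0 (a :: l) (i + 1) = nth 0 l i from rfl, ← testBit_pk l i j hj,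
        decide_eq_false (by omega), decide_eq_true (by omega),
        show 13 * (i + 1) + j - 13 = 13 * i + j by omega]
      simp

theorem mat_pk (l : List ℕ) (i : Fin P12.n) : mat (pk l) i = vec (nth 0 l i) := by
  ext j; exact congrArg bz (testBit_pk l i j j.2)

theorem exists_mat (A : Mx) : ∃ X, mat X = A :=
  ⟨pk (List.ofFn fun i => cd (A i)), funext fun i => by
    rw [mat_pk, nth_eq, List.getD_eq_getElem _ _ (by simp)]; simp⟩

/-- The rows `bs` are mapped to the rows `im`. -/
def Maps (K : Mx) (bs im : List ℕ) : Prop := List.Forall₂ (fun a b => vec a ᵥ* K = vec b) bs im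

theorem Maps.nth {K : Mx} : ∀ {bs im : List ℕ}, Maps K bs im → ∀ i,
    vec (nth 0 bs i) ᵥ* K = vec (nth 0 im i)
  | _, _, .nil, i => by simp [show H29.nth 0 [] i = 0 from rfl]
  | _, _, .cons h _, 0 => h
  | _, _, .cons _ h, i + 1 => Maps.nth h i

theorem Maps.pk {K : Mx} {bs im : List ℕ} (h : Maps K bs im) : mat (pk bs) * K = mat (pk im) := by
  ext i j
  rw [mat_pk, ← h.nth, ← mat_pk]; rfl

theorem Maps.eq {K : Mx} {bs im : List ℕ} (h : Maps K bs im) {B : ℕ} (hB : mu B (R.pk bs) = one) :
    K = mat (mu B (R.pk im)) := by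
  rw [mat_mu, ← h.pk, ← mul_assoc, ← mat_mu, hB, mat_one, one_mul]

theorem Maps.lin {K : Mx} : ∀ {bs im : List ℕ}, Maps K bs im → ∀ m,
    vec (lin bs m) ᵥ* K = vec (lin im m)
  | _, _, .nil, m => by simp [lin_nil]
  | _, _, .cons h h', m => by
    rw [lin_cons, lin_cons, vec_xor', vec_xor', add_vecMul, Maps.lin h']
    rcases Nat.mod_two_eq_zero_or_one m with h1 | h1 <;> simp [h1, h]

theorem lin_lt {bs : List ℕ} (h : ∀ b ∈ bs, b < 4096) (m : ℕ) : lin bs m < 4096 :=
  lin_induction (· < 4096) (by norm_num) (fun _ _ => xor_lt) bs h m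

/-- The canonical code of a matrix. -/
def key (X : ℕ) : ℕ := Nat.land X 45666350299643262804023389924712939243461144575

theorem key_eq {X Y : ℕ} (h : mat X = mat Y) : key X = key Y := by
  have km : ∀ n, Nat.testBit 45666350299643262804023389924712939243461144575 n = true → n / 13 < 12 ∧ n % 13 < 12 := fun n hn => by
    have h1 : n < 156 := by
      by_contra h2
      rw [Nat.testBit_lt_two_pow (lt_of_lt_of_le (by norm_num : _ < 2 ^ 156)
        (Nat.pow_le_pow_right two_pos (not_lt.1 h2)))] at hn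
      exact absurd hn (by simp)
    revert hn
    revert n
    decide +kernel
  refine Nat.eq_of_testBit_eq fun n => ?_
  simp only [key, land_eq, Nat.testBit_and]
  cases h1 : Nat.testBit 45666350299643262804023389924712939243461144575 n
  · simp
  · have h2 := bz_inj (congrFun (congrFun h ⟨n / 13, (km n h1).1⟩) ⟨n % 13, (km n h1).2⟩)
    change X.testBit (13 * (n / 13) + n % 13) = Y.testBit (13 * (n / 13) + n % 13) at h2
    rw [Nat.div_add_mod] at h2
    rw [h2]

theorem mat_key (X : ℕ) : mat (key X) = mat X := by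
  ext i j
  have : Nat.testBit 45666350299643262804023389924712939243461144575 (13 * i + j) = true := by
    revert i j; decide +kernel
  simp only [mat, Par.mat, Matrix.of_apply, key, land_eq, Nat.testBit_and]
  rw [show P12.s = 13 from rfl, this, Bool.and_true]

theorem key_iff {X Y : ℕ} : key X = key Y ↔ mat X = mat Y :=
  ⟨fun h => by rw [← mat_key, h, mat_key], key_eq⟩

/-- Equality of matrices. -/
def eqM (X Y : ℕ) : Bool := Nat.beq (key X) (key Y)

theorem eqM_iff {X Y : ℕ} : eqM X Y = true ↔ mat X = mat Y := by rw [eqM, H29.beq_true, key_iff]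

/-- Implication of Booleans. -/
noncomputable def imp (a b : Bool) : Bool := Bool.rec true b a
@[simp] theorem imp_true {a b : Bool} : imp a b = true ↔ (a = true → b = true) := by
  cases a <;> cases b <;> simp [imp]
/-- Disjunction of Booleans. -/
noncomputable def or2 (a b : Bool) : Bool := Bool.rec b true a
@[simp] theorem or2_true {a b : Bool} : or2 a b = true ↔ (a = true ∨ b = true) := by
  cases a <;> cases b <;> simp [or2]
/-- Negation. -/
noncomputable def no (a : Bool) : Bool := Bool.rec true false a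
@[simp] theorem no_true {a : Bool} : no a = true ↔ ¬ a = true := by cases a <;> simp [no]

theorem ext_vecMul {A B : Mx} (h : ∀ x : V, x ᵥ* A = x ᵥ* B) : A = B := by
  ext i j
  have := congrFun (h (Pi.single i 1)) j
  simpa using this

theorem vec_two_pow (i : Fin P12.n) : vec (2 ^ (i : ℕ)) = Pi.single i 1 := by
  ext j
  by_cases h : j = i
  · subst h; simp [vec, Par.vec, bz]
  · have : ¬ (i : ℕ) = j := fun h1 => h (Fin.ext h1.symm)
    simp [vec, Par.vec, bz, Nat.testBit_two_pow, this, Pi.single_eq_of_ne h]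

theorem card_fix {p : ℕ} [Fact p.Prime] {A : Mx} (hA : A ^ p = 1) (S : Set V)
    (hS : ∀ x ∈ S, x ᵥ* A ∈ S) : S.ncard ≡ {x | x ∈ S ∧ x ᵥ* A = x}.ncard [MOD p] := by
  classical
  let f : Function.End S := fun x => ⟨x.1 ᵥ* A, hS _ x.2⟩
  have k : ∀ n (x : S), ((f ^ n) x : V) = x.1 ᵥ* A ^ n := fun n => by
    induction n with
    | zero => simp [Function.End.one_def]
    | succ n ih =>
      intro x
      rw [pow_succ A, ← vecMul_vecMul, ← ih, pow_succ']; rfl
  have h1 : f ^ p ^ 1 = 1 := funext fun x => Subtype.ext (by rw [k, pow_one, hA, vecMul_one]; rfl)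
  have h2 := Equiv.Perm.card_fixedPoints_modEq h1
  rw [← Nat.card_eq_fintype_card, ← Nat.card_eq_fintype_card, Nat.card_coe_set_eq,
    Nat.card_coe_set_eq] at h2
  have h3 : (Function.fixedPoints f).ncard = {x | x ∈ S ∧ x ᵥ* A = x}.ncard :=
    Set.ncard_congr (fun (x : S) _ => (x : V)) (fun x hx => ⟨x.2, congrArg Subtype.val hx⟩)
      (fun a b _ _ h => Subtype.ext h) fun b hb => ⟨⟨b, hb.1⟩, Subtype.ext hb.2, rfl⟩
  exact h3 ▸ h2

/-- Induction on products of generators, in a finite group. -/
theorem clo_ind {G : Type*} [Group G] [Finite G] {s : Set G} {p : G → Prop} (h1 : p 1)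
    (hm : ∀ x, ∀ y ∈ s, p x → p (x * y)) {x : G} (hx : x ∈ Subgroup.closure s) : p x := by
  have h2 : x ∈ Submonoid.closure s := by
    rw [← Subgroup.closure_toSubmonoid_of_finite]; exact hx
  clear hx
  induction h2 using Submonoid.closure_induction_right with
  | one => exact h1
  | mul_right x _ y hy ih => exact hm x y hy ih

end H9.R
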