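import Mathlib
import Cfsg.Agent.H9.JR0
import Cfsg.Agent.H3.Extraspecial

/-!
# Coordinates on an extraspecial group of order `2 ^ 13`
-/

set_option autoImplicit false
set_option linter.all false

namespace H9.R

open H29 H9.GF2 Matrix Subgroup

/-- A normal extraspecial subgroup `Q` with coordinates on `Q / ⟨z⟩`. -/
structure Co (Γ : Type*) [Group Γ] where
  z : Γ
  Q : Subgroup Γ
  π : Γ → V
  ρ : Γ →* Mx
  zc : ∀ g, g * z = z * g
  z2 : z * z = 1
  z1 : z ≠ 1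
  zQ : z ∈ Q
  nQ : Q.Normal
  π_mul : ∀ a ∈ Q, ∀ b ∈ Q, π (a * b) = π a + π b
  π_z : π z = 0
  π_ker : ∀ a ∈ Q, π a = 0 → a = 1 ∨ a = z
  π_surj : ∀ x, ∃ a ∈ Q, π a = x
  π_conj : ∀ g, ∀ a ∈ Q, π (g⁻¹ * a * g) = π a ᵥ* ρ g
  nd : ∀ a ∈ Q, (∀ b ∈ Q, a * b = b * a) → π a = 0

def G0 : ℕ := 22837357049855681449456096498085085832196161538
def F0 : ℕ := 22837356885187261906521006186301696349275488257
def K0 : ℕ := 6367638783448802693867854474937862532552477696
def D0 : ℕ := 34256732364485912966359185640958281133308600890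
def R0 : ℕ := 11420769135129883524755500808012154084901520383
/-- The generators of the group `3 · M₂₂ : 2`. -/
def L5 : List ℕ := [G0, F0, K0, D0, R0]

/-- Coordinates in which the group acts as the standard copy of `3 · M₂₂ : 2`. -/
structure Std (Γ : Type*) [Group Γ] extends Co Γ where
  e : ℕ → Γ
  hm : GF2.Mod P12 ρ e L5
  ker : ∀ g, ρ g = 1 → g ∈ Q
  top : Q ⊔ gen e [0, 1, 2, 3, 4] = ⊤
  card : Nat.card Γ = 21799895040

variable {Γ : Type*} [Group Γ]

namespace Co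

variable (c : Co Γ)

theorem π_one : c.π 1 = 0 := by
  have := c.π_mul 1 (one_mem _) 1 (one_mem _)
  rw [mul_one, add_self] at this; exact this

theorem π_inv {a : Γ} (h : a ∈ c.Q) : c.π a⁻¹ = c.π a := by
  have := c.π_mul _ (inv_mem h) _ h
  rw [inv_mul_cancel, π_one] at this; exact add_eq_zero'.1 this.symm

theorem z_inv : c.z⁻¹ = c.z := inv_eq_of_mul_eq_one_left c.z2

theorem conj_mem (g : Γ) {a : Γ} (h : a ∈ c.Q) : g⁻¹ * a * g ∈ c.Q := c.nQ.conj_mem' a h g

theorem eq_of_π {a b : Γ} (ha : a ∈ c.Q) (hb : b ∈ c.Q) (h : c.π a = c.π b) : a = b ∨ a = b * c.z := by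
  rcases c.π_ker _ (mul_mem (inv_mem hb) ha) (by rw [c.π_mul _ (inv_mem hb) _ ha, c.π_inv hb, h, add_self])
    with h1 | h1
  · exact Or.inl (inv_mul_eq_one.1 h1).symm
  · exact Or.inr (by rw [← h1, mul_inv_cancel_left])

theorem ρ_Q {a : Γ} (h : a ∈ c.Q) : c.ρ a = 1 := ext_vecMul fun x => by
  obtain ⟨b, hb, rfl⟩ := c.π_surj x
  rw [← c.π_conj a b hb, c.π_mul _ (mul_mem (inv_mem h) hb) _ h, c.π_mul _ (inv_mem h) _ hb, c.π_inv h,
    vecMul_one, add_right_comm, add_self, zero_add]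

theorem sq {a : Γ} (h : a ∈ c.Q) : a * a = 1 ∨ a * a = c.z :=
  c.π_ker _ (mul_mem h h) (by rw [c.π_mul _ h _ h, add_self])

theorem comm {a b : Γ} (ha : a ∈ c.Q) (hb : b ∈ c.Q) : a * b = b * a ∨ a * b = b * a * c.z :=
  c.eq_of_π (mul_mem ha hb) (mul_mem hb ha) (by rw [c.π_mul _ ha _ hb, c.π_mul _ hb _ ha, add_comm])

theorem card_Q : Nat.card c.Q = 8192 := by
  choose s h1 h2 using c.π_surj
  have k : Function.Bijective fun p : V × Bool => (⟨s p.1 * cond p.2 c.z 1,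
      mul_mem (h1 _) (by cases p.2; exacts [one_mem _, c.zQ])⟩ : c.Q) := by
    constructor
    · rintro ⟨x, a⟩ ⟨y, b⟩ h
      have h3 : s x * cond a c.z 1 = s y * cond b c.z 1 := congrArg Subtype.val h
      have h4 : ∀ (x : V) (a : Bool), c.π (s x * cond a c.z 1) = x := fun x a => by
        cases a
        · simp [h2]
        · simp [c.π_mul _ (h1 x) _ c.zQ, h2, c.π_z]
      obtain rfl : x = y := by rw [← h4 x a, h3, h4]
      have h5 := mul_left_cancel h3
      have := c.z1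
      cases a <;> cases b <;> simp_all
    · rintro ⟨a, ha⟩
      rcases c.eq_of_π ha (h1 (c.π a)) (h2 _).symm with h | h
      · exact ⟨(c.π a, false), Subtype.ext (by simpa using h.symm)⟩
      · exact ⟨(c.π a, true), Subtype.ext h.symm⟩
  rw [← Nat.card_eq_of_bijective _ k, Nat.card_prod, card_V]; simp

theorem xs : H3.XS 2 c.z c.Q where
  ord := orderOf_eq_prime (by rw [_root_.sq, c.z2]) c.z1
  mem := c.zQ
  central := fun x _ => (c.zc x).symm
  comm := fun x hx y hy => by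
    rcases c.comm hx hy with h | h
    · rw [commutatorElement_eq_one_iff_mul_comm.2 h]; exact one_mem _
    · rw [commutatorElement_def, h, c.zc]; simp [mul_assoc]
  pow := fun x hx => by
    rcases c.sq hx with h | h <;> simp [_root_.sq, h]
  center_le := fun x hx h => by
    rcases c.π_ker x hx (c.nd x hx h) with h | h <;> simp [h]

theorem ker_of_cent [Finite Γ] (h : ∀ g, (∀ a ∈ c.Q, a * g = g * a) → g ∈ c.Q) {g : Γ} (hg : c.ρ g = 1) :
    g ∈ c.Q := by
  have hi : c.ρ g⁻¹ = 1 := by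
    have := map_mul c.ρ g⁻¹ g
    rw [hg, mul_one, inv_mul_cancel, map_one] at this; exact this.symm
  obtain ⟨e, h1, h2⟩ := c.xs.exists_mul_mem_centralizer (g := g) (c.zc g).symm fun k hk => by
    have h3 := c.π_conj g⁻¹ k hk
    rw [hi, vecMul_one, inv_inv] at h3
    have h4 : g * k * g⁻¹ ∈ c.Q := c.nQ.conj_mem k hk g
    rcases c.eq_of_π h4 hk h3 with h | h
    · rw [commutatorElement_def, h]; simp
    · rw [commutatorElement_def, h, c.zc]; simp
  exact (mul_mem_cancel_left h1).1 (h _ h2)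

/-- Change of coordinates: the rows of `P` become the standard basis. -/
noncomputable def map (P Pi : Mx) (h : P * Pi = 1) : Co Γ where
  z := c.z
  Q := c.Q
  π a := c.π a ᵥ* Pi
  ρ := { toFun g := P * c.ρ g * Pi
         map_one' := by rw [map_one, mul_one, h]
         map_mul' := fun a b => by
           rw [map_mul]
           calc _ = P * c.ρ a * (Pi * P) * c.ρ b * Pi := by
                 rw [mul_eq_one_comm.1 h, mul_one, mul_assoc P, mul_assoc P, mul_assoc P]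
             _ = _ := by simp only [mul_assoc] }
  zc := c.zc
  z2 := c.z2
  z1 := c.z1
  zQ := c.zQ
  nQ := c.nQ
  π_mul a ha b hb := by rw [c.π_mul a ha b hb, add_vecMul]
  π_z := by rw [c.π_z, zero_vecMul]
  π_ker a ha h1 := c.π_ker a ha (by
    rw [← vecMul_one (c.π a), ← mul_eq_one_comm.1 h, ← vecMul_vecMul, h1, zero_vecMul])
  π_surj x := by
    obtain ⟨a, h1, h2⟩ := c.π_surj (x ᵥ* P)
    exact ⟨a, h1, by rw [h2, vecMul_vecMul, h, vecMul_one]⟩
  π_conj g a ha := by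
    rw [c.π_conj g a ha, vecMul_vecMul, vecMul_vecMul]
    show _ = _ ᵥ* (Pi * (P * c.ρ g * Pi))
    rw [← mul_assoc, ← mul_assoc, mul_eq_one_comm.1 h, one_mul]
  nd a ha h1 := by rw [c.nd a ha h1, zero_vecMul]

theorem map_ρ (P Pi : Mx) (h : P * Pi = 1) (g : Γ) : (c.map P Pi h).ρ g = P * c.ρ g * Pi := rfl
theorem map_π (P Pi : Mx) (h : P * Pi = 1) (g : Γ) : (c.map P Pi h).π g = c.π g ᵥ* Pi := rfl

end Co

theorem exists_π [Finite Γ] {z : Γ} {Q : Subgroup Γ} (h : H3.XS 2 z Q) (hc : Nat.card Q = 2 ^ 13) :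
    ∃ π : Γ → V, (∀ a ∈ Q, ∀ b ∈ Q, π (a * b) = π a + π b) ∧ (∀ a ∈ Q, π a = 0 ↔ a ∈ zpowers z) ∧
      ∀ x, ∃ a ∈ Q, π a = x := by
  classical
  let Z := (zpowers z).subgroupOf Q
  haveI hN : Z.Normal := ⟨fun n hn g => by
    rw [mem_subgroupOf] at hn ⊢
    simp only [coe_mul, coe_inv]
    rw [← (h.commute_of_mem hn g.2).eq, mul_inv_cancel_right]; exact hn⟩
  letI : CommGroup (Q ⧸ Z) := { (inferInstance : Group (Q ⧸ Z)) with
    mul_comm := fun a b => by
      obtain ⟨a, rfl⟩ := QuotientGroup.mk_surjective a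
      obtain ⟨b, rfl⟩ := QuotientGroup.mk_surjective b
      rw [← QuotientGroup.mk_mul, ← QuotientGroup.mk_mul, QuotientGroup.eq, mem_subgroupOf]
      convert h.comm _ (inv_mem b.2) _ (inv_mem a.2) using 1
      simp [commutatorElement_def, mul_assoc] }
  letI : Module (ZMod 2) (Additive (Q ⧸ Z)) := AddCommGroup.zmodModule fun a => by
    obtain ⟨a, rfl⟩ := Additive.ofMul.surjective a
    obtain ⟨a, rfl⟩ := QuotientGroup.mk_surjective a
    rw [← ofMul_pow, ← QuotientGroup.mk_pow, (QuotientGroup.eq_one_iff _).2 (mem_subgroupOf.2 (h.pow a a.2))]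
    rfl
  have h1 : Nat.card (Additive (Q ⧸ Z)) = 2 ^ 12 := by
    have h2 := Z.card_eq_card_quotient_mul_card_subgroup
    rw [hc, Nat.card_congr (subgroupOfEquivOfLe (zpowers_le.2 h.mem)).toEquiv, Nat.card_zpowers, h.ord] at h2
    change Nat.card (Q ⧸ Z) = _
    omega
  have h3 : Module.finrank (ZMod 2) (Additive (Q ⧸ Z)) = Module.finrank (ZMod 2) V := by
    rw [Module.natCard_eq_pow_finrank (K := ZMod 2), Nat.card_zmod] at h1
    rw [Nat.pow_right_injective le_rfl h1]; simp [V, show P12.n = 12 from rfl]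
  let f := LinearEquiv.ofFinrankEq _ _ h3
  refine ⟨fun a => if ha : a ∈ Q then f (Additive.ofMul ((⟨a, ha⟩ : Q) : Q ⧸ Z)) else 0,
    fun a ha b hb => ?_, fun a ha => ?_, fun x => ?_⟩
  · simp only [dif_pos ha, dif_pos hb, dif_pos (mul_mem ha hb)]
    rw [← map_add]; rfl
  · simp only [dif_pos ha]
    rw [f.map_eq_zero_iff, ofMul_eq_zero, QuotientGroup.eq_one_iff, mem_subgroupOf]
  · obtain ⟨a, ha⟩ := QuotientGroup.mk_surjective (Additive.toMul (f.symm x))
    exact ⟨a, a.2, by simp only [dif_pos a.2]; rw [Subtype.coe_eta, ha]; simp⟩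

theorem mem_zpowers_two {z a : Γ} (h : z * z = 1) : a ∈ zpowers z ↔ a = 1 ∨ a = z := by
  refine ⟨?_, by rintro (rfl | rfl) <;> simp⟩
  rintro ⟨k, rfl⟩
  have h2 : z ^ (2 : ℤ) = 1 := by rw [zpow_two, h]
  show z ^ k = 1 ∨ z ^ k = z
  rw [zpow_eq_zpow_emod k h2]
  rcases Int.emod_two_eq_zero_or_one k with h | h <;> simp [h]

theorem exists_co [Finite Γ] {z : Γ} {Q : Subgroup Γ} (h : H3.XS 2 z Q) (hc : Nat.card Q = 2 ^ 13)
    (hN : Q.Normal) (hz : ∀ g, g * z = z * g) : ∃ c : Co Γ, c.z = z ∧ c.Q = Q := by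
  obtain ⟨π, h1, h2, h3⟩ := exists_π h hc
  choose s s1 s2 using h3
  have z2 : z * z = 1 := by rw [← sq, h.z_pow]
  have hz0 : π z = 0 := (h2 z h.mem).2 (mem_zpowers z)
  have h0 : π 1 = 0 := (h2 1 (one_mem _)).2 (one_mem _)
  have k1 : ∀ g, ∀ a ∈ Q, ∀ b ∈ Q, π a = π b → π (g⁻¹ * a * g) = π (g⁻¹ * b * g) := fun g a ha b hb h4 => by
    have h5 := (h2 _ (mul_mem ha hb)).1 (by rw [h1 a ha b hb, h4, add_self])
    rw [← add_eq_zero', ← h1 _ (hN.conj_mem' a ha g) _ (hN.conj_mem' b hb g),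
      show g⁻¹ * a * g * (g⁻¹ * b * g) = g⁻¹ * (a * b) * g by group]
    rcases (mem_zpowers_two z2).1 h5 with h6 | h6 <;> rw [h6]
    · simpa using h0
    · rw [mul_assoc, ← hz, inv_mul_cancel_left, hz0]
  let f : Γ → V →+ V := fun g => AddMonoidHom.mk' (fun x => π (g⁻¹ * s x * g)) fun x y => by
    rw [← h1 _ (hN.conj_mem' _ (s1 x) g) _ (hN.conj_mem' _ (s1 y) g),
      show g⁻¹ * s x * g * (g⁻¹ * s y * g) = g⁻¹ * (s x * s y) * g by group]
    exact k1 g _ (s1 _) _ (mul_mem (s1 _) (s1 _)) (by rw [h1 _ (s1 _) _ (s1 _), s2, s2, s2])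
  let r : Γ → Mx := fun g => LinearMap.toMatrixRight' ((f g).toZModLinearMap 2)
  have k2 : ∀ g x, x ᵥ* r g = π (g⁻¹ * s x * g) := fun g x =>
    (Matrix.toLinearMapRight'_apply _ _).symm.trans
      (congrFun (congrArg _ (LinearMap.toMatrixRight'.symm_apply_apply ((f g).toZModLinearMap 2))) x)
  have k3 : ∀ g, ∀ a ∈ Q, π (g⁻¹ * a * g) = π a ᵥ* r g := fun g a ha => by
    rw [k2]; exact k1 g _ ha _ (s1 _) (s2 _).symm
  exact ⟨⟨z, Q, π, ⟨⟨r, ext_vecMul fun x => by simp [k2, s2]⟩, fun a b => ext_vecMul fun x => by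
      show x ᵥ* r (a * b) = x ᵥ* (r a * r b)
      rw [← vecMul_vecMul, k2 a, ← k3 b _ (hN.conj_mem' _ (s1 x) a), k2]; congr 1; group⟩,
    hz, z2, h.z_ne_one, h.mem, hN, h1, hz0, fun a ha h4 => (mem_zpowers_two z2).1 ((h2 a ha).1 h4),
    fun x => ⟨s x, s1 x, s2 x⟩, k3, fun a ha h4 => (h2 a ha).2 (h.center_le a ha h4)⟩, rfl, rfl⟩

end H9.R
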