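import Mathlib
import Cfsg.Agent.H9.JR4
import Cfsg.Agent.H17.ZStar

/-!
# The involution `z` is not weakly closed in `2 ^ 11`
-/

set_option autoImplicit false
set_option maxRecDepth 100000
set_option linter.all false

namespace H9.R

open H29 H9.GF2 Matrix Subgroup

/-- The group `Γ` is the centraliser of `z` in `G`. -/
structure Amb (G : Type*) [Group G] (Γ : Type*) [Group Γ] extends Std Γ where
  j : Γ →* G
  inj : Function.Injective j
  cen : ∀ g : G, g * j z = j z * g → ∃ h, j h = g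

variable {G Γ : Type*} [Group G] [Group Γ]

theorem isConj_conj (g a : G) : IsConj a (g⁻¹ * a * g) := isConj_iff.2 ⟨g⁻¹, by simp⟩

theorem card_le_two_mul [Finite Γ] {P A : Subgroup Γ} (h : ∀ u ∈ P, ∀ v ∈ P, u ∉ A → v ∉ A → u * v ∈ A) :
    Nat.card P ≤ 2 * Nat.card ↥(P ⊓ A) := by
  classical
  by_cases h1 : P ≤ A
  · rw [inf_eq_left.2 h1]; omega
  obtain ⟨v, hv, h2⟩ := SetLike.not_le_iff_exists.1 h1
  have := Nat.card_le_card_of_injective (fun u : P => if hu : u.1 ∈ A then ((false, ⟨u, u.2, hu⟩) : Bool × ↥(P ⊓ A))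
    else (true, ⟨u * v, mul_mem u.2 hv, h u u.2 v hv hu h2⟩)) fun a b h3 => by
      dsimp only at h3
      split_ifs at h3
      · exact Subtype.ext (congrArg (fun x : Bool × ↥(P ⊓ A) => x.2.1) h3)
      · exact absurd (congrArg Prod.fst h3) (by simp)
      · exact absurd (congrArg Prod.fst h3) (by simp)
      · exact Subtype.ext (mul_right_cancel (congrArg (fun x : Bool × ↥(P ⊓ A) => x.2.1) h3))
  rwa [Nat.card_prod, Nat.card_eq_fintype_card (α := Bool)] at this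

theorem Std.conj_cls (c : Std Γ) {x y : V} (h : cls (cd x) = cls (cd y)) : ∃ g, x ᵥ* c.ρ g = y := by
  have k : ∀ x, ∃ g, vec (nth 0 [0, 7, 11, 1] (cls (cd x))) ᵥ* c.ρ g = x := fun x =>
    cls_ind (p := fun y => ∃ g, vec (nth 0 [0, 7, 11, 1] (cls (cd x))) ᵥ* c.ρ g = y) (fun A hA y ⟨g, hy⟩ => by
      obtain ⟨i, hi⟩ : ∃ i, nth one L5 i = A := by
        simp only [List.mem_cons, List.not_mem_nil, or_false] at hA
        rcases hA with rfl | rfl | rfl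
        exacts [⟨0, rfl⟩, ⟨1, rfl⟩, ⟨2, rfl⟩]
      exact ⟨g * c.e i, by rw [map_mul, ← vecMul_vecMul, hy, c.ρ_e hi]⟩) x ⟨1, by simp⟩
  obtain ⟨g, hg⟩ := k x
  obtain ⟨g', hg'⟩ := k y
  exact ⟨g⁻¹ * g', by rw [← hg, ← hg', h, vecMul_vecMul, ← map_mul, mul_inv_cancel_left]⟩

/-- The moves on the involutions in the coset of `E1`. -/
noncomputable def actE (g y : ℕ) : ℕ := Bool.rec (Nat.xor y (Nat.xor (va g E1) g)) (va y D0) (Nat.beq g 4096)

noncomputable def chkE (M n y : ℕ) : Bool :=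
  and2 (and2 (and2 (Nat.ble n 4095) (Nat.ble y 4095)) (and2 (Nat.beq (va y E1) y) (Bb n y)))
    (and2 (and2 (treeAll (fun x => imp (Nat.beq (va x M) 0) (no (qb x))) 12 0)
      (Nat.beq (treeCnt (fun x => Nat.beq (va x M) 0) 12) 64))
      (seqN (orbSet actE (fun y => y) [2, 4, 32, 256, 4096] 64 n) fun S =>
        treeAll (fun x => imp (Nat.beq (va x M) 0) (and2 (Nat.beq (va x E1) x)
          (or2 (Nat.beq (va x MW) 0) (S.testBit x)))) 12 0))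

noncomputable def chkR (R S : ℕ) : Bool :=
  and2 (Nat.beq (treeCnt (fun x => Nat.beq (va x (Nat.xor R one)) 0) 12) 64)
    (treeAll (fun x => imp (Nat.beq (va x R) x) (Nat.beq (Nat.xor (va (va x S) R) (va x S)) x)) 12 0)

namespace Amb

variable (c : Amb G Γ)

/-- The elements of `Γ` which are conjugate to `z` in `G`. -/
def Z (a : Γ) : Prop := IsConj (c.j c.z) (c.j a)

theorem Z_z : c.Z c.z := IsConj.refl _

variable {c}

theorem Z.of_isConj {a b : Γ} (h : c.Z a) (h1 : IsConj a b) : c.Z b := h.trans (c.j.map_isConj h1)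

theorem Z.conj {a : Γ} (h : c.Z a) (g : Γ) : c.Z (g⁻¹ * a * g) := h.of_isConj (isConj_conj g a)

theorem Z.sq {a : Γ} (h : c.Z a) : a * a = 1 := by
  obtain ⟨g, hg⟩ := isConj_iff.1 h
  apply c.inj
  rw [map_mul, ← hg, conj_mul, ← map_mul, c.z2]; simp

theorem Z.ne_one {a : Γ} (h : c.Z a) : a ≠ 1 := by
  rintro rfl
  rw [Z, map_one, isConj_one_left] at h
  exact c.z1 (c.inj (h.trans (map_one _).symm))

section
variable [Finite Γ] (H : ∀ v ∈ c.Vs, c.Z v → v = c.z)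
include H

theorem wQ {u : Γ} (hu : u ∈ c.Q) (h : c.Z u) : u = c.z := by
  have h1 := c.sq_q hu
  rw [h.sq, c.q_eq] at h1
  have h2 : cls (cd (c.π u)) ≠ 3 := fun h2 => by
    rw [qb, h2] at h1; exact absurd (c.zp_eq_one h1.symm) (by decide)
  obtain ⟨w, h3, h4⟩ : ∃ w < 4096, va w MW = 0 ∧ cls w = cls (cd (c.π u)) :=
    (by decide +kernel : ∀ i < 4, i ≠ 3 → ∃ w < 4096, va w MW = 0 ∧ cls w = i) _ (cls_lt _) h2
  obtain ⟨g, hg⟩ := c.conj_cls (x := c.π u) (y := vec w) (by rw [cd_vec h3]; exact h4.2.symm)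
  have h5 := H _ (c.W_le ⟨c.conj_mem g hu, by rw [c.π_conj _ _ hu, hg, mem_kr, cd_vec h3, h4.1]⟩) (h.conj g)
  rw [show u = g * (g⁻¹ * u * g) * g⁻¹ by group, h5, c.zc, mul_inv_cancel_right]

theorem exists_J {a : Γ} (ha : c.Z a) (h1 : a ≠ c.z) : ∃ J : Subgroup Γ,
    (∀ A : Subgroup Γ, (∀ i ∈ A, i * i = 1) → (∀ i ∈ A, i * a = a * i) → Nat.card A ≤ Nat.card ↥(A ⊓ J) * 63) ∧
    (∀ i ∈ J, c.Z (i * a) → i = 1) ∧ c.z ∉ J ∧ ∀ y, y * a = a * y → ∀ i ∈ J, y⁻¹ * i * y ∈ J := by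
  obtain ⟨g, hg⟩ := isConj_iff.1 ha.symm
  let κ : Γ →* G := (MulAut.conj g).toMonoidHom.comp c.j
  have k0 : ∀ x, κ x = g * c.j x * g⁻¹ := fun _ => rfl
  have k1 : Function.Injective κ := (MulAut.conj g).injective.comp c.inj
  have k2 : ∀ y, y * a = a * y → ∃ y', c.j y' = κ y := fun y hy =>
    c.cen _ (by rw [← hg, ← k0, ← map_mul, hy, map_mul])
  have k3 : ∀ x u, c.Z x → c.j u = κ x → c.Z u := fun x u hx hu =>
    hx.trans (isConj_iff.2 ⟨g, by rw [hu, k0]⟩)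
  refine ⟨(c.Q.map c.j).comap κ, fun A hA h2 => ?_, ?_, ?_, ?_⟩
  · have h3 : A.map κ ≤ c.j.range := by rintro _ ⟨i, hi, rfl⟩; exact k2 i (h2 i hi)
    have h4 := c.card_le (A := (A.map κ).comap c.j) fun x ⟨i, hi, h5⟩ => c.inj (by
      rw [map_mul, ← h5, ← map_mul, hA i hi, map_one, map_one])
    rw [← card_map_of_injective c.inj, map_comap_eq_self h3, card_map_of_injective k1,
      ← card_map_of_injective (K := _ ⊓ _) c.inj, map_inf _ _ _ c.inj, map_comap_eq_self h3] at h4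
    rwa [← card_map_of_injective (K := A ⊓ _) k1, map_inf _ _ _ k1, map_comap_eq, ← inf_assoc,
      inf_eq_left.2 (map_le_range κ A)]
  · rintro i ⟨u, hu, h2⟩ h3
    have h4 := wQ H (mul_mem hu c.zQ) (k3 _ _ h3 (by rw [map_mul, map_mul, h2, ← hg, k0 a]))
    rw [mul_eq_right.1 h4, map_one] at h2
    exact k1 (h2.symm.trans (map_one _).symm)
  · rintro ⟨u, hu, h2⟩
    rw [wQ H hu (k3 _ _ c.Z_z h2), ← hg, ← k0] at h2
    exact h1 (k1 h2)
  · rintro y hy i ⟨u, hu, h2⟩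
    obtain ⟨y', h3⟩ := k2 y hy
    exact ⟨_, c.conj_mem y' hu, by simp only [map_mul, map_inv, h2, h3]⟩

theorem caseE_aux {e u : Γ} (e1 : c.ρ e = mat E1) (e2 : e * c.d = c.d * e) (hZ : c.Z (e * u))
    (h0 : e * u ≠ c.z) {M n y : ℕ} (h : chkE M n y = true) (hu : u ∈ c.pre M) (h1 : c.π u ∉ kr MW) : False := by
  simp only [chkE, and2_true, ble_true, H29.beq_true, seqN_eq] at h
  obtain ⟨⟨⟨h2, h3⟩, h4, h5⟩, ⟨h6, h7⟩, h8⟩ := h
  have h9 := fun x => all12 h8 x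
  simp only [imp_true, and2_true, or2_true, H29.beq_true, ← mem_kr, ← fix_iff] at h9
  have sq := c.sq_pre h6
  have k1 : ∀ v ∈ c.pre M, c.π v ∉ kr MW → IsConj (e * c.s (vec n)) (e * v) := fun v hv hv1 => by
    obtain ⟨x, k2, k3⟩ := orbSet_sound _ _ _ _ _
      (fun x => ∀ v ∈ c.Q, c.π v = vec x → IsConj (e * c.s (vec n)) (e * v)) (fun v hv k2 => by
        obtain ⟨t, rfl⟩ := c.eq_zp hv (c.s_mem (vec n)) (by rw [k2, Co.π_s])
        rcases z2_cases t with rfl | rfl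
        · rw [Co.zp_zero, mul_one]
        · convert isConj_conj (c.s (vec y)) _ using 1
          rw [← mul_assoc _ e, (show Commute e (c.s (vec y)) from c.fp.cent e2 (c.s_mem _) (by
            rw [Co.π_s, e1, ← vec_va, h4])).inv_right.symm.eq, mul_assoc, mul_assoc,
            c.comm_B (c.s_mem _) (c.s_mem (vec y)), Co.π_s, Co.π_s, c.B_eq, cd_vec (by omega), cd_vec (by omega), h5]
          simp [mul_assoc, bz])
      (fun g _ x hx v hv k2 => by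
        unfold actE at k2
        cases hg : Nat.beq g 4096 <;> rw [hg] at k2
        · have k4 := c.conj_mem e (c.s_mem (vec g))
          refine (hx (e⁻¹ * c.s (vec g) * e * v * (c.s (vec g))⁻¹) (mul_mem (mul_mem k4 hv) (inv_mem (c.s_mem _)))
            ?_).trans (isConj_iff.2 ⟨(c.s (vec g))⁻¹, by group⟩)
          rw [c.π_mul _ (mul_mem k4 hv) _ (inv_mem (c.s_mem _)), c.π_mul _ k4 _ hv, c.π_inv (c.s_mem _),
            c.π_conj _ _ (c.s_mem _), k2, Co.π_s, e1]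
          simp only [vec_xor, vec_va]
          rw [add_left_comm, add_self', add_assoc, add_self, add_zero]
        · refine (hx (c.d * v * c.d⁻¹) (c.nQ.conj_mem v hv _) ?_).trans (isConj_iff.2 ⟨c.d⁻¹, ?_⟩)
          · rw [c.π_conj' _ hv, k2, vec_va, ← c.ρ_d, vecMul_vecMul, Co.ρ_mul_inv, vecMul_one]
          · rw [← mul_assoc e, ← mul_assoc e, e2]; group) _ ((h9 _ hv.2).2.resolve_left hv1)
    exact k2 v hv.1 (by rw [k3, vec_cd])
  obtain ⟨J, j1, j2, -, -⟩ := exists_J H hZ h0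
  have k2 : ∀ i ∈ c.pre M, i * (e * u) = e * (i * u) := fun i hi => by
    rw [← mul_assoc, ← c.fp.cent e2 hi.1 (e1 ▸ (h9 _ hi.2).1), mul_assoc]
  have k3 := j1 (c.pre M) sq fun i hi => by rw [k2 i hi, comm_of_sq sq hi hu, mul_assoc]
  rw [c.card_pre, ncard_kr, h7] at k3
  have k4 : ∀ i ∈ c.pre M ⊓ J, i ≠ 1 → i * u ∈ c.W := fun i hi h10 => ⟨mul_mem hi.1.1 hu.1, by
    by_contra h11
    exact h10 (j2 i hi.2 (k2 i hi.1 ▸ hZ.of_isConj ((k1 u hu h1).symm.trans (k1 _ (mul_mem hi.1 hu) h11))))⟩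
  obtain ⟨x, y, w, hx, hy, hw, n1, n2, n3⟩ := (Set.two_lt_ncard_iff (s := ((c.pre M ⊓ J : Subgroup Γ) : Set Γ))).1
    (by rw [← Nat.card_coe_set_eq]; change 2 < Nat.card ↥(c.pre M ⊓ J); omega)
  have k5 : ∀ {x y : Γ}, x ∈ c.pre M ⊓ J → y ∈ c.pre M ⊓ J → x ≠ y → x * y * u ∈ c.W := fun {x y} hx hy h =>
    k4 _ (mul_mem hx hy) fun h10 => h (by rw [← mul_one x, ← sq y hy.1, ← mul_assoc, h10, one_mul])
  have k6 := mul_mem (mul_mem (k5 hx hy n1) (k5 hx hw n2)) (k5 hy hw n3)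
  have k7 := k6.2
  simp only [c.π_mul _ (mul_mem (k5 hx hy n1) (k5 hx hw n2)).1 _ (k5 hy hw n3).1,
    c.π_mul _ (k5 hx hy n1).1 _ (k5 hx hw n2).1, c.π_mul _ (mul_mem hx.1.1 hy.1.1) _ hu.1,
    c.π_mul _ (mul_mem hx.1.1 hw.1.1) _ hu.1, c.π_mul _ (mul_mem hy.1.1 hw.1.1) _ hu.1,
    c.π_mul _ hx.1.1 _ hy.1.1, c.π_mul _ hx.1.1 _ hw.1.1, c.π_mul _ hy.1.1 _ hw.1.1] at k7
  refine h1 (by
    convert k7 using 1
    rw [show ∀ a b d f : V, a + b + f + (a + d + f) + (b + d + f) = (a + a) + (b + b) + (d + d) + (f + f) + f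
      from fun _ _ _ _ => by abel]
    simp only [add_self, zero_add])

theorem caseE {a : Γ} (hZ : c.Z a) (h : c.ρ a = mat E1) : False := by
  have h0 : a ≠ c.z := fun h0 => by
    rw [h0, c.ρ_Q c.zQ, ← mat_one, ← eqM_iff] at h; exact absurd h (by decide +kernel)
  obtain ⟨e, e1, e2⟩ := c.exists_E (A := E1) (by decide +kernel)
  obtain ⟨u, rfl⟩ : ∃ u, a = e * u := ⟨e⁻¹ * a, by group⟩
  have hu : u ∈ c.Q := by simpa using c.mem_of_ρ (e1.trans h.symm)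
  have e3 := c.mem_Vs_of_cent (by decide +kernel) e1 e2
  have e4 := c.sq_Vs _ e3
  have h1 : e⁻¹ * u * e * u = 1 := by rw [inv_eq_of_mul_eq_one_left e4, ← hZ.sq]; group
  have h2 : c.π u ᵥ* c.ρ e = c.π u := by
    have := congrArg c.π h1
    rwa [c.π_mul _ (c.conj_mem e hu) _ hu, c.π_one, c.π_conj _ _ hu, add_eq_zero'] at this
  rw [conj_of_comm (c.fp.cent e2 hu h2), c.sq_q hu, c.q_eq] at h1
  have h3 := all12 (f := fun x => imp (Nat.beq (va x E1) x) (or2 (qb x) (or2 (Nat.beq (va x MW) 0)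
    (or2 (Nat.beq (va x MW1) 0) (Nat.beq (va x MW2) 0))))) (by decide +kernel) (c.π u)
  simp only [imp_true, or2_true, H29.beq_true, ← mem_kr, ← fix_iff] at h3
  have h4 : c.π u ∉ kr MW := fun h4 => h0 (H _ (mul_mem e3 (c.W_le ⟨hu, h4⟩)) hZ)
  rcases h3 (e1 ▸ h2) with h3 | h3 | h3 | h3
  · rw [h3] at h1; exact absurd (c.zp_eq_one h1) (by decide)
  · exact h4 h3
  · exact caseE_aux H e1 e2 hZ h0 (n := 15) (y := 1) (by decide +kernel) ⟨hu, h3⟩ h4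
  · exact caseE_aux H e1 e2 hZ h0 (n := 23) (y := 1) (by decide +kernel) ⟨hu, h3⟩ h4

set_option maxHeartbeats 800000 in
theorem caseR {a : Γ} (hZ : c.Z a) {R S : ℕ} (h : c.ρ a = mat R) (hR : chkR R S = true) (hR1 : eqM R one = false)
    (hc : (∃ x, x ᵥ* mat R = x ∧ c.q x = 1) ∨ ∃ y Y, c.ρ y = mat Y ∧ eqM (mu R Y) (mu Y R) = true ∧
      ∀ x : V, x ≠ 0 → x + x ᵥ* (mat Y * mat Y) ≠ 0 ∧ x + x ᵥ* (mat Y * mat Y) ᵥ* (mat Y * mat Y) ≠ 0 ∧
        x + (x ᵥ* (mat Y * mat Y) + x ᵥ* (mat Y * mat Y) ᵥ* (mat Y * mat Y)) ≠ 0) : False := by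
  have h0 : a ≠ c.z := fun h0 => by
    rw [h0, c.ρ_Q c.zQ, ← mat_one, eq_comm, ← eqM_iff, hR1] at h; exact absurd h (by decide)
  simp only [chkR, and2_true, H29.beq_true] at hR
  have ai : a⁻¹ = a := inv_eq_of_mul_eq_one_left hZ.sq
  obtain ⟨f, hf⟩ : ∃ f : Γ → Γ, ∀ y, f y = a⁻¹ * y⁻¹ * a * y := ⟨_, fun _ => rfl⟩
  have f1 : ∀ y ∈ c.Q, f y ∈ c.Q := fun y hy => hf y ▸ mul_mem (c.conj_mem a (inv_mem hy)) hy
  have f2 : ∀ y ∈ c.Q, c.π (f y) = c.π y ᵥ* mat R + c.π y := fun y hy => by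
    rw [hf, c.π_mul _ (c.conj_mem a (inv_mem hy)) _ hy, c.π_conj _ _ (inv_mem hy), c.π_inv hy, h]
  have f3 : ∀ y, a * f y = y⁻¹ * a * y := fun y => by rw [hf]; group
  have rep : ∀ u ∈ c.Q, c.π u ᵥ* mat R = c.π u → ∃ y ∈ c.Q, ∃ t, u = f y * c.zp t := fun u hu h1 => by
    have h2 := all12 hR.2 (c.π u)
    simp only [imp_true, H29.beq_true, ← fix_iff] at h2
    refine ⟨c.s (c.π u ᵥ* mat S), c.s_mem _, c.eq_zp hu (f1 _ (c.s_mem _)) ?_⟩
    rw [f2 _ (c.s_mem _), Co.π_s]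
    simpa using (congrArg vec (h2 h1)).symm
  have fx : ∀ u ∈ c.Q ⊓ centralizer {a}, c.π u ᵥ* mat R = c.π u := fun u hu => by
    rw [← h, ← c.π_conj _ _ hu.1, conj_of_comm (mem_centralizer_singleton_iff.1 hu.2).symm]
  have sq : ∀ u ∈ c.Q ⊓ centralizer {a}, u * u = 1 := fun u hu => by
    obtain ⟨y, -, t, h1⟩ := rep u hu.1 (fx u hu)
    have h2 : a * u * (a * u) = 1 := by
      rw [h1, ← mul_assoc a, f3, Co.mul_zp, (hZ.conj y).sq, CharTwo.add_self_eq_zero, Co.zp_zero, mul_one]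
    rwa [mul_assoc, ← mul_assoc u, mem_centralizer_singleton_iff.1 hu.2, mul_assoc, ← mul_assoc, hZ.sq,
      one_mul] at h2
  have pm : ∀ u, u ∈ c.pre (Nat.xor R one) ↔ u ∈ c.Q ∧ c.π u ᵥ* mat R = c.π u := fun u => by
    rw [c.mem_pre, kr, Set.mem_setOf_eq, mat_xor, vecMul_add, mat_one, vecMul_one, add_eq_zero']
  have f4 : ∀ u ∈ c.pre (Nat.xor R one), u ∉ centralizer {a} → u⁻¹ * a * u = a * c.z := fun u hu h1 => by
    rw [← f3]
    rcases c.π_ker _ (f1 u hu.1) (by rw [f2 u hu.1, ((pm u).1 hu).2, add_self]) with h2 | h2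
    · refine absurd (mem_centralizer_singleton_iff.2 (comm_of_conj ?_)) h1
      rw [← f3, h2, mul_one]
    · rw [h2]
  have k1 := card_le_two_mul (P := c.pre (Nat.xor R one)) (A := centralizer {a}) fun u hu v hv h1 h2 =>
    mem_centralizer_singleton_iff.2 (comm_of_conj (by
      rw [show (u * v)⁻¹ * a * (u * v) = v⁻¹ * (u⁻¹ * a * u) * v by group, f4 u hu h1, ← mul_assoc, mul_assoc _ c.z,
        ← c.zc, ← mul_assoc, f4 v hv h2, mul_assoc, c.z2, mul_one]))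
  obtain ⟨J, j1, j2, j3, j4⟩ := exists_J H hZ h0
  have k2 := j1 _ sq fun i hi => mem_centralizer_singleton_iff.1 hi.2
  have k3 := card_le_of_le (inf_le_inf_right (centralizer {a}) (fun u hu => hu.1 : c.pre (Nat.xor R one) ≤ c.Q))
  rw [c.card_pre, ncard_kr, hR.1] at k1
  obtain ⟨⟨i, hi⟩, i1⟩ := (ne_bot_iff_exists_ne_one (H := c.Q ⊓ centralizer {a} ⊓ J)).1 fun h1 => by
    rw [h1, card_bot] at k2; omega
  replace i1 : i ≠ 1 := fun h1 => i1 (Subtype.ext h1)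
  have k4 : ∀ i ∈ c.Q ⊓ centralizer {a} ⊓ J, ∀ y, i = f y → i = 1 := fun i hi y h1 =>
    j2 i hi.2 (by rw [mem_centralizer_singleton_iff.1 hi.1.2, h1, f3]; exact hZ.conj y)
  have k5 : ∀ i ∈ c.Q ⊓ centralizer {a} ⊓ J, i ≠ 1 → ∀ y t, i = f y * c.zp t → t = 1 := fun i hi h1 y t h2 =>
    (z2_cases t).resolve_left fun h3 => h1 (k4 i hi y (by simpa [h3] using h2))
  have k6 : ∀ i ∈ c.Q ⊓ centralizer {a} ⊓ J, i ≠ 1 → ∃ y ∈ c.Q, i = f y * c.zp 1 := fun i hi h1 => by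
    obtain ⟨y, hy, t, h2⟩ := rep i hi.1.1 (fx i hi.1)
    exact ⟨y, hy, k5 i hi h1 y t h2 ▸ h2⟩
  rcases hc with ⟨x, h1, h2⟩ | ⟨y0, Y, h1, h2, h3⟩
  · have h3 : c.s x ∉ centralizer {a} := fun h3 => by
      have := c.sq_q (c.s_mem x)
      rw [sq _ ⟨c.s_mem x, h3⟩, Co.π_s, h2] at this
      exact absurd (c.zp_eq_one this.symm) (by decide)
    have h4 := f4 _ ((pm _).2 ⟨c.s_mem x, by rwa [Co.π_s]⟩) h3
    obtain ⟨y, -, h5⟩ := k6 i hi i1
    refine i1 (j2 i hi.2 ?_)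
    rw [mem_centralizer_singleton_iff.1 hi.1.2, h5, ← mul_assoc, f3, Co.zp_one, mul_assoc, c.zc, ← mul_assoc,
      mul_assoc _ a, ← h4]
    exact (hZ.conj _).conj _
  have M : ∀ i ∈ c.Q ⊓ centralizer {a}, ∀ k ∈ c.Q ⊓ centralizer {a}, ∀ y ∈ c.Q, ∀ y' ∈ c.Q, i = f y * c.zp 1 →
      k = f y' * c.zp 1 → i * k = f (y * y') * c.zp (c.B (c.π (f y)) (c.π y')) := fun i hi k hk y hy y' hy' h4 h5 => by
    rw [comm_of_sq sq hi hk, h4, h5, Co.mul_zp, CharTwo.add_self_eq_zero, Co.zp_zero, mul_one,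
      show f (y * y') = f y' * (y'⁻¹ * (f y * y')) by simp only [hf]; group, c.comm_B (f1 y hy) hy']
    simp [mul_assoc, Co.zp_sq]
  have h4 : c.ρ (y0⁻¹ * a * y0) = mat R := c.ρ_conj h h1 h2
  have h5 := c.mem_of_ρ (h.trans h4.symm)
  obtain ⟨y, hy, t, h6⟩ := rep _ h5 (by
    rw [← h, ← c.π_conj _ _ h5, ← c.π_inv h5, ai]
    congr 1
    rw [_root_.mul_inv_rev, inv_eq_of_mul_eq_one_left (hZ.conj y0).sq, ai, ← mul_assoc a a, hZ.sq, one_mul])
  have h7 : (y0 * y⁻¹)⁻¹ * a * (y0 * y⁻¹) = a * c.zp t := by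
    have := congrArg (a * ·) h6
    simp only [mul_inv_cancel_left, ← mul_assoc a (f y), f3] at this
    rw [show (y0 * y⁻¹)⁻¹ * a * (y0 * y⁻¹) = y * (y0⁻¹ * a * y0) * y⁻¹ by group, this, ← mul_assoc, Co.zp_mul]
    group
  obtain ⟨g, hg⟩ : ∃ g, g = y0 * y⁻¹ * (y0 * y⁻¹) := ⟨_, rfl⟩
  have h8 : g * a = a * g := comm_of_conj (by
    rw [show g⁻¹ * a * g = (y0 * y⁻¹)⁻¹ * ((y0 * y⁻¹)⁻¹ * a * (y0 * y⁻¹)) * (y0 * y⁻¹) by rw [hg]; group, h7,
      ← mul_assoc _ a, Co.zp_mul, h7, mul_assoc, Co.zp_sq, mul_one])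
  have h9 : c.ρ g = mat Y * mat Y := by simp [hg, c.ρ_Q (inv_mem hy), h1]
  have k7 : ∀ i ∈ c.Q ⊓ centralizer {a} ⊓ J, g⁻¹ * i * g ∈ c.Q ⊓ centralizer {a} ⊓ J := fun i hi =>
    mem_inf.2 ⟨mem_inf.2 ⟨c.conj_mem g hi.1.1, mul_mem (mul_mem (inv_mem (mem_centralizer_singleton_iff.2 h8)) hi.1.2)
      (mem_centralizer_singleton_iff.2 h8)⟩, j4 g h8 i hi.2⟩
  have k8 : ∀ {x : Γ}, c.π x ≠ 0 → x ≠ 1 := fun hx h => hx (h ▸ c.π_one)
  have x0 : c.π i ≠ 0 := fun h => (c.π_ker i hi.1.1 h).elim i1 fun h => j3 (h ▸ hi.2)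
  have hk := k7 i hi
  have hl := k7 _ hk
  have pk := c.π_conj g i hi.1.1
  have pl := c.π_conj g _ hk.1.1
  rw [pk, h9] at pl
  rw [h9] at pk
  generalize g⁻¹ * (g⁻¹ * i * g) * g = l at *
  generalize g⁻¹ * i * g = k at *
  obtain ⟨n1, n2, n3⟩ := h3 _ x0
  have k9 : ∀ x : V, x ≠ 0 → x ᵥ* (mat Y * mat Y) ≠ 0 := fun x hx h => hx (by
    rw [← vecMul_one x, ← c.ρ_mul_inv g, h9, ← vecMul_vecMul, h, zero_vecMul])
  have x1 : c.π k ≠ 0 := pk ▸ k9 _ x0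
  have x2 : c.π l ≠ 0 := pl ▸ k9 _ (k9 _ x0)
  have n4 := (h3 _ x1).1
  rw [pk] at n4
  rw [← pl, ← pk] at n3 n4
  rw [← pl] at n2
  rw [← pk] at n1
  clear pk pl h3 k9 k7 h8 h9 hg h7 h6 h5 h4
  obtain ⟨yi, hyi, ei⟩ := k6 i hi i1
  obtain ⟨yk, hyk, ek⟩ := k6 k hk (k8 x1)
  obtain ⟨yl, hyl, el⟩ := k6 l hl (k8 x2)
  have b1 := k5 _ (mul_mem hi hk) (k8 (by rwa [c.π_mul _ hi.1.1 _ hk.1.1])) _ _
    (M i hi.1 k hk.1 yi hyi yk hyk ei ek)
  have b2 := k5 _ (mul_mem hi hl) (k8 (by rwa [c.π_mul _ hi.1.1 _ hl.1.1])) _ _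
    (M i hi.1 l hl.1 yi hyi yl hyl ei el)
  have b3 := M k hk.1 l hl.1 yk hyk yl hyl ek el
  rw [k5 _ (mul_mem hk hl) (k8 (by rwa [c.π_mul _ hk.1.1 _ hl.1.1])) _ _ b3] at b3
  have b4 := k5 _ (mul_mem hi (mul_mem hk hl)) (k8 (by
    rwa [c.π_mul _ hi.1.1 _ (mul_mem hk hl).1.1, c.π_mul _ hk.1.1 _ hl.1.1])) _ _
    (M i hi.1 _ (mul_mem hk hl).1 yi hyi _ (mul_mem hyk hyl) ei b3)
  rw [c.π_mul _ hyk _ hyl, Co.B_add_right, b1, b2] at b4
  exact absurd b4 (by decide)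

end

theorem exists_fus [Finite G] [IsSimpleGroup G] : ∃ v ∈ c.Vs, c.Z v ∧ v ≠ c.z := by
  haveI : Finite Γ := Finite.of_injective _ c.inj
  by_contra H
  push_neg at H
  have o2 : orderOf (c.j c.z) = 2 := by rw [orderOf_injective _ c.inj, c.xs.ord]
  have h1 : ¬ Cfsg.IsIsolatedInvolution (c.j c.z) := fun h1 => by
    have h2 : Cfsg.pPrimeCore 2 G = ⊥ := (inferInstance : (Cfsg.pPrimeCore 2 G).Normal).eq_bot_or_eq_top.resolve_right fun h2 => by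
      have := H17.odd_card_pPrimeCore (G := G)
      rw [h2, card_top] at this
      exact absurd (this.of_dvd_nat (o2 ▸ orderOf_dvd_natCard (c.j c.z))) (by decide)
    have h3 : (zpowers (c.j c.z)).Normal := ⟨by
      rintro _ ⟨k, rfl⟩ g
      rw [← ((H17.zstar_central h2 h1 g).zpow_left k).eq, mul_inv_cancel_right]; exact ⟨k, rfl⟩⟩
    have h4 := Nat.card_le_card_of_injective _ c.inj
    rcases h3.eq_bot_or_eq_top with h5 | h5
    · rw [zpowers_eq_bot] at h5; rw [h5, orderOf_one] at o2; omega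
    · rw [c.card, ← card_top, ← h5, Nat.card_zpowers, o2] at h4; omega
  simp only [Cfsg.IsIsolatedInvolution, o2, true_and, not_forall] at h1
  obtain ⟨g, h1, h2⟩ := h1
  obtain ⟨a, ha⟩ := c.cen _ h1.symm.eq
  have hZ : c.Z a := isConj_iff.2 ⟨g, ha.symm⟩
  rcases c.inv_cls (g := a) (by rw [← map_mul, hZ.sq, map_one]) with h3 | ⟨k, X, hX, h3⟩
  · exact h2 (by rw [← ha, wQ H (c.ker a h3) hZ])
  simp only [List.mem_cons, List.not_mem_nil, or_false] at hX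
  rcases hX with rfl | rfl | rfl
  · exact caseE H (hZ.conj k) h3
  · refine caseR H (hZ.conj k) h3 (S := 735928690560026171286070491933444001740357632) (by decide +kernel)
      (by decide +kernel) (Or.inr ⟨_, _, c.ρ_ev wY, by decide +kernel, fun x hx => ?_⟩)
    have h4 := all12 (f := fun x => or2 (Nat.beq x 0) (seqN (va x 25792431739977853274218261692978852087828761339)
      fun y => seqN (va y 25792431739977853274218261692978852087828761339) fun w => and2 (no (Nat.beq (Nat.xor x y) 0))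
        (and2 (no (Nat.beq (Nat.xor x w) 0)) (no (Nat.beq (Nat.xor x (Nat.xor y w)) 0))))) (by decide +kernel) x
    rw [← mat_mu, eqM_iff.1 (by decide +kernel :
      eqM (mu (ew wY) (ew wY)) 25792431739977853274218261692978852087828761339 = true)]
    have h5 : ∀ x : V, x = 0 ↔ cd x = 0 := fun x => ⟨fun h => h ▸ cd_zero, fun h => by rw [← vec_cd x, h, vec_zero]⟩
    simp only [or2_true, seqN_eq, and2_true, no_true, H29.beq_true, ← h5, hx, false_or] at h4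
    simp only [ne_eq, h5, cd_add, cd_vecMul]
    exact h4
  · exact caseR H (hZ.conj k) h3 (S := 735928686738313141718004824342576504944721920) (by decide +kernel)
      (by decide +kernel) (Or.inl ⟨vec 33, (va_eq_iff (by norm_num)).1 (by decide +kernel), by
        rw [c.q_eq, cd_vec (by norm_num)]; decide +kernel⟩)

end Amb

end H9.R
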