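import Mathlib
import Cfsg.Agent.H9.JR6
import Cfsg.Agent.H9.JR8D

/-!
# Coordinates on the subgroup `2 ^ 11` of the centraliser
-/

set_option autoImplicit false
set_option maxRecDepth 100000
set_option Elab.async false
set_option linter.all false

namespace H9.R

open H29 H9.GF2 H9.J4 H9.JL Matrix Subgroup

theorem all11 {f : ℕ → Bool} (h : treeAll f 11 0 = true) {m : ℕ} (hm : m < 2048) : f m = true :=
  (treeAll_iff f 11).1 h m hm

theorem x11 {a b : ℕ} (ha : a < 2048) (hb : b < 2048) : a ^^^ b < 2048 := Nat.xor_lt_two_pow (n := 11) ha hb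
theorem x1 {a : ℕ} (ha : a < 2048) : a ^^^ 1 < 2048 := x11 ha (by norm_num)

theorem lin_BI {m : ℕ} (h : m < 2048) : lin BB (lin BI m) = m ∧ lin BI m < 2048 := by
  have := all11 c_BB h
  simp only [and2_true, H29.beq_true, ble_true] at this
  exact ⟨this.1, by omega⟩

theorem mp_mw (f : ℕ → ℕ) : ∀ l m, mp f (mw l m) = mw (mp f l) m
  | [], _ => rfl
  | a :: l, m => by
    rw [show mp f (a :: l) = f a :: mp f l from rfl, mw_cons, mw_cons, ← mp_mw f l]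
    split_ifs <;> rfl

theorem vH_eq (m : ℕ) : vH m = ev eH (mw lt11 m) := Subtype.ext (by rw [ev_eH, mp_mw]; rfl)

theorem vH_sq (m : ℕ) : vH m * vH m = 1 := by rw [← vH_xor, Nat.xor_self, vH_zero]
theorem vH_inv (m : ℕ) : (vH m)⁻¹ = vH m := inv_eq_of_mul_eq_one_left (vH_sq m)

theorem ev_vH {l A : List ℕ} (h : List.Forall₂ (fun i a => nth 0 BB i = a) l A) (k : ℕ) :
    ev (fun i => vH (nth 0 BB i)) (mw l k) = vH (lin A k) :=
  map_mw (MonoidHom.id H0) vH_zero vH_xor (h.imp fun _ _ h1 => congrArg vH h1) k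

theorem map_lin {Γ Γ' : Type*} [Group Γ] [Group Γ'] (f : Γ →* Γ') {u : ℕ → Γ} {v : ℕ → Γ'}
    (hu : ∀ m n, u (m ^^^ n) = u m * u n) (hv : ∀ m n, v (m ^^^ n) = v m * v n) :
    ∀ {A B : List ℕ}, List.Forall₂ (fun a b => f (u a) = v b) A B → ∀ m, f (u (lin A m)) = v (lin B m)
  | _, _, .nil, m => by
    have h1 : u 0 = 1 := by simpa using hu 0 0
    have h2 : v 0 = 1 := by simpa using hv 0 0
    rw [lin_nil, h1, h2, map_one]
  | _, _, .cons h h', m => by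
    have h1 : u 0 = 1 := by simpa using hu 0 0
    have h2 : v 0 = 1 := by simpa using hv 0 0
    rw [lin_cons, lin_cons, hu, hv, map_mul, map_lin f hu hv h']
    rcases Nat.mod_two_eq_zero_or_one m with k | k <;> simp [k, h, h1, h2]

theorem ev_prod {Γ Γ' : Type*} [Group Γ] [Group Γ'] (f : ℕ → Γ) (g : ℕ → Γ') :
    ∀ w, ev (fun i => (f i, g i)) w = (ev f w, ev g w)
  | [] => rfl
  | a :: w => by rw [ev_cons, ev_prod f g w]; rfl

theorem lin_mp (T : List ℕ) : ∀ (A : List ℕ) (m : ℕ), lin (mp (lin T) A) m = lin T (lin A m)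
  | [], _ => by
    have := lin_xor T 0 0
    simp only [Nat.xor_self] at this
    exact this.symm
  | a :: A, m => by
    have := lin_xor T 0 0
    simp only [Nat.xor_self] at this
    rw [show mp (lin T) (a :: A) = lin T a :: mp (lin T) A from rfl, lin_cons, lin_cons, lin_xor, lin_mp T A]
    rcases Nat.mod_two_eq_zero_or_one m with k | k <;> simp [k, this]

namespace Mod0

variable {c0 : Std H0} (h0 : Mod0 c0)
include h0

theorem vH_one : vH 1 = c0.z := h0.z ▸ Subtype.ext vv_one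

theorem vH_mem (m : ℕ) : vH m ∈ c0.Vs := h0.Vs ▸ vv_mem m

theorem BB_mem {i : ℕ} (hi : i < 7) : vH (nth 0 BB i) ∈ c0.Q := by
  rcases i with _ | i
  · exact h0.vH_one ▸ c0.zQ
  · rw [vH_eq, eqH (R := (List.range 6).map fun i => (mw lt11 (nth 0 BB (i + 1)), [17 + i])) (by decide +kernel) _
      (List.mem_map.2 ⟨i, List.mem_range.2 (by omega), rfl⟩), ev_cons, ev_nil, mul_one]
    exact h0.mem_Q (by omega)

theorem vH_Q {m : ℕ} (hm : m < 2048) : vH m ∈ c0.Q ↔ lin BI m < 128 := by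
  refine ⟨fun h => ?_, fun h => ?_⟩
  · have := all11 c_W0 hm
    simp only [imp_true, ble_true, eqM_iff, mat_one] at this
    have := this (by rw [← c0.ρ_Q h, vH_eq]; exact (h0.hm.val_ev ok12 _).symm)
    omega
  · rw [← (lin_BI hm).1, ← ev_vH (l := r11) (by decide), c_W1 _ h]
    exact ev_mem fun i hi => h0.BB_mem ((by decide : ∀ i ∈ [0, 1, 2, 3, 4, 5, 6], i < 7) i (mw_sub _ _ i hi))

theorem norm {h : H0} (h1 : (h : G) ∈ HH) : h ∈ normalizer (c0.Vs : Set H0) := by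
  rw [h0.Vs]
  exact mem_normalizer_fintype fun v hv => H11.J4R.conj_mem_V h1 hv

end Mod0

variable {Γ : Type*} [Group Γ] [Finite Γ]

/-- Coordinates on `2 ^ 11`, compatible with those in the model. -/
structure Cd (c : Std Γ) (c0 : Std H0) (u : ℕ → Γ) : Prop where
  h0 : Mod0 c0
  xor : ∀ m n, u (m ^^^ n) = u m * u n
  F : ∀ m < 2048, (u m, vH m) ∈ c.FF c0
  I : ∀ m < 2048, vH m ∈ c0.Q → (u m, vH m) ∈ c.II c0

theorem exists_cd' {c : Std Γ} {c0 : Std H0} (h0 : Mod0 c0) {f : ℕ → Γ}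
    (h1 : ∀ i < 11, (f i, vH (nth 0 BB i)) ∈ c.FF c0) (h2 : ∀ i < 7, (f i, vH (nth 0 BB i)) ∈ c.II c0) :
    ∃ u, Cd c c0 u ∧ ∀ i < 11, u (nth 0 BB i) = f i := by
  have k1 : ∀ i ∈ r11, f i ∈ c.Vs := fun i hi =>
    Std.F_Vs (h1 i ((by decide : ∀ i ∈ r11, i < 11) i hi)) (h0.vH_mem _)
  have k2 : ∀ m < 2048, (ev f (mw r11 (lin BI m)), vH m) =
      ev (fun i => (f i, vH (nth 0 BB i))) (mw r11 (lin BI m)) := fun m hm =>
    by rw [ev_prod, ev_vH (l := r11) (A := BB) (by decide), (lin_BI hm).1]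
  refine ⟨fun m => ev f (mw r11 (lin BI m)), ⟨h0, fun m n => ?_, fun m hm => ?_, fun m hm h => ?_⟩, fun i hi => ?_⟩
  · rw [lin_xor, ev_mw_xor (fun a ha b hb => comm_of_sq c.sq_Vs (k1 a ha) (k1 b hb))
      fun a ha => by rw [sq, c.sq_Vs _ (k1 a ha)]]
  · rw [k2 m hm]
    exact ev_mem fun i hi => h1 i ((by decide : ∀ i ∈ r11, i < 11) i (mw_sub _ _ i hi))
  · rw [k2 m hm, c_W1 _ ((h0.vH_Q hm).1 h)]
    exact ev_mem fun i hi => h2 i ((by decide : ∀ i ∈ [0, 1, 2, 3, 4, 5, 6], i < 7) i (mw_sub _ _ i hi))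
  · show ev f (mw r11 (lin BI (nth 0 BB i))) = f i
    obtain ⟨e1, e2⟩ := (by decide +kernel : ∀ i < 11, lin BI (nth 0 BB i) = 2 ^ i ∧ nth 0 r11 i = i) i hi
    rw [e1, ev_mw_two_pow _ _ hi, e2]

theorem exists_cd0 (c : Std Γ) {c0 : Std H0} (h0 : Mod0 c0) : ∃ u, Cd c c0 u := by
  have : ∀ i, ∃ a, (a, vH (nth 0 BB i)) ∈ c.FF c0 ∧ (i < 7 → (a, vH (nth 0 BB i)) ∈ c.II c0) := fun i => by
    by_cases hi : i < 7
    · obtain ⟨a, ha⟩ := c.II_ex (h0.BB_mem hi)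
      exact ⟨a, Std.II_le ha, fun _ => ha⟩
    · obtain ⟨a, ha⟩ := c.F_ex (c' := c0) (vH (nth 0 BB i))
      exact ⟨a, ha, fun h => absurd h hi⟩
  choose f h1 h2 using this
  exact (exists_cd' h0 (fun i _ => h1 i) h2).imp fun _ h => h.1

namespace Cd

variable {c : Std Γ} {c0 : Std H0} {u : ℕ → Γ} (h : Cd c c0 u)
include h

theorem zero : u 0 = 1 := by simpa using h.xor 0 0
theorem sq (m : ℕ) : u m * u m = 1 := by rw [← h.xor, Nat.xor_self, h.zero]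
theorem one : u 1 = c.z :=
  Std.II_uniq (h.I 1 (by norm_num) (h.h0.vH_one ▸ c0.zQ)) (h.h0.vH_one ▸ c.z_mem_II c0)
theorem xor1 (m : ℕ) : u (m ^^^ 1) = u m * c.z := by rw [h.xor, h.one]
theorem mem {m : ℕ} (hm : m < 2048) : u m ∈ c.Vs := Std.F_Vs (h.F m hm) (h.h0.vH_mem m)

theorem eq_zero {m : ℕ} (hm : m < 2048) (h1 : u m = 1) : m = 0 := by
  obtain ⟨t, ht⟩ := Std.F_ker (Std.FF_symm (h1 ▸ h.F m hm))
  rcases z2_cases t with rfl | rfl
  · rw [Co.zp_zero, ← vH_zero] at ht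
    exact vv_inj hm (by norm_num) (congrArg Subtype.val ht)
  · rw [Co.zp_one, ← h.h0.vH_one] at ht
    rw [vv_inj hm (by norm_num) (congrArg Subtype.val ht), h.one] at h1
    exact absurd h1 c.z1

theorem inj {m n : ℕ} (hm : m < 2048) (hn : n < 2048) (h1 : u m = u n) : m = n :=
  Nat.xor_eq_zero_iff.1 (h.eq_zero (x11 hm hn) (by rw [h.xor, h1, h.sq]))

theorem surj {a : Γ} (ha : a ∈ c.Vs) : ∃ m < 2048, u m = a := by
  have k : Function.Bijective fun m : Fin 2048 => (⟨u m, h.mem m.2⟩ : c.Vs) :=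
    (Nat.bijective_iff_injective_and_card _).2 ⟨fun a b h1 => Fin.ext (h.inj a.2 b.2 (congrArg Subtype.val h1)),
      by rw [c.card_Vs]; simp⟩
  obtain ⟨m, hm⟩ := k.2 ⟨a, ha⟩
  exact ⟨m, m.2, congrArg Subtype.val hm⟩

theorem act {g : Γ} {g0 : H0} (h1 : (g, g0) ∈ c.FF c0) {m n : ℕ} (hm : m < 2048) (hn : n < 2048)
    (h2 : g0 * vH m * g0⁻¹ = vH n) : ∃ t < 2, g * u m * g⁻¹ = u (n ^^^ t) := by
  obtain ⟨t, ht⟩ := Std.F_uniq (a := g * u m * g⁻¹) (h2 ▸ mul_mem (mul_mem h1 (h.F m hm)) (inv_mem h1)) (h.F n hn)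
  rcases z2_cases t with rfl | rfl
  · exact ⟨0, by norm_num, by simpa using ht⟩
  · exact ⟨1, by norm_num, by rw [ht, h.xor1, Co.zp_one]⟩

theorem actW {g : Γ} {g0 : H0} (h1 : (g, g0) ∈ c.FF c0) {m n : ℕ} (hm : m < 2048) (hn : n < 2048)
    (h2 : g0 * vH m * g0⁻¹ = vH n) (h3 : lin BI m < 128 ∨ lin BI n < 128) : g * u m * g⁻¹ = u n := by
  have h4 : vH m ∈ c0.Q := h3.elim (h.h0.vH_Q hm).2 fun h3 => by
    simpa [← h2, mul_assoc] using c0.conj_mem g0 ((h.h0.vH_Q hn).2 h3)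
  exact Std.II_uniq (h2 ▸ Std.II_conj' h1 (h.I m hm h4)) (h.I n hn (h2 ▸ c0.nQ.conj_mem _ h4 g0))

theorem actI {g : Γ} {g0 : H0} (h1 : (g, g0) ∈ c.II c0) {m n : ℕ} (hm : m < 2048) (hn : n < 2048)
    (h2 : g0 * vH m * g0⁻¹ = vH n) : g * u m * g⁻¹ = u n := by
  have h3 : (g * (u m * g⁻¹ * (u m)⁻¹), vH (n ^^^ m)) ∈ c.II c0 := by
    rw [vH_xor, ← h2, show g0 * vH m * g0⁻¹ * vH m = g0 * (vH m * g0⁻¹ * (vH m)⁻¹) by rw [vH_inv]; group]
    exact mul_mem h1 (Std.II_conj' (h.F m hm) (show (g⁻¹, g0⁻¹) ∈ _ from inv_mem h1))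
  have h4 := Std.II_uniq h3 (h.I _ (x11 hn hm) h3.2.1)
  rw [h.xor, inv_eq_of_mul_eq_one_left (h.sq m), ← mul_assoc, ← mul_assoc] at h4
  exact mul_right_cancel h4

/-- The homomorphism given by the coordinates. -/
theorem exists_hom : ∃ υ : J4.V →* Γ, ∀ m < 2048, υ ⟨vv m, vv_mem m⟩ = u m := by
  choose f h1 h2 using fun v : J4.V => exists_vv v.2
  refine ⟨MonoidHom.mk' (fun v => u (f v)) fun a b => ?_, fun m hm => congrArg u (vv_inj (h1 _) hm (h2 _))⟩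
  rw [← h.xor]
  exact congrArg u (vv_inj (h1 _) (x11 (h1 _) (h1 _)) (by rw [vv_xor, h2, h2, h2]; rfl))

end Cd

end H9.R
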