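import Mathlib
import Cfsg.Agent.H9.JR5
import Cfsg.Agent.H9.JR8

/-!
# The order of the normaliser of `2 ^ 11`
-/

set_option autoImplicit false
set_option maxRecDepth 100000
set_option Elab.async false
set_option linter.all false

namespace H9.R

open H29 H9.GF2 H9.J4 H9.JL Matrix Subgroup

theorem ncard_orb {X : Type*} [Group X] [Finite X] (M : Subgroup X) (z : X) :
    {x | ∃ g ∈ M, g * z * g⁻¹ = x}.ncard * Nat.card ↥(M ⊓ centralizer {z}) = Nat.card M := by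
  letI : MulAction M X := MulAction.compHom X (MulAut.conj.comp M.subtype)
  have h := (MulAction.stabilizer M z).index_mul_card
  rw [MulAction.index_stabilizer] at h
  convert h using 2
  · congr 1
    ext x
    exact ⟨fun ⟨g, hg, h⟩ => ⟨⟨g, hg⟩, h⟩, fun ⟨g, h⟩ => ⟨g, g.2, h⟩⟩
  · rw [← Nat.card_congr (subgroupOfEquivOfLe (inf_le_left (a := M) (b := centralizer {z}))).toEquiv]
    congr 2
    ext g
    rw [mem_subgroupOf, mem_inf, mem_centralizer_singleton_iff, and_iff_right g.2, ← mul_inv_eq_iff_eq_mul]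
    rfl

variable {X Γ : Type*} [Group X] [Group Γ]

theorem cls_ew : ∀ (w : List ℕ) (x : V), cls (cd (x ᵥ* mat (ew w))) = cls (cd x)
  | [], x => by rw [show ew [] = one from rfl, mat_one, vecMul_one]
  | i :: w, x => by
    have h1 : mat (ew (i :: w)) = mat (nth one L5 i) * mat (ew w) := by
      simp only [ew, mat, Par.mat_evW ok12, List.map_cons, List.prod_cons]; rfl
    rw [h1, ← vecMul_vecMul, cls_ew w]
    exact nth_forall (p := fun A => cls (cd (x ᵥ* mat A)) = cls (cd x)) (by rw [mat_one, vecMul_one])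
      (fun A hA => cls_vecMul hA x) i

theorem Std.no_seven (c : Std Γ) [Finite Γ] {y : Γ} (h : y ^ 7 = 1) (h1 : y ∈ normalizer (c.Vs : Set Γ)) :
    y = 1 := by
  by_contra h2
  haveI : Fact (Nat.Prime 7) := ⟨by norm_num⟩
  obtain ⟨w, hw⟩ := c.exists_word y
  have h3 := card_fix (p := 7) (A := c.ρ y) (by rw [← map_pow, h, map_one]) {x | x ∈ kr MW ∧ cls (cd x) = 2}
    fun x hx => ⟨by
      have h3 : y⁻¹ * c.s x * y ∈ c.W := c.Vs_inf ▸ mem_inf.2 ⟨(mem_normalizer_iff''.1 h1 _).1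
        (c.W_le ⟨c.s_mem x, by rw [Co.π_s]; exact hx.1⟩), c.conj_mem y (c.s_mem x)⟩
      have h4 := h3.2
      rwa [c.π_conj _ _ (c.s_mem x), Co.π_s] at h4, by rw [hw, cls_ew, hx.2]⟩
  have h4 := ncard_cd fun x => and2 (Nat.beq (va x MW) 0) (Nat.beq (cls x) 2)
  simp only [and2_true, H29.beq_true, ← mem_kr] at h4
  rw [h4, Set.eq_empty_of_forall_notMem (s := {x | x ∈ _ ∧ _}) fun x hx => by
    have h5 := hx.1.2
    rw [c.seven h h2 hx.2, cls_zero] at h5
    exact absurd h5 (by decide), Set.ncard_empty] at h3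
  exact absurd h3 (by decide +kernel)

theorem Std.Q_le_norm (c : Std Γ) [Finite Γ] : c.Q ≤ normalizer (c.Vs : Set Γ) := fun a ha =>
  mem_normalizer_fintype fun v hv => ⟨mul_mem (mul_mem (mem_sup_left ha) hv.1) (mem_sup_left (inv_mem ha)),
    fun w hw => by
      have := hv.2 (a⁻¹ * w * a) ⟨c.conj_mem a hw.1, by rw [c.π_conj _ _ hw.1, c.ρ_Q ha, vecMul_one]; exact hw.2⟩
      calc _ = a * (a⁻¹ * w * a * v) * a⁻¹ := by group
        _ = _ := by rw [this]; group⟩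

theorem Std.le_card_norm (c : Std Γ) [Finite Γ] {c0 : Std H0} (h0 : Mod0 c0) :
    283115520 ≤ Nat.card (normalizer (c.Vs : Set Γ)) := by
  have h1 := c0.card_eq ((H0 ⊓ HH).subgroupOf H0)
  rw [Nat.card_congr (subgroupOfEquivOfLe inf_le_left).toEquiv, card_B0] at h1
  rw [c.card_eq, inf_eq_right.2 c.Q_le_norm, c.card_Q, h1]
  refine Nat.mul_le_mul ((card_le_of_le inf_le_right).trans c0.card_Q.le) (Set.ncard_le_ncard ?_)
  rintro _ ⟨g0, h2, rfl⟩
  obtain ⟨g, hg⟩ := c.F_ex (c' := c0) g0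
  exact ⟨g, Std.F_norm hg (h0.norm h2.2), Std.F_ρ hg⟩

namespace Amb

variable (c : Amb X Γ) [Finite X]

/-- The normaliser of `2 ^ 11`. -/
noncomputable def N [Finite Γ] : Subgroup X := normalizer (c.Vs.map c.j : Set X)

variable [Finite Γ]

theorem mem_N {y : Γ} : c.j y ∈ c.N ↔ y ∈ normalizer (c.Vs : Set Γ) :=
  ⟨fun h => mem_normalizer_fintype fun v hv => (mem_map_iff_mem c.inj).1 (by
    simpa using (mem_normalizer_iff.1 h _).1 (mem_map_of_mem c.j hv)), fun h => le_normalizer_map _ ⟨y, h, rfl⟩⟩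

theorem Z_iff (g a : Γ) : c.Z (g * a * g⁻¹) ↔ c.Z a :=
  ⟨fun h => by simpa [mul_assoc] using h.conj g, fun h => by simpa using h.conj g⁻¹⟩

theorem trans {a : Γ} (ha : a ∈ c.Vs) (h : c.Z a) : ∃ g ∈ c.N, g * c.j c.z * g⁻¹ = c.j a := by
  obtain ⟨g, hg⟩ := isConj_iff.1 h
  have h1 : cj (c.Vs.map c.j) g ≤ c.j.range := fun x hx => by
    obtain ⟨v, hv, h1⟩ := mem_cj.1 hx
    refine c.cen _ ?_
    have := congrArg c.j (comm_of_sq c.sq_Vs hv ha)
    rw [map_mul, map_mul, h1, ← hg, conj_mul, conj_mul] at this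
    exact mul_left_cancel (mul_right_cancel this)
  obtain ⟨k, hk⟩ := c.wc (A := (cj (c.Vs.map c.j) g).comap c.j) (fun x hx => c.inj (by
    rw [map_mul, map_one]
    exact sq_cj (by rintro _ ⟨v, hv, rfl⟩; rw [← map_mul, c.sq_Vs v hv, map_one]) g _ hx)) (by
    rw [← card_map_of_injective c.inj, map_comap_eq_self h1, card_cj, card_map_of_injective c.inj, c.card_Vs])
  refine ⟨g * c.j k, inv_mem_iff.1 (mem_normalizer_fintype ?_), by
    rw [← hg, mul_assoc g, ← map_mul, c.zc, map_mul]; group⟩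
  rintro _ ⟨v, hv, rfl⟩
  have h2 := conj_mem_cj g (mem_map_of_mem c.j hv)
  obtain ⟨y, hy⟩ := h1 h2
  exact ⟨_, hk.le (conj_mem_cj k (mem_comap.2 (hy ▸ h2))), by simp [hy, mul_assoc]⟩

theorem cent {g : X} (h : ∀ v ∈ c.Vs, g * c.j v = c.j v * g) : ∃ v ∈ c.Vs, c.j v = g := by
  obtain ⟨y, rfl⟩ := c.cen g (h _ (c.W_le c.z_mem_W))
  exact ⟨y, c.cent_Vs fun v hv => c.inj (by rw [map_mul, map_mul, h v hv]), rfl⟩

theorem prime {p : ℕ} (hp : p.Prime) (h : p ∣ Nat.card c.N) : p = 2 ∨ ∃ k < 11, 2048 % p = 2 ^ k % p := by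
  haveI := Fact.mk hp
  obtain ⟨g, hg⟩ := exists_prime_orderOf_dvd_card' p h
  have h1 := JL.card_modEq (L := c.Vs.map c.j) g.2 (p := p) (by rw [← coe_pow, ← hg, pow_orderOf_eq_one]; rfl)
  have h2 := card_dvd_of_le (inf_le_left (a := c.Vs.map c.j) (b := centralizer {g.1}))
  have h0 : Nat.card (c.Vs.map c.j) = 2 ^ 11 := by rw [card_map_of_injective c.inj, c.card_Vs]; rfl
  rw [h0] at h1 h2
  obtain ⟨k, h3, h4⟩ := (Nat.dvd_prime_pow Nat.prime_two).1 h2
  rcases h3.lt_or_eq with h3 | rfl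
  · exact Or.inr ⟨k, h3, h4 ▸ h1⟩
  have h5 := eq_of_le_of_card_ge (inf_le_left (a := c.Vs.map c.j) (b := centralizer {g.1})) (by rw [h0, h4])
  obtain ⟨v, hv, h6⟩ := c.cent (g := g) fun v hv =>
    (mem_centralizer_singleton_iff.1 (h5.ge (mem_map_of_mem c.j hv)).2).symm
  refine Or.inl ((Nat.prime_dvd_prime_iff_eq hp Nat.prime_two).1 (hg ▸ orderOf_dvd_of_pow_eq_one ?_))
  exact Subtype.ext (by rw [coe_pow, ← h6, sq, ← map_mul, c.sq_Vs v hv, map_one]; rfl)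

theorem not_seven : ¬ 7 ∣ Nat.card ↥(c.N ⊓ centralizer {c.j c.z}) := fun h => by
  haveI : Fact (Nat.Prime 7) := ⟨by norm_num⟩
  obtain ⟨g, hg⟩ := exists_prime_orderOf_dvd_card' 7 h
  obtain ⟨y, hy⟩ := c.cen g (mem_centralizer_singleton_iff.1 g.2.2)
  have h1 := c.no_seven (y := y) (c.inj (by
    rw [map_pow, hy, ← coe_pow, ← hg, pow_orderOf_eq_one, map_one]; rfl)) (c.mem_N.1 (hy ▸ g.2.1))
  rw [show g = 1 from Subtype.ext (by rw [← hy, h1, map_one]; rfl), orderOf_one] at hg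
  omega

theorem le_card {c0 : Std H0} (h0 : Mod0 c0) : 283115520 ≤ Nat.card ↥(c.N ⊓ centralizer {c.j c.z}) := by
  refine (c.le_card_norm h0).trans ?_
  rw [← card_map_of_injective c.inj]
  refine card_le_of_le ?_
  rintro _ ⟨y, hy, rfl⟩
  exact ⟨c.mem_N.2 hy, mem_centralizer_singleton_iff.2 (by rw [← map_mul, c.zc, map_mul])⟩

open Classical in
/-- The indicator of the conjugates of `z`. -/
noncomputable def χ (a : Γ) : ℕ := if c.Z a then 1 else 0

theorem χ_le (a : Γ) : c.χ a ≤ 1 := by unfold χ; split_ifs <;> omega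
theorem χ_eq {a : Γ} : c.χ a = 1 ↔ c.Z a := by unfold χ; split_ifs with h <;> simp [h]
theorem χ_eq0 {a : Γ} : c.χ a = 0 ↔ ¬ c.Z a := by unfold χ; split_ifs with h <;> simp [h]
theorem χ_conj (g a : Γ) : c.χ (g * a * g⁻¹) = c.χ a := by unfold χ; rw [c.Z_iff]

variable {c} {c0 : Std H0} {u : ℕ → Γ} (h : Cd c.toStd c0 u)
include h

theorem N_act {g : X} (hg : g ∈ c.N) {m : ℕ} (hm : m < 2048) : ∃ n < 2048, g * c.j (u m) * g⁻¹ = c.j (u n) := by
  obtain ⟨v, hv, h1⟩ := (mem_normalizer_iff.1 hg _).1 (mem_map_of_mem c.j (h.mem hm))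
  obtain ⟨n, hn, rfl⟩ := h.surj hv
  exact ⟨n, hn, h1.symm⟩

theorem P_act {g0 : H0} {m n : ℕ} (hm : m < 2048) (hn : n < 2048) (h2 : g0 * vH m * g0⁻¹ = vH n) :
    c.χ (u n) + c.χ (u (n ^^^ 1)) = c.χ (u m) + c.χ (u (m ^^^ 1)) := by
  obtain ⟨g, hg⟩ := c.F_ex (c' := c0) g0
  obtain ⟨t, ht, h3⟩ := h.act hg hm hn h2
  rw [← c.χ_conj g (u m), ← c.χ_conj g (u (m ^^^ 1)), h.xor1 m, ← mul_assoc, mul_assoc _ c.z, ← c.zc, ← mul_assoc,
    h3, ← h.xor1 (n ^^^ t)]
  interval_cases t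
  · simp
  · rw [add_comm, Nat.xor_assoc, Nat.xor_self, Nat.xor_zero]

theorem P_rp {m : ℕ} (hm : m < 2048) :
    c.χ (u m) + c.χ (u (m ^^^ 1)) = c.χ (u (rp (vc m))) + c.χ (u (rp (vc m) ^^^ 1)) := by
  have h1 := all11 c_vc1 hm
  simp only [and2_true, ble_true] at h1
  have h2 := allN_true.1 c_vc (vc m) (by omega)
  rw [seqN_eq] at h2
  obtain ⟨y, h3, rfl⟩ := orbSet_sound _ _ _ _ _ (fun y => y < 2048 ∧ c.χ (u y) + c.χ (u (y ^^^ 1)) =
    c.χ (u (rp (vc m))) + c.χ (u (rp (vc m) ^^^ 1))) ⟨nth_forall (p := (· < 2048)) (by norm_num) (by decide) _, rfl⟩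
    (fun g hg y hy => by
      simp only [List.mem_cons, List.not_mem_nil, or_false] at hg
      rcases hg with rfl | rfl | rfl
      · have := H11.J4R.lin_lt11 (A := A1) (by decide) y
        exact ⟨this, (P_act h hy.1 this (g0 := eH 0) (Subtype.ext (conj_g1 y))).trans hy.2⟩
      · have := H11.J4R.lin_lt11 (A := A2) (by decide) y
        exact ⟨this, (P_act h hy.1 this (g0 := eH 2) (Subtype.ext (conj_g2 y))).trans hy.2⟩
      · refine ⟨x1 hy.1, Eq.trans ?_ hy.2⟩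
        show c.χ (u (y ^^^ 1)) + c.χ (u (y ^^^ 1 ^^^ 1)) = _
        rw [add_comm, Nat.xor_assoc, Nat.xor_self, Nat.xor_zero]) m
    (tb_eq _ _ ▸ imp_true.1 (all11 h2 hm) (H29.beq_true.2 rfl))
  exact h3.2

theorem flip {i m : ℕ} (h1 : 17 ≤ i) (hm : m < 2048)
    (h2 : chkH [(i :: mw lt11 m, mw lt11 (m ^^^ 1) ++ [i])] = true) : c.χ (u (m ^^^ 1)) = c.χ (u m) := by
  obtain ⟨g, hg⟩ := c.II_ex (h.h0.mem_Q h1)
  have := eqH1 h2
  rw [ev_cons, ev_append, ← vH_eq, ← vH_eq, ev_cons, ev_nil, mul_one] at this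
  rw [← h.actI hg hm (x1 hm) (by rw [this, mul_inv_cancel_right]), χ_conj]

theorem orb_eq : {x | ∃ g ∈ c.N, g * c.j c.z * g⁻¹ = x}.ncard = ∑ m ∈ Finset.range 2048, c.χ (u m) := by
  classical
  simp only [χ]
  rw [← Finset.card_filter, ← Set.ncard_coe_finset]
  refine (Set.ncard_congr (fun m _ => c.j (u m)) (fun m hm => ?_) (fun a b ha hb h1 => ?_) ?_).symm
  · simp only [Finset.coe_filter, Finset.mem_range] at hm
    exact c.trans (h.mem hm.1) hm.2
  · simp only [Finset.coe_filter, Finset.mem_range] at ha hb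
    exact h.inj ha.1 hb.1 (c.inj h1)
  · rintro _ ⟨g, hg, rfl⟩
    obtain ⟨n, hn, h1⟩ := N_act h hg (m := 1) (by norm_num)
    rw [h.one] at h1
    exact ⟨n, by simpa using ⟨hn, isConj_iff.2 ⟨g, h1⟩⟩, h1.symm⟩

theorem sum_eq : ∑ m ∈ Finset.range 2048, c.χ (u m) =
    1 + 90 * c.χ (u 2) + 36 * c.χ (u 56) + 240 * (c.χ (u 6) + c.χ (u 7)) + 1440 * c.χ (u 12) := by
  have h1 : ∑ m ∈ Finset.range 2048, c.χ (u (m ^^^ 1)) = ∑ m ∈ Finset.range 2048, c.χ (u m) :=
    Finset.sum_nbij' (· ^^^ 1) (· ^^^ 1) (fun a ha => Finset.mem_range.2 (x1 (Finset.mem_range.1 ha)))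
      (fun a ha => Finset.mem_range.2 (x1 (Finset.mem_range.1 ha))) (fun a _ => by simp) (fun a _ => by simp)
      fun _ _ => rfl
  have h2 := Finset.sum_congr rfl fun m (hm : m ∈ Finset.range 2048) => P_rp h (Finset.mem_range.1 hm)
  rw [Finset.sum_add_distrib, h1, ← Finset.sum_fiberwise_of_maps_to' (t := Finset.range 5) (g := vc)
    (f := fun k => c.χ (u (rp k)) + c.χ (u (rp k ^^^ 1))) (fun m hm => by
      have h1 := all11 c_vc1 (Finset.mem_range.1 hm)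
      simp only [and2_true, ble_true] at h1
      exact Finset.mem_range.2 (by omega))] at h2
  have h3 : ∀ k < 5, ((Finset.range 2048).filter fun m => vc m = k).card = nth 0 [2, 90, 36, 480, 1440] k :=
    fun k hk => by
      have := c_vc2 k hk
      simp only [treeCnt_eq, H29.beq_true] at this
      exact this
  generalize ∑ m ∈ Finset.range 2048, c.χ (u m) = n at h2
  generalize Finset.range 2048 = s at h2 h3
  simp only [Finset.sum_const, Finset.sum_range_succ, Finset.range_zero, Finset.sum_empty, smul_eq_mul,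
    h3 0 (by norm_num), h3 1 (by norm_num), h3 2 (by norm_num), h3 3 (by norm_num), h3 4 (by norm_num)] at h2
  have f1 := flip h (i := 23) (m := 2) (by norm_num) (by norm_num) (by decide +kernel)
  have f2 := flip h (i := 23) (m := 56) (by norm_num) (by norm_num) (by decide +kernel)
  have f4 := flip h (i := 26) (m := 12) (by norm_num) (by norm_num) (by decide +kernel)
  have f0 : c.χ (u 0) = 0 := c.χ_eq0.2 fun h1 => h1.ne_one h.zero
  have f3 : c.χ (u (0 ^^^ 1)) = 1 := c.χ_eq.2 (by rw [h.xor1, h.zero, one_mul]; exact c.Z_z)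
  change _ = 0 + 2 * (c.χ (u 0) + c.χ (u (0 ^^^ 1))) + 90 * (c.χ (u 2) + c.χ (u (2 ^^^ 1))) +
    36 * (c.χ (u 56) + c.χ (u (56 ^^^ 1))) + 480 * (c.χ (u 6) + c.χ (u 7)) +
    1440 * (c.χ (u 12) + c.χ (u (12 ^^^ 1))) at h2
  omega

end Amb

end H9.R
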