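import Mathlib
import Cfsg.Agent.H9.JRB
import Cfsg.Agent.H11.JS1

set_option autoImplicit false
namespace H9.R
open Cfsg H9.J4 Subgroup

/-- `M₂₄` acts faithfully on `V`. -/
theorem faith (m : Nb) (h : ∀ v ∈ V, φ m * v = v * φ m) : m = 1 := H11.J4R.faith' m h

/-- An automorphism of `V` permuting the duads is induced by `M₂₄`. -/
theorem star {Γ : Type*} [Group Γ] (υ : V →* Γ) (hυ : Function.Injective υ) (n : Γ)
    (hD : ∀ p q, p ≠ q → ∃ p' q', n * υ ⟨δ p q, δ_mem p q⟩ * n⁻¹ = υ ⟨δ p' q', δ_mem p' q'⟩) :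
    ∃ m : Nb, ∀ v v' : V, φ m * v * (φ m)⁻¹ = v' → n * υ v * n⁻¹ = υ v' :=
  H11.J4R.star' υ hυ n hD

end H9.R
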