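import Mathlib
import Cfsg.Agent.H9.JR9
import Cfsg.Agent.H9.JRStar

/-!
# The fusion in `2 ^ 11`
-/

set_option autoImplicit false
set_option maxRecDepth 100000
set_option Elab.async false
set_option linter.all false

namespace H9.R

open H29 H9.GF2 H9.J4 H9.JL Matrix Subgroup

variable {X Γ : Type*} [Group X] [Group Γ] [Finite X] [Finite Γ]

theorem conj_a3 (m : ℕ) : ev eH [0, 2, 0, 2, 0, 2] * vH m * (ev eH [0, 2, 0, 2, 0, 2])⁻¹ = vH (lin A5 m) :=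
  Subtype.ext (by
    simp only [coe_mul, coe_inv, ev_eH]
    exact conj_vv hmZ (fun _ _ => rfl) (ev_invW hivZ _) (by decide +kernel) m)

set_option synthInstance.maxSize 4096 in
theorem num_cases : ∀ a ≤ 1, ∀ b ≤ 1, ∀ p ≤ 2, ∀ e ≤ 1, 1 + 90 * a + 36 * b + 240 * p + 1440 * e < 2 ∨
    (a = 1 ∧ b = 0 ∧ p = 1 ∧ e = 1) ∨ (b = 1 ∧ ¬ 7 ∣ 1 + 90 * a + 36 * b + 240 * p + 1440 * e) ∨
    ∃ q ∈ [13, 241, 331, 571, 131, 1531, 41, 113, 2011, 211], q ∣ 1 + 90 * a + 36 * b + 240 * p + 1440 * e := by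
  decide +kernel

namespace Amb

variable {c : Amb X Γ} {c0 : Std H0} {u : ℕ → Γ} (h : Cd c.toStd c0 u)
include h

theorem χ_cls {m k : ℕ} (hm : m < 2048) (h1 : vc m = k) (h2 : c.χ (u (rp k ^^^ 1)) = c.χ (u (rp k))) :
    c.χ (u m) = c.χ (u (rp k)) := by
  have := P_rp h hm
  have := c.χ_le (u m)
  have := c.χ_le (u (m ^^^ 1))
  have := c.χ_le (u (rp k))
  subst h1; omega

theorem χ_one {m : ℕ} (hm : m < 2048) (h1 : vc m = 1) : c.χ (u m) = c.χ (u 2) :=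
  χ_cls h hm h1 (flip h (i := 23) (m := 2) (by norm_num) (by norm_num) (by decide +kernel))
theorem χ_two {m : ℕ} (hm : m < 2048) (h1 : vc m = 2) : c.χ (u m) = c.χ (u 56) :=
  χ_cls h hm h1 (flip h (i := 23) (m := 56) (by norm_num) (by norm_num) (by decide +kernel))
theorem χ_four {m : ℕ} (hm : m < 2048) (h1 : vc m = 4) : c.χ (u m) = c.χ (u 12) :=
  χ_cls h hm h1 (flip h (i := 26) (m := 12) (by norm_num) (by norm_num) (by decide +kernel))

theorem witt (hZ : c.χ (u 56) = 1) : 7 ∣ Nat.card c.N := by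
  classical
  haveI : Fact (Nat.Prime 5) := ⟨by norm_num⟩
  obtain ⟨g, hg⟩ := c.F_ex (c' := c0) (ev eH [0, 2, 0, 2, 0, 2])
  have a5 : ev eH [0, 2, 0, 2, 0, 2] ^ 5 = 1 := by
    rw [← ev_powW]; exact eqH1 (v := []) (by decide +kernel)
  obtain ⟨y, y5, hy⟩ : ∃ y, y ^ 5 = 1 ∧ (y, ev eH [0, 2, 0, 2, 0, 2]) ∈ c.FF c0 := by
    obtain ⟨t, ht⟩ := Std.F_ker (h := g ^ 5) (by have := pow_mem hg 5; rwa [Prod.pow_mk, a5] at this)
    refine ⟨g ^ 6, by rw [← pow_mul, show 6 * 5 = 5 * (2 * 3) from rfl, pow_mul, ht, pow_mul, sq, Co.zp_sq, one_pow], ?_⟩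
    have := pow_mem hg 6
    rwa [Prod.pow_mk, pow_succ _ 5, pow_succ (ev _ _) 5, a5, one_mul, ← pow_succ] at this
  have l5 := H11.J4R.lin_lt11 (A := A5) (by decide)
  have yN : y ∈ normalizer (c.Vs : Set Γ) := mem_normalizer_fintype fun v hv => by
    obtain ⟨m, hm, rfl⟩ := h.surj hv
    obtain ⟨t, ht, h1⟩ := h.act hy hm (l5 m) (conj_a3 m)
    exact h1 ▸ h.mem (x11 (l5 m) (by omega))
  have y1 : y ≠ 1 := fun h1 => by
    have := h.actW hy (m := 2) (by norm_num) (l5 2) (conj_a3 2) (Or.inl (by decide +kernel))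
    rw [h1, one_mul, inv_one, mul_one] at this
    exact absurd (h.inj (by norm_num) (l5 2) this) (by decide +kernel)
  have k := ncard_orb (c.N ⊓ normalizer (zpowers (c.j y) : Set X)) (c.j c.z)
  have k1 : {x | ∃ g ∈ c.N ⊓ normalizer (zpowers (c.j y) : Set X), g * c.j c.z * g⁻¹ = x} =
      (fun m => c.j (u m)) '' ({1, 252, 253, 1610, 1611, 1718, 1719} : Finset ℕ) := by
    ext x
    constructor
    · rintro ⟨g, hg, rfl⟩
      obtain ⟨m, hm, h1⟩ := N_act h hg.1 (m := 1) (by norm_num)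
      rw [h.one] at h1
      obtain ⟨i, hi⟩ := (mem_normalizer_iff''.1 hg.2 _).1 (mem_zpowers (c.j y))
      have h2 : y * u m * y⁻¹ = u m := c.inj (by
        rw [map_mul, map_mul, map_inv, ← h1, mul_inv_eq_iff_eq_mul]
        calc _ = g * (g⁻¹ * c.j y * g * c.j c.z) * g⁻¹ := by group
          _ = g * (c.j c.z * (g⁻¹ * c.j y * g)) * g⁻¹ := by
            rw [← hi]; simp only [← map_zpow, ← map_mul, c.zc]
          _ = _ := by group)
      obtain ⟨t, ht, h3⟩ := h.act hy hm (l5 m) (conj_a3 m)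
      have h4 := h.inj hm (x11 (l5 m) (by omega)) (h2.symm.trans h3)
      have h5 := all11 c_A5 hm
      simp only [imp_true, or2_true, H29.beq_true, memL_true] at h5
      have h6 : m ≠ 0 := by
        rintro rfl
        exact Z.ne_one (c := c) (isConj_iff.2 ⟨g, h1⟩) h.zero
      refine ⟨m, ?_, h1.symm⟩
      have h7 := h5 (by
        interval_cases t
        · exact Or.inl (by simpa using h4.symm)
        · exact Or.inr h4.symm)
      simpa [h6] using h7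
    · rintro ⟨m, hm, rfl⟩
      obtain ⟨h1, h2, h3, h4⟩ := (by decide +kernel : ∀ m ∈ ({1, 252, 253, 1610, 1611, 1718, 1719} : Finset ℕ),
        m < 2048 ∧ lin A5 m = m ∧ lin BI m < 128 ∧ (m = 1 ∨ vc m = 2)) m hm
      obtain ⟨g, hg, h5⟩ := c.trans (h.mem h1) (h4.elim (fun h4 => by rw [h4, h.one]; exact c.Z_z)
        fun h4 => c.χ_eq.1 ((χ_two h h1 h4).trans hZ))
      have h6 := congrArg c.j (h.actW hy h1 h1 ((conj_a3 m).trans (by rw [h2])) (Or.inl h3))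
      rw [map_mul, map_mul, map_inv, ← h5] at h6
      obtain ⟨y', h7⟩ := c.cen (g⁻¹ * c.j y * g) (by
        calc _ = g⁻¹ * (c.j y * (g * c.j c.z * g⁻¹) * (c.j y)⁻¹) * (c.j y * g) := by group
          _ = _ := by rw [h6]; group)
      have h8 : y' ∈ normalizer (c.Vs : Set Γ) :=
        c.mem_N.1 (h7 ▸ mul_mem (mul_mem (inv_mem hg) (c.mem_N.2 yN)) hg)
      have h9 : y' ^ 5 = 1 := c.inj (by rw [map_pow, h7, conj_pow', ← map_pow, y5]; simp)
      obtain ⟨k, hk⟩ := exists_conj_sylow (p := 5) (P := zpowers (⟨y, yN⟩ : normalizer (c.Vs : Set Γ)))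
        (A := zpowers ⟨y', h8⟩) (pg_zpowers (Subtype.ext y5)) (fun h10 => by
          rw [Nat.card_zpowers, orderOf_eq_prime (Subtype.ext y5) fun h => y1 (congrArg Subtype.val h)] at h10
          exact absurd (h10.trans (card_subgroup_dvd_card _)) (by rw [c.card]; norm_num))
        (pg_zpowers (Subtype.ext h9))
      obtain ⟨i, hi⟩ := hk _ (mem_zpowers _)
      have h10 : y ^ i = (k : Γ)⁻¹ * y' * k := congrArg Subtype.val hi
      refine ⟨g * c.j k, mem_inf.2 ⟨mul_mem hg (c.mem_N.2 k.2), inv_mem_iff.1 (mem_normalizer_fintype ?_)⟩, by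
        show _ = c.j (u m)
        rw [← h5, mul_assoc g, ← map_mul, c.zc, map_mul]; group⟩
      rintro _ ⟨n, rfl⟩
      refine ⟨i * n, ?_⟩
      show c.j y ^ (i * n) = (MulAut.conj (g * c.j k)⁻¹) (c.j y ^ n)
      rw [map_zpow, _root_.zpow_mul, ← map_zpow, h10, map_mul, map_mul, h7]
      simp [mul_assoc]
  rw [k1, Set.InjOn.ncard_image (fun a ha b hb h1 => h.inj ((by decide : ∀ m ∈
    ({1, 252, 253, 1610, 1611, 1718, 1719} : Finset ℕ), m < 2048) a ha) ((by decide : ∀ m ∈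
    ({1, 252, 253, 1610, 1611, 1718, 1719} : Finset ℕ), m < 2048) b hb) (c.inj h1)), Set.ncard_coe_finset] at k
  exact (Dvd.intro _ k).trans (card_dvd_of_le inf_le_left)

theorem count [IsSimpleGroup X] : c.χ (u 2) = 1 ∧ c.χ (u 56) = 0 ∧ c.χ (u 6) + c.χ (u 7) = 1 ∧ c.χ (u 12) = 1 ∧
    Nat.card HH ≤ Nat.card c.N := by
  have k := ncard_orb c.N (c.j c.z)
  have k0 : 2 ≤ {x | ∃ g ∈ c.N, g * c.j c.z * g⁻¹ = x}.ncard := by
    obtain ⟨v, h1, h2, h3⟩ := c.exists_fus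
    exact (Set.one_lt_ncard_iff).2 ⟨_, _, c.trans h1 h2, ⟨1, one_mem _, by simp⟩, fun h4 => h3 (c.inj h4)⟩
  rw [orb_eq h, sum_eq h] at k k0
  have k1 := witt h
  have k2 := c.le_card h.h0
  have k3 := c.not_seven
  have k4 : ∀ p ∈ [13, 241, 331, 571, 131, 1531, 41, 113, 2011, 211], ¬ p ∣ Nat.card c.N := fun p hp h1 => by
    obtain ⟨h2, h3⟩ := (by decide +kernel : ∀ p ∈ [13, 241, 331, 571, 131, 1531, 41, 113, 2011, 211],
      p.Prime ∧ ¬ (p = 2 ∨ ∃ k < 11, 2048 % p = 2 ^ k % p)) p hp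
    exact h3 (c.prime h2 h1)
  have a1 := c.χ_le (u 2)
  have a2 := c.χ_le (u 56)
  have a3 : c.χ (u 6) + c.χ (u 7) ≤ 2 := Nat.add_le_add (c.χ_le _) (c.χ_le _)
  have a4 := c.χ_le (u 12)
  generalize c.χ (u 2) = a, c.χ (u 56) = b, c.χ (u 6) + c.χ (u 7) = p, c.χ (u 12) = e at *
  rcases num_cases
    a a1 b a2 p a3 e a4 with h1 | ⟨rfl, rfl, rfl, rfl⟩ | ⟨h1, h2⟩ | ⟨q, h1, h2⟩
  · omega
  · exact ⟨rfl, rfl, rfl, rfl, by rw [card_HH]; omega⟩
  · exact absurd (((by norm_num : Nat.Prime 7).dvd_mul.1 (k ▸ k1 h1)).resolve_left h2) k3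
  · exact absurd (h2.trans (Dvd.intro _ k)) (k4 q h1)

theorem cls_Z [IsSimpleGroup X] {m : ℕ} (hm : m < 2048) : (vc m = 2 → m ≠ 0 ∧ ¬ c.Z (u m)) ∧
    (vc m = 3 → m ≠ 0 ∧ (¬ c.Z (u m) ↔ c.Z (u (m ^^^ 1)))) ∧ (m ≠ 0 → ¬ c.Z (u m) → vc m = 2 ∨ vc m = 3) := by
  obtain ⟨h1, h2, h3, h4, -⟩ := count h
  refine ⟨fun h5 => ⟨by rintro rfl; exact absurd h5 (by decide +kernel), c.χ_eq0.1 ((χ_two h hm h5).trans h2)⟩,
    fun h5 => ⟨by rintro rfl; exact absurd h5 (by decide +kernel), ?_⟩, fun h5 h6 => ?_⟩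
  · have := P_rp h hm
    rw [h5] at this
    rw [← c.χ_eq0, ← c.χ_eq]
    change _ = c.χ (u 6) + c.χ (u 7) at this
    omega
  · have h7 := all11 c_vc1 hm
    simp only [and2_true, imp_true, ble_true, H29.beq_true] at h7
    have h8 : vc m ≠ 0 := fun h8 => h6 (by rw [show m = 1 by have := h7.1.2 h8; omega, h.one]; exact c.Z_z)
    have h9 : vc m ≠ 1 := fun h9 => h6 (c.χ_eq.1 ((χ_one h hm h9).trans h1))
    have h10 : vc m ≠ 4 := fun h9 => h6 (c.χ_eq.1 ((χ_four h hm h9).trans h4))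
    omega

theorem exists_tw {g0 : H0} {A : List ℕ} (hA : ∀ a ∈ A, a < 2048) (h1 : ∀ m, g0 * vH m * g0⁻¹ = vH (lin A m)) :
    ∃ a < 2, ∃ b < 2, ∃ d < 2, ∃ e < 2, ∀ m, m < 2048 ∧ ¬ c.Z (u m) →
      lin (mp (lin (tw A a b d e)) BI) m < 2048 ∧ ¬ c.Z (u (lin (mp (lin (tw A a b d e)) BI) m)) := by
  obtain ⟨g, hg⟩ := c.F_ex (c' := c0) g0
  have l := H11.J4R.lin_lt11 hA
  obtain ⟨a, ha, a1⟩ := h.act hg (m := 146) (by norm_num) (l _) (h1 _)
  obtain ⟨b, hb, b1⟩ := h.act hg (m := 374) (by norm_num) (l _) (h1 _)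
  obtain ⟨d, hd, d1⟩ := h.act hg (m := 603) (by norm_num) (l _) (h1 _)
  obtain ⟨e, he, e1⟩ := h.act hg (m := 1088) (by norm_num) (l _) (h1 _)
  have w : ∀ m < 2048, lin BI m < 128 → g * u m * g⁻¹ = u (lin A m) := fun m hm h2 =>
    h.actW hg hm (l m) (h1 m) (Or.inl h2)
  have k := map_lin (MulAut.conj g).toMonoidHom h.xor h.xor (A := BB) (B := tw A a b d e)
    (.cons (w _ (by decide) (by decide +kernel)) <| .cons (w _ (by decide) (by decide +kernel)) <|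
      .cons (w _ (by decide) (by decide +kernel)) <| .cons (w _ (by decide) (by decide +kernel)) <|
      .cons (w _ (by decide) (by decide +kernel)) <| .cons (w _ (by decide) (by decide +kernel)) <|
      .cons (w _ (by decide) (by decide +kernel)) <| .cons a1 <| .cons b1 <| .cons d1 <| .cons e1 .nil)
  refine ⟨a, ha, b, hb, d, hd, e, he, fun m hm => ?_⟩
  rw [lin_mp, ← k, (lin_BI hm.1).1]
  refine ⟨H11.J4R.lin_lt11 ?_ _, fun h2 => hm.2 ((c.Z_iff g _).1 h2)⟩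
  simp only [tw, List.forall_mem_cons, l, true_and]
  exact ⟨x11 (l _) (by omega), x11 (l _) (by omega), x11 (l _) (by omega), x11 (l _) (by omega), by simp⟩

theorem D_act {g : X} {a b : ℕ} (ha : a < 2048) (h1 : g * c.j (u a) * g⁻¹ = c.j (u b))
    (h2 : a ≠ 0 ∧ ¬ c.Z (u a)) : b ≠ 0 ∧ ¬ c.Z (u b) :=
  ⟨by
    rintro rfl
    rw [h.zero, map_one, conj_eq_one_iff, map_eq_one_iff _ c.inj] at h1
    exact h2.1 (h.eq_zero ha h1), fun h3 => h2.2 (IsConj.trans h3 (isConj_iff.2 ⟨g, h1⟩).symm)⟩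

theorem cn_le {S : ℕ} (hS : ∀ m < 2048, S.testBit m = true ↔ m ≠ 0 ∧ ¬ c.Z (u m)) {g : X} (hg : g ∈ c.N)
    {m n : ℕ} (hm : m < 2048) (hn : n < 2048) (h1 : g * c.j (u m) * g⁻¹ = c.j (u n)) : cn S m ≤ cn S n := by
  choose! σ s1 s2 using fun k (hk : k < 2048) => N_act h hg hk
  rw [cn, cn, treeCnt_eq, treeCnt_eq]
  refine Finset.card_le_card_of_injOn σ (fun k hk => ?_) fun a ha b hb h2 => ?_
  · simp only [Finset.coe_filter, Finset.mem_range, Set.mem_setOf_eq, and2_true, tb_eq, xor_eq] at hk ⊢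
    refine ⟨s1 k hk.1, (hS _ (s1 k hk.1)).2 (D_act h hk.1 (s2 k hk.1) ((hS k hk.1).1 hk.2.1)),
      (hS _ (x11 hn (s1 k hk.1))).2 (D_act h (x11 hm hk.1) (g := g) ?_ ((hS _ (x11 hm hk.1)).1 hk.2.2))⟩
    rw [h.xor, h.xor, map_mul, map_mul, ← h1, ← s2 k hk.1, conj_mul]
  · simp only [Finset.coe_filter, Finset.mem_range, Set.mem_setOf_eq] at ha hb
    have := (s2 a ha.1).trans (h2 ▸ (s2 b hb.1).symm)
    exact h.inj ha.1 hb.1 (c.inj (mul_left_cancel (mul_right_cancel this)))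

theorem duads [IsSimpleGroup X] (hB : ∀ m ∈ [146, 374, 603, 1088], ¬ c.Z (u m)) :
    ∀ m < 2048, H11.J4R.DU.testBit m = true ↔ m ≠ 0 ∧ ¬ c.Z (u m) := by
  obtain ⟨a, a1, b, b1, d, d1, e, e1, h1⟩ := exists_tw h (A := A1) (g0 := eH 0) (by decide)
    fun m => Subtype.ext (conj_g1 m)
  obtain ⟨a', a2, b', b2, d', d2, e', e2, h2⟩ := exists_tw h (A := A2) (g0 := eH 2) (by decide)
    fun m => Subtype.ext (conj_g2 m)
  have k := c_tw
  rw [seqN_eq] at k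
  have k1 := all16_true k a1 b1 d1 e1
  rw [seqL_eq] at k1
  have k2 := all16_true k1 a2 b2 d2 e2
  rw [seqL_eq, seqN_eq] at k2
  generalize mp (lin (tw A1 a b d e)) BI = M, mp (lin (tw A2 a' b' d' e')) BI = N at h1 h2 k2
  have k3 : ∀ i, (orbT M N).testBit i = true → ¬ c.Z (u i) := fun i hi => by
    obtain ⟨y, h3, rfl⟩ := orbGo_sound _ _ _ (fun m => m < 2048 ∧ ¬ c.Z (u m)) (fun g hg y hy => by
      simp only [List.mem_cons, List.not_mem_nil, or_false] at hg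
      rcases hg with rfl | rfl
      exacts [h1 y hy, h2 y hy]) _ _ _ (fun y hy => ⟨(by decide : ∀ y ∈ [146, 374, 603, 1088], y < 2048) y hy, hB y hy⟩)
      (fun i hi => by
        replace hi : (2 ^ 146 ||| 2 ^ 374 ||| 2 ^ 603 ||| 2 ^ 1088 : ℕ).testBit i = true :=
          (congrArg (Nat.testBit · i) (by decide +kernel)).trans hi
        simp only [Nat.testBit_or, Nat.testBit_two_pow, Bool.or_eq_true, decide_eq_true_eq] at hi
        exact ⟨i, ⟨by omega, hB i (by simp only [List.mem_cons]; omega)⟩, rfl⟩) i hi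
    exact h3.2
  generalize orbT M N = O at k2 k3
  simp only [chkO, imp_true, and2_true, or2_true, seqN_eq, treeAll_iff, tb_eq, H29.beq_true, no_true, xor_eq] at k2
  obtain ⟨k4, k5⟩ := k2 fun m hm h3 h4 h5 => k3 _ h5 (((cls_Z h hm).2.1 h4).2.1 (k3 m h3))
  have k6 : ∀ m < 2048, (Nat.lor O C2).testBit m = true ↔ m ≠ 0 ∧ ¬ c.Z (u m) := fun m hm => by
    have h3 := all11 c_vc1 hm
    simp only [and2_true, imp_true, tb_eq, H29.beq_true] at h3
    obtain ⟨h4, h5, h6⟩ := cls_Z h hm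
    rw [show Nat.lor O C2 = O ||| C2 from rfl, Nat.testBit_or, Bool.or_eq_true]
    refine ⟨fun h7 => h7.elim (fun h7 => ⟨(h5 ((k4 m hm).1 h7)).1, k3 m h7⟩) fun h7 => h4 (h3.2.1 h7), fun h7 => ?_⟩
    rcases h6 h7.1 h7.2 with h8 | h8
    · exact Or.inr (h3.2.2 h8)
    · exact Or.inl (((k4 m hm).2 h8).resolve_right fun h9 => k3 _ h9 ((h5 h8).2.1 h7.2))
  rcases k5 with k5 | k5
  · exact k5 ▸ k6
  generalize Nat.lor O C2 = S at k5 k6
  obtain ⟨g, hg, h3⟩ := c.trans (h.mem (m := 12) (by norm_num)) (c.χ_eq.1 (count h).2.2.2.1)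
  obtain ⟨m, hm, h4⟩ := N_act h hg (m := 56) (by norm_num)
  have h5 : g * c.j (u (56 ^^^ 1)) * g⁻¹ = c.j (u (m ^^^ 12)) := by
    rw [h.xor1, h.xor, map_mul, map_mul, ← h4, ← h3, conj_mul]
  have h6 : m ^^^ 12 < 2048 := x11 hm (by norm_num)
  have h7 : ∀ {a b}, a < 2048 → b < 2048 → g * c.j (u a) * g⁻¹ = c.j (u b) → cn S b = cn S a := fun ha hb h7 =>
    le_antisymm (cn_le h k6 (inv_mem hg) hb ha (by rw [← h7]; group)) (cn_le h k6 hg ha hb h7)
  exact absurd (h7 (by norm_num) h6 h5) (k5 m hm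
    ((k6 m hm).2 (D_act h (by norm_num) h4 ((cls_Z h (by norm_num)).1 (by decide +kernel))))
    ((k6 _ h6).2 (D_act h (by norm_num) h5 ((cls_Z h (by norm_num)).1 (by decide +kernel))))
    (h7 (by norm_num) hm h4))

end Amb

end H9.R
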