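import Mathlib
import Cfsg.Agent.H9.JRStar
import Cfsg.Agent.S0051
import Cfsg.Agent.H11.JB1

set_option autoImplicit false
namespace H9.R
open Cfsg H9.J4 Subgroup

/-- The normaliser of `V` is `2 ^ 11 : M₂₄`, compatibly with (a twist of) `α`. -/
theorem exists_beta {Γ : Type*} [Group Γ] [Finite Γ] (α : H0 →* Γ) (hα : Function.Injective α)
    (N : Subgroup Γ) (hB : ∀ h : H0, (h : G) ∈ HH → α h ∈ N) (hcard : Nat.card HH ≤ Nat.card N)
    (hact : ∀ n ∈ N, ∃ m : Nb, ∀ v v' : V, φ m * v * (φ m)⁻¹ = v' →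
      n * α (inclusion V_le_H0 v) * n⁻¹ = α (inclusion V_le_H0 v'))
    (hker : ∀ n ∈ N, (∀ v : V, n * α (inclusion V_le_H0 v) = α (inclusion V_le_H0 v) * n) →
      ∃ v : V, n = α (inclusion V_le_H0 v)) :
    ∃ (α' : H0 →* Γ) (β : HH →* Γ), Function.Injective α' ∧ α'.range = α.range ∧
      (∀ v : V, α' (inclusion V_le_H0 v) = α (inclusion V_le_H0 v)) ∧
      ∀ g (h1 : g ∈ H0) (h2 : g ∈ HH), α' ⟨g, h1⟩ = β ⟨g, h2⟩ :=
  H11.J4R.exists_beta' α hα N hB hcard hact hker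

end H9.R
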