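import Mathlib
import Cfsg.Agent.H9.JR10
import Cfsg.Agent.H9.JRBeta

/-!
# The normaliser of `2 ^ 11` acts as `M₂₄`
-/

set_option autoImplicit false
set_option maxRecDepth 100000
set_option Elab.async false
set_option linter.all false

namespace H9.R

open H29 H9.GF2 H9.J4 H9.JL Matrix Subgroup

variable {X Γ : Type*} [Group X] [Group Γ] [Finite X] [Finite Γ]

theorem surj_act {υ : J4.V →* X} (hυ : Function.Injective υ) {N : Subgroup X} (hcard : Nat.card HH ≤ Nat.card N)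
    (hact : ∀ n ∈ N, ∃ m : Nb, H11.J4R.Act υ n m) (hker : ∀ n, H11.J4R.Act υ n 1 → n ∈ υ.range) (m : Nb) :
    ∃ n, H11.J4R.Act υ n m := by
  choose f hf using hact
  let ψ : N →* Nb := MonoidHom.mk' (fun n => f n n.2) fun a b =>
    (hf _ (a * b).2).uniq hυ ((hf _ a.2).mul (hf _ b.2))
  have c1 : Nat.card ψ.ker ≤ 2048 := by
    rw [← J4.card_V, Nat.card_congr (MonoidHom.ofInjective hυ).toEquiv]
    exact Nat.card_le_card_of_injective (fun a => ⟨a.1.1, hker _ ((show f _ a.1.2 = 1 from a.2) ▸ hf _ a.1.2)⟩) fun a b h =>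
      Subtype.ext (Subtype.ext (congrArg (fun x : υ.range => x.1) h))
  have c2 := ψ.ker.card_mul_index
  rw [index_ker] at c2
  rw [card_HH, ← c2] at hcard
  have c3 := eq_top_of_le_card ψ.range (by
    have := hcard.trans (Nat.mul_le_mul_right _ c1)
    rw [card_Nb]; omega)
  obtain ⟨n, rfl⟩ := c3.ge (mem_top m)
  exact ⟨n, hf _ n.2⟩

namespace Amb

variable (c : Amb X Γ) [IsSimpleGroup X] {c0 : Std H0} (h0 : Mod0 c0)
include h0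

theorem exists_good : ∃ u, Cd c.toStd c0 u ∧ Nat.card HH ≤ Nat.card c.N ∧
    ∀ m < 2048, H11.J4R.DU.testBit m = true ↔ m ≠ 0 ∧ ¬ c.Z (u m) := by
  classical
  obtain ⟨u, h⟩ := exists_cd0 c.toStd h0
  have k : ∀ i, nth 0 BB i < 2048 := nth_forall (p := (· < 2048)) (by norm_num) (by decide)
  obtain ⟨u', h', h1⟩ := exists_cd' (c := c.toStd) h0
    (f := fun i => if 7 ≤ i ∧ c.Z (u (nth 0 BB i)) then u (nth 0 BB i ^^^ 1) else u (nth 0 BB i))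
    (fun i _ => by
      split_ifs
      · simpa [h.xor1, Co.zp_one] using mul_mem (h.F _ (k i)) (c.zp_mem_FF c0 1)
      · exact h.F _ (k i))
    fun i hi => by rw [if_neg (by omega)]; exact h.I _ (k i) (h0.BB_mem hi)
  refine ⟨u', h', (count h).2.2.2.2, duads h' fun m hm => ?_⟩
  obtain ⟨i, h2, h3, rfl, h4⟩ := (by decide +kernel : ∀ m ∈ [146, 374, 603, 1088], ∃ i < 11, 7 ≤ i ∧
    nth 0 BB i = m ∧ vc m = 3) m hm
  rw [h1 i h2]
  split_ifs with h5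
  · exact fun h6 => ((cls_Z h (k i)).2.1 h4).2.2 h6 h5.2
  · exact fun h6 => h5 ⟨h3, h6⟩

theorem exists_ups : ∃ υ : J4.V →* Γ, Nat.card HH ≤ Nat.card c.N ∧
    (∀ v, (υ v, inclusion V_le_H0 v) ∈ c.FF c0) ∧
    (∀ v, inclusion V_le_H0 v ∈ c0.Q → (υ v, inclusion V_le_H0 v) ∈ c.II c0) ∧
    (∀ h (h' : H0), (h, h') ∈ c.FF c0 → (h' : G) ∈ HH →
      ∀ v v' : J4.V, (h' : G) * v * (h' : G)⁻¹ = v' → h * υ v * h⁻¹ = υ v') ∧
    (∀ n ∈ c.N, ∃ m : Nb, ∀ v v' : J4.V, φ m * v * (φ m)⁻¹ = v' → n * c.j (υ v) * n⁻¹ = c.j (υ v')) ∧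
    (∀ m : Nb, ∃ n : X, ∀ v v' : J4.V, φ m * v * (φ m)⁻¹ = v' → n * c.j (υ v) * n⁻¹ = c.j (υ v')) ∧
    (∀ n : X, (∀ v, n * c.j (υ v) = c.j (υ v) * n) → ∃ v, n = c.j (υ v)) ∧
    υ ⟨s', hvn.sV⟩ = c.z ∧ ¬ c.Z (υ ⟨w0, δ_mem _ _⟩) := by
  obtain ⟨u, h, h1, h2⟩ := c.exists_good h0
  obtain ⟨υ, hυ⟩ := h.exists_hom
  have k0 : ∀ v : J4.V, ∃ m < 2048, v = ⟨vv m, vv_mem m⟩ := fun v =>
    let ⟨m, a, b⟩ := exists_vv v.2; ⟨m, a, Subtype.ext b.symm⟩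
  have k1 : Function.Injective (c.j.comp υ) := c.inj.comp fun a b h3 => by
    obtain ⟨m, hm, rfl⟩ := k0 a
    obtain ⟨n, hn, rfl⟩ := k0 b
    rw [hυ m hm, hυ n hn] at h3
    rw [h.inj hm hn h3]
  have k2 : ∀ p q, υ ⟨δ p q, δ_mem p q⟩ = u (dc (ix p) (ix q)) := fun p q => hυ _ (dc_lt _ _)
  have k3 : ∀ n ∈ c.N, ∃ m : Nb, ∀ v v' : J4.V, φ m * v * (φ m)⁻¹ = v' → n * c.j (υ v) * n⁻¹ = c.j (υ v') :=
    fun n hn => star (c.j.comp υ) k1 n fun p q hpq => by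
      obtain ⟨m, hm, h3⟩ := N_act h hn (dc_lt (ix p) (ix q))
      obtain ⟨i, hi, j, hj, rfl⟩ := H11.J4R.duad_of_DU ((h2 m hm).2 (D_act h (dc_lt _ _) h3
        ((h2 _ (dc_lt _ _)).1 (H11.J4R.DU_dc hpq))))
      exact ⟨pt i, pt j, by rw [MonoidHom.comp_apply, MonoidHom.comp_apply, k2, k2, h3, ix_pt hi, ix_pt (by omega)]⟩
  have k4 : ∀ n : X, (∀ v, n * c.j (υ v) = c.j (υ v) * n) → ∃ v, n = c.j (υ v) := fun n hn => by
    obtain ⟨v, hv, rfl⟩ := c.cent (g := n) fun v hv => by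
      obtain ⟨m, hm, rfl⟩ := h.surj hv
      rw [← hυ m hm, hn]
    obtain ⟨m, hm, rfl⟩ := h.surj hv
    exact ⟨_, by rw [← hυ m hm]⟩
  refine ⟨υ, h1, fun v => ?_, fun v hv => ?_, fun g g0 hg hg0 v v' h3 => ?_, k3, fun m => ?_, k4, ?_, ?_⟩
  · obtain ⟨m, hm, rfl⟩ := k0 v
    exact hυ m hm ▸ h.F m hm
  · obtain ⟨m, hm, rfl⟩ := k0 v
    exact hυ m hm ▸ h.I m hm hv
  · obtain rfl : H11.J4R.cj g0 hg0 v = v' := Subtype.ext h3
    refine DFunLike.congr_fun (H11.J4R.hom_ext (f := (MulAut.conj g).toMonoidHom.comp υ)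
      (f' := υ.comp (H11.J4R.cj g0 hg0)) fun p q => ?_) v
    by_cases hpq : p = q
    · rw [show (⟨δ p q, δ_mem p q⟩ : J4.V) = 1 from Subtype.ext (hpq ▸ δ_self p), map_one, map_one]
    obtain ⟨w, hw, n, h4⟩ := H11.J4R.decomp hg0
    have h5 : (g0 : G) * δ p q * (g0 : G)⁻¹ = δ (n.1 p) (n.1 q) := by
      rw [← h4, show w * φ n * δ p q * (w * φ n)⁻¹ = w * (φ n * δ p q * (φ n)⁻¹) * w⁻¹ by group, conj_δ,
        hvn.comm _ hw _ (δ_mem _ _), mul_inv_cancel_right]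
    have h6 : g0 * vH (dc (ix p) (ix q)) * g0⁻¹ = vH (dc (ix (n.1 p)) (ix (n.1 q))) := Subtype.ext h5
    show g * υ _ * g⁻¹ = υ _
    rw [show H11.J4R.cj g0 hg0 ⟨δ p q, δ_mem p q⟩ = ⟨_, δ_mem _ _⟩ from Subtype.ext h5, k2, k2]
    have h7 := c_DU
    rw [seqN_eq] at h7
    have h8 := all11 h7 (dc_lt (ix (n.1 p)) (ix (n.1 q)))
    simp only [imp_true, or2_true, tb_eq, ble_true, no_true, xor_eq] at h8
    rcases h8 (H11.J4R.DU_dc (n.1.injective.ne hpq)) with h8 | h8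
    · exact h.actW hg (dc_lt _ _) (dc_lt _ _) h6 (Or.inr (by omega))
    obtain ⟨t, ht, h9⟩ := h.act hg (dc_lt _ _) (dc_lt _ _) h6
    interval_cases t
    · simpa using h9
    · exact absurd ((h2 _ (x1 (dc_lt _ _))).2 (D_act h (g := c.j g) (dc_lt _ _) (by rw [← h9]; simp)
        ((h2 _ (dc_lt _ _)).1 (H11.J4R.DU_dc hpq)))) h8
  · obtain ⟨n, hn⟩ := surj_act k1 h1 (fun n hn => (k3 n hn).imp fun m hm v => hm v _ rfl)
      (fun n hn => (k4 n (H11.J4R.Act.one_iff.1 hn)).imp fun v hv => hv.symm) m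
    exact ⟨n, fun v v' h3 => (hn v).trans (congrArg (c.j.comp υ) (Subtype.ext h3))⟩
  · rw [← h.one, ← hυ 1 (by norm_num)]; exact congrArg υ (Subtype.ext vv_one.symm)
  · exact k2 _ _ ▸ ((h2 _ (dc_lt _ _)).1 (H11.J4R.DU_dc H11.J4R.pt01)).2

end Amb

end H9.R
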