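import Mathlib
import Cfsg.Agent.H9.JR6
import Cfsg.Agent.H9.JR7
import Cfsg.Agent.S0051
import Cfsg.Agent.H11.JA1

set_option autoImplicit false
namespace H9.R
open Cfsg H9.J4 Subgroup

/-- The centraliser is isomorphic to the one in the model. -/
theorem exists_alpha {X Γ : Type*} [Group X] [Group Γ] [Finite Γ] (c : Std Γ) {c0 : Std H0} (h0 : Mod0 c0)
    (j : Γ →* X) (hj : Function.Injective j) (υ : J4.V →* Γ)
    (hF : ∀ v, (υ v, inclusion V_le_H0 v) ∈ c.FF c0)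
    (hI : ∀ v, inclusion V_le_H0 v ∈ c0.Q → (υ v, inclusion V_le_H0 v) ∈ c.II c0)
    (hE : ∀ h (h' : H0), (h, h') ∈ c.FF c0 → (h' : G) ∈ HH →
      ∀ v v' : J4.V, (h' : G) * v * (h' : G)⁻¹ = v' → h * υ v * h⁻¹ = υ v')
    (hS : ∀ m : Nb, ∃ n : X, ∀ v v' : J4.V, φ m * v * (φ m)⁻¹ = v' → n * j (υ v) * n⁻¹ = j (υ v'))
    (hK : ∀ n : X, (∀ v, n * j (υ v) = j (υ v) * n) → ∃ v, n = j (υ v)) :
    ∃ α : H0 →* Γ, Function.Bijective α ∧ (∀ h, (α h, h) ∈ c.FF c0) ∧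
      ∀ v, α (inclusion V_le_H0 v) = υ v :=
  H11.J4R.AH.main ⟨h0, hj, hF, hI, hE, hS, hK⟩

end H9.R
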