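import Mathlib
import Cfsg.Agent.H9.JRCls
import Cfsg.Agent.H11.JE1

set_option autoImplicit false
namespace H9.R
open Cfsg H9.J4 Subgroup

/-- Endgame: a copy of `J₄` containing the centraliser of its central involution is everything. -/
theorem surj {Γ : Type*} [Group Γ] [Finite Γ] (Φ : G →* Γ) (hΦ : Function.Injective Φ)
    (hC : centralizer {Φ s'} ≤ Φ.range) (hnc : ¬ IsConj (Φ s') (Φ w0)) : Function.Surjective Φ :=
  H11.J4R.surj' hΦ hC hnc

end H9.R
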