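import Mathlib
import Cfsg.Agent.H9.JRCls
import Cfsg.Agent.H18.JP1

set_option autoImplicit false
namespace H9.R
open Cfsg H9.J4 Subgroup

/-- The amalgam of `H0` and `HH` generates `J₄`. -/
theorem exists_Phi {Γ : Type*} [Group Γ] (α : H0 →* Γ) (β : HH →* Γ) (hα : Function.Injective α)
    (hαβ : ∀ g (h1 : g ∈ H0) (h2 : g ∈ HH), α ⟨g, h1⟩ = β ⟨g, h2⟩)
    (hC : centralizer {α ⟨s', s'_mem⟩} ≤ α.range) : ∃ Φ : G →* Γ, ∀ h : HH, Φ h = β h :=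
  H18.JP.exists_Phi' α β hα hαβ hC

end H9.R
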