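import Mathlib
import Cfsg.Agent.H9.JR2
import Cfsg.Agent.H9.M24
import Cfsg.Agent.H18.JS4

set_option autoImplicit false
set_option maxRecDepth 100000
set_option linter.all false

namespace H18.JS

open H29 H9.GF2 H9.R Cfsg Subgroup
open Matrix hiding vec

variable {Γ : Type*} [Group Γ] [Finite Γ]

theorem cls_inv (c : Co Γ) {M : Subgroup Γ} [hM : M.Normal] {g f k : Γ} (hg : g ∈ M) (hf : f ∈ M)
    (hk : k ∈ M) (e1 : c.ρ g = mat G0) (e2 : c.ρ f = mat F0) (e3 : c.ρ k = mat K0)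
    (gen : ∀ Y : Subgroup Γ, c.Q ≤ Y → g ∈ Y → f ∈ Y → k ∈ Y → M ≤ Y) (r : Γ) (x : V) :
    cls (cd (x ᵥ* c.ρ r)) = cls (cd x) := by
  have inv : ∀ (a : Γ) (x : V), (x ᵥ* c.ρ a) ᵥ* c.ρ a⁻¹ = x := fun a x => by
    rw [vecMul_vecMul, ← map_mul, mul_inv_cancel, map_one, vecMul_one]
  let Y : Subgroup Γ :=
    { carrier := {γ | ∀ x, cls (cd (x ᵥ* c.ρ γ)) = cls (cd x)}
      one_mem' := by simp
      mul_mem' := fun {a b} ha hb x => by rw [map_mul, ← vecMul_vecMul, hb, ha]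
      inv_mem' := fun {a} ha x => by rw [← ha (x ᵥ* c.ρ a⁻¹), ← inv_inv a, inv_inv a⁻¹, inv] }
  have h1 : M ≤ Y := gen Y (fun q hq x => by rw [c.ρ_Q hq, vecMul_one])
    (fun x => e1 ▸ cls_vecMul (by simp [L5]) x) (fun x => e2 ▸ cls_vecMul (by simp [L5]) x)
    fun x => e3 ▸ cls_vecMul (by simp [L5]) x
  have h2 : ∀ x : V, ∃ m ∈ M, x = vec (nth 0 [0, 7, 11, 1] (cls (cd x))) ᵥ* c.ρ m := fun x =>
    cls_ind (p := fun y => ∃ m ∈ M, y = vec (nth 0 [0, 7, 11, 1] (cls (cd x))) ᵥ* c.ρ m) (by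
      rintro A hA y ⟨m, hm, rfl⟩
      simp only [List.mem_cons, List.not_mem_nil, or_false] at hA
      rcases hA with rfl | rfl | rfl
      exacts [⟨m * g, mul_mem hm hg, by rw [map_mul, e1, vecMul_vecMul]⟩,
        ⟨m * f, mul_mem hm hf, by rw [map_mul, e2, vecMul_vecMul]⟩,
        ⟨m * k, mul_mem hm hk, by rw [map_mul, e3, vecMul_vecMul]⟩]) x ⟨1, one_mem _, by simp⟩
  have h3 : ∀ (r : Γ) (x : V), {y : V | cls (cd y) = cls (cd x)}.ncard ≤
      {y : V | cls (cd y) = cls (cd (x ᵥ* c.ρ r))}.ncard := by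
    intro r x
    refine Set.ncard_le_ncard_of_injOn (· ᵥ* c.ρ r) (fun y hy => ?_) fun a _ b _ h => ?_
    · obtain ⟨m, hm, e⟩ := h2 x
      obtain ⟨m', hm', e'⟩ := h2 y
      rw [show cls (cd y) = cls (cd x) from hy, ← inv m (vec _), ← e] at e'
      have := h1 (hM.conj_mem' _ (mul_mem (inv_mem hm) hm') r) (x ᵥ* c.ρ r)
      rw [Set.mem_setOf_eq, ← this, e']
      simp only [vecMul_vecMul, ← map_mul]
      congr 4; group
    · rw [← inv r a, show a ᵥ* c.ρ r = b ᵥ* c.ρ r from h, inv]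
  have h4 := h3 r⁻¹ (x ᵥ* c.ρ r)
  rw [inv] at h4
  have h5 := le_antisymm h4 (h3 r x)
  rw [ncard_cls _ (cls_lt _), ncard_cls _ (cls_lt _)] at h5
  have h6 : ∀ i < 4, ∀ j < 4, nth 0 [1, 693, 1386, 2016] i = nth 0 [1, 693, 1386, 2016] j →
      i = j := by decide +kernel
  exact h6 _ (cls_lt _) _ (cls_lt _) h5

theorem tabk : ∀ k < 11, k ≠ 0 → (H9.anyLt 5 fun i => H9.anyL [G0, G10] fun A =>
    eqM (mu (pw G0 k) (pw F0 i)) (mu (pw F0 i) A)) = true := by decide +kernel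

theorem std_of (c : Co Γ) {M : Subgroup Γ} [M.Normal] (hM : M.index = 2) (hQ : c.Q ≤ M)
    (hker : ∀ g, c.ρ g = 1 → g ∈ c.Q) (cM : Nat.card M = 443520 * 24576) {g f k d : Γ}
    (hg : g ∈ M) (hf : f ∈ M) (hk : k ∈ M) (hd : d ∈ M) (g11 : g ^ 11 = 1) (e1 : c.ρ g = mat G0)
    (e2 : c.ρ f = mat F0) (e3 : c.ρ k = mat K0) (e4 : c.ρ d = mat D0)
    (gen : ∀ Y : Subgroup Γ, c.Q ≤ Y → g ∈ Y → f ∈ Y → k ∈ Y → M ≤ Y) :
    ∃ s : Std Γ, s.z = c.z := by
  haveI : Fact (Nat.Prime 11) := ⟨by norm_num⟩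
  have G1 : mat G0 ≠ 1 := fun h => absurd (eqM_iff.2 (h.trans mat_one.symm)) (by decide +kernel)
  have go : orderOf g = 11 := orderOf_eq_prime g11 fun h => G1 (by rw [← e1, h, map_one])
  have hS : H24.Syl 11 M (zpowers g) := by
    refine H24.Syl.mk' (by norm_num) (zpowers_le.2 hg) (H24.piElt_of_orderOf_prime (by norm_num) go).isPi
      fun h => ?_
    have := ((zpowers g).subgroupOf M).card_mul_index
    rw [Nat.card_congr (subgroupOfEquivOfLe (zpowers_le.2 hg)).toEquiv, Nat.card_zpowers, go, cM] at this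
    unfold relIndex at h
    omega
  obtain ⟨r0, hr0⟩ : ∃ r, r ∉ M := by
    by_contra! h
    rw [(eq_top_iff' M).2 h, index_top] at hM
    omega
  obtain ⟨m, hm, r, hr, rfl⟩ := (H24.Frattini_arg (by norm_num) (H24.nml_top M) hS).mul r0 trivial
  have hr1 : r ∉ M := fun h => hr0 (mul_mem hm h)
  obtain ⟨n, hn⟩ := mem_powers_iff_mem_zpowers.2 (H24.conj_mem' (mem_inf.1 hr).2 (mem_zpowers g))
  simp only at hn
  rw [pow_eq_pow_mod n g11] at hn
  have h1 := tabk (n % 11) (Nat.mod_lt _ (by norm_num)) fun h => by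
    rw [h, pow_zero] at hn
    rw [show g = 1 by simpa [mul_assoc] using congrArg (fun a => r * a * r⁻¹) hn.symm,
      orderOf_one] at go
    omega
  simp only [H9.anyLt_iff, H9.anyL_iff, eqM_iff, mat_mu, mat_pw] at h1
  obtain ⟨i, -, A, hA, h1⟩ := h1
  have h2 : mat G0 * c.ρ (r * f ^ i) = c.ρ (r * f ^ i) * mat A := by
    rw [map_mul, map_pow, e2, mul_assoc, ← h1, ← e1, ← map_pow, hn, ← mul_assoc, ← mul_assoc,
      ← map_mul, ← map_mul]
    congr 2; group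
  have hr2 : r * f ^ i ∉ M := fun h => hr1 ((mul_mem_cancel_right (pow_mem hf i)).1 h)
  generalize r * f ^ i = r at h2 hr2
  obtain ⟨a, b, h3⟩ := outer hA h2 (cls_inv c hg hf hk e1 e2 e3 gen r)
  have hab : g ^ a * d ^ b ∈ M := mul_mem (pow_mem hg a) (pow_mem hd b)
  rw [← e1, ← e4, ← map_pow, ← map_pow, ← map_mul] at h3
  have hr3 : (g ^ a * d ^ b)⁻¹ * r ∉ M := fun h => hr2 ((mul_mem_cancel_left (inv_mem hab)).1 h)
  rcases h3 with h3 | h3
  · exact absurd (hQ (hker _ (by rw [map_mul, h3, ← map_mul, inv_mul_cancel, map_one]))) hr3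
  have e5 : c.ρ ((g ^ a * d ^ b)⁻¹ * r) = mat R0 := by
    rw [map_mul, h3, ← mul_assoc, ← map_mul, inv_mul_cancel, map_one, one_mul]
  generalize (g ^ a * d ^ b)⁻¹ * r = r at e5 hr3
  refine ⟨⟨c, fun j => [g, f, k, d, r].getD j 1, fun j => ?_, hker, eq_top_iff.2 fun γ _ => ?_, ?_⟩, rfl⟩
  · rcases j with _ | _ | _ | _ | _ | j
    exacts [e1, e2, e3, e4, e5, (map_one _).trans mat_one.symm]
  · have h4 : ∀ j ∈ [0, 1, 2, 3, 4], [g, f, k, d, r].getD j 1 ∈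
        c.Q ⊔ H29.gen (fun j => [g, f, k, d, r].getD j 1) [0, 1, 2, 3, 4] := fun j hj =>
      mem_sup_right (mem_gen (e := fun j => [g, f, k, d, r].getD j 1) hj)
    have h5 := gen _ le_sup_left (h4 0 (by simp)) (h4 1 (by simp)) (h4 2 (by simp))
    by_cases h : γ ∈ M
    · exact h5 h
    · have := mul_mem (h5 ((mul_mem_iff_of_index_two hM (a := γ) (b := r⁻¹)).2
        (by simp [h, hr3]))) (h4 4 (by simp))
      simpa using this
  · rw [← M.card_mul_index, cM, hM]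

end H18.JS

namespace H9.R
open Cfsg Subgroup

/-- Part I: the action of the centraliser on `Q / ⟨z⟩` is the standard `3 · M₂₂ : 2 ≤ GL₁₂(2)`. -/
theorem exists_std {Γ : Type*} [Group Γ] [Finite Γ] (z : Γ) (hz : orderOf z = 2)
    (hzc : ∀ g, g * z = z * g) (Q N M : Subgroup Γ) [Q.Normal] [N.Normal] [M.Normal]
    (hQN : Q ≤ N) (hNM : N ≤ M) (hM : M.index = 2) (hQ : IsExtraspecial 2 Q)
    (hcard : Nat.card Q = 2 ^ 13) (hN : Nat.card N = 3 * Nat.card Q) (hcent : ⁅M, N⁆ ≤ Q)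
    (hperf : M ≤ ⁅M, M⁆ ⊔ Q) (h2c : centralizer (Q : Set Γ) ≤ Q)
    (hM22 : Spor.IsoM22 (M ⧸ N.subgroupOf M)) : ∃ c : Std Γ, c.z = z := by
  obtain ⟨z', h1, -, h2⟩ := H3.IsExtraspecial.exists_xs hQ
  have h3 : z ∈ centralizer (Q : Set Γ) := fun g _ => hzc g
  have z2 : z' * z' = 1 := by rw [← sq, h1.z_pow]
  obtain rfl : z = z' := ((mem_zpowers_two z2).1 (h2 ▸ ⟨h2c h3, h3⟩)).resolve_left fun h => by
    rw [h, orderOf_one] at hz; omega
  obtain ⟨c, rfl, rfl⟩ := exists_co h1 hcard inferInstance hzc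
  have hker : ∀ g, c.ρ g = 1 → g ∈ c.Q := fun g hg => c.ker_of_cent (fun g h => h2c h) hg
  obtain ⟨cM, g, hg, f, hf, k, hk, d, hd, g11, hy, gen⟩ :=
    H18.JS.exists_gens c hQN hNM hN hcent hperf hker hM22
  obtain ⟨P, Pi, e, e1, e2, e3, e4⟩ := hy.nm
  have hker' : ∀ g, (c.map P Pi e).ρ g = 1 → g ∈ c.Q := fun g h =>
    hker g (H18.JS.cm_inj e (h.trans (map_one _).symm))
  rcases e4 with e4 | e4
  · exact H18.JS.std_of (c.map P Pi e) hM (hQN.trans hNM) hker' cM hg hf hk hd g11 e1 e2 e3 e4 gen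
  · exact H18.JS.std_of (c.map P Pi e) hM (hQN.trans hNM) hker' cM hg hf hk (pow_mem hd 2) g11 e1 e2
      e3 (by rw [Co.map_ρ, map_pow, e4]) gen

end H9.R
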