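import Mathlib
import Cfsg.Agent.H9.JR11
import Cfsg.Agent.H9.JRAlpha
import Cfsg.Agent.H9.JRPhi
import Cfsg.Agent.H9.JREnd
import Cfsg.Agent.H9.JRStd

/-!
# Recognition of `J₄` by the centraliser of an involution
-/

set_option autoImplicit false
set_option linter.all false

namespace H9.R

open Cfsg H9.J4 Subgroup

theorem Amb.iso {X Γ : Type*} [Group X] [Group Γ] [Finite X] [IsSimpleGroup X] (c : Amb X Γ) :
    Nonempty (X ≃* G) := by
  haveI : Finite Γ := Finite.of_injective _ c.inj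
  obtain ⟨c0, h0⟩ := exists_mod0 c.toStd
  obtain ⟨υ, h1, hF, hI, hE, hA, hS, hK, hz, hw⟩ := c.exists_ups h0
  obtain ⟨α, a1, a2, a3⟩ := exists_alpha c.toStd h0 c.j c.inj υ hF hI hE hS hK
  obtain ⟨α', β, b1, b2, b3, b4⟩ := exists_beta (c.j.comp α) (c.inj.comp a1.1) c.N
    (fun h hh => c.mem_N.2 (Std.F_norm (a2 h) (h0.norm hh))) h1
    (fun n hn => by simpa only [MonoidHom.comp_apply, a3] using hA n hn)
    (fun n _ => by simpa only [MonoidHom.comp_apply, a3] using hK n)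
  have k1 : ∀ v : J4.V, α' (inclusion V_le_H0 v) = c.j (υ v) := fun v => (b3 v).trans (congrArg c.j (a3 v))
  have k2 : α' ⟨s', s'_mem⟩ = c.j c.z := (k1 ⟨s', hvn.sV⟩).trans (congrArg c.j hz)
  have k3 : centralizer {c.j c.z} ≤ α'.range := fun g hg => by
    obtain ⟨h, rfl⟩ := c.cen g (mem_centralizer_singleton_iff.1 hg)
    obtain ⟨h, rfl⟩ := a1.2 h
    exact b2.ge ⟨h, rfl⟩
  obtain ⟨Φ, hΦ⟩ := exists_Phi α' β b1 b4 (k2 ▸ k3)
  have k4 : ∀ v : J4.V, Φ v = c.j (υ v) := fun v =>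
    (hΦ ⟨v, V_le_HH v.2⟩).trans ((b4 _ (V_le_H0 v.2) _).symm.trans (k1 v))
  have k5 : Φ s' = c.j c.z := (k4 ⟨s', hvn.sV⟩).trans (congrArg c.j hz)
  have k6 : Function.Injective Φ := (MonoidHom.ker_eq_bot_iff Φ).1
    (Φ.normal_ker.eq_bot_or_eq_top.resolve_right fun h => c.z1 (c.inj (by
      rw [← k5, map_one]; exact h.ge (mem_top _))))
  have k7 : H0.map Φ = centralizer {Φ s'} := eq_of_le_of_card_ge (by
    rintro _ ⟨g, hg, rfl⟩
    exact mem_centralizer_singleton_iff.2 (by rw [← map_mul, mem_centralizer_singleton_iff.1 hg, map_mul])) (by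
    rw [card_map_of_injective k6, k5, Nat.card_congr (MonoidHom.ofInjective b1).toEquiv]
    exact card_le_of_le k3)
  exact ⟨(MulEquiv.ofBijective Φ ⟨k6, surj Φ k6 (k7 ▸ map_le_range Φ H0) (by
    rw [k5, show Φ w0 = _ from k4 ⟨w0, δ_mem _ _⟩]; exact hw)⟩).symm⟩

theorem recog {X : Type*} [Group X] [Finite X] [IsSimpleGroup X] (t : X) (ht : orderOf t = 2)
    (Q N M : Subgroup (centralizer ({t} : Set X))) [Q.Normal] [N.Normal] [M.Normal] (hQN : Q ≤ N) (hNM : N ≤ M)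
    (hM : M.index = 2) (hQ : IsExtraspecial 2 Q) (hcard : Nat.card Q = 2 ^ 13)
    (hN : Nat.card N = 3 * Nat.card Q) (hcent : ⁅M, N⁆ ≤ Q) (hperf : M ≤ ⁅M, M⁆ ⊔ Q)
    (h2c : centralizer (Q : Set (centralizer ({t} : Set X))) ≤ Q)
    (hM22 : Spor.IsoM22 (M ⧸ N.subgroupOf M)) : Nonempty (X ≃* G) := by
  obtain ⟨c, hc⟩ := exists_std (⟨t, mem_centralizer_singleton_iff.2 rfl⟩ : centralizer ({t} : Set X))
    (by rw [← ht, orderOf_mk]) (fun g => Subtype.ext (mem_centralizer_singleton_iff.1 g.2))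
    Q N M hQN hNM hM hQ hcard hN hcent hperf h2c hM22
  exact Amb.iso ⟨c, (centralizer ({t} : Set X)).subtype, Subtype.val_injective, fun g hg =>
    ⟨⟨g, mem_centralizer_singleton_iff.2 (by rwa [hc] at hg)⟩, rfl⟩⟩

theorem of_iso {X : Type*} [Group X] [IsSimpleGroup X] (f : X ≃* G) : IsJ4 X ∧ ∃ x y : X, orderOf x = 2 ∧
    orderOf y = 2 ∧ ¬ IsConj x y ∧ ∀ z : X, orderOf z = 2 → IsConj z x ∨ IsConj z y := by
  obtain ⟨h1, h2, h3, h4⟩ := two_classes
  refine ⟨⟨inferInstance, (Nat.card_congr f.toEquiv).trans card_G⟩, f.symm s', f.symm w0, by simpa using h1,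
    by simpa using h2, fun h => h3 (by simpa using f.toMonoidHom.map_isConj h), fun z hz => ?_⟩
  exact (h4 (f z) (by simpa using hz)).imp (fun h => by simpa using f.symm.toMonoidHom.map_isConj h)
    fun h => by simpa using f.symm.toMonoidHom.map_isConj h

end H9.R
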