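import Mathlib
import Cfsg.Agent.H9.JR2

/-!
# The quadratic form, and lifts centralising the element of order three
-/

set_option autoImplicit false
set_option linter.all false

namespace H9.R

open H29 H9.GF2 Matrix Subgroup

variable {Γ : Type*} [Group Γ]

theorem conj_pow' (g a : Γ) (n : ℕ) : (g⁻¹ * a * g) ^ n = g⁻¹ * a ^ n * g := by
  simpa using conj_pow (a := g⁻¹) (b := a) (i := n)

theorem comm_of_conj {a k : Γ} (h : k⁻¹ * a * k = a) : k * a = a * k := by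
  calc k * a = k * (k⁻¹ * a * k) := by rw [h]
    _ = _ := by group

theorem conj_of_comm {a k : Γ} (h : k * a = a * k) : k⁻¹ * a * k = a := by
  rw [mul_assoc, ← h, inv_mul_cancel_left]

theorem z2_cases (t : ZMod 2) : t = 0 ∨ t = 1 := by revert t; decide

namespace Co

variable (c : Co Γ)

/-- Powers of `z`. -/
def zp (t : ZMod 2) : Γ := c.z ^ t.val

@[simp] theorem zp_zero : c.zp 0 = 1 := pow_zero _
theorem zp_one : c.zp 1 = c.z := pow_one _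
theorem zp_comm (g : Γ) (t : ZMod 2) : g * c.zp t = c.zp t * g := (Commute.pow_right (c.zc g) _).eq
theorem zp_add (s t : ZMod 2) : c.zp (s + t) = c.zp s * c.zp t := by
  rcases z2_cases s with rfl | rfl <;> rcases z2_cases t with rfl | rfl <;> simp [zp_one]
  rw [c.z2]; exact c.zp_zero
theorem zp_sq (t : ZMod 2) : c.zp t * c.zp t = 1 := by rw [← zp_add, CharTwo.add_self_eq_zero, zp_zero]
theorem zp_inv (t : ZMod 2) : (c.zp t)⁻¹ = c.zp t := inv_eq_of_mul_eq_one_left (c.zp_sq t)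
theorem zp_eq_one {t : ZMod 2} (h : c.zp t = 1) : t = 0 := by
  rcases z2_cases t with rfl | rfl
  · rfl
  · exact absurd (c.zp_one ▸ h) c.z1
theorem zp_inj {s t : ZMod 2} (h : c.zp s = c.zp t) : s = t := by
  have := c.zp_eq_one (t := s + t) (by rw [zp_add, h, zp_sq])
  clear h; revert s t; decide
theorem zp_mem (t : ZMod 2) : c.zp t ∈ c.Q := pow_mem c.zQ _
@[simp] theorem π_zp (t : ZMod 2) : c.π (c.zp t) = 0 := by
  rcases z2_cases t with rfl | rfl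
  · rw [zp_zero, π_one]
  · rw [zp_one, c.π_z]
theorem π_mul_zp {a : Γ} (h : a ∈ c.Q) (t : ZMod 2) : c.π (a * c.zp t) = c.π a := by
  rw [c.π_mul _ h _ (c.zp_mem t), π_zp, add_zero]
@[simp] theorem ρ_zp (t : ZMod 2) : c.ρ (c.zp t) = 1 := c.ρ_Q (c.zp_mem t)
theorem conj_zp (g : Γ) (t : ZMod 2) : g⁻¹ * c.zp t * g = c.zp t := by
  rw [c.zp_comm, mul_assoc, inv_mul_cancel, mul_one]
theorem mul_zp (a b : Γ) (s t : ZMod 2) : a * c.zp s * (b * c.zp t) = a * b * c.zp (s + t) := by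
  rw [zp_add, mul_assoc, ← mul_assoc (c.zp s), ← c.zp_comm]; simp only [mul_assoc]
theorem zp_mul (a b : Γ) (s : ZMod 2) : a * c.zp s * b = a * b * c.zp s := by
  rw [mul_assoc, ← c.zp_comm, mul_assoc]

theorem eq_zp {a b : Γ} (ha : a ∈ c.Q) (hb : b ∈ c.Q) (h : c.π a = c.π b) : ∃ t, a = b * c.zp t := by
  rcases c.eq_of_π ha hb h with h | h
  · exact ⟨0, by simpa using h⟩
  · exact ⟨1, c.zp_one ▸ h⟩

theorem eq_zp' {a : Γ} (ha : a ∈ c.Q) (h : c.π a = 0) : ∃ t, a = c.zp t := by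
  simpa using c.eq_zp ha (one_mem _) (by rw [h, π_one])

/-- A section. -/
noncomputable def s (x : V) : Γ := (c.π_surj x).choose
theorem s_mem (x : V) : c.s x ∈ c.Q := (c.π_surj x).choose_spec.1
@[simp] theorem π_s (x : V) : c.π (c.s x) = x := (c.π_surj x).choose_spec.2

theorem exists_q (x : V) : ∃ t, c.s x * c.s x = c.zp t :=
  c.eq_zp' (mul_mem (c.s_mem x) (c.s_mem x)) (by rw [c.π_mul _ (c.s_mem x) _ (c.s_mem x), add_self])

/-- The quadratic form. -/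
noncomputable def q (x : V) : ZMod 2 := (c.exists_q x).choose

theorem sq_q {a : Γ} (h : a ∈ c.Q) : a * a = c.zp (c.q (c.π a)) := by
  obtain ⟨t, ht⟩ := c.eq_zp h (c.s_mem (c.π a)) (c.π_s _).symm
  rw [q, ← (c.exists_q _).choose_spec]
  conv_lhs => rw [ht, mul_zp, CharTwo.add_self_eq_zero, zp_zero, mul_one]

/-- The bilinear form. -/
noncomputable def B (x y : V) : ZMod 2 := c.q (x + y) + c.q x + c.q y

theorem comm_B {a b : Γ} (ha : a ∈ c.Q) (hb : b ∈ c.Q) : a * b = b * a * c.zp (c.B (c.π a) (c.π b)) := by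
  obtain ⟨t, ht⟩ := c.eq_zp (mul_mem hb ha) (mul_mem ha hb) (by
    rw [c.π_mul _ ha _ hb, c.π_mul _ hb _ ha, add_comm])
  have h1 := c.sq_q (mul_mem ha hb)
  rw [c.π_mul _ ha _ hb, show a * b * (a * b) = a * (b * a) * b by group, ht,
    show a * (a * b * c.zp t) * b = a * a * (b * c.zp t * b) by group, zp_mul, c.sq_q ha, c.sq_q hb,
    ← zp_add, ← zp_add] at h1
  have h2 : c.B (c.π a) (c.π b) = t := by
    rw [B, ← c.zp_inj h1]
    generalize c.q (c.π a) = u, c.q (c.π b) = v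
    clear h1 ht; revert u v t; decide
  rw [h2, ht, mul_assoc, zp_sq, mul_one]

theorem B_comm (x y : V) : c.B x y = c.B y x := by rw [B, B, add_comm x, add_right_comm]

theorem B_add_right (x y w : V) : c.B x (y + w) = c.B x y + c.B x w := by
  have h1 := c.comm_B (c.s_mem x) (mul_mem (c.s_mem y) (c.s_mem w))
  rw [← mul_assoc, c.comm_B (c.s_mem x) (c.s_mem y), zp_mul, mul_assoc (c.s y),
    c.comm_B (c.s_mem x) (c.s_mem w), c.π_mul _ (c.s_mem y) _ (c.s_mem w), ← mul_assoc, ← mul_assoc,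
    mul_assoc _ _ (c.zp _), ← zp_add] at h1
  simp only [π_s] at h1
  rw [← c.zp_inj (mul_left_cancel h1), add_comm]

theorem B_add_left (x y w : V) : c.B (x + y) w = c.B x w + c.B y w := by
  rw [B_comm, B_add_right, c.B_comm w, c.B_comm w]

theorem q_zero : c.q 0 = 0 := c.zp_eq_one (by rw [← c.π_one, ← c.sq_q (one_mem _), mul_one])

theorem B_self (x : V) : c.B x x = 0 := by
  rw [B, add_self, q_zero, zero_add, CharTwo.add_self_eq_zero]

theorem B_zero (x : V) : c.B x 0 = 0 := by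
  rw [B, add_zero, q_zero, add_zero, CharTwo.add_self_eq_zero]

theorem q_ρ (g : Γ) (x : V) : c.q (x ᵥ* c.ρ g) = c.q x := by
  have h1 := c.sq_q (c.conj_mem g (c.s_mem x))
  rw [c.π_conj _ _ (c.s_mem x), show g⁻¹ * c.s x * g * (g⁻¹ * c.s x * g) = g⁻¹ * (c.s x * c.s x) * g by group,
    c.sq_q (c.s_mem x), conj_zp, π_s] at h1
  exact (c.zp_inj h1).symm

theorem B_ρ (g : Γ) (x y : V) : c.B (x ᵥ* c.ρ g) (y ᵥ* c.ρ g) = c.B x y := by
  rw [B, ← add_vecMul, q_ρ, q_ρ, q_ρ, B]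

theorem comm_of_B {a b : Γ} (ha : a ∈ c.Q) (hb : b ∈ c.Q) (h : c.B (c.π a) (c.π b) = 0) : a * b = b * a := by
  rw [c.comm_B ha hb, h, zp_zero, mul_one]

theorem B_of_comm {a b : Γ} (ha : a ∈ c.Q) (hb : b ∈ c.Q) (h : a * b = b * a) : c.B (c.π a) (c.π b) = 0 := by
  have := c.comm_B ha hb
  rw [h] at this
  exact c.zp_eq_one (left_eq_mul.1 this)

theorem ρ_inv_mul (g : Γ) : c.ρ g⁻¹ * c.ρ g = 1 := by rw [← map_mul, inv_mul_cancel, map_one]
theorem ρ_mul_inv (g : Γ) : c.ρ g * c.ρ g⁻¹ = 1 := by rw [← map_mul, mul_inv_cancel, map_one]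

theorem π_conj' (g : Γ) {a : Γ} (h : a ∈ c.Q) : c.π (g * a * g⁻¹) = c.π a ᵥ* c.ρ g⁻¹ := by
  simpa using c.π_conj g⁻¹ a h

/-- An element of order three without fixed points on `Q / ⟨z⟩`. -/
structure Fp (d : Γ) : Prop where
  d3 : d ^ 3 = 1
  fp : c.ρ d * c.ρ d + c.ρ d + 1 = 0

variable {c} {d : Γ}

theorem Fp.inv_eq (h : c.Fp d) : d⁻¹ = d * d :=
  inv_eq_of_mul_eq_one_left (by rw [← h.d3, pow_three, mul_assoc])

theorem Fp.inv (h : c.Fp d) : c.Fp d⁻¹ := ⟨by rw [inv_pow, h.d3, inv_one], by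
  rw [← map_mul, ← _root_.mul_inv_rev, ← h.inv_eq, inv_inv, h.inv_eq, map_mul, add_comm (c.ρ d)]; exact h.fp⟩

theorem Fp.sum (h : c.Fp d) (x : V) : x + x ᵥ* c.ρ d⁻¹ + x ᵥ* c.ρ d = 0 := by
  have := congrArg (x ᵥ* ·) h.fp
  simp only [vecMul_add, vecMul_one, vecMul_zero] at this
  rw [h.inv_eq, map_mul, ← this]; abel

theorem Fp.cube (h : c.Fp d) (a : Γ) : (a * d) ^ 3 = a * (d * a * d⁻¹) * (d⁻¹ * a * d) := by
  calc (a * d) ^ 3 = a * (d * a * d⁻¹) * (d * d * a * d) := by simp only [pow_three]; group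
    _ = _ := by rw [← h.inv_eq]

theorem Fp.exists_t (h : c.Fp d) {a : Γ} (ha : a ∈ c.Q) : ∃ t, (a * d) ^ 3 = c.zp t := by
  rw [h.cube]
  have h1 := c.nQ.conj_mem a ha d
  have h2 := c.conj_mem d ha
  exact c.eq_zp' (mul_mem (mul_mem ha h1) h2) (by
    rw [c.π_mul _ (mul_mem ha h1) _ h2, c.π_mul _ ha _ h1, c.π_conj' _ ha, c.π_conj _ _ ha, h.sum])

theorem cube_zp (a d : Γ) (t : ZMod 2) : (a * c.zp t * d) ^ 3 = (a * d) ^ 3 * c.zp t := by
  rw [zp_mul, (show Commute (a * d) (c.zp t) from c.zp_comm _ _).mul_pow, pow_three (c.zp t), zp_sq, mul_one]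

theorem Fp.eq_of_cube (h : c.Fp d) {a b : Γ} (ha : a ∈ c.Q) (hb : b ∈ c.Q) (h1 : c.π a = c.π b)
    (h2 : (a * d) ^ 3 = (b * d) ^ 3) : a = b := by
  obtain ⟨t, rfl⟩ := c.eq_zp ha hb h1
  rw [cube_zp] at h2
  rw [mul_eq_left.1 h2, mul_one]

/-- An element centralising `d` centralises the elements of `Q` which it fixes modulo `z`. -/
theorem Fp.cent (h : c.Fp d) {k a : Γ} (hk : k * d = d * k) (ha : a ∈ c.Q) (h1 : c.π a ᵥ* c.ρ k = c.π a) :
    k * a = a * k := by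
  obtain ⟨t, ht⟩ := h.exists_t ha
  have h2 := h.eq_of_cube (c.conj_mem k ha) ha (by rw [c.π_conj _ _ ha, h1]) (by
    rw [mul_assoc _ k, hk, ← mul_assoc, mul_assoc k⁻¹, conj_pow', ht, conj_zp])
  exact comm_of_conj h2

theorem Fp.cube_mul (h : c.Fp d) {a b : Γ} (ha : a ∈ c.Q) (hb : b ∈ c.Q) :
    (a * b * d) ^ 3 = (a * d) ^ 3 * (b * d) ^ 3 * c.zp (c.B (c.π b) (c.π a ᵥ* c.ρ d⁻¹) +
      c.B (c.π b + c.π b ᵥ* c.ρ d⁻¹) (c.π a ᵥ* c.ρ d)) := by
  have a1 := c.nQ.conj_mem a ha d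
  have a2 := c.conj_mem d ha
  have b1 := c.nQ.conj_mem b hb d
  rw [h.cube, h.cube, h.cube, ← c.π_conj' _ ha, ← c.π_conj' _ hb, ← c.π_conj _ _ ha, ← c.π_mul _ hb _ b1,
    show d * (a * b) * d⁻¹ = d * a * d⁻¹ * (d * b * d⁻¹) by group,
    show d⁻¹ * (a * b) * d = d⁻¹ * a * d * (d⁻¹ * b * d) by group]
  generalize d * a * d⁻¹ = u, d⁻¹ * a * d = v, d * b * d⁻¹ = w, d⁻¹ * b * d = y at *
  calc _ = a * (b * u) * w * v * y := by group
    _ = a * u * (b * w * v) * y * c.zp (c.B (c.π b) (c.π u)) := by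
      rw [c.comm_B hb a1]; simp only [mul_assoc, ← c.zp_comm]
    _ = _ := by
      rw [c.comm_B (mul_mem hb b1) a2, add_comm, zp_add, ← mul_assoc, zp_mul]
      simp only [mul_assoc]

theorem Fp.cube_inv (h : c.Fp d) {a : Γ} (ha : a ∈ c.Q) :
    (a * d) ^ 3 = (a * d⁻¹) ^ 3 * c.zp (c.B (c.π a ᵥ* c.ρ d⁻¹) (c.π a ᵥ* c.ρ d)) := by
  rw [h.cube, h.inv.cube, inv_inv, ← c.π_conj' _ ha, ← c.π_conj _ _ ha, mul_assoc,
    c.comm_B (c.nQ.conj_mem a ha d) (c.conj_mem d ha)]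
  simp only [mul_assoc]

theorem Fp.conj (h : c.Fp d) {a : Γ} (h1 : d⁻¹ * a ∈ c.Q) (h2 : a ^ 3 = 1) :
    ∃ x ∈ c.Q, x⁻¹ * a * x = d := by
  set u := d⁻¹ * a
  let x := c.s (c.π u ᵥ* c.ρ d)
  have hx : x ∈ c.Q := c.s_mem _
  have h3 := c.conj_mem d (inv_mem hx)
  obtain ⟨t, ht⟩ := c.eq_zp' (mul_mem (mul_mem h3 h1) hx) (by
    rw [c.π_mul _ (mul_mem h3 h1) _ hx, c.π_mul _ h3 _ h1, c.π_conj _ _ (inv_mem hx), c.π_inv hx, π_s,
      vecMul_vecMul, ← map_mul, ← h.inv_eq, ← h.sum (c.π u), add_comm (c.π u)])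
  have h4 : x⁻¹ * a * x = d * c.zp t := by rw [← ht]; simp only [u]; group
  refine ⟨x, hx, ?_⟩
  have h5 := cube_zp (c := c) 1 d t
  rw [one_mul, one_mul, ← c.zp_comm, ← h4, conj_pow', h2, h.d3] at h5
  simp only [mul_one, one_mul, inv_mul_cancel] at h5
  rw [h4, ← h5, mul_one]

end Co

/-- The quadratic form on codes. -/
def qb (x : ℕ) : Bool := Nat.beq (cls x) 3
/-- The bilinear form on codes. -/
def Bb (x y : ℕ) : Bool := (qb (Nat.xor x y) ^^ qb x) ^^ qb y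

/-- The value of a word. -/
noncomputable def ew (w : List ℕ) : ℕ := P12.evW (P12.lets L5) w

namespace Std

variable (c : Std Γ)

theorem ρ_ev (w : List ℕ) : c.ρ (ev c.e w) = mat (ew w) := c.hm.val_ev ok12 w

theorem ρ_e {i : ℕ} {A : ℕ} (h : nth one L5 i = A) : c.ρ (c.e i) = mat A := h ▸ c.hm i

theorem q_eq (x : V) : c.q x = bz (qb (cd x)) := by
  have k : ∀ x, c.q x = c.q (vec (nth 0 [0, 7, 11, 1] (cls (cd x)))) := fun x =>
    cls_ind (p := fun y => c.q y = c.q (vec (nth 0 [0, 7, 11, 1] (cls (cd x))))) (fun A hA y hy => by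
      obtain ⟨i, hi⟩ : ∃ i, nth one L5 i = A := by
        simp only [List.mem_cons, List.not_mem_nil, or_false] at hA
        rcases hA with rfl | rfl | rfl
        exacts [⟨0, rfl⟩, ⟨1, rfl⟩, ⟨2, rfl⟩]
      rw [← c.ρ_e hi, Co.q_ρ, hy]) x rfl
  have k2 : ∀ a, a < 4096 → c.q (vec a) = c.q (vec (nth 0 [0, 7, 11, 1] (cls a))) :=
    fun a ha => by rw [k, cd_vec ha]
  have k3 : ∀ a < 4096, ∀ b < 4096, ∀ e < 4096, ∀ f : ℕ → ZMod 2,
      (∀ a, f a = c.q (vec (nth 0 [0, 7, 11, 1] a))) →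
      f (cls (a ^^^ (b ^^^ e))) + f (cls a) + f (cls (b ^^^ e)) =
      f (cls (a ^^^ b)) + f (cls a) + f (cls b) + (f (cls (a ^^^ e)) + f (cls a) + f (cls e)) :=
    fun a ha b hb e he f hf => by
      simp only [hf, ← k2 _ ha, ← k2 _ hb, ← k2 _ he, ← k2 _ (xor_lt ha hb), ← k2 _ (xor_lt ha he),
        ← k2 _ (xor_lt hb he), ← k2 _ (xor_lt ha (xor_lt hb he)), vec_xor']
      exact c.B_add_right _ _ _
  have h1 := k3 17 (by decide) 8 (by decide) 32 (by decide) _ fun _ => rfl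
  have h2 := k3 12 (by decide) 62 (by decide) 3 (by decide) _ fun _ => rfl
  obtain ⟨e1, e2, e3, e4, e5, e6, e7, f1, f2, f3, f4, f5, f6, f7⟩ : cls (17 ^^^ (8 ^^^ 32)) = 1 ∧ cls 17 = 3 ∧
      cls (8 ^^^ 32) = 3 ∧ cls (17 ^^^ 8) = 2 ∧ cls 8 = 3 ∧ cls (17 ^^^ 32) = 2 ∧ cls 32 = 3 ∧
      cls (12 ^^^ (62 ^^^ 3)) = 2 ∧ cls 12 = 3 ∧ cls (62 ^^^ 3) = 3 ∧ cls (12 ^^^ 62) = 2 ∧ cls 62 = 3 ∧
      cls (12 ^^^ 3) = 2 ∧ cls 3 = 3 := by decide +kernel
  rw [e1, e2, e3, e4, e5, e6, e7] at h1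
  rw [f1, f2, f3, f4, f5, f6, f7] at h2
  have h3 : c.q (vec (nth 0 [0, 7, 11, 1] 1)) = 0 ∧ c.q (vec (nth 0 [0, 7, 11, 1] 2)) = 0 := by
    generalize c.q (vec (nth 0 [0, 7, 11, 1] 1)) = u, c.q (vec (nth 0 [0, 7, 11, 1] 2)) = v,
      c.q (vec (nth 0 [0, 7, 11, 1] 3)) = w at h1 h2
    revert u v w; decide
  have k4 : ∀ t, c.q (vec (nth 0 [0, 7, 11, 1] 3)) = t → ∀ x, c.q x = bz (qb (cd x)) * t := fun t ht x => by
    rw [k, qb]
    have := cls_lt (cd x)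
    generalize cls (cd x) = i at this
    interval_cases i
    · exact (congrArg c.q vec_zero).trans (c.q_zero.trans (zero_mul t).symm)
    · exact h3.1.trans (zero_mul t).symm
    · exact h3.2.trans (zero_mul t).symm
    · exact ht.trans (one_mul t).symm
  rcases z2_cases (c.q (vec (nth 0 [0, 7, 11, 1] 3))) with h | h
  · have h4 := c.nd _ (c.s_mem (vec 1)) fun b hb => c.comm_of_B (c.s_mem _) hb (by simp [Co.B, k4 0 h])
    rw [Co.π_s, ← vec_zero] at h4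
    exact absurd (vec_inj (by decide) (by decide) h4) (by decide)
  · rw [k4 1 h, mul_one]

theorem B_eq (x y : V) : c.B x y = bz (Bb (cd x) (cd y)) := by
  rw [Co.B, q_eq, q_eq, q_eq, cd_add, Bb, bz_xor, bz_xor]; rfl

/-- The element of order three. -/
def d : Γ := c.e 3 ^ 4

theorem ρ_d : c.ρ c.d = mat D0 := by
  have := c.ρ_ev [3, 3, 3, 3]
  rw [eqM_iff.1 (by decide +kernel : eqM (ew [3, 3, 3, 3]) D0 = true)] at this
  rw [← this]; simp [d, pow_succ, mul_assoc]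

theorem pow_four {a : Γ} (h : a ∈ c.Q) : a ^ 4 = 1 := by
  rw [show 4 = 2 * 2 from rfl, pow_mul, pow_two a, c.sq_q h, pow_two, Co.zp_sq]

theorem fp : c.Fp c.d where
  d3 := by
    rw [d, ← pow_mul, mul_comm, pow_mul]
    refine c.pow_four (c.ker _ ?_)
    have := c.ρ_ev [3, 3, 3]
    rw [eqM_iff.1 (by decide +kernel : eqM (ew [3, 3, 3]) one = true), mat_one] at this
    rw [← this]; simp [pow_succ, mul_assoc]
  fp := by
    rw [ρ_d, ← mat_mu, ← mat_xor, eqM_iff.1 (by decide +kernel : eqM (Nat.xor (mu D0 D0) D0) one = true),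
      mat_one, madd_self]

theorem ρ_d_inv : c.ρ c.d⁻¹ = mat (mu D0 D0) := by rw [c.fp.inv_eq, map_mul, ρ_d, mat_mu]

theorem mem_of_ρ {a b : Γ} (h : c.ρ a = c.ρ b) : a⁻¹ * b ∈ c.Q :=
  c.ker _ (by rw [map_mul, ← h, Co.ρ_inv_mul])

theorem exists_word [Finite Γ] (g : Γ) : ∃ w, c.ρ g = mat (ew w) := by
  haveI := c.nQ
  obtain ⟨a, ha, b, hb, rfl⟩ := mem_sup_of_normal_left.1 (c.top ▸ mem_top g)
  rw [map_mul, c.ρ_Q ha, one_mul]
  refine clo_ind (p := fun g => ∃ w, c.ρ g = mat (ew w)) ⟨[], c.ρ_ev []⟩ ?_ hb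
  rintro x _ ⟨i, -, rfl⟩ ⟨w, hw⟩
  exact ⟨w ++ [i], by rw [← c.ρ_ev, ev_append, map_mul, map_mul, hw, c.ρ_ev, ev_cons, ev_nil, mul_one]⟩

theorem ew_D : ∀ w : List ℕ, mat D0 * mat (ew w) = mat (ew w) * mat D0 ∨
    mat D0 * mat (ew w) = mat (ew w) * (mat D0 * mat D0)
  | [] => by simp [show ew [] = one from rfl]
  | i :: w => by
    have h1 : mat (ew (i :: w)) = mat (nth one L5 i) * mat (ew w) := by
      simp only [ew, mat, Par.mat_evW ok12, List.map_cons, List.prod_cons]; rfl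
    have h3 : mat D0 * mat D0 * (mat D0 * mat D0) = mat D0 := by
      rw [← mat_mu, ← mat_mu]; exact eqM_iff.1 (by decide +kernel)
    have h2 : mat D0 * mat (nth one L5 i) = mat (nth one L5 i) * mat D0 ∨
        mat D0 * mat (nth one L5 i) = mat (nth one L5 i) * (mat D0 * mat D0) := by
      simp only [← mat_mu, ← eqM_iff, ← or2_true]
      exact nth_forall (p := fun A => or2 (eqM (mu D0 A) (mu A D0)) (eqM (mu D0 A) (mu A (mu D0 D0))) = true)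
        (by decide +kernel) (by decide +kernel) i
    have ih := ew_D w
    rw [h1, ← mul_assoc]
    generalize mat D0 = D, mat (nth one L5 i) = A at *
    rcases h2 with h2 | h2 <;> rcases ih with h | h
    · left; rw [h2, mul_assoc, h, mul_assoc]
    · right; rw [h2, mul_assoc, h, mul_assoc]
    · right; rw [h2, mul_assoc, mul_assoc, h, ← mul_assoc D, h]; simp only [mul_assoc]
    · left; rw [h2, mul_assoc, mul_assoc, h, ← mul_assoc D, h, mul_assoc _ (D * D), h3, mul_assoc]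

/-- Every coset of `Q` contains an element normalising `⟨d⟩`. -/
theorem lift [Finite Γ] (g : Γ) : ∃ k, c.ρ k = c.ρ g ∧
    (c.ρ c.d * c.ρ g = c.ρ g * c.ρ c.d ∧ k⁻¹ * c.d * k = c.d ∨
      c.ρ c.d * c.ρ g = c.ρ g * c.ρ c.d⁻¹ ∧ k⁻¹ * c.d * k = c.d⁻¹) := by
  have key : ∀ d', c.Fp d' → c.ρ c.d * c.ρ g = c.ρ g * c.ρ d' → ∃ k, c.ρ k = c.ρ g ∧ k⁻¹ * c.d * k = d' :=
    fun d' h h1 => by
      obtain ⟨x, hx, h2⟩ := h.conj (a := g⁻¹ * c.d * g) (c.mem_of_ρ (by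
        rw [map_mul, map_mul, mul_assoc, h1, ← mul_assoc, Co.ρ_inv_mul, one_mul]))
        (by rw [conj_pow', c.fp.d3]; simp)
      exact ⟨g * x, by rw [map_mul, c.ρ_Q hx, mul_one], by rw [← h2]; group⟩
  obtain ⟨w, hw⟩ := c.exists_word g
  have h := ew_D w
  rw [← hw, ← c.ρ_d, ← map_mul c.ρ c.d c.d, ← c.fp.inv_eq] at h
  rcases h with h | h
  · obtain ⟨k, h1, h2⟩ := key _ c.fp h
    exact ⟨k, h1, Or.inl ⟨h, h2⟩⟩
  · obtain ⟨k, h1, h2⟩ := key _ c.fp.inv h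
    exact ⟨k, h1, Or.inr ⟨h, h2⟩⟩

theorem not_both {g : Γ} (h1 : c.ρ c.d * c.ρ g = c.ρ g * c.ρ c.d) : c.ρ c.d * c.ρ g ≠ c.ρ g * c.ρ c.d⁻¹ := by
  intro h2
  have h3 := congrArg (c.ρ g⁻¹ * ·) (h1.symm.trans h2)
  simp only [← mul_assoc, Co.ρ_inv_mul, one_mul, ρ_d, ρ_d_inv, ← eqM_iff] at h3
  exact absurd h3 (by decide +kernel)

theorem lift_cent [Finite Γ] {A : ℕ} (w : List ℕ) (h : eqM (ew w) A = true)
    (h1 : eqM (mu D0 A) (mu A D0) = true) : ∃ k, c.ρ k = mat A ∧ k * c.d = c.d * k := by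
  obtain ⟨k, h2, h3⟩ := c.lift (ev c.e w)
  rw [ρ_ev, eqM_iff.1 h] at h2
  refine ⟨k, h2, ?_⟩
  rcases h3 with h3 | h3
  · exact comm_of_conj h3.2
  · exact absurd h3.1 (c.not_both (by rw [ρ_ev, eqM_iff.1 h, ρ_d, ← mat_mu, ← mat_mu, eqM_iff.1 h1]))

theorem eq_of_cent {a b : Γ} (h : c.ρ a = c.ρ b) (ha : a * c.d = c.d * a) (hb : b * c.d = c.d * b) :
    ∃ t, a = b * c.zp t := by
  have h1 := c.mem_of_ρ h.symm
  have h2 : c.d⁻¹ * (b⁻¹ * a) * c.d = b⁻¹ * a := by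
    rw [mul_assoc, mul_assoc, ha, ← mul_assoc b⁻¹, (show Commute b c.d from hb).inv_left.eq]; group
  have h3 := c.π_conj c.d _ h1
  have h4 := c.π_conj' c.d h1
  rw [← h2, show c.d * (c.d⁻¹ * (b⁻¹ * a) * c.d) * c.d⁻¹ = b⁻¹ * a by group, h2] at h4
  have h5 := c.fp.sum (c.π (b⁻¹ * a))
  rw [h2] at h3
  rw [← h3, ← h4, add_self, zero_add] at h5
  obtain ⟨t, ht⟩ := c.eq_zp' h1 h5
  exact ⟨t, by rw [← ht, mul_inv_cancel_left]⟩

end Std

end H9.R
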