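import Mathlib
import Cfsg.Agent.H9.CG
import Cfsg.Agent.H29.Cert

set_option autoImplicit false
set_option maxRecDepth 100000
set_option Elab.async false
set_option linter.all false

namespace H9.L372

open H29 H9.MX

noncomputable def n0 : Net := ben 7 [(nat_lit 0x1a9695569a6995999a9a96aa56699),
 (nat_lit 0x96f00f069909f909006f909f696f),
 (nat_lit 0x77373f44801e213f1aa952400c04),
 (nat_lit 0x3e7ab1b86c110ec888ccc00039b),
 (nat_lit 0x1684099c110816600d254a96e),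
 (nat_lit 0x2eb35114c0000ae03d378),
 (nat_lit 0x3ffffffffffff)]
noncomputable def n1 : Net := ben 7 [(nat_lit 0x195959a9aa6595965a9aaa65a9559),
 (nat_lit 0x66096f06f09069f966fff9090600),
 (nat_lit 0xf5ade552180a087e803704fa9304),
 (nat_lit 0x5168a36b84e344b8daf5076b0093),
 (nat_lit 0x20001019022400422180124a01804),
 (nat_lit 0x16ed240b00000b006d9b4),
 (nat_lit 0x3ffffffffffff)]
noncomputable def n2 : Net := ben 7 [(nat_lit 0x15555555555555555555555555555),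
 (nat_lit 0x99999999999999),
 (nat_lit 0x21212121212121),
 (nat_lit 0xfc00fc00fc01fe01fe01fe01fe),
 (nat_lit 0x1fcfe0001fcfe00),
 (nat_lit 0x1fc0000fe000000),
 (nat_lit 0x3ffffffffffff)]
noncomputable def n3 : Net := ben 7 [(nat_lit 0x1aa155a4b9834653b155a95957191),
 (nat_lit 0x9b5020d8b3a20022787f991f01c0),
 (nat_lit 0x1b08e647192f085e2426375c2f0e),
 (nat_lit 0xc8bd2a350552b44ac0310976012e),
 (nat_lit 0x1d70867905400a2286981b44),
 (nat_lit 0x38ebab040000000b79f45),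
 (nat_lit 0x3ffffffffffff)]
noncomputable def n4 : Net := ben 7 [(nat_lit 0x259230f8a172856819b0282a468d1),
 (nat_lit 0xd646ce19692d6669063b1676e600),
 (nat_lit 0x71591c172c0f0c56ea4b63078e0c),
 (nat_lit 0xe8d170c0089b6c9090680069009a),
 (nat_lit 0x230bce45f4810806140f449bd),
 (nat_lit 0x221ef641000009029af94),
 (nat_lit 0x3ffffffffffff)]
noncomputable def n5 : Net := ben 7 [(nat_lit 0x1a59599595a5a9599655999aa5695),
 (nat_lit 0x8878ee767177712d242bb9b422d2),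
 (nat_lit 0xf688f609d21a09146f0c352d250c),
 (nat_lit 0x61d8d63d30f221de442e219d018d),
 (nat_lit 0x3000101c0220e00c11423825408a4),
 (nat_lit 0x1a70e21500000982393c4),
 (nat_lit 0x3ffffffffffff)]
def ivl : List ℕ := [0, 1, 2, 3, 4, 5, 7, 6]
def R0 : List (List ℕ) := [[0, 1, 0, 1, 0, 1],
 [0, 2, 0, 2],
 [0, 3, 0, 3],
 [0, 4, 0, 4],
 [0, 5, 0, 5],
 [1, 2, 1, 2, 1, 2],
 [1, 3, 1, 3],
 [1, 4, 1, 4],
 [1, 5, 1, 5],
 [2, 3, 2, 3, 2, 3, 2, 3, 2, 3, 2, 3, 2, 3, 2, 3],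
 [2, 4, 2, 4],
 [2, 5, 2, 5],
 [3, 4, 3, 4, 3, 4],
 [3, 5, 3, 5],
 [4, 5, 4, 5, 4, 5],
 [0, 5, 3, 2, 3, 2, 3, 2, 3, 2]]
noncomputable def nl : List Net := [n0, n1, n2, n3, n4, n5, Net.nil, Net.nil]
theorem hn : NetsOK 114 (nth Net.nil nl) := netsOK_of_all (by decide +kernel)
theorem hiv : IvOK (sg (nth Net.nil nl)) (ivOf ivl) :=
  ivOK_of_chk (k := 7) hn (by decide) (n := 8) (by decide) (by decide) (allN_true.1 (by decide +kernel))
theorem hR0 : ∀ r ∈ R0, ev (sg (nth Net.nil nl)) r = 1 :=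
  rels_of_chk (k := 7) hn (by decide) hiv (allN_true.1 (by decide +kernel))

end H9.L372
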