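import Mathlib
import Cfsg.Prelude.Def_Local
import Cfsg.Prelude.Def_Classical
import Cfsg.Prelude.Def_Spor_Fi24
import Cfsg.Agent.H9.LB1
import Cfsg.Agent.H9.FDefs
import Cfsg.Agent.H28.LU

set_option autoImplicit false

namespace H9.L

theorem exists_UD (K : Type) [Field K] [Fintype K] (hK : Fintype.card K = 9) :
    ∃ (E P D : Subgroup (Cfsg.PSU 4 K 3)) (x : Cfsg.PSU 4 K 3), UD E P D x :=
  let ⟨φ⟩ := H10.U43P.psu K hK
  H28.LU.exists_ud φ

end H9.L
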