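import Mathlib
import Cfsg.Prelude.Def_Local
import Cfsg.Prelude.Def_Classical
import Cfsg.Prelude.Def_Spor_Fi24
import Cfsg.Agent.H9.LB1

/-! The monomial group `3 ^ 5 : A₆`. -/

set_option autoImplicit false
set_option linter.unusedSectionVars false
set_option linter.unusedVariables false
set_option maxRecDepth 100000

open H29 H9 H9.GF2 Matrix Subgroup H9.L
open H9.R hiding cls CL qb Bb ew Std TL pcs wsT cls_va0 cls_vecMul cls_eq_zero cls_zero cls_lt ncard_cls cls_ind R0 c_pcs c_TL c_key nodup_TL ncard_mat mat_inj_TL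

namespace H3.LA

variable {U H : Type*} [Group U] [Group H]

/-- codes of the scalars -/
noncomputable def scn (d : ZMod 3) : ℕ := nth one [one, TH, 11422162973923276454512592176961662804924833795] d.val
/-- the scalars -/
noncomputable def sc (d : ZMod 3) : Mx := mat (scn d)
/-- the basis -/
def bs (i : Fin 6) : V := R.vec (4 ^ (i : ℕ))

theorem sc_add (a b : ZMod 3) : sc (a + b) = sc a * sc b := by
  rw [sc, sc, sc, ← mat_mu, ← eqM_iff]; revert a b; decide +kernel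

theorem sc_zero : sc 0 = 1 := mat_one

theorem sc_comm {M : Mx} (h : mat TH * M = M * mat TH) (d : ZMod 3) : sc d * M = M * sc d := by
  have h1 : Commute (sc 1) M := h
  rcases (by decide : ∀ d : ZMod 3, d = 0 ∨ d = 1 ∨ d = 1 + 1) d with rfl | rfl | rfl
  · rw [sc_zero, one_mul, mul_one]
  · exact h1
  · rw [sc_add]; exact h1.mul_left h1

theorem bs_sc (i : Fin 6) (d : ZMod 3) : bs i ᵥ* sc d = R.vec (va (4 ^ (i : ℕ)) (scn d)) := (vec_va _ _).symm

theorem bs_inj {i k : Fin 6} {a b : ZMod 3} (h : bs i ᵥ* sc a = bs k ᵥ* sc b) : i = k ∧ a = b := by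
  rw [bs_sc, bs_sc] at h
  have := vec_inj (va_lt _ _) (va_lt _ _) h
  clear h; revert i k a b; decide +kernel

/-- a monomial matrix -/
structure Mono (σ : Equiv.Perm (Fin 6)) (d : Fin 6 → ZMod 3) (M : Mx) : Prop where
  lin : mat TH * M = M * mat TH
  act : ∀ i, bs i ᵥ* M = bs (σ i) ᵥ* sc (d i)

variable {σ σ' : Equiv.Perm (Fin 6)} {d d' : Fin 6 → ZMod 3} {M M' : Mx}

theorem Mono.act' (h : Mono σ d M) (i : Fin 6) (c : ZMod 3) : bs i ᵥ* sc c ᵥ* M = bs (σ i) ᵥ* sc (d i + c) := by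
  rw [vecMul_vecMul, sc_comm h.lin, ← vecMul_vecMul, h.act, vecMul_vecMul, sc_add]

theorem Mono.ext (h : Mono σ d M) (h' : Mono σ d M') : M = M' := by
  funext j
  obtain ⟨i, c, e⟩ := (by decide +kernel : ∀ j : Fin P12.n, ∃ i : Fin 6, ∃ c, 2 ^ (j : ℕ) = va (4 ^ (i : ℕ)) (scn c)) j
  have := (h.act' i c).trans (h'.act' i c).symm
  rwa [bs_sc, ← e, vec_two_pow, single_one_vecMul, single_one_vecMul] at this

theorem Mono.uniq (h : Mono σ d M) (h' : Mono σ' d' M) : σ = σ' ∧ d = d' :=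
  have k := fun i => bs_inj ((h.act i).symm.trans (h'.act i))
  ⟨Equiv.ext fun i => (k i).1, funext fun i => (k i).2⟩

theorem Mono.mul (h : Mono σ d M) (h' : Mono σ' d' M') : Mono (σ' * σ) (fun i => d' (σ i) + d i) (M * M') :=
  ⟨by rw [← mul_assoc, h.lin, mul_assoc, h'.lin, mul_assoc], fun i => by
    rw [← vecMul_vecMul, h.act, h'.act']; rfl⟩

theorem mono_of {A : ℕ} (h : eqM (mu TH A) (mu A TH) = true ∧
    ∀ i : Fin 6, va (4 ^ (i : ℕ)) A = va (4 ^ (σ i : ℕ)) (scn (d i))) : Mono σ d (mat A) :=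
  ⟨by rw [← mat_mu, ← mat_mu]; exact eqM_iff.1 h.1, fun i => by rw [bs_sc, ← h.2, vec_va]; rfl⟩

theorem exists_mono {r : Rep H U} {E P : Subgroup U} (l : Lines r E P) (g : P.comap r.f) :
    ∃ σ d, Mono σ d (r.ρ g) := by
  have lin : mat TH * r.ρ g = r.ρ g * mat TH := by rw [← l.th, ← map_mul, ← r.cen, map_mul]
  have : ∀ i : Fin 6, ∃ (k : Fin 6) (d : ZMod 3), bs i ᵥ* r.ρ g = bs k ᵥ* sc d := fun i => by
    obtain ⟨k, hk, c, hc, e⟩ := l.mon g g.2 i i.2
    obtain ⟨d, e'⟩ := (by decide +kernel : ∀ k < 6, ∀ c ∈ [1, 2, 3], ∃ d, c * 4 ^ k = va (4 ^ k) (scn d)) k hk c hc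
    exact ⟨⟨k, hk⟩, d, by rw [bs_sc, ← e', ← e]; rfl⟩
  choose k d e using this
  refine ⟨Equiv.ofBijective k (Finite.injective_iff_bijective.1 fun i j h => ?_), d, lin, e⟩
  have a : ∀ i c, bs i ᵥ* sc c ᵥ* r.ρ g = bs (k i) ᵥ* sc (d i + c) := fun i c => by
    rw [vecMul_vecMul, sc_comm lin, ← vecMul_vecMul, e, vecMul_vecMul, sc_add]
  have := congrArg (· ᵥ* r.ρ (g : H)⁻¹) ((a i (d j)).trans (by rw [h, add_comm, ← a]))
  simp only [vecMul_vecMul, mul_assoc, ← map_mul, mul_inv_cancel, map_one, mul_one] at this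
  exact (bs_inj this).1

/-- The stabiliser of a vector. -/
def st (ρ : H →* Mx) (x : V) : Subgroup H where
  carrier := {g | x ᵥ* ρ g = x}
  one_mem' := by simp
  mul_mem' := fun {a b} ha hb => by
    rw [Set.mem_ofPred_eq] at *; rw [map_mul, ← vecMul_vecMul, ha, hb]
  inv_mem' := fun {a} ha => by
    rw [Set.mem_ofPred_eq] at *; nth_rw 1 [← ha]; rw [vecMul_vecMul, ← map_mul, mul_inv_cancel, map_one, vecMul_one]

theorem card_st [Finite H] (ρ : H →* Mx) (K : Subgroup H) (x : V) :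
    {y | ∃ k ∈ K, x ᵥ* ρ k = y}.ncard * Nat.card ↥(K ⊓ st ρ x) = Nat.card K := by
  let : MulAction K V :=
    { smul := fun k y => y ᵥ* ρ (k : H)⁻¹
      one_smul := fun y => show y ᵥ* ρ (1 : H)⁻¹ = y by simp
      mul_smul := fun a b y => show y ᵥ* ρ ((a : H) * b)⁻¹ = (y ᵥ* ρ (b : H)⁻¹) ᵥ* ρ (a : H)⁻¹ by
        rw [_root_.mul_inv_rev, map_mul, vecMul_vecMul] }
  have h := (MulAction.stabilizer K x).index_mul_card
  rw [MulAction.index_stabilizer] at h
  convert h using 2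
  · congr 1
    ext y
    exact ⟨fun ⟨g, hg, h⟩ => ⟨⟨g⁻¹, inv_mem hg⟩, show x ᵥ* ρ g⁻¹⁻¹ = y by rwa [inv_inv]⟩,
      fun ⟨g, h⟩ => ⟨_, inv_mem g.2, h⟩⟩
  · rw [← Nat.card_congr (subgroupOfEquivOfLe (inf_le_left (a := K) (b := st ρ x))).toEquiv]
    congr 2
    ext g
    rw [mem_subgroupOf, mem_inf, and_iff_right g.2, ← inv_mem_iff]
    rfl

theorem chain [Finite H] (ρ : H →* Mx) {K : Subgroup H} {l : List ℕ} (h : ∀ A ∈ l, ∃ k ∈ K, ρ k = mat A)
    {x n : ℕ} {l1 l2 : List ℕ} (h1 : (seqN (orbSet (fun g y => va y g) (fun y => y) l1 4096 x) fun S =>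
      Nat.ble n (treeCnt (fun y => S.testBit y) 12)) = true ∧ (∀ A ∈ l1, A ∈ l) ∧ ∀ A ∈ l2, A ∈ l ∧ va x A = x ∧ x < 4096) :
    n * Nat.card ↥(K ⊓ st ρ (R.vec x)) ≤ Nat.card K ∧ ∀ A ∈ l2, ∃ k ∈ K ⊓ st ρ (R.vec x), ρ k = mat A := by
  obtain ⟨h1, h2, h3⟩ := h1
  refine ⟨?_, fun A hA => ?_⟩
  · rw [← card_st ρ K (R.vec x)]
    refine Nat.mul_le_mul_right _ ?_
    rw [seqN_eq, ble_iff, ← ncard_cd] at h1
    refine h1.trans (Set.ncard_le_ncard (fun y hy => ?_) (Set.toFinite _))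
    obtain ⟨z, h2, h3⟩ := orbSet_sound _ _ _ _ _ (fun y => ∃ k ∈ K, R.vec x ᵥ* ρ k = R.vec y) ⟨1, one_mem _, by simp⟩
      (fun A hA y ⟨k, hk, e⟩ => by
        obtain ⟨k', hk', e'⟩ := h A (h2 A hA)
        exact ⟨k * k', mul_mem hk hk', by rw [map_mul, ← vecMul_vecMul, e, e', vec_va]⟩) _ hy
    rw [← vec_cd y, ← h3]; exact h2
  · obtain ⟨k, hk, e⟩ := h A (h3 A hA).1
    exact ⟨k, ⟨hk, show _ ᵥ* _ = _ from e ▸ (va_eq_iff (h3 A hA).2.2).1 (h3 A hA).2.1⟩, e⟩

theorem mat_ew_append : ∀ w w' : List ℕ, mat (ew (w ++ w')) = mat (ew w) * mat (ew w')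
  | [], _ => by rw [mat_ew_nil, one_mul, List.nil_append]
  | i :: w, w' => by rw [List.cons_append, mat_ew_cons, mat_ew_cons, mat_ew_append w w', mul_assoc]

def B1 : ℕ := 34256732345709126137768211168439745256821374977
def B2 : ℕ := 1427334810309133213910159325048817503227101185
def B3 : ℕ := 22837356901139212346885226275113661785031327745
def B4 : ℕ := 34256732345709126137768210578071879502564179969
def B5 : ℕ := 1427335145295029017405508028586147559778566145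
def B6 : ℕ := 11422163058988676046306313207629488589151158273

theorem lower [Finite H] (ρ : H →* Mx) {K : Subgroup H}
    (h : ∀ i ∈ [0, 1, 2, 4], ∃ k ∈ K, ρ k = mat (nth one L6 i)) : 87480 ≤ Nat.card K := by
  have k : ∀ w : List ℕ, (∀ i ∈ w, i ∈ [0, 1, 2, 4]) → ∃ k ∈ K, ρ k = mat (ew w) := fun w hw => by
    induction w with
    | nil => exact ⟨1, one_mem _, by rw [map_one, mat_ew_nil]⟩
    | cons i w ih =>
      obtain ⟨a, ha, e⟩ := h i (hw i (by simp))
      obtain ⟨b, hb, e'⟩ := ih fun k hk => hw k (by simp [hk])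
      exact ⟨a * b, mul_mem ha hb, by rw [map_mul, mat_ew_cons, e, e']⟩
  have h0 : ∀ A ∈ [P1, P2, DG, B1, B2, B3, B4, B5, B6], ∃ k ∈ K, ρ k = mat A := fun A hA => by
    obtain ⟨w, -, h1, h2⟩ := (by decide +kernel : ∀ A ∈ [P1, P2, DG, B1, B2, B3, B4, B5, B6],
      ∃ w ∈ [[0], [1], [2], [2, 2, 4], [1, 0, 1, 0], [0, 1, 0, 1, 1, 1], [0, 0, 2, 0, 2, 2, 4], [1, 1, 0, 1, 0, 1, 1],
        [1, 2, 1, 2, 2, 1, 1, 1]], (∀ i ∈ w, i ∈ [0, 1, 2, 4]) ∧ eqM (ew w) A = true) A hA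
    exact eqM_iff.1 h2 ▸ k w h1
  obtain ⟨c1, h1⟩ := chain ρ h0 (x := 1) (n := 18) (l1 := [P1, P2, DG]) (l2 := [P2, B1, B2, B3, B4, B5, B6])
    (by decide +kernel)
  obtain ⟨c2, h2⟩ := chain ρ h1 (x := 4) (n := 15) (l1 := [P2, B1]) (l2 := [B2, B3, B4, B5, B6]) (by decide +kernel)
  obtain ⟨c3, h3⟩ := chain ρ h2 (x := 16) (n := 12) (l1 := [B2, B3, B4]) (l2 := [B4, B5, B6]) (by decide +kernel)
  obtain ⟨c4, h4⟩ := chain ρ h3 (x := 64) (n := 9) (l1 := [B4, B5]) (l2 := [B6]) (by decide +kernel)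
  obtain ⟨c5, -⟩ := chain ρ h4 (x := 256) (n := 3) (l1 := [B6]) (l2 := []) (by decide +kernel)
  have := Nat.card_pos (α := ↥(K ⊓ st ρ (R.vec 1) ⊓ st ρ (R.vec 4) ⊓ st ρ (R.vec 16) ⊓ st ρ (R.vec 64) ⊓
    st ρ (R.vec 256)))
  omega

end H3.LA

namespace H9.L

open H3.LA

variable {G Γ U H : Type*} [Group G] [Group Γ] [Group U] [Group H]

theorem Lines.mon' {r : Rep H U} {E P D : Subgroup U} {x : U} (l : Lines r E P) (h : UD E P D x) :
    Mon r E P := by
  have : Finite H := Finite.of_injective _ r.inj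
  have : Finite U := Finite.of_surjective _ r.surj
  choose σ d hm using exists_mono l
  let χ : P.comap r.f →* ℤˣ × Multiplicative (ZMod 3) := MonoidHom.mk'
    (fun g => (Equiv.Perm.sign (σ g), Multiplicative.ofAdd (∑ i, d g i))) fun a b => by
      obtain ⟨h1, h2⟩ := (hm (a * b)).uniq (by rw [coe_mul, map_mul]; exact (hm a).mul (hm b))
      rw [h1, h2, map_mul, Finset.sum_add_distrib, Equiv.sum_comp (σ a) (d b), Prod.mk_mul_mk, mul_comm, add_comm,
        ofAdd_add]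
  have θP : r.θ ∈ P.comap r.f := by rw [mem_comap, (r.ker _).2 (mem_zpowers _)]; exact one_mem _
  have χ1 : ∀ g, χ g = 1 := fun g => by
    have h1 : r.f g ∈ ⁅P.comap r.f, P.comap r.f⁆.map r.f := by
      rw [map_commutator, map_comap_eq_self_of_surjective r.surj, h.perf]; exact g.2
    rw [← map_subtype_commutator] at h1
    obtain ⟨_, ⟨n, hn, rfl⟩, e⟩ := h1
    obtain ⟨k, hk⟩ := (r.ker (g * (n : H)⁻¹)).1 (by rw [map_mul, map_inv, ← e]; simp)
    obtain ⟨h1, h2⟩ := (hm ⟨_, θP⟩).uniq (σ' := 1) (d' := fun _ => 1) (l.th ▸ mono_of (by decide +kernel))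
    have : χ ⟨_, θP⟩ = 1 := by
      simp only [χ, MonoidHom.mk'_apply, h1, h2]; decide
    rw [show g = ⟨_, θP⟩ ^ k * n from Subtype.ext (eq_mul_of_mul_inv_eq hk.symm), map_mul, map_zpow, this,
      Abelianization.commutator_subset_ker χ hn]; simp
  have χ2 : ∀ g, σ g ∈ alternatingGroup (Fin 6) := fun g => congrArg Prod.fst (χ1 g)
  have χ3 : ∀ g, ∑ i, d g i = 0 := fun g => congrArg Prod.snd (χ1 g)
  have five : ∀ a b : Fin 6 → ZMod 3, ∑ i, a i = 0 → ∑ i, b i = 0 → (fun i : Fin 5 => a i.castSucc) =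
      (fun i => b i.castSucc) → a = b := fun a b h1 h2 e => funext fun i => by
    rw [Fin.sum_univ_castSucc] at h1 h2
    refine Fin.lastCases ?_ (congrFun e) i
    rw [e, ← h2] at h1
    exact add_left_cancel h1
  let F : P.comap r.f → alternatingGroup (Fin 6) × (Fin 5 → ZMod 3) := fun g => (⟨σ g, χ2 g⟩, fun i => d g i.castSucc)
  have inj : Function.Injective F := fun a b e => Subtype.ext (r.inj ((hm a).ext (by
    rw [show σ a = σ b from congrArg (fun p => (p.1 : Equiv.Perm (Fin 6))) e, five _ _ (χ3 a) (χ3 b) (congrArg Prod.snd e)]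
    exact hm b)))
  have c1 : Nat.card (alternatingGroup (Fin 6) × (Fin 5 → ZMod 3)) = 87480 := by
    have := two_mul_nat_card_alternatingGroup (α := Fin 6)
    rw [Nat.card_perm, Nat.card_fin, show Nat.factorial 6 = 720 from rfl] at this
    rw [Nat.card_prod, Nat.card_fun, Nat.card_zmod, Nat.card_fin]; omega
  have c2 : 87480 ≤ Nat.card (P.comap r.f) := by
    have a1 := (P.comap r.f).index_mul_card
    have a2 := P.index_mul_card
    have a3 := r.f.ker.index_mul_card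
    rw [index_ker, MonoidHom.range_eq_top.2 r.surj, card_top, show r.f.ker = zpowers r.θ from Subgroup.ext r.ker,
      Nat.card_zpowers, r.ord, ← a1, ← a2, index_comap_of_surjective _ r.surj, mul_assoc] at a3
    have a4 := Nat.eq_of_mul_eq_mul_left (Nat.pos_of_ne_zero index_ne_zero_of_finite) a3
    have a5 := ((centralizer (E : Set U)).subgroupOf P).index_mul_card
    have a6 : Nat.card (E.subgroupOf P) ≤ Nat.card ((centralizer (E : Set U)).subgroupOf P) :=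
      card_le_of_le (comap_mono fun a ha b hb => h.comm b hb a ha)
    rw [Nat.card_congr (subgroupOfEquivOfLe h.le).toEquiv, h.cardE] at a6
    have := Nat.mul_le_mul h.idx a6
    rw [relIndex, a5] at this
    omega
  have bij := inj.bijective_of_nat_card_le (c1 ▸ c2)
  have card := (Nat.card_eq_of_bijective F bij).trans c1
  have sup : ∀ i ∈ [0, 1, 2, 4], ∃ g, r.f g ∈ P ∧ r.ρ g = mat (nth one L6 i) := fun i hi => by
    obtain ⟨τ, e, h1, h2, h3⟩ : ∃ τ e, Equiv.Perm.sign τ = 1 ∧ ∑ i, e i = 0 ∧ Mono τ e (mat (nth one L6 i)) := by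
      simp only [List.mem_cons, List.not_mem_nil, or_false] at hi
      rcases hi with rfl | rfl | rfl | rfl
      · exact ⟨⟨![1, 2, 0, 3, 4, 5], ![2, 0, 1, 3, 4, 5], by decide, by decide⟩, fun _ => 0, by decide, by decide,
          mono_of (by decide +kernel)⟩
      · exact ⟨⟨![0, 2, 3, 4, 5, 1], ![0, 5, 1, 2, 3, 4], by decide, by decide⟩, fun _ => 0, by decide, by decide,
          mono_of (by decide +kernel)⟩
      · exact ⟨1, ![1, 2, 0, 0, 0, 0], by decide, by decide, mono_of (by decide +kernel)⟩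
      · exact ⟨1, fun _ => 1, by decide, by decide, mono_of (by decide +kernel)⟩
    obtain ⟨g, hg⟩ := bij.2 (⟨τ, h1⟩, fun i => e i.castSucc)
    refine ⟨g, g.2, (hm g).ext ?_⟩
    rwa [show σ g = τ from congrArg (fun p => (p.1 : Equiv.Perm (Fin 6))) hg, five _ _ (χ3 g) h2 (congrArg Prod.snd hg)]
  refine ⟨l, fun g hg => ?_, sup, card⟩
  let s : Set H := {g | r.f g ∈ P ∧ ∃ i ∈ [0, 1, 2, 4], r.ρ g = mat (nth one L6 i)}
  have : closure s = P.comap r.f := eq_of_le_of_card_ge ((closure_le _).2 fun g hg => hg.1)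
    (card ▸ lower r.ρ fun i hi => let ⟨g, h1, h2⟩ := sup i hi; ⟨g, subset_closure ⟨h1, i, hi, h2⟩, h2⟩)
  refine clo_ind (p := fun g => ∃ w, (∀ i ∈ w, i ∈ [0, 1, 2, 4]) ∧ r.ρ g = mat (ew w))
    ⟨[], by simp, by rw [mat_ew_nil, map_one]⟩ ?_ (this.ge hg)
  rintro a b ⟨-, i, hi, e⟩ ⟨w, h1, h2⟩
  refine ⟨w ++ [i], fun k hk => (List.mem_append.1 hk).elim (h1 k) fun hk => List.mem_singleton.1 hk ▸ hi, ?_⟩
  rw [map_mul, mat_ew_append, mat_ew_cons, mat_ew_nil, mul_one, h2, e]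

end H9.L
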