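import Mathlib
import Cfsg.Prelude.Def_Local
import Cfsg.Prelude.Def_Classical
import Cfsg.Prelude.Def_Spor_Fi24
import Cfsg.Agent.H9.LA3
import Cfsg.Agent.H24.Base2

/-! Weight spaces of `3 ^ 5`. -/

set_option autoImplicit false
set_option linter.unusedSectionVars false
set_option linter.unusedVariables false
set_option maxRecDepth 100000

open H29 H9 H9.GF2 Matrix Subgroup H9.L
open H9.R hiding cls CL qb Bb ew Std TL pcs wsT cls_va0 cls_vecMul cls_eq_zero cls_zero cls_lt ncard_cls cls_ind R0 c_pcs c_TL c_key nodup_TL ncard_mat mat_inj_TL cj mem_cj card_cj conj_mem_cj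

namespace H3.LA

open H24
open scoped commutatorElement

variable {U H : Type*} [Group U] [Group H] {ρ : H →* Mx} {F A B : Subgroup H} {a b g : H} {v : V}

/-- the idempotent of an element of order three -/
def ee (ρ : H →* Mx) (a : H) : Mx := 1 + ρ a + ρ (a * a)

theorem vec_ee : v ᵥ* ee ρ a = v + v ᵥ* ρ a + v ᵥ* ρ (a * a) := by simp [ee, vecMul_add]

theorem ee_fix (h : v ᵥ* ρ a = v) : v ᵥ* ee ρ a = v := by
  rw [vec_ee, map_mul, ← vecMul_vecMul, h, h, add_self, zero_add]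

theorem ee_conj (g a : H) : ρ g⁻¹ * ee ρ a = ee ρ (g⁻¹ * a * g) * ρ g⁻¹ := by
  simp only [ee, mul_add, add_mul, ← map_mul, one_mul, mul_one]
  congr 2
  · congr 1; group
  · group

theorem ee_mul (h : a ^ 3 = 1) : ee ρ a * ρ a = ee ρ a := by
  rw [ee, add_mul, add_mul, one_mul, ← map_mul, ← map_mul, ← pow_three', h, map_one]; abel

/-- the weight space -/
def VA (ρ : H →* Mx) (F A : Subgroup H) (v : V) : Prop :=
  ∀ a ∈ F, (a ∈ A → v ᵥ* ρ a = v) ∧ (a ∉ A → v ᵥ* ee ρ a = 0)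

/-- a subgroup of index three -/
structure Hy (F A : Subgroup H) : Prop where
  le : A ≤ F
  ne : ∃ a ∈ F, a ∉ A
  mx : ∀ a ∈ F, ∀ b ∈ F, a ∉ A → b ∉ A → a * b ∈ A ∨ a * b * b ∈ A

theorem VA.cj (h : VA ρ F A v) (hg : g ∈ N[F]) : VA ρ F (H24.cj g A) (v ᵥ* ρ g⁻¹) := fun a ha => by
  obtain ⟨h1, h2⟩ := h _ (conj_mem' hg ha)
  rw [mem_cj, vecMul_vecMul, vecMul_vecMul, ee_conj,
    show ρ g⁻¹ * ρ a = ρ (g⁻¹ * a * g) * ρ g⁻¹ by simp only [← map_mul, mul_inv_cancel_right],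
    ← vecMul_vecMul, ← vecMul_vecMul]
  exact ⟨fun k => by rw [h1 k], fun k => by rw [h2 k, zero_vecMul]⟩

theorem Hy.cj (h : Hy F A) (hg : g ∈ N[F]) : Hy F (H24.cj g A) :=
  ⟨cj_le_of_mem_N h.le hg, let ⟨a, h1, h2⟩ := h.ne; ⟨_, conj_mem hg h1, fun e => h2 (conj_mem_cj_iff.1 e)⟩,
    fun a ha b hb h1 h2 => by
      rw [mem_cj] at h1 h2 ⊢
      rw [mem_cj]
      simpa [mul_assoc] using h.mx _ (conj_mem' hg ha) _ (conj_mem' hg hb) h1 h2⟩

theorem Hy.sep (h : Hy F A) (h' : Hy F B) (n : B ≠ A) : ∃ a ∈ A, a ∉ B := by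
  by_contra! k
  obtain ⟨b, h1, h2⟩ := SetLike.exists_of_lt (lt_of_le_of_ne (show A ≤ B from k) n.symm)
  obtain ⟨c, h3, h4⟩ := h'.ne
  rcases h.mx c h3 b (h'.le h1) (fun e => h4 (k c e)) h2 with e | e
  · exact h4 ((mul_mem_cancel_right h1).1 (k _ e))
  · exact h4 ((mul_mem_cancel_right h1).1 ((mul_mem_cancel_right h1).1 (k _ e)))

theorem exists_T (h : Hy F A) (S : Finset (Subgroup H)) (hS : ∀ B ∈ S, Hy F B ∧ B ≠ A) :
    ∃ T : Mx, (∀ C, (∀ v, VA ρ F C v → v ᵥ* T = v) ∨ ∀ v, VA ρ F C v → v ᵥ* T = 0) ∧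
      (∀ v, VA ρ F A v → v ᵥ* T = v) ∧ ∀ B ∈ S, ∀ v, VA ρ F B v → v ᵥ* T = 0 := by
  classical
  induction S using Finset.induction_on with
  | empty => exact ⟨1, fun C => Or.inl fun v _ => vecMul_one v, fun v _ => vecMul_one v, by simp⟩
  | insert B S _ ih =>
    obtain ⟨T, h1, h2, h3⟩ := ih fun B hB => hS B (Finset.mem_insert_of_mem hB)
    obtain ⟨a, h4, h5⟩ := h.sep (hS B (Finset.mem_insert_self _ _)).1 (hS B (Finset.mem_insert_self _ _)).2
    have k : ∀ C, a ∉ C → ∀ v, VA ρ F C v → v ᵥ* (T * ee ρ a) = 0 := fun C hC v hv => by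
      rw [← vecMul_vecMul]
      rcases h1 C with e | e <;> rw [e v hv]
      exacts [(hv a (h.le h4)).2 hC, zero_vecMul _]
    refine ⟨T * ee ρ a, fun C => ?_, fun v hv => by rw [← vecMul_vecMul, h2 v hv, ee_fix ((hv a (h.le h4)).1 h4)],
      fun C hC v hv => ?_⟩
    · by_cases hC : a ∈ C
      · exact (h1 C).imp (fun e v hv => by rw [← vecMul_vecMul, e v hv, ee_fix ((hv a (h.le h4)).1 hC)])
          fun e v hv => by rw [← vecMul_vecMul, e v hv, zero_vecMul]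
      · exact Or.inr (k C hC)
    · rcases Finset.mem_insert.1 hC with rfl | hC
      · exact k _ h5 v hv
      · rw [← vecMul_vecMul, h3 C hC v hv, zero_vecMul]

theorem nine {v p q r s t u : V} (h1 : p + q + r = 0) (h2 : s + t + u = 0) (h3 : v + p + s = 0)
    (h4 : v + q + u = 0) (h5 : v + t + r = 0) : v = 0 := funext fun j =>
  (by decide : ∀ v p q r s t u : ZMod 2, p + q + r = 0 → s + t + u = 0 → v + p + s = 0 → v + q + u = 0 →
    v + t + r = 0 → v = 0) _ _ _ _ _ _ _ (congrFun h1 j) (congrFun h2 j) (congrFun h3 j) (congrFun h4 j) (congrFun h5 j)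

theorem vec_inv (h : v ᵥ* ρ g = 0) : v = 0 := by
  rw [← vecMul_one v, ← map_one ρ, ← mul_inv_cancel g, map_mul, ← vecMul_vecMul, h, zero_vecMul]

variable [Finite H] (hc : ∀ a ∈ F, ∀ b ∈ F, a * b = b * a) (h3 : ∀ a ∈ F, a ^ 3 = 1)
include hc h3

theorem ee_comm (ha : a ∈ F) (hb : b ∈ F) : ee ρ a * ρ b = ρ b * ee ρ a := by
  simp only [ee, mul_add, add_mul, ← map_mul, one_mul, mul_one, hc a ha b hb, hc _ (mul_mem ha ha) b hb]

theorem VA.act (h : VA ρ F A v) (hb : b ∈ F) : VA ρ F A (v ᵥ* ρ b) := fun a ha =>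
  ⟨fun k => by rw [vecMul_vecMul, ← map_mul, hc b hb a ha, map_mul, ← vecMul_vecMul, (h a ha).1 k],
    fun k => by rw [vecMul_vecMul, ← ee_comm hc h3 ha hb, ← vecMul_vecMul, (h a ha).2 k, zero_vecMul]⟩

theorem exists_wt (ha : a ∈ F) (h1 : ρ a ≠ 1) : ∃ A, (Hy F A ∧ ∃ v ≠ 0, VA ρ F A v) ∧ a ∉ A := by
  obtain ⟨x, hx⟩ : ∃ x : V, x ᵥ* ρ a ≠ x ᵥ* 1 := not_forall.1 fun e => h1 (ext_vecMul e)
  obtain ⟨v, ⟨v1, v2⟩, mx⟩ := Set.exists_max_image {v : V | v ≠ 0 ∧ v ᵥ* ee ρ a = 0} (fun v => ♯(F ⊓ st ρ v))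
    (Set.toFinite _) ⟨x ᵥ* ρ a + x, fun e => hx (by rw [vecMul_one, R.add_eq_zero'.1 e]), by
      rw [add_vecMul, vecMul_vecMul, ← ee_comm hc h3 ha ha, ee_mul (h3 a ha), add_self]⟩
  have k : ∀ b ∈ F, b ∉ F ⊓ st ρ v → v ᵥ* ee ρ b = 0 := fun b hb n => by
    by_contra e
    refine (mx (v ᵥ* ee ρ b) ⟨e, ?_⟩).not_gt (card_lt (lt_of_le_of_ne (fun c hc' => ⟨hc'.1, ?_⟩) fun e => n ?_))
    · have : ee ρ b * ee ρ a = ee ρ a * ee ρ b := by
        nth_rw 1 [ee]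
        nth_rw 3 [ee]
        simp only [mul_add, add_mul, one_mul, mul_one, ee_comm hc h3 ha hb, ee_comm hc h3 ha (mul_mem hb hb)]
      rw [vecMul_vecMul, this, ← vecMul_vecMul, v2, zero_vecMul]
    · show _ ᵥ* _ = _
      rw [vecMul_vecMul, ee_comm hc h3 hb hc'.1, ← vecMul_vecMul, show v ᵥ* ρ c = v from hc'.2]
    · exact e ▸ ⟨hb, show _ ᵥ* _ = _ by rw [vecMul_vecMul, ee_mul (h3 b hb)]⟩
  have n : a ∉ F ⊓ st ρ v := fun e => v1 ((ee_fix e.2).symm.trans v2)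
  refine ⟨_, ⟨⟨inf_le_left, ⟨a, ha, n⟩, fun a ha b hb h1 h2 => ?_⟩, v, v1, fun b hb => ⟨fun e => e.2, k b hb⟩⟩, n⟩
  by_contra! e
  have k1 := congrArg (· ᵥ* ρ b) (k a ha h1)
  have k2 := congrArg (· ᵥ* ρ (b * b)) (k a ha h1)
  have k3 := k b hb h2
  have k4 := k _ (mul_mem ha hb) e.1
  have k5 := k _ (mul_mem (mul_mem ha hb) hb) e.2
  simp only [vec_ee, add_vecMul, vecMul_vecMul, ← map_mul, zero_vecMul] at k1 k2 k3 k4 k5
  have c : Commute b a := hc b hb a ha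
  rw [c.mul_mul_mul_comm] at k4
  rw [mul_assoc a b b, (c.mul_left c).mul_mul_mul_comm, ← mul_assoc (b * b), ← pow_three', h3 b hb, one_mul] at k5
  exact v1 (nine k1 k2 k3 k4 k5)

omit hc h3

variable {r : Rep H U} {E P D : Subgroup U} {x : U} (h : UD E P D x)

theorem th_cases (hg : r.f g = 1) : g = 1 ∨ g = r.θ ∨ g = r.θ * r.θ := by
  classical
  obtain ⟨n, hn, rfl⟩ := Finset.mem_image.1 (mem_zpowers_iff_mem_range_orderOf.1 ((r.ker g).1 hg))
  rw [r.ord, Finset.mem_range] at hn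
  interval_cases n <;> simp [pow_two]

theorem th3 : r.θ ^ 3 = 1 := by rw [← r.ord, pow_orderOf_eq_one]
theorem fθ : r.f r.θ = 1 := (r.ker _).2 (mem_zpowers _)
theorem θ_mem : r.θ ∈ E.comap r.f := by rw [mem_comap, fθ]; exact one_mem _
theorem ker_cen (hg : r.f g = 1) (a : H) : Commute g a := by
  obtain ⟨n, rfl⟩ := (r.ker g).1 hg
  exact (Commute.zpow_right (r.cen a) n).symm

include h

theorem P_N (hg : g ∈ P.comap r.f) : g ∈ N[E.comap r.f] := mem_N_of_finite fun a ha => by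
  rw [mem_comap, map_mul, map_mul, map_inv]; exact h.norm _ hg _ ha

theorem abl : ∀ a ∈ E.comap r.f, ∀ b ∈ E.comap r.f, a * b = b * a := by
  have pw : ∀ s t : ZMod 3, r.θ ^ (s + t).val = r.θ ^ s.val * r.θ ^ t.val := fun s t => by
    rw [← pow_add, ZMod.val_add, ← pow_eq_pow_mod _ th3]
  have inj : ∀ s t : ZMod 3, r.θ ^ s.val = r.θ ^ t.val → s = t := fun s t e =>
    ZMod.val_injective 3 (pow_injOn_Iio_orderOf (by rw [r.ord]; exact s.val_lt) (by rw [r.ord]; exact t.val_lt) e)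
  have k : ∀ a ∈ E.comap r.f, ∀ b ∈ E.comap r.f, r.f ⁅a, b⁆ = 1 := fun a ha b hb => by
    rw [map_commutatorElement, commutatorElement_eq_one_iff_mul_comm, h.comm _ ha _ hb]
  choose s hs using r.surj
  have ex : ∀ a b : U, ∃ t : ZMod 3, a ∈ E → b ∈ E → ∀ a' b', r.f a' = a → r.f b' = b → ⁅a', b'⁆ = r.θ ^ t.val := by
    intro a b
    by_cases m : a ∈ E ∧ b ∈ E
    swap
    · exact ⟨0, fun h1 h2 => (m ⟨h1, h2⟩).elim⟩
    obtain ⟨t, e⟩ : ∃ t : ZMod 3, ⁅s a, s b⁆ = r.θ ^ t.val := by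
      rcases th_cases (k (s a) (by rw [mem_comap, hs]; exact m.1) (s b) (by rw [mem_comap, hs]; exact m.2))
        with e | e | e
      exacts [⟨0, e.trans (pow_zero _).symm⟩, ⟨1, e.trans (pow_one _).symm⟩, ⟨2, e.trans (pow_two _).symm⟩]
    refine ⟨t, fun _ _ a' b' h1 h2 => ?_⟩
    have c1 := ker_cen (r := r) (g := (s a)⁻¹ * a') (by rw [map_mul, map_inv, hs, h1, inv_mul_cancel])
    have c2 := ker_cen (r := r) (g := (s b)⁻¹ * b') (by rw [map_mul, map_inv, hs, h2, inv_mul_cancel])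
    rw [← e, ← mul_inv_cancel_left (s a) a', ← mul_inv_cancel_left (s b) b']
    generalize (s a)⁻¹ * a' = y, (s b)⁻¹ * b' = z at c1 c2
    calc ⁅s a * y, s b * z⁆ = s a * (y * (s b * z) * y⁻¹) * (s a)⁻¹ * (s b * z)⁻¹ := by group
      _ = s a * s b * (z * (s a)⁻¹ * z⁻¹) * (s b)⁻¹ := by rw [(c1 _).eq, mul_inv_cancel_right]; group
      _ = _ := by rw [(c2 _).eq, mul_inv_cancel_right]; group
  choose φ hφ using ex
  have m : ∀ a ∈ E, s a ∈ E.comap r.f := fun a ha => by rw [mem_comap, hs]; exact ha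
  have := h.alt φ (fun a ha b hb e he => inj _ _ (by
      rw [pw, ← hφ _ _ ha (mul_mem hb he) (s a) (s b * s e) (hs _) (by rw [map_mul, hs, hs]),
        ← hφ _ _ ha hb _ _ (hs _) (hs _), ← hφ _ _ ha he _ _ (hs _) (hs _)]
      calc _ = ⁅s a, s b⁆ * (s b * ⁅s a, s e⁆ * (s b)⁻¹) := by group
        _ = _ := by rw [← (ker_cen (k _ (m a ha) _ (m e he)) _).eq, mul_inv_cancel_right]))
    (fun a ha b hb e he => inj _ _ (by
      rw [add_comm, pw, ← hφ _ _ (mul_mem ha hb) he (s a * s b) (s e) (by rw [map_mul, hs, hs]) (hs _),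
        ← hφ _ _ ha he _ _ (hs _) (hs _), ← hφ _ _ hb he _ _ (hs _) (hs _)]
      calc _ = (s a * ⁅s b, s e⁆ * (s a)⁻¹) * ⁅s a, s e⁆ := by group
        _ = _ := by rw [← (ker_cen (k _ (m b hb) _ (m e he)) _).eq, mul_inv_cancel_right]))
    (fun a ha => inj _ _ (by rw [← hφ _ _ ha ha _ _ (hs _) (hs _), commutatorElement_self]; exact (pow_zero _).symm))
    fun g hg a ha b hb => inj _ _ (by
      rw [← hφ _ _ (h.norm g hg a ha) (h.norm g hg b hb) (s g * s a * (s g)⁻¹) (s g * s b * (s g)⁻¹)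
        (by simp [hs]) (by simp [hs]), ← hφ _ _ ha hb _ _ (hs _) (hs _), ← conjugate_commutatorElement,
        ← (ker_cen (k _ (m a ha) _ (m b hb)) _).eq, mul_inv_cancel_right])
  intro a ha b hb
  rw [← commutatorElement_eq_one_iff_mul_comm, hφ _ _ ha hb a b rfl rfl, this _ ha _ hb]
  exact pow_zero _

theorem hyp7 (hA : Hy (E.comap r.f) A) (h1 : r.θ ∈ A) {Λ : Set (Subgroup H)}
    (h2 : ∀ g ∈ P.comap r.f, H24.cj g A ∈ Λ) : 7 ≤ Λ.ncard := by
  have : Finite U := Finite.of_surjective _ r.surj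
  have kA : r.f.ker ≤ A := fun g hg => zpowers_le.2 h1 ((r.ker g).1 hg)
  have e0 := comap_map_eq_self kA
  have le : A.map r.f ≤ E := map_le_iff_le_comap.2 hA.le
  obtain ⟨a, a1, a2⟩ := hA.ne
  have a3 : r.f a ∉ A.map r.f := fun e => a2 (e0.le e)
  have o : orderOf (r.f a) = 3 := haveI := Fact.mk Nat.prime_three
    orderOf_eq_prime (h.exp _ a1) fun e => a3 (e ▸ one_mem _)
  have sup : A.map r.f ⊔ zpowers (r.f a) = E := le_antisymm (sup_le le (zpowers_le.2 a1)) fun b hb => by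
    obtain ⟨b, rfl⟩ := r.surj b
    have m := mem_sup_right (S := A.map r.f) (mem_zpowers (r.f a))
    by_cases k : b ∈ A
    · exact mem_sup_left ⟨b, k, rfl⟩
    rcases hA.mx b hb a a1 k a2 with e | e
    · exact (mul_mem_cancel_right m).1 (mem_sup_left ⟨_, e, map_mul _ _ _⟩)
    · exact (mul_mem_cancel_right m).1 ((mul_mem_cancel_right m).1 (mem_sup_left ⟨_, e, by simp⟩))
  have c := card_sup_of_inf (A := A.map r.f) (B := zpowers (r.f a))
    (norm_of_cent (le_C_iff.2 fun x hx y hy => h.comm _ ((zpowers_le (H := E)).2 a1 hx) _ (le hy))) (by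
      by_contra e
      obtain ⟨y, hy, y1⟩ := exists_ne_one e
      exact a3 (zpowers_le.2 hy.1 ((zpowers_eq_of_prime (by rw [Nat.card_zpowers, o]; norm_num) hy.2 y1).ge
        (mem_zpowers _))))
  rw [sup, h.cardE, Nat.card_zpowers, o] at c
  refine (h.hyp _ le (by omega)).trans (Set.ncard_le_ncard_of_injOn (comap r.f) ?_
    (comap_injective r.surj).injOn (Set.toFinite _))
  rintro _ ⟨g, hg, rfl⟩
  obtain ⟨g, rfl⟩ := r.surj g
  rw [← cj_def, ← map_cj, comap_map_eq_self fun y hy => mem_cj.2 (kA ((r.f.normal_ker).conj_mem' y hy g))]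
  exact h2 g hg

theorem exp3 : ∀ a ∈ E.comap r.f, a ^ 3 = 1 := by
  have c : ∀ a ∈ E.comap r.f, ∀ b ∈ E.comap r.f, (a * b) ^ 3 = a ^ 3 * b ^ 3 := fun a ha b hb =>
    Commute.mul_pow (abl h a ha b hb) 3
  let A : Subgroup H := ⟨⟨⟨{a | a ∈ E.comap r.f ∧ a ^ 3 = 1}, fun ha hb =>
    ⟨mul_mem ha.1 hb.1, by rw [c _ ha.1 _ hb.1, ha.2, hb.2, mul_one]⟩⟩, one_mem _, one_pow 3⟩,
    fun ha => ⟨inv_mem ha.1, by rw [inv_pow, ha.2, inv_one]⟩⟩
  by_contra! n
  have k : ∀ a ∈ E.comap r.f, a ∉ A → a ^ 3 = r.θ ∨ a ^ 3 = r.θ * r.θ := fun a ha n =>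
    (th_cases (by rw [map_pow]; exact h.exp _ ha)).resolve_left fun e => n ⟨ha, e⟩
  have t1 : r.θ * r.θ * r.θ = 1 := (pow_three' _).symm.trans th3
  have := hyp7 h (A := A) ⟨fun a ha => ha.1, let ⟨a, h1, h2⟩ := n; ⟨a, h1, fun e => h2 e.2⟩, fun a ha b hb h1 h2 => by
      have m := mul_mem ha hb
      rcases k a ha h1 with e | e <;> rcases k b hb h2 with e' | e'
      · exact Or.inr ⟨mul_mem m hb, by rw [c _ m _ hb, c _ ha _ hb, e, e', t1]⟩
      · exact Or.inl ⟨m, by rw [c _ ha _ hb, e, e', ← mul_assoc, t1]⟩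
      · exact Or.inl ⟨m, by rw [c _ ha _ hb, e, e', t1]⟩
      · exact Or.inr ⟨mul_mem m hb, by
          rw [c _ m _ hb, c _ ha _ hb, e, e', ← mul_assoc (r.θ * r.θ), t1, one_mul, ← mul_assoc, t1]⟩⟩
    ⟨θ_mem, th3⟩ (Λ := {A}) fun g hg => cj_of_mem_N (mem_N_of_finite fun a ha =>
      ⟨conj_mem (P_N h hg) ha.1, by rw [conj_pow, ha.2]; simp⟩)
  simp at this

theorem six : ∃ (e : Fin 6 → Subgroup H) (u : Fin 6 × Fin 2 → V), LinearIndependent (ZMod 2) u ∧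
    (∀ i, u (i, 0) ≠ 0 ∧ VA r.ρ (E.comap r.f) (e i) (u (i, 0)) ∧ r.θ ∉ e i ∧ u (i, 1) = u (i, 0) ᵥ* r.ρ r.θ) ∧
    (∀ (c : Fin 6 × Fin 2 → ZMod 2) i, VA r.ρ (E.comap r.f) (e i) (∑ p, c p • u p) →
      ∑ p, c p • u p = c (i, 0) • u (i, 0) + c (i, 1) • u (i, 1)) ∧
    ∀ g ∈ P.comap r.f, ∀ i, ∃ k, e k = H24.cj g (e i) := by
  classical
  have hc := abl (r := r) h
  have h3 := exp3 (r := r) h
  set F := E.comap r.f
  let Λ : Set (Subgroup H) := {A | Hy F A ∧ ∃ v ≠ 0, VA r.ρ F A v}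
  have cjΛ : ∀ g ∈ P.comap r.f, ∀ A ∈ Λ, H24.cj g A ∈ Λ := fun g hg A ⟨h1, v, v1, v2⟩ =>
    ⟨h1.cj (P_N h hg), _, fun e => v1 (vec_inv e), v2.cj (P_N h hg)⟩
  have := Fintype.ofFinite Λ
  choose v v1 v2 using fun A : Λ => A.2.2
  have key : ∀ b : Λ → H, (∀ A, b A ∈ F ∧ b A ∉ A.1) → ∀ u : Λ × Fin 2 → V,
      (∀ A, u (A, 0) = v A ∧ u (A, 1) = v A ᵥ* r.ρ (b A)) → LinearIndependent (ZMod 2) u ∧
      ∀ (c : Λ × Fin 2 → ZMod 2) (A : Λ), VA r.ρ F A (∑ p, c p • u p) →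
        ∑ p, c p • u p = c (A, 0) • u (A, 0) + c (A, 1) • u (A, 1) := fun b hb u hu => by
    have m : ∀ p, VA r.ρ F p.1.1 (u p) := fun ⟨A, i⟩ => by
      fin_cases i
      exacts [(hu A).1 ▸ v2 A, (hu A).2 ▸ (v2 A).act hc h3 (hb A).1]
    have k : ∀ (c : Λ × Fin 2 → ZMod 2) (A : Λ), VA r.ρ F A (∑ p, c p • u p) →
        ∑ p, c p • u p = c (A, 0) • u (A, 0) + c (A, 1) • u (A, 1) := fun c A hA => by
      obtain ⟨T, -, t1, t2⟩ := exists_T (ρ := r.ρ) A.2.1 ((Finset.univ.erase A).image Subtype.val) fun B hB => by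
        obtain ⟨C, hC, rfl⟩ := Finset.mem_image.1 hB
        exact ⟨C.2.1, fun e => (Finset.mem_erase.1 hC).1 (Subtype.ext e)⟩
      rw [← t1 _ hA, sum_vecMul, Fintype.sum_prod_type, Finset.sum_eq_single A (fun C _ n => ?_) (by simp),
        Fin.sum_univ_two, smul_vecMul, smul_vecMul, t1 _ (m (A, 0)), t1 _ (m (A, 1))]
      exact Finset.sum_eq_zero fun i _ => by
        rw [smul_vecMul, t2 _ (Finset.mem_image_of_mem _ (Finset.mem_erase.2 ⟨n, Finset.mem_univ _⟩)) _ (m (C, i)),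
          smul_zero]
    refine ⟨Fintype.linearIndependent_iff.2 fun c e ⟨A, i⟩ => ?_, k⟩
    have := k c A (e ▸ fun a _ => ⟨fun _ => zero_vecMul _, fun _ => zero_vecMul _⟩)
    rw [e, (hu A).1, (hu A).2] at this
    have n : v A + v A ᵥ* r.ρ (b A) ≠ 0 := fun e =>
      v1 A ((ee_fix (R.add_eq_zero'.1 e).symm).symm.trans ((v2 A _ (hb A).1).2 (hb A).2))
    have n' : v A ᵥ* r.ρ (b A) ≠ 0 := fun e => v1 A (vec_inv e)
    have : c (A, 0) = 0 ∧ c (A, 1) = 0 := by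
      rcases z2_cases (c (A, 0)) with e1 | e1 <;> rcases z2_cases (c (A, 1)) with e2 | e2 <;>
        simp only [e1, e2, zero_smul, one_smul, zero_add, add_zero] at this
      exacts [⟨e1, e2⟩, (n' this.symm).elim, (v1 A this.symm).elim, (n this.symm).elim]
    fin_cases i
    exacts [this.1, this.2]
  have le6 : Fintype.card Λ ≤ 6 := by
    choose b b1 b2 using fun A : Λ => A.2.1.ne
    have := (key b (fun A => ⟨b1 A, b2 A⟩) (fun p => ![v p.1, v p.1 ᵥ* r.ρ (b p.1)] p.2)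
      fun A => ⟨rfl, rfl⟩).1.fintype_card_le_finrank
    rw [Module.finrank_fintype_fun_eq_card, Fintype.card_prod, Fintype.card_fin, Fintype.card_fin,
      show P12.n = 12 from rfl] at this
    omega
  have θn : ∀ A ∈ Λ, r.θ ∉ A := fun A hA e => by
    have := hyp7 h hA.1 e fun g hg => cjΛ g hg A hA
    rw [← Nat.card_coe_set_eq, Nat.card_eq_fintype_card] at this
    omega
  have eq6 : Fintype.card Λ = 6 := by
    let act : MulAction (P.comap r.f) Λ :=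
      { smul := fun g A => ⟨H24.cj g A, cjΛ g g.2 A A.2⟩
        one_smul := fun A => Subtype.ext (cj_one _)
        mul_smul := fun g k A => Subtype.ext (cj_mul _ _ _) }
    have k : (MulAction.toPermHom (P.comap r.f) Λ).ker ≤
        ((centralizer (E : Set U)).comap r.f).subgroupOf _ := fun g hg a ha => by
      obtain ⟨a, rfl⟩ := r.surj a
      suffices (g : H) * a * (g : H)⁻¹ * a⁻¹ = 1 by
        rw [mul_inv_eq_one, mul_inv_eq_iff_eq_mul] at this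
        exact (map_mul _ _ _).symm.trans ((congrArg r.f this.symm).trans (map_mul _ _ _))
      by_contra n
      obtain ⟨A, hA, k⟩ := exists_wt (ρ := r.ρ) hc h3 (mul_mem (conj_mem (P_N h g.2) ha) (inv_mem ha))
        fun e => n (r.inj (e.trans (map_one _).symm))
      have gN : (g : H) ∈ N[A] := by
        have := DFunLike.congr_fun (MonoidHom.mem_ker.1 hg) (⟨A, hA⟩ : Λ)
        exact mem_N_iff_cj.2 (congrArg Subtype.val this)
      have : ∀ y : H, (∀ g, g * y = y * g) → a * y ∈ A → False := fun y hy e => k (by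
        have := mul_mem (conj_mem gN e) (inv_mem e)
        rwa [← conj_mul, hy g, mul_inv_cancel_right, _root_.mul_inv_rev, mul_assoc, mul_inv_cancel_left] at this)
      by_cases m : a ∈ A
      · exact this 1 (by simp) (by simpa using m)
      rcases hA.1.mx a ha _ θ_mem m (θn A hA) with e | e
      · exact this _ r.cen e
      · exact this (r.θ * r.θ) (fun g => Commute.mul_right (r.cen g) (r.cen g)) (by rwa [← mul_assoc])
    have k1 := Nat.le_of_dvd (Nat.pos_of_ne_zero index_ne_zero_of_finite) (index_dvd_of_le k)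
    have k2 := card_le_card_group (MulAction.toPermHom (P.comap r.f) Λ).range
    rw [← index_ker, Nat.card_perm, Nat.card_eq_fintype_card] at k2
    rw [← relIndex, relIndex_comap, map_comap_eq_self_of_surjective r.surj] at k1
    have k3 := h.idx.trans (k1.trans k2)
    by_contra n
    exact absurd (k3.trans (Nat.factorial_le (show _ ≤ 5 by omega))) (by decide)
  let e : Fin 6 ≃ Λ := (Fintype.equivFinOfCardEq eq6).symm
  let u : Λ × Fin 2 → V := fun p => ![v p.1, v p.1 ᵥ* r.ρ r.θ] p.2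
  obtain ⟨li, sp⟩ := key (fun _ => r.θ) (fun A => ⟨θ_mem, θn A A.2⟩) u fun A => ⟨rfl, rfl⟩
  let ι : Fin 6 × Fin 2 ≃ Λ × Fin 2 := e.prodCongr (Equiv.refl _)
  refine ⟨fun i => e i, u ∘ ι, li.comp ι ι.injective, fun i => ⟨v1 _, v2 _, θn _ (e i).2, rfl⟩, fun c i k => ?_,
    fun g hg i => ?_⟩
  · have q : ∑ p, c p • (u ∘ ι) p = ∑ p, c (ι.symm p) • u p := by
      rw [← ι.sum_comp]; simp only [Equiv.symm_apply_apply, Function.comp_apply]
    have := sp (fun p => c (ι.symm p)) (e i) (q ▸ k)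
    rw [q, this]
    simp [ι]
  · obtain ⟨k, hk⟩ := e.surjective ⟨_, cjΛ _ hg _ (e i).2⟩
    exact ⟨k, congrArg Subtype.val hk⟩

omit h in
theorem basis {u : Fin 6 × Fin 2 → V} (li : LinearIndependent (ZMod 2) u) : ∃ A B : Mx, A * B = 1 ∧
    (∀ (i : Fin 6) (k : Fin 2), R.vec (2 ^ (k : ℕ) * 4 ^ (i : ℕ)) ᵥ* A = u (i, k)) ∧
    ∀ w, ∃ c : Fin 6 × Fin 2 → ZMod 2, w = ∑ p, c p • u p := by
  let ι : Fin 6 × Fin 2 ≃ Fin P12.n := finProdFinEquiv (m := 6) (n := 2)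
  let A : Mx := fun j => u (ι.symm j)
  obtain ⟨B, hB, hB'⟩ : ∃ B, A * B = 1 ∧ B * A = 1 :=
    let ⟨w, e⟩ := linearIndependent_rows_iff_isUnit.1
      (show LinearIndependent _ A.row from li.comp ι.symm ι.symm.injective)
    ⟨w.inv, e ▸ w.val_inv, e ▸ w.inv_val⟩
  refine ⟨A, B, hB, fun i k => ?_, fun w => ⟨fun p => (w ᵥ* B) (ι p), ?_⟩⟩
  · have := vec_two_pow (ι (i, k))
    rw [show ((ι (i, k) : Fin P12.n) : ℕ) = k + 2 * i from rfl, pow_add, pow_mul] at this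
    rw [show (4 : ℕ) = 2 ^ 2 from rfl, this, single_one_vecMul]
    exact congrArg u (ι.symm_apply_apply _)
  · rw [← ι.symm.sum_comp]
    simp only [Equiv.apply_symm_apply]
    nth_rw 1 [← vecMul_one w, ← hB', ← vecMul_vecMul, vecMul_eq_sum]

omit h in
theorem ext_pow {A B : Mx} (k : ∀ j : Fin P12.n, R.vec (2 ^ (j : ℕ)) ᵥ* A = R.vec (2 ^ (j : ℕ)) ᵥ* B) : A = B :=
  funext fun j => by
    have := k j
    rwa [vec_two_pow, single_one_vecMul, single_one_vecMul] at this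

theorem main : ∃ A B hAB, Lines (r.map A B hAB) E P := by
  have hc := abl (r := r) h
  have h3 := exp3 (r := r) h
  obtain ⟨e, u, li, hu, sp, cl⟩ := six (r := r) h
  obtain ⟨A, B, hB, row, sum⟩ := basis li
  have r1 : ∀ i : Fin 6, R.vec (4 ^ (i : ℕ)) ᵥ* A = u (i, 0) := fun i => by simpa using row i 0
  have r2 : ∀ i : Fin 6, R.vec (2 * 4 ^ (i : ℕ)) ᵥ* A = u (i, 1) := fun i => by simpa using row i 1
  have r3 : ∀ i : Fin 6, R.vec (3 * 4 ^ (i : ℕ)) ᵥ* A = u (i, 0) + u (i, 1) := fun i => by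
    rw [← r2, ← r1, ← add_vecMul, ← vec_xor', (by decide : ∀ i : Fin 6, 4 ^ (i : ℕ) ^^^ 2 * 4 ^ (i : ℕ) = 3 * 4 ^ (i : ℕ))]
  have val : ∀ (k : Fin 6) (w : V), w ≠ 0 → VA r.ρ (E.comap r.f) (e k) w →
      ∃ c ∈ [1, 2, 3], w ᵥ* B = R.vec (c * 4 ^ (k : ℕ)) := fun k w w1 w2 => by
    obtain ⟨c, e1⟩ := sum w
    have e2 := e1.trans (sp _ k (e1 ▸ w2))
    have bk : ∀ y : V, y ᵥ* A = w → w ᵥ* B = y := fun y e => by rw [← e, vecMul_vecMul, hB, vecMul_one]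
    rcases z2_cases (c (k, 0)) with s | s <;> rcases z2_cases (c (k, 1)) with t | t <;>
      simp only [s, t, zero_smul, one_smul, zero_add, add_zero] at e2
    · exact (w1 e2).elim
    · exact ⟨2, by simp, bk _ ((r2 k).trans e2.symm)⟩
    · exact ⟨1, by simp, bk _ (by rw [one_mul, r1, e2])⟩
    · exact ⟨3, by simp, bk _ ((r3 k).trans e2.symm)⟩
  refine ⟨A, B, hB, ?_, fun a ha i hi => ?_, fun g hg i hi => ?_⟩
  · rw [Rep.map_ρ, Rep.map_θ, ← mul_one (mat TH), ← hB, ← mul_assoc]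
    refine congrArg (· * B) (ext_pow fun j => ?_)
    obtain ⟨i, k | k⟩ := (by decide +kernel : ∀ j : Fin P12.n, ∃ i : Fin 6,
      2 ^ (j : ℕ) = 4 ^ (i : ℕ) ∧ va (2 ^ (j : ℕ)) TH = 2 * 4 ^ (i : ℕ) ∨
      2 ^ (j : ℕ) = 2 * 4 ^ (i : ℕ) ∧ va (2 ^ (j : ℕ)) TH = 3 * 4 ^ (i : ℕ)) j <;>
    rw [← vecMul_vecMul, ← vecMul_vecMul, ← vec_va, k.2, k.1]
    · rw [r1, r2, (hu i).2.2.2]
    · have := ((hu i).2.1 _ θ_mem).2 (hu i).2.2.1
      rw [vec_ee, R.add_eq_zero'] at this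
      rw [r2, r3, (hu i).2.2.2, this, vecMul_vecMul, map_mul]
  · rw [Rep.map_ρ, ← vecMul_vecMul, ← vecMul_vecMul, r1 ⟨i, hi⟩]
    exact val ⟨i, hi⟩ _ (fun e => (hu _).1 (vec_inv e)) ((hu _).2.1.act hc h3 ha)
  · rw [Rep.map_ρ, ← vecMul_vecMul, ← vecMul_vecMul, r1 ⟨i, hi⟩]
    have := (hu ⟨i, hi⟩).2.1.cj (inv_mem (P_N h hg))
    rw [inv_inv] at this
    obtain ⟨k, hk⟩ := cl _ (inv_mem hg) ⟨i, hi⟩
    exact ⟨k, k.2, val k _ (fun e => (hu _).1 (vec_inv e)) (hk ▸ this)⟩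

end H3.LA

namespace H9.L

variable {G Γ U H : Type*} [Group G] [Group Γ] [Group U] [Group H]

theorem Rep.lines (r : Rep H U) {E P D : Subgroup U} {x : U} (h : UD E P D x) :
    ∃ A B hAB, Lines (r.map A B hAB) E P :=
  haveI : Finite H := Finite.of_injective _ r.inj
  H3.LA.main h

end H9.L
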