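import Mathlib
import Cfsg.Agent.H9.LB1
import Cfsg.Agent.H4.FL4

/-! The last generator. -/

set_option autoImplicit false
set_option linter.all false

namespace H9.L

open H29 H9.GF2 Matrix Subgroup
open H9.R hiding cls CL qb Bb ew Std TL pcs wsT cls_va0 cls_vecMul cls_eq_zero cls_zero cls_lt ncard_cls cls_ind R0 c_pcs c_TL c_key nodup_TL ncard_mat mat_inj_TL

variable {G Γ U H : Type*} [Group G] [Group Γ] [Group U] [Group H]

theorem Mon.std {r : Rep H U} {E P D : Subgroup U} {x : U} (l : Mon r E P) (h : UD E P D x) :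
    ∃ A B : Mx, A * B = 1 ∧ A * r.ρ r.θ * B = mat TH ∧
      (∀ i < 5, ∃ g, A * r.ρ g * B = mat (nth one L6 i)) ∧
      ∀ g, ∃ w, (∀ i ∈ w, i < 5) ∧ A * r.ρ g * B = mat (ew w) := H4.FL.std l h

end H9.L
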