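import Mathlib
import Cfsg.Prelude.Def_Local
import Cfsg.Prelude.Def_Classical
import Cfsg.Agent.H9.LA1
import Cfsg.Agent.H9.LA2
import Cfsg.Agent.H9.LA3
import Cfsg.Agent.H9.LA4
import Cfsg.Agent.H23.Components

/-! Coordinates. -/

set_option autoImplicit false
set_option linter.all false

namespace H9.L

open H29 H9.GF2 Matrix Subgroup
open H9.R hiding cls CL qb Bb ew Std TL pcs wsT cls_va0 cls_vecMul cls_eq_zero cls_zero cls_lt ncard_cls cls_ind R0 c_pcs c_TL c_key nodup_TL ncard_mat mat_inj_TL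

variable {G Γ U H : Type*} [Group G] [Group Γ] [Group U] [Group H]

theorem UD.la5_perf {E P D : Subgroup U} {x : U} (h : UD E P D x) : commutator U = ⊤ := by
  have h1 : P ≤ commutator U := h.perf ▸ commutator_mono le_top le_top
  rw [eq_top_iff, ← h.top, sup_le_iff, zpowers_le]
  refine ⟨h1, ?_⟩
  obtain ⟨a, ha, h2⟩ := h.o3
  have h3 := congrArg (QuotientGroup.mk' (commutator U)) h2
  have h4 : QuotientGroup.mk' (commutator U) a = 1 := (QuotientGroup.eq_one_iff a).2 (h1 (h.le ha))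
  rw [map_pow, map_mul, h4, mul_one, ← map_pow, pow_succ, pow_two, h.x2, one_mul, map_one] at h3
  exact (QuotientGroup.eq_one_iff x).1 h3

theorem la5_cen (f : H →* U) (hf : Function.Surjective f) (hU : commutator U = ⊤) {θ : H}
    (h : ∀ g, f g = 1 ↔ g ∈ zpowers θ) (g : H) : g * θ = θ * g := by
  have h0 : f θ = 1 := (h θ).2 (mem_zpowers θ)
  have h1 : ∀ a : H, ∃ n : ℤ, a * θ * a⁻¹ = θ ^ n := fun a =>
    let ⟨n, hn⟩ := (h (a * θ * a⁻¹)).1 (by simp [h0])
    ⟨n, hn.symm⟩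
  have h2 : ∀ a b : H, a * b * θ * (a * b)⁻¹ = b * a * θ * (b * a)⁻¹ := fun a b => by
    obtain ⟨m, hm⟩ := h1 a
    obtain ⟨n, hn⟩ := h1 b
    calc a * b * θ * (a * b)⁻¹ = a * (b * θ * b⁻¹) * a⁻¹ := by group
      _ = (θ ^ m) ^ n := by rw [hn, ← hm, conj_zpow]
      _ = (θ ^ n) ^ m := by rw [← _root_.zpow_mul, mul_comm, _root_.zpow_mul]
      _ = b * (a * θ * a⁻¹) * b⁻¹ := by rw [hm, ← hn, conj_zpow]
      _ = _ := by group
  have h3 : commutator H ≤ centralizer {θ} := commutator_le.2 fun a _ b _ => by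
    rw [mem_centralizer_singleton_iff, commutatorElement_def]
    calc a * b * a⁻¹ * b⁻¹ * θ = a * b * (a⁻¹ * b⁻¹ * θ * (a⁻¹ * b⁻¹)⁻¹) * (a⁻¹ * b⁻¹) := by group
      _ = _ := by rw [← h2]; group
  have h4 : f g ∈ (commutator H).map f := by
    rw [commutator_def, map_commutator, ← MonoidHom.range_eq_map, MonoidHom.range_eq_top.2 hf, ← commutator_def, hU]
    exact mem_top _
  obtain ⟨b, hb, e⟩ := h4
  obtain ⟨n, hn⟩ := (h (b⁻¹ * g)).1 (by simp [e])
  have h5 : b * (b⁻¹ * g) ∈ centralizer {θ} :=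
    mul_mem (h3 hb) (hn ▸ zpow_mem (mem_centralizer_singleton_iff.2 rfl) n)
  rw [mul_inv_cancel_left] at h5
  exact mem_centralizer_singleton_iff.1 h5

theorem exists_stM [Finite Γ] {z : Γ} (hz : orderOf z = 2) (hc : ∀ g, g * z = z * g) (Q N M : Subgroup Γ)
    [Q.Normal] [N.Normal] [M.Normal] (hF : Cfsg.generalizedFittingSubgroup Γ = Q)
    (hQ : Cfsg.IsExtraspecial 2 Q) (hcard : Nat.card Q = 2 ^ 13) (hQN : Q ≤ N) (hNM : N ≤ M)
    (hN : Nat.card N = 3 * Nat.card Q) (K : Type) [Field K] [Fintype K] (hK : Fintype.card K = 9)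
    (e : M ⧸ N.subgroupOf M ≃* Cfsg.PSU 4 K 3) (hM : M.index = 2) :
    ∃ c : StM Γ, c.z = z ∧ c.Q = Q := by
  have h2c : centralizer (Q : Set Γ) ≤ Q := hF ▸ H23.centralizer_fstar_le
  obtain ⟨z', h1, -, h2⟩ := H3.IsExtraspecial.exists_xs hQ
  have h3 : z ∈ centralizer (Q : Set Γ) := fun g _ => hc g
  have z2 : z' * z' = 1 := by rw [← sq, h1.z_pow]
  obtain rfl : z = z' := ((mem_zpowers_two z2).1 (h2 ▸ ⟨h2c h3, h3⟩)).resolve_left fun h => by
    rw [h, orderOf_one] at hz; omega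
  obtain ⟨c, rfl, rfl⟩ := exists_co h1 hcard inferInstance hc
  obtain ⟨E, P, D, x, hu⟩ := exists_UD K hK
  let q : M →* M ⧸ c.Q.subgroupOf M := QuotientGroup.mk' _
  let ρ : M ⧸ c.Q.subgroupOf M →* Mx := QuotientGroup.lift _ (c.ρ.comp M.subtype) fun a ha => c.ρ_Q ha
  let f : M ⧸ c.Q.subgroupOf M →* Cfsg.PSU 4 K 3 :=
    QuotientGroup.lift _ (e.toMonoidHom.comp (QuotientGroup.mk' _)) fun a ha =>
      (congrArg e ((QuotientGroup.eq_one_iff a).2 (hQN ha))).trans (map_one e)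
  have f1 : ∀ a : M, f (q a) = 1 ↔ (a : Γ) ∈ N := fun a =>
    (map_eq_one_iff e e.injective).trans (QuotientGroup.eq_one_iff a)
  have qs : ∀ g, ∃ a, q a = g := QuotientGroup.mk'_surjective _
  have fs : Function.Surjective f := fun u => by
    obtain ⟨a, ha⟩ := QuotientGroup.mk'_surjective _ (e.symm u)
    exact ⟨q a, (congrArg e ha).trans (e.apply_symm_apply u)⟩
  have cM : Nat.card M = 3265920 * (3 * 2 ^ 13) := by
    rw [card_eq_card_quotient_mul_card_subgroup (N.subgroupOf M), Nat.card_congr e.toEquiv, hu.card,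
      Nat.card_congr (subgroupOfEquivOfLe hNM).toEquiv, hN, hcard]
  have cK : Nat.card f.ker = 3 := by
    have k1 := card_eq_card_quotient_mul_card_subgroup (c.Q.subgroupOf M)
    rw [cM, Nat.card_congr (subgroupOfEquivOfLe (hQN.trans hNM)).toEquiv, hcard,
      card_eq_card_quotient_mul_card_subgroup f.ker,
      Nat.card_congr (QuotientGroup.quotientKerEquivOfSurjective f fs).toEquiv, hu.card] at k1
    omega
  obtain ⟨θ, t1, t2⟩ : ∃ θ ∈ f.ker, θ ≠ 1 := (f.ker.bot_or_exists_ne_one).resolve_left fun h => by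
    rw [h, card_bot] at cK; omega
  have t3 : orderOf θ = 3 := by
    have := card_dvd_of_le (zpowers_le.2 t1)
    rw [Nat.card_zpowers, cK] at this
    exact ((Nat.dvd_prime Nat.prime_three).1 this).resolve_left fun h => t2 (orderOf_eq_one_iff.1 h)
  have t4 : zpowers θ = f.ker := eq_of_le_of_card_ge (zpowers_le.2 t1) (by rw [Nat.card_zpowers, cK, t3])
  have t5 : ∀ g, f g = 1 ↔ g ∈ zpowers θ := fun g => t4 ▸ Iff.rfl
  let r : Rep (M ⧸ c.Q.subgroupOf M) (Cfsg.PSU 4 K 3) :=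
    { ρ := ρ, f := f, θ := θ, surj := fs, ker := t5, ord := t3
      cen := la5_cen f fs hu.la5_perf t5
      inj := (injective_iff_map_eq_one _).2 fun g hg => by
        obtain ⟨a, rfl⟩ := qs g
        exact (QuotientGroup.eq_one_iff a).2 (c.ker_of_cent (fun g h => h2c h) hg) }
  obtain ⟨A, B, hAB, l⟩ := r.lines hu
  obtain ⟨A', B', hAB', s1, s2, s3⟩ := (l.mon' hu).std hu
  let c' := (c.map A B hAB).map A' B' hAB'
  have k0 : ∀ a : M, A' * (r.map A B hAB).ρ (q a) * B' = c'.ρ a := fun a => rfl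
  have kr : ∀ g, c'.ρ g = 1 → g ∈ c'.Q := fun g hg => c'.ker_of_cent (fun g h => h2c h) hg
  have s4 : ∀ i, ∃ a ∈ M, i < 5 → c'.ρ a = mat (nth one L6 i) := fun i => by
    by_cases hi : i < 5
    · obtain ⟨g, hg⟩ := s2 i hi
      obtain ⟨a, rfl⟩ := qs g
      exact ⟨a, a.2, fun _ => hg⟩
    · exact ⟨1, one_mem _, fun h => absurd h hi⟩
  choose ε e1 e2 using s4
  refine ⟨⟨c', ε, M, e2, kr, hM, le_antisymm (sup_le (hQN.trans hNM) ((closure_le _).2 ?_)) fun g hg => ?_,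
    by rw [← M.card_mul_index, cM, hM]; norm_num, fun g => ?_⟩, rfl, rfl⟩
  · rintro _ ⟨i, -, rfl⟩
    exact e1 i
  · obtain ⟨w, w1, w2⟩ := s3 (q ⟨g, hg⟩)
    have k1 : ∀ w : List ℕ, (∀ i ∈ w, i < 5) → c'.ρ (ev ε w) = mat (ew w) := fun w hw => by
      induction w with
      | nil => rw [mat_ew_nil, ev_nil, map_one]
      | cons i w ih => rw [ev_cons, map_mul, mat_ew_cons, e2 i (hw i (by simp)), ih fun k hk => hw k (by simp [hk])]
    rw [k0, ← k1 w w1] at w2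
    have k2 := kr (g * (ev ε w)⁻¹) (by rw [map_mul, w2, ← map_mul, mul_inv_cancel, map_one])
    rw [show g = g * (ev ε w)⁻¹ * ev ε w by group]
    exact mul_mem (mem_sup_left k2) (mem_sup_right (ev_mem_gen fun i hi => by
      have := w1 i hi
      simp; omega))
  · obtain ⟨n, hn⟩ := qs θ
    have n1 : c'.ρ n = mat TH := by rw [← k0, hn]; exact s1
    have n2 : g⁻¹ * n * g ∈ N := ‹N.Normal›.conj_mem' _ ((f1 n).1 (hn ▸ t1)) g
    have n3 : mat TH * c'.ρ g = c'.ρ g * c'.ρ (g⁻¹ * n * g) := by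
      rw [← n1, ← map_mul, ← map_mul]; congr 1; group
    rcases (H4.FL.ker3 r).1 ((f1 ⟨_, hNM n2⟩).2 n2) with h | h | h
    · have n4 : g * (g⁻¹ * n * g) * g⁻¹ ∈ c.Q := 
        c.nQ.conj_mem _ ((QuotientGroup.eq_one_iff (⟨_, hNM n2⟩ : M)).1 h) g
      rw [show g * (g⁻¹ * n * g) * g⁻¹ = n by group] at n4
      exact absurd (hn.symm.trans ((QuotientGroup.eq_one_iff n).2 n4)) t2
    · left
      rw [n3, ← k0 ⟨_, hNM n2⟩, h]
      exact congrArg _ s1
    · right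
      have h' : q ⟨_, hNM n2⟩ = q (n * n) := by rw [h, map_mul, hn]
      rw [n3, ← k0 ⟨_, hNM n2⟩, h', k0, ← n1, ← map_mul c'.ρ (n : Γ)]; rfl

end H9.L
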