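import Mathlib
import Cfsg.Agent.H9.LB1

/-! # Three fusion facts -/

set_option autoImplicit false
set_option maxRecDepth 100000
set_option linter.all false

namespace H9.L

open H29 H9.GF2 Matrix Subgroup
open H9.R hiding cls CL qb Bb ew Std TL pcs wsT cls_va0 cls_vecMul cls_eq_zero cls_zero cls_lt ncard_cls cls_ind R0 c_pcs c_TL c_key nodup_TL ncard_mat mat_inj_TL

variable {G Γ : Type*} [Group G] [Group Γ]

theorem StM.lift_lin (c : StM Γ) {g : Γ} {A : ℕ} (h : c.ρ g = mat A) (h1 : eqM (mu TH A) (mu A TH) = true) :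
    ∃ k, c.ρ k = mat A ∧ k⁻¹ * c.d * k = c.d := by
  obtain ⟨k, h2, h3 | h3⟩ := c.lift g
  · exact ⟨k, h2.trans h, h3.2⟩
  · exact absurd h3.1 (c.not_both (by rw [c.ρ_d, h, ← mat_mu, ← mat_mu]; exact eqM_iff.1 h1))

theorem StM.lift_sem (c : StM Γ) {g : Γ} {A : ℕ} (h : c.ρ g = mat A) (h1 : eqM (mu TH A) (mu A TH) = false) :
    ∃ k, c.ρ k = mat A ∧ k⁻¹ * c.d * k = c.d⁻¹ := by
  obtain ⟨k, h2, h3 | h3⟩ := c.lift g
  · have := h3.1
    rw [c.ρ_d, h, ← mat_mu, ← mat_mu, ← eqM_iff, h1] at this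
    exact absurd this (by simp)
  · exact ⟨k, h2.trans h, h3.2⟩

theorem StM.lf_va (c : StM Γ) {k : Γ} {A x y : ℕ} (h : c.ρ k = mat A) (h1 : k⁻¹ * c.d * k = c.d)
    (h2 : va x A = y) : k⁻¹ * c.lf (vec x) * k = c.lf (vec y) := by rw [c.lf_conj h1, h, ← vec_va, h2]

theorem StM.lf_va' (c : StM Γ) {k : Γ} {A x y : ℕ} (h : c.ρ k = mat A) (h1 : k⁻¹ * c.d * k = c.d⁻¹)
    (h2 : va x A = y ∧ x < 4096 ∧ qb x = false) : k⁻¹ * c.lf (vec x) * k = c.lf (vec y) := by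
  rw [c.lf_conj' h1 (by rw [c.q_eq, cd_vec h2.2.1, h2.2.2]; rfl), h, ← vec_va, h2.1]

theorem StM.π_st (c : StM Γ) : c.π (c.ss * c.tt) = vec 15 := by rw [← c.tt_ss, ← c.lf15, c.π_lf]

theorem StM.move (c : StM Γ) {k : Γ} (h : k * c.tt = c.tt * k) : k * c.ss * k⁻¹ = c.ss ∨
    k * c.ss * k⁻¹ = c.ss * c.z ∨ k * c.ss * k⁻¹ = c.ss * c.tt ∨ k * c.ss * k⁻¹ = c.ss * c.tt * c.z := by
  have h1 := c.π_conj' k c.tt_mem
  rw [h, mul_inv_cancel_right, c.π_tt] at h1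
  have h2 := c.π_conj' k c.ss_mem
  have h3 := c.nQ.conj_mem _ c.ss_mem k
  rw [c.π_ss, show vec 10 = vec 5 ᵥ* mat TH by rw [← vec_va]; congr 1, vecMul_vecMul] at h2
  rcases c.nD k⁻¹ with e | e <;> rw [e, ← vecMul_vecMul, ← h1] at h2
  · rw [← vec_va, show va 5 TH = 10 by decide +kernel] at h2
    rcases c.eq_of_π h3 c.ss_mem (h2.trans c.π_ss.symm) with h4 | h4 <;> simp [h4]
  · rw [← mat_mu, ← vec_va, show va 5 (mu TH TH) = 15 by decide +kernel] at h2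
    rcases c.eq_of_π h3 (mul_mem c.ss_mem c.tt_mem) (h2.trans c.π_st.symm) with h4 | h4 <;> simp [h4]

theorem Std.f3 [Finite Γ] (c : Std Γ) :
    (∃ σ : Γ, σ * c.tt * σ⁻¹ = c.ss ∧ σ * c.ss * σ⁻¹ = c.tt) ∧
    (∃ σ : Γ, σ * c.tt * σ⁻¹ = c.ss * c.tt ∧ σ * (c.ss * c.tt) * σ⁻¹ = c.tt) ∧
    (∃ r : Γ, r * c.tt = c.tt * r ∧ r * c.ss * r⁻¹ = c.ss * c.tt) ∧
    (∃ x ∈ c.Q, c.π x = vec 17 ∧ x * x = 1 ∧ x * c.tt = c.tt * x ∧ x * c.ss * x⁻¹ = c.ss * c.z) ∧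
    ∀ k : Γ, k * c.tt = c.tt * k → k * c.ss * k⁻¹ = c.ss ∨ k * c.ss * k⁻¹ = c.ss * c.z ∨
      k * c.ss * k⁻¹ = c.ss * c.tt ∨ k * c.ss * k⁻¹ = c.ss * c.tt * c.z := by
  have h15 : c.lf (vec 15) = c.ss * c.tt := c.lf15.trans c.tt_ss
  refine ⟨?_, ?_, ?_, ⟨c.s (vec 17), c.s_mem _, c.π_s _, c.sq_of_qb (c.s_mem _) (c.π_s _) (by decide +kernel),
    ?_, ?_⟩, fun k h => c.move h⟩
  · obtain ⟨k, h1, h2⟩ := c.lift_sem (c.ρ_ev' (w := [5, 4]) (by decide)) (by decide +kernel)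
    exact ⟨k⁻¹, by rw [inv_inv]; exact c.lf_va' h1 h2 (by decide +kernel),
      by rw [inv_inv]; exact c.lf_va' h1 h2 (by decide +kernel)⟩
  · obtain ⟨k, h1, h2⟩ := c.lift_sem (c.ρ_ev' (w := [4, 5]) (by decide)) (by decide +kernel)
    exact ⟨k⁻¹, by rw [inv_inv, ← h15]; exact c.lf_va' h1 h2 (by decide +kernel),
      by rw [inv_inv, ← h15]; exact c.lf_va' h1 h2 (by decide +kernel)⟩
  · obtain ⟨k, h1, h2⟩ := c.lift_sem (c.ρ_ev' (w := [5]) (by decide)) (by decide +kernel)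
    refine ⟨k⁻¹, (Commute.inv_left (comm_of_conj (c.lf_va' h1 h2 (y := 5) (by decide +kernel)))).eq, ?_⟩
    rw [inv_inv, ← h15]; exact c.lf_va' h1 h2 (by decide +kernel)
  · rw [c.comm_Bb (c.s_mem _) c.tt_mem (c.π_s _) c.π_tt (by decide) (by decide),
      show Bb 17 5 = false by decide +kernel]
    exact (congrArg _ c.zp_zero).trans (mul_one _)
  · rw [c.comm_Bb (c.s_mem _) c.ss_mem (c.π_s _) c.π_ss (by decide) (by decide),
      show Bb 17 10 = true by decide +kernel, Co.zp_mul, mul_inv_cancel_right]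
    exact congrArg _ c.zp_one

/-- Products of members of a list. -/
def pr : List G → ℕ → G
  | [], _ => 1
  | x :: l, m => x ^ (m % 2) * pr l (m / 2)

theorem pr_comm {a : G} : ∀ {l : List G}, (∀ y ∈ l, Commute a y) → ∀ m, Commute a (pr l m)
  | [], _, _ => Commute.one_right a
  | x :: l, h, m => ((h x (by simp)).pow_right _).mul_right (pr_comm (fun y hy => h y (by simp [hy])) _)

theorem pr_xor : ∀ {l : List G}, (∀ x ∈ l, x * x = 1) → l.Pairwise Commute → ∀ m n,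
    pr l (m ^^^ n) = pr l m * pr l n
  | [], _, _, _, _ => (mul_one 1).symm
  | x :: l, h1, h2, m, n => by
    rw [List.pairwise_cons] at h2
    rw [pr, pr, pr, Nat.xor_div_two, pr_xor (fun y hy => h1 y (by simp [hy])) h2.2,
      show (m ^^^ n) % 2 = (m % 2) ^^^ (n % 2) from Nat.xor_mod_two_pow (n := 1),
      ((pr_comm h2.1 _).pow_left _).symm.mul_mul_mul_comm]
    congr 1
    have := h1 x (by simp)
    rcases Nat.mod_two_eq_zero_or_one m with a | a <;> rcases Nat.mod_two_eq_zero_or_one n with b | b <;>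
      simp [a, b, this]

theorem pr_zero : ∀ l : List G, pr l 0 = 1
  | [] => rfl
  | x :: l => by simp [pr, pr_zero l]

theorem act_pr {l : List G} (h1 : ∀ x ∈ l, x * x = 1) (h2 : l.Pairwise Commute) {h : G} :
    ∀ {l' : List G} {M : List ℕ}, List.Forall₂ (fun x n => h * x * h⁻¹ = pr l n) l' M → ∀ m,
      h * pr l' m * h⁻¹ = pr l (lin M m)
  | _, _, .nil, m => by simp [pr, lin_nil, pr_zero]
  | _, _, .cons a b, m => by
    rw [lin_cons, pr_xor h1 h2, ← act_pr h1 h2 b, pr]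
    rcases Nat.mod_two_eq_zero_or_one m with e | e <;> simp [e, pr_zero, ← a]

theorem act_ev {l : List G} {e : ℕ → G} {M : ℕ → List ℕ} {n : ℕ}
    (h : ∀ i < n, ∀ m, e i * pr l m * (e i)⁻¹ = pr l (lin (M i) m)) : ∀ {w : List ℕ}, (∀ i ∈ w, i < n) → ∀ m,
    ev e w * pr l m * (ev e w)⁻¹ = pr l (w.foldr (fun i x => lin (M i) x) m)
  | [], _, m => by simp
  | i :: w, hw, m => by
    rw [List.foldr_cons, ← h i (hw i (by simp)), ← act_ev h fun k hk => hw k (by simp [hk]), ev_cons]; group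

theorem map_pr (f : Γ →* G) : ∀ (l : List Γ) (m : ℕ), f (pr l m) = pr (l.map f) m
  | [], _ => map_one f
  | x :: l, m => by rw [List.map_cons, pr, pr, map_mul, map_pow, map_pr f l]

def A0 : ℕ := 22837356964946050367205075127253655514607845380
def DE : ℕ := 11422162973923276612930232169414369426830024706
def JJ : ℕ := 11422163058988676046306313207629488589151158273

namespace Fu

variable {c : Am G Γ} {g : G} {u : Γ} (h : Fu c g u)
include h

theorem u_sq : u * u = 1 := c.sq_of_qb h.uQ h.πu (by decide +kernel)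
theorem comm_u {a : Γ} (ha : a ∈ c.Q) {x : ℕ} (e : c.π a = vec x) (h1 : x < 4096 ∧ Bb x 85 = false) :
    a * u = u * a := by
  rw [c.comm_Bb ha h.uQ e h.πu h1.1 (by decide), h1.2]
  exact (congrArg _ c.zp_zero).trans (mul_one _)
theorem t_u : c.tt * u = u * c.tt := h.comm_u c.tt_mem c.π_tt (by decide +kernel)
theorem s_u : c.ss * u = u * c.ss := h.comm_u c.ss_mem c.π_ss (by decide +kernel)
theorem lin_u {k : Γ} {A : ℕ} (h1 : c.ρ k = mat A) (h2 : k⁻¹ * c.d * k = c.d) (h3 : va 85 A = 85) :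
    k * u = u * k := by
  obtain ⟨t, e⟩ := c.eq_zp h.uQ (c.lf_mem (vec 85)) (h.πu.trans (c.π_lf _).symm)
  rw [e, ← mul_assoc, comm_of_conj (c.lf_va h1 h2 h3), Co.zp_mul]

/-- Transport of an element of `C(z, u, t)`. -/
theorem back {k : Γ} (h1 : k * u = u * k) (h2 : k * c.tt = c.tt * k) :
    ∃ k1, c.j k1 = g⁻¹ * c.j k * g ∧ k1 * c.tt = c.tt * k1 := by
  obtain ⟨k1, e⟩ := c.cen (g⁻¹ * c.j k * g) (by
    calc g⁻¹ * c.j k * g * c.j c.z = g⁻¹ * (c.j k * (g * c.j c.z * g⁻¹)) * g := by group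
      _ = _ := by rw [h.gz, ← map_mul, h1, map_mul, ← h.gz]; group)
  refine ⟨k1, e, c.inj ?_⟩
  rw [map_mul, map_mul, e]
  calc g⁻¹ * c.j k * g * c.j c.tt = g⁻¹ * (c.j k * (g * c.j c.tt * g⁻¹)) * g := by group
    _ = g⁻¹ * (g * c.j c.tt * g⁻¹ * c.j k) * g := by rw [h.gt, ← map_mul, h2, map_mul]
    _ = _ := by group

theorem move' {v k : Γ} (hv : c.j v = g * c.j c.ss * g⁻¹) (h1 : k * u = u * k) (h2 : k * c.tt = c.tt * k) :
    k * v * k⁻¹ = v ∨ k * v * k⁻¹ = v * u ∨ k * v * k⁻¹ = v * c.tt ∨ k * v * k⁻¹ = v * c.tt * u := by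
  obtain ⟨k1, e, h3⟩ := h.back h1 h2
  have key : c.j (k * v * k⁻¹) = g * c.j (k1 * c.ss * k1⁻¹) * g⁻¹ := by
    simp only [map_mul, map_inv, e, hv]; group
  have a1 : c.j (v * u) = g * c.j (c.ss * c.z) * g⁻¹ := by rw [map_mul, map_mul, hv, ← h.gz]; group
  have a2 : c.j (v * c.tt) = g * c.j (c.ss * c.tt) * g⁻¹ := by
    rw [map_mul, map_mul, hv]; nth_rw 1 [← h.gt]; group
  have a3 : c.j (v * c.tt * u) = g * c.j (c.ss * c.tt * c.z) * g⁻¹ := by
    rw [map_mul, a2, map_mul _ _ c.z, ← h.gz]; group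
  rcases c.move h3 with e1 | e1 | e1 | e1 <;> rw [e1] at key
  exacts [.inl (c.inj (key.trans hv.symm)), .inr (.inl (c.inj (key.trans a1.symm))),
    .inr (.inr (.inl (c.inj (key.trans a2.symm)))), .inr (.inr (.inr (c.inj (key.trans a3.symm))))]

theorem move_ρ {v k : Γ} (hv : c.j v = g * c.j c.ss * g⁻¹) (h1 : k * u = u * k) (h2 : k * c.tt = c.tt * k) :
    c.ρ (k * v * k⁻¹) = c.ρ v := by
  rcases h.move' hv h1 h2 with e | e | e | e <;> simp [e, c.ρ_Q h.uQ, c.ρ_Q c.tt_mem]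

theorem exists_v : ∃ v, c.j v = g * c.j c.ss * g⁻¹ ∧ c.ρ v = mat A0 := by
  obtain ⟨v, h1, ⟨A, hA, h2⟩, h3⟩ := h.R _ c.ss_mem h.s_u
  refine ⟨v, h1, ?_⟩
  have key : ∀ w : List ℕ, ((∀ i ∈ w, i < 5) ∧ eqM (mu TH (ew w)) (mu (ew w) TH) = true ∧ va 85 (ew w) = 85 ∧
      va 5 (ew w) = 5) → eqM (mu (ew w) A) (mu A (ew w)) = true := fun w hw => by
    obtain ⟨k, a, b⟩ := c.lift_lin (c.ρ_ev hw.1) hw.2.1
    have := congrArg (· * c.ρ k) (h.move_ρ h1 (h.lin_u a b hw.2.2.1) (comm_of_conj (c.lf_va a b hw.2.2.2)))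
    simp only [← map_mul, inv_mul_cancel_right] at this
    rw [eqM_iff, mat_mu, mat_mu, ← a, ← h2, ← map_mul, this, map_mul]
  have k : (H29.allL AL fun A => imp (and2 (eqM (mu (ew [1, 2, 1, 2, 2, 1, 1, 1]) A) (mu A (ew [1, 2, 1, 2, 2, 1, 1, 1])))
      (eqM (mu (ew [2, 1, 3, 2, 0, 3, 1, 1, 1, 1, 2]) A) (mu A (ew [2, 1, 3, 2, 0, 3, 1, 1, 1, 1, 2]))))
      (eqM A one || eqM A A0)) = true := by decide +kernel
  have := imp_true.1 (allL_true.1 k A hA) (and2_true.2 ⟨key _ (by decide +kernel), key _ (by decide +kernel)⟩)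
  rw [Bool.or_eq_true, eqM_iff, eqM_iff, ← h2, mat_one] at this
  refine this.resolve_left fun e => ?_
  have := h3.1 (c.ker _ e)
  rw [c.π_ss, cd_vec (by decide)] at this
  exact absurd this (by decide)

theorem exists_m : ∃ m, c.j m = g * g ∧ m * u = u * m ∧ m * c.tt = c.tt * m := by
  have k : ∀ {a b : G}, g * a * g⁻¹ = b → g * b * g⁻¹ = a → g * g * a = a * (g * g) := fun {a b} h1 h2 => by
    rw [← h1] at h2
    calc g * g * a = g * (g * a * g⁻¹) * g⁻¹ * (g * g) := by group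
      _ = _ := by rw [h2]
  obtain ⟨m, e⟩ := c.cen _ (k h.gz h.gu)
  exact ⟨m, e, c.inj (by rw [map_mul, map_mul, e, k h.gu h.gz]), c.inj (by rw [map_mul, map_mul, e, k h.gt h.gt])⟩

theorem exists_r : ∃ r : Γ, r * c.tt = c.tt * r ∧ r * c.ss * r⁻¹ = c.ss * c.tt * c.z ∧
    ∃ y ∈ c.Q, c.π y = vec 16 ∧ c.j r = g * c.j y * g⁻¹ := by
  obtain ⟨v, hv, h1⟩ := h.exists_v
  obtain ⟨m, hm, m1, m2⟩ := h.exists_m
  have hy := c.s_mem (vec 16)
  have hp := c.π_s (vec 16)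
  generalize c.s (vec 16) = y at hy hp
  obtain ⟨r, h2, -⟩ := h.R y hy (h.comm_u hy hp (by decide +kernel))
  have yt : y * c.tt = c.tt * y := by
    rw [c.comm_Bb hy c.tt_mem hp c.π_tt (by decide) (by decide), show Bb 16 5 = false by decide +kernel]
    exact (congrArg _ c.zp_zero).trans (mul_one _)
  have rt : r * c.tt = c.tt * r := c.inj (by
    rw [map_mul, map_mul, h2, ← h.gt]
    calc _ = g * c.j (y * c.tt) * g⁻¹ := by rw [map_mul]; group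
      _ = _ := by rw [yt, map_mul]; group)
  refine ⟨r, rt, ?_, y, hy, hp, h2⟩
  have h3 := h.move_ρ hv (Commute.inv_left m1).eq (Commute.inv_left m2).eq
  rw [inv_inv, h1] at h3
  have h4 : g * c.j (m⁻¹ * v * m) * g⁻¹ = c.j c.ss := by simp only [map_mul, map_inv, hm, hv]; group
  generalize m⁻¹ * v * m = w at h3 h4
  have h5 : c.π (w⁻¹ * y * w * y⁻¹) = vec 80 := by
    rw [c.π_mul _ (c.conj_mem w hy) _ (inv_mem hy), c.π_conj _ _ hy, c.π_inv hy, hp, h3, ← vec_va, ← vec_xor']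
    congr 1
  have key : ∀ a b : Γ, g * c.j a * g⁻¹ = c.j b → r * c.ss * r⁻¹ = c.ss * b → c.π a = R.vec 80 := fun a b e1 e2 => by
    rw [← h5]; congr 1
    refine c.inj ((MulAut.conj g).injective ?_)
    have : b = c.ss⁻¹ * r * c.ss * r⁻¹ := by rw [mul_assoc, mul_assoc, ← mul_assoc r, e2]; group
    rw [MulAut.conj_apply, MulAut.conj_apply, e1, this]
    simp only [map_mul, map_inv, h2]
    rw [← h4]; group
  have ne : ∀ {x : ℕ}, x < 80 ∨ x = 85 → R.vec x ≠ R.vec 80 := fun {x} hx e => by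
    have := vec_inj (a := x) (by omega) (by decide) e; omega
  rcases c.move rt with e | e | e | e
  · exact absurd (key 1 1 (by simp) (by simpa using e)) (by rw [c.π_one, ← R.vec_zero]; exact ne (by decide))
  · exact absurd (key u _ h.gu e) (by rw [h.πu]; exact ne (by decide))
  · exact absurd (key _ _ h.gt e) (by rw [c.π_tt]; exact ne (by decide))
  · exact e

end Fu

theorem Fu.f2 [Finite G] {c : Am G Γ} {g : G} {u : Γ} (h : Fu c g u) : ∃ r : Γ, r * c.tt = c.tt * r ∧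
    r * c.ss * r⁻¹ = c.ss * c.tt * c.z ∧ g⁻¹ * c.j r * g ∈ c.L := by
  obtain ⟨r, h1, h2, y, hy, hp, e⟩ := h.exists_r
  refine ⟨r, h1, h2, ?_⟩
  rw [e, show g⁻¹ * (g * c.j y * g⁻¹) * g = c.j y by group]
  refine ⟨mem_centralizer_singleton_iff.2 ?_, mem_centralizer_singleton_iff.2 ?_⟩ <;> rw [← map_mul, ← map_mul]
  · rw [c.comm_Bb hy c.tt_mem hp c.π_tt (by decide) (by decide), show Bb 16 5 = false by decide +kernel]
    exact congrArg _ ((congrArg _ c.zp_zero).trans (mul_one _))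
  · rw [c.comm_Bb hy c.ss_mem hp c.π_ss (by decide) (by decide), show Bb 16 10 = false by decide +kernel]
    exact congrArg _ ((congrArg _ c.zp_zero).trans (mul_one _))

theorem StM.cube_cen (c : StM Γ) {k : Γ} {A : ℕ} (h1 : c.ρ k = mat A) (h2 : k⁻¹ * c.d * k = c.d)
    (h3 : eqM (mu A (mu A A)) one = true) (a : Γ) : k⁻¹ * (k⁻¹ * (k⁻¹ * a * k) * k) * k = a := by
  obtain ⟨t, e⟩ := c.eq_of_cent (a := k ^ 3) (b := 1) (by
    rw [pow_three, map_mul, map_mul, h1, ← mat_mu, ← mat_mu, eqM_iff.1 h3, mat_one, map_one])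
    (Commute.pow_left (comm_of_conj h2) 3) (by simp)
  rw [show k⁻¹ * (k⁻¹ * (k⁻¹ * a * k) * k) * k = (k ^ 3)⁻¹ * a * k ^ 3 by simp only [pow_three]; group, e, one_mul,
    mul_assoc, c.zp_comm, inv_mul_cancel_left]

theorem StM.cls_t (c : StM Γ) {a : Γ} (ha : a ∈ c.Q) {x : ℕ} (h : c.π a = vec x) (h1 : x < 4096 ∧ cls x = 1) :
    IsConj c.tt a := by
  obtain ⟨k, -, e⟩ := c.conj_Q c.tt_mem ha (by
    rw [h, c.π_tt, cd_vec h1.1, cd_vec (by decide), h1.2]; decide +kernel) fun e => by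
      have := cls_zero; rw [← e, h, cd_vec h1.1, h1.2] at this; exact absurd this (by decide)
  exact isConj_iff.2 ⟨k⁻¹, by simpa using e⟩

namespace Fu

variable {c : Am G Γ} {g : G} {u v : Γ} (h : Fu c g u) (hv : c.j v = g * c.j c.ss * g⁻¹) (hρ : c.ρ v = mat A0)
include h hv

theorem v_sq : v * v = 1 := c.inj (by
  rw [map_mul, hv, map_one, show g * c.j c.ss * g⁻¹ * (g * c.j c.ss * g⁻¹) = g * c.j (c.ss * c.ss) * g⁻¹ by
    rw [map_mul]; group, c.ss_sq]; simp)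
theorem tr {a b : Γ} (e : g * c.j a * g⁻¹ = c.j b) : c.j (v * b) = g * c.j (c.ss * a) * g⁻¹ := by
  rw [map_mul, map_mul, hv, ← e]; group
theorem comm_v {a b : Γ} (e : g * c.j a * g⁻¹ = c.j b) (h1 : c.ss * a = a * c.ss) : v * b = b * v := c.inj (by
  rw [h.tr hv e, h1, map_mul, map_mul, hv, ← e]; group)
theorem v_t : v * c.tt = c.tt * v := h.comm_v hv h.gt c.tt_ss.symm
theorem v_u : v * u = u * v := h.comm_v hv h.gz (c.zc _)
theorem g_v : ∃ m, m * c.tt = c.tt * m ∧ g * c.j v * g⁻¹ = c.j (m * c.ss * m⁻¹) := by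
  obtain ⟨m, hm, -, m2⟩ := h.exists_m
  exact ⟨m, m2, by simp only [map_mul, map_inv, hm, hv]; group⟩

include hρ

theorem v_s : v * c.ss = c.ss * v := by
  have vi := inv_eq_of_mul_eq_one_left (h.v_sq hv)
  have h1 : c.π (v⁻¹ * c.ss * v) = c.π c.ss := by
    rw [c.π_conj _ _ c.ss_mem, c.π_ss, hρ, ← vec_va]; congr 1
  rcases c.eq_of_π (c.conj_mem v c.ss_mem) c.ss_mem h1 with e | e
  · exact comm_of_conj e
  exfalso
  obtain ⟨m, m2, e1⟩ := h.g_v hv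
  have h2 : ∀ a : Γ, a * v = v * a → m * c.ss * m⁻¹ = c.ss * a → False := fun a ha e2 => by
    have h3 : (c.ss * a)⁻¹ * v * (c.ss * a) = v * u := c.inj (by
      rw [h.tr hv h.gz, ← e, ← e2]
      simp only [map_mul, map_inv] at e1 ⊢
      rw [← e1]; nth_rw 2 [hv]; group)
    have h4 : c.ss⁻¹ * v * c.ss = v * c.z := by
      calc c.ss⁻¹ * v * c.ss = c.ss⁻¹ * (v⁻¹ * c.ss * v) * v := by rw [← vi]; simp [mul_assoc, h.v_sq hv, vi]
        _ = _ := by rw [e, inv_mul_cancel_left, c.zc]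
    rw [show (c.ss * a)⁻¹ * v * (c.ss * a) = a⁻¹ * (c.ss⁻¹ * v * c.ss) * a by group, h4, mul_assoc, mul_assoc,
      ← c.zc, ← mul_assoc v, ← ha, mul_assoc, inv_mul_cancel_left, mul_right_inj] at h3
    have := h.πu
    rw [← h3, c.π_z, ← R.vec_zero] at this
    exact absurd (vec_inj (by decide) (by decide) this) (by decide)
  rcases c.move m2 with e2 | e2 | e2 | e2
  · exact h2 1 (by simp) (by simpa using e2)
  · exact h2 _ (c.zc v).symm e2
  · exact h2 _ (h.v_t hv).symm e2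
  · exact h2 (c.tt * c.z) (by rw [mul_assoc, ← c.zc, ← mul_assoc, ← h.v_t hv, mul_assoc]) (by rw [e2, mul_assoc])

theorem cj_v {q : Γ} (hq : q ∈ c.Q) {x y : ℕ} (e : c.π q = vec x) (h1 : x ^^^ va x A0 = y) :
    ∃ t, q * v * q⁻¹ = v * c.lf (vec y) * c.zp t := by
  have h2 := mul_mem (c.conj_mem v hq) (inv_mem hq)
  obtain ⟨t, h3⟩ := c.eq_zp h2 (c.lf_mem (vec y)) (by
    rw [c.π_mul _ (c.conj_mem v hq) _ (inv_mem hq), c.π_conj _ _ hq, c.π_inv hq, e, hρ, ← vec_va, c.π_lf, ← h1,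
      vec_xor', add_comm])
  exact ⟨t, by rw [mul_assoc v, ← h3]; group⟩

theorem delta : ∃ k : Γ, k⁻¹ * c.tt * k = c.ss ∧ k⁻¹ * c.ss * k = c.tt * c.ss ∧
    k⁻¹ * u * k = c.tt * (c.ss * u) ∧ (k⁻¹ * v * k = v ∨ k⁻¹ * v * k = c.tt * v ∨ k⁻¹ * v * k = c.ss * v ∨
      k⁻¹ * v * k = c.tt * (c.ss * v)) := by
  obtain ⟨k, k1, k2⟩ := c.lift_lin (A := DE) ((c.ρ_ev (w := [1, 2, 1, 2, 1, 1, 1, 2, 2]) (by decide)).trans
    (eqM_iff.1 (by decide +kernel))) (by decide +kernel)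
  obtain ⟨n, n1, n2⟩ := c.lift_lin (A := JJ) ((c.ρ_ev (w := [1, 2, 1, 2, 2, 1, 1, 1]) (by decide)).trans
    (eqM_iff.1 (by decide +kernel))) (by decide +kernel)
  have a1 : k⁻¹ * c.tt * k = c.ss := c.lf_va k1 k2 (by decide +kernel)
  have a2 : k⁻¹ * c.ss * k = c.tt * c.ss := c.lf15 ▸ c.lf_va k1 k2 (by decide +kernel)
  have a3 : k⁻¹ * (c.tt * c.ss) * k = c.tt := c.lf15 ▸ c.lf_va k1 k2 (by decide +kernel)
  refine ⟨k, a1, a2, ?_, ?_⟩
  · obtain ⟨t, e⟩ := c.eq_zp (mul_mem c.tt_mem h.uQ) (c.lf_mem (vec 80)) (by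
      rw [c.π_mul _ c.tt_mem _ h.uQ, c.π_tt, h.πu, c.π_lf, ← vec_xor']; rfl)
    have : k⁻¹ * (c.tt * u) * k = c.tt * u := by
      rw [e, ← mul_assoc, Co.zp_mul, c.lf_va k1 k2 (y := 80) (by decide +kernel)]
    calc k⁻¹ * u * k = k⁻¹ * c.tt * k * (k⁻¹ * (c.tt * u) * k) := by
          simp only [mul_assoc, mul_inv_cancel_left]; rw [← mul_assoc c.tt, c.tt_sq, one_mul]
      _ = _ := by rw [this, a1, ← mul_assoc, ← c.tt_ss, mul_assoc]
  have nu := h.lin_u n1 n2 (by decide +kernel)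
  have nt : n * c.tt = c.tt * n := comm_of_conj (c.lf_va n1 n2 (by decide +kernel))
  have nv : n⁻¹ * v * n = v := by
    have k3 := c.cube_cen n1 n2 (by decide +kernel) v
    have k4 : ∀ a, a * a = 1 → n * a = a * n → n⁻¹ * v * n = v * a → n⁻¹ * v * n = v := fun a b1 b2 b3 => by
      have b4 : ∀ w, n⁻¹ * (w * a) * n = n⁻¹ * w * n * a := fun w => by rw [mul_assoc, mul_assoc, ← b2]; group
      rw [b3, b4, b3, mul_assoc v, b1, mul_one] at k3
      exact k3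
    have := h.move' hv (Commute.inv_left nu).eq (Commute.inv_left nt).eq
    rw [inv_inv] at this
    rcases this with e | e | e | e
    · exact e
    · exact k4 _ h.u_sq nu e
    · exact k4 _ c.tt_sq nt e
    · exact k4 (c.tt * u) (by rw [(show Commute u c.tt from h.t_u.symm).mul_mul_mul_comm, c.tt_sq, h.u_sq, mul_one])
        (Commute.mul_right nt nu) (by rw [e, mul_assoc])
  have hx : v⁻¹ * (k⁻¹ * v * k) ∈ c.Q := c.mem_of_ρ (hρ.trans (c.ρ_conj hρ k1 (by decide +kernel)).symm)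
  obtain ⟨x, ex⟩ : ∃ x, x = v⁻¹ * (k⁻¹ * v * k) := ⟨_, rfl⟩
  have e0 : k⁻¹ * v * k = v * x := by rw [ex]; group
  rw [← ex] at hx
  have b1 : c.π x ᵥ* mat JJ = c.π x := by
    obtain ⟨t, e⟩ := c.eq_of_cent (a := k * n) (b := n * k) (by
      rw [map_mul, map_mul, k1, n1, ← mat_mu, ← mat_mu]; exact eqM_iff.1 (by decide +kernel))
      (Commute.mul_left (comm_of_conj k2) (comm_of_conj n2)) (Commute.mul_left (comm_of_conj n2) (comm_of_conj k2))
    rw [← n1, ← c.π_conj _ _ hx]; congr 1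
    calc n⁻¹ * x * n = (n⁻¹ * v * n)⁻¹ * ((k * n)⁻¹ * v * (k * n)) := by rw [ex]; group
      _ = v⁻¹ * ((c.zp t)⁻¹ * (k⁻¹ * (n⁻¹ * v * n) * k) * c.zp t) := by rw [e]; nth_rw 1 [nv]; group
      _ = _ := by rw [nv, mul_assoc, c.zp_comm, inv_mul_cancel_left, ex]
  have b2 : c.π x ᵥ* mat A0 = c.π x := by
    rw [← hρ, ← c.π_conj _ _ hx, ← c.π_inv hx]; congr 1
    rw [eq_inv_iff_mul_eq_one, inv_eq_of_mul_eq_one_left (h.v_sq hv), mul_assoc, ← e0,
      show k⁻¹ * v * k * (k⁻¹ * v * k) = k⁻¹ * (v * v) * k by group, h.v_sq hv]; simp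
  have b3 : x * (k⁻¹ * x * k) * (k⁻¹ * (k⁻¹ * x * k) * k) = 1 := by
    have k3 := c.cube_cen k1 k2 (by decide +kernel) v
    have b4 : ∀ w, k⁻¹ * (v * w) * k = v * x * (k⁻¹ * w * k) := fun w => by rw [← e0]; group
    rw [e0, b4, mul_assoc v x, b4] at k3
    refine mul_left_cancel (a := v) ?_
    rw [mul_one]; conv_rhs => rw [← k3]
    group
  have b4 : cd (c.π x) ∈ [0, 5, 10, 15] := by
    have b5 := congrArg c.π b3
    have m1 := c.conj_mem k hx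
    rw [c.π_mul _ (mul_mem hx m1) _ (c.conj_mem k m1), c.π_mul _ hx _ m1, c.π_conj _ _ m1, c.π_conj _ _ hx,
      c.π_one, k1, add_eq_zero'] at b5
    have b6 := congrArg cd b5
    rw [cd_add, cd_vecMul, cd_vecMul, cd_vecMul] at b6
    have := all12 (f := fun x => imp (and2 (and2 (Nat.beq (va x JJ) x) (Nat.beq (va x A0) x))
      (Nat.beq (Nat.xor x (va x DE)) (va (va x DE) DE))) (decide (x ∈ [0, 5, 10, 15]))) (by decide +kernel) (c.π x)
    simp only [imp_true, and2_true, H29.beq_true, decide_eq_true_eq] at this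
    exact this ⟨⟨fix_iff.1 b1, fix_iff.1 b2⟩, b6⟩
  have key : ∀ a ∈ c.Q, c.π a = c.π x → a * (k⁻¹ * a * k) * (k⁻¹ * (k⁻¹ * a * k) * k) = 1 → x = a :=
    fun a ha e1 e2 => by
      obtain ⟨t, rfl⟩ := c.eq_zp hx ha e1.symm
      have b5 : ∀ w, k⁻¹ * (w * c.zp t) * k = k⁻¹ * w * k * c.zp t := fun w => by rw [← mul_assoc, Co.zp_mul]
      rw [b5, b5, Co.mul_zp, Co.mul_zp, e2, one_mul, CharTwo.add_self_eq_zero, zero_add] at b3
      rw [b3, mul_one]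
  have vs := h.v_s hv hρ
  have vt := h.v_t hv
  rw [e0]
  simp only [List.mem_cons, List.not_mem_nil, or_false] at b4
  rcases b4 with e | e | e | e <;> replace e := (congrArg R.vec e).symm.trans (vec_cd _)
  · rw [key 1 (one_mem _) (by rw [c.π_one, ← e, R.vec_zero]) (by simp)]; simp
  · rw [key _ c.tt_mem (c.π_tt.trans e) (by
      rw [a1, a2, (show Commute c.ss c.tt from c.tt_ss.symm).mul_mul_mul_comm, c.tt_sq, c.ss_sq, mul_one]), vt]; simp
  · rw [key _ c.ss_mem (c.π_ss.trans e) (by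
      rw [a2, a3, c.tt_ss, ← mul_assoc, c.ss_sq, one_mul, c.tt_sq]), vs]; simp
  · rw [key _ (mul_mem c.tt_mem c.ss_mem) (by rw [← c.lf15, c.π_lf, e]) (by
      rw [a3, a1, mul_assoc c.tt, ← c.tt_ss, ← mul_assoc, c.tt_sq, one_mul, c.ss_sq]), ← mul_assoc, vt, mul_assoc, vs]
    simp

theorem classes : ∃ n ∈ [2, 4], ∃ k : Γ, k⁻¹ * c.tt * k = c.ss ∧ k⁻¹ * c.ss * k = c.tt * c.ss ∧
    k⁻¹ * u * k = c.tt * (c.ss * u) ∧ k⁻¹ * v * k = pr [c.z, c.tt, c.ss, u, v] (16 + n) := by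
  have vs := h.v_s hv hρ
  have vt := h.v_t hv
  have T : ∀ {a b : Γ} {x : ℕ}, g * c.j a * g⁻¹ = c.j b → a ∈ c.Q → c.π (c.ss * a) = vec x → x < 4096 ∧ cls x = 1 →
      ¬ IsConj (c.j c.z) (c.j (v * b)) := fun e ha e1 e2 k => h.c1 _ (mul_mem c.ss_mem ha)
    (by rw [e1, cd_vec e2.1, e2.2]) (k.trans (isConj_iff.2 ⟨g, (h.tr hv e).symm⟩).symm)
  have Z : ∀ {a b : Γ} {x : ℕ}, g * c.j a * g⁻¹ = c.j b → a ∈ c.Q → c.π (c.ss * a) = vec x → x < 4096 ∧ cls x = 2 →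
      IsConj (c.j c.z) (c.j (v * b)) := fun e ha e1 e2 => (h.c2 (mul_mem c.ss_mem ha)
    (by rw [e1, cd_vec e2.1, e2.2])).trans (isConj_iff.2 ⟨g, (h.tr hv e).symm⟩)
  have mvZ : ∀ (q : Γ) {a b : Γ}, q * a * q⁻¹ = b → (IsConj (c.j c.z) (c.j a) ↔ IsConj (c.j c.z) (c.j b)) :=
    fun q a b e => have k : IsConj (c.j a) (c.j b) := c.j.map_isConj (isConj_iff.2 ⟨q, e⟩)
      ⟨fun x => x.trans k, fun x => x.trans k.symm⟩
  have t0 := T (a := 1) (b := 1) (by simp) (one_mem _) (by rw [mul_one, c.π_ss]) (by decide +kernel)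
  have t1 := T h.gt c.tt_mem c.π_st (by decide +kernel)
  have z0 := Z (x := 95) h.gu h.uQ (by rw [c.π_mul _ c.ss_mem _ h.uQ, c.π_ss, h.πu, ← vec_xor']; rfl)
    (by decide +kernel)
  have z1 := Z (a := c.tt * u) (b := c.tt * c.z) (x := 90) (by
      rw [map_mul, map_mul, ← h.gu]; nth_rw 2 [← h.gt]; group) (mul_mem c.tt_mem h.uQ)
    (by rw [← mul_assoc, c.π_mul _ (mul_mem c.ss_mem c.tt_mem) _ h.uQ, c.π_st, h.πu, ← vec_xor']; rfl)
    (by decide +kernel)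
  rw [mul_one] at t0
  obtain ⟨i, e1⟩ := h.cj_v hv hρ (c.s_mem (vec 1)) (c.π_s _) (y := 5) (by decide +kernel)
  obtain ⟨l, e2⟩ := h.cj_v hv hρ (c.s_mem (vec 2)) (c.π_s _) (y := 10) (by decide +kernel)
  have e3 : c.s (vec 1) * c.ss * (c.s (vec 1))⁻¹ = c.ss * c.z := by
    rw [c.comm_Bb (c.s_mem _) c.ss_mem (c.π_s _) c.π_ss (by decide) (by decide),
      show Bb 1 10 = true by decide +kernel, Co.zp_mul, mul_inv_cancel_right]
    exact congrArg _ c.zp_one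
  generalize c.s (vec 1) = p at e1 e3
  generalize c.s (vec 2) = q at e2
  change _ = v * c.tt * _ at e1
  change _ = v * c.ss * _ at e2
  rcases z2_cases i with rfl | rfl
  swap
  · exact absurd ((mvZ p e1).2 (by rwa [c.zp_one, mul_assoc])) t0
  rw [c.zp_zero, mul_one] at e1
  have e4 : p * (v * c.ss) * p⁻¹ = v * (c.tt * c.ss) * c.z := by
    rw [show p * (v * c.ss) * p⁻¹ = p * v * p⁻¹ * (p * c.ss * p⁻¹) by group, e1, e3]; group
  have e5 : p * (v * c.ss * c.z) * p⁻¹ = v * (c.tt * c.ss) := by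
    rw [← mul_assoc, mul_assoc _ c.z, ← c.zc, ← mul_assoc, e4, mul_assoc, c.z2, mul_one]
  have e6 : q * (v * c.z) * q⁻¹ = v * c.ss * c.zp l * c.z := by
    rw [← mul_assoc, mul_assoc _ c.z, ← c.zc, ← mul_assoc, e2]
  obtain ⟨k, a1, a2, a3, a4⟩ := h.delta hv hρ
  have a5 : k⁻¹ * (c.tt * c.ss) * k = c.tt := by
    rw [show k⁻¹ * (c.tt * c.ss) * k = k⁻¹ * c.tt * k * (k⁻¹ * c.ss * k) by group, a1, a2, c.tt_ss, ← mul_assoc,
      c.ss_sq, one_mul]
  have mk : ∀ {a : Γ}, IsConj (c.j c.z) (c.j (v * a)) → IsConj (c.j c.z) (c.j (k⁻¹ * v * k * (k⁻¹ * a * k))) :=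
    fun e => (mvZ k⁻¹ (by group)).1 e
  have ct : Commute c.tt c.ss := c.tt_ss
  have p2 : pr [c.z, c.tt, c.ss, u, v] (16 + 2) = c.tt * v := by simp [pr]
  have p4 : pr [c.z, c.tt, c.ss, u, v] (16 + 4) = c.ss * v := by simp [pr]
  rcases z2_cases l with rfl | rfl
  · rw [c.zp_zero, mul_one] at e2 e6
    have t2 := mt (mvZ q e2).2 t0
    have z2 := mk ((mvZ p e5).1 ((mvZ q e6).1 z0))
    rw [a5] at z2
    rcases a4 with e | e | e | e
    · exact absurd (e ▸ z2) t1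
    · rw [e, ← vt, mul_assoc, c.tt_sq, mul_one] at z2; exact absurd z2 t0
    · exact ⟨4, by simp, k, a1, a2, a3, e.trans p4.symm⟩
    · rw [e, ← vs, ← mul_assoc, ← vt, mul_assoc, ← c.tt_ss, mul_assoc, ← mul_assoc c.tt, c.tt_sq, one_mul] at z2
      exact absurd z2 t2
  · rw [c.zp_one] at e2 e6
    rw [mul_assoc _ c.z, c.z2, mul_one] at e6
    have t2 := mt (mvZ p e5).2 (mt (mvZ q e2).2 t0)
    have z2 := mk ((mvZ q e6).1 z0)
    rw [a2] at z2
    rcases a4 with e | e | e | e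
    · exact absurd (e ▸ z2) t2
    · exact ⟨2, by simp, k, a1, a2, a3, e.trans p2.symm⟩
    · rw [e, ← vs, c.tt_ss, mul_assoc, ← mul_assoc c.ss, c.ss_sq, one_mul] at z2; exact absurd z2 t1
    · rw [e, ← vs, ← mul_assoc c.tt, ← vt, mul_assoc v, mul_assoc v, ct.symm.mul_mul_mul_comm, c.tt_sq, c.ss_sq,
        mul_one, mul_one] at z2
      exact absurd z2 t0

end Fu

theorem Fu.f1 [Finite G] {c : Am G Γ} {g : G} {u : Γ} (h : Fu c g u) : ∃ k ∈ c.L, ∃ y : Γ,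
    c.j y = k * c.j c.z * k⁻¹ ∧ y ∉ closure ({c.z, c.tt, c.ss} : Set Γ) := by
  obtain ⟨v, hv, hρ⟩ := h.exists_v
  obtain ⟨n, hn, k, a1, a2, a3, a4⟩ := h.classes hv hρ
  obtain ⟨r, r1, r2, y, hy, hp, r3⟩ := h.exists_r
  obtain ⟨m, m1, m2⟩ := h.g_v hv
  have r4 : r * u * r⁻¹ = u := c.inj (by
    rw [map_mul, map_mul, map_inv, r3, ← h.gz]
    calc _ = g * c.j (y * c.z * y⁻¹) * g⁻¹ := by simp only [map_mul, map_inv]; group
      _ = _ := by rw [c.zc, mul_inv_cancel_right])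
  have r5 : r * v * r⁻¹ = v := c.inj (by
    rw [map_mul, map_mul, map_inv, r3, hv]
    calc _ = g * c.j (y * c.ss * y⁻¹) * g⁻¹ := by simp only [map_mul, map_inv]; group
      _ = _ := by
        rw [c.comm_Bb hy c.ss_mem hp c.π_ss (by decide) (by decide), show Bb 16 10 = false by decide +kernel,
          show c.zp (bz false) = 1 from c.zp_zero, mul_one, mul_inv_cancel_right])
  obtain ⟨l, hl⟩ : ∃ l, l = [c.z, c.tt, c.ss, u, v].map c.j := ⟨_, rfl⟩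
  have l1 : ∀ x ∈ l, x * x = 1 := by
    simp [hl, ← map_mul, c.z2, c.tt_sq, c.ss_sq, h.u_sq, h.v_sq hv]
  have l2 : l.Pairwise Commute := by
    rw [hl]
    refine List.Pairwise.map _ (fun a b (e : Commute a b) => e.map c.j) ?_
    simp only [List.pairwise_cons, List.forall_mem_cons, List.not_mem_nil, false_imp_iff, implies_true, and_true,
      List.Pairwise.nil]
    exact ⟨⟨(c.zc _).symm, (c.zc _).symm, (c.zc _).symm, (c.zc _).symm⟩, ⟨c.tt_ss, h.t_u, (h.v_t hv).symm⟩,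
      ⟨h.s_u, (h.v_s hv hρ).symm⟩, (h.v_u hv).symm⟩
  have pj : ∀ m, pr l m = c.j (pr [c.z, c.tt, c.ss, u, v] m) := fun m => by rw [map_pr, hl]
  obtain ⟨b, hb, m3⟩ : ∃ b ∈ [4, 5, 6, 7], g * c.j v * g⁻¹ = pr l b := by
    rcases c.move m1 with e | e | e | e <;> rw [m2, e]
    exacts [⟨4, by simp, by simp [pj, pr]⟩, ⟨5, by simp, by simp [pj, pr, c.zc]⟩,
      ⟨6, by simp, by simp [pj, pr, c.tt_ss]⟩, ⟨7, by simp, by simp [pj, pr, c.zc, c.tt_ss]⟩]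
  have act := @act_ev G _ l (fun i => [g, c.j k⁻¹, c.j r].getD i 1) (nth [] [[8, 2, 16, 1, b], [1, 4, 6, 14, 16 + n], [1, 2, 7, 8, 16]]) 3
    fun i hi => act_pr l1 l2 (by
      interval_cases i
      · show List.Forall₂ (fun x n => g * x * g⁻¹ = pr l n) l [8, 2, 16, 1, b]
        nth_rw 2 [hl]
        simp [m3, h.gz, h.gu, h.gt, ← hv, pj, pr]
      · show List.Forall₂ (fun x n => c.j k⁻¹ * x * (c.j k⁻¹)⁻¹ = pr l n) l [1, 4, 6, 14, 16 + n]
        nth_rw 2 [hl]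
        simp only [List.map_cons, List.map_nil, List.forall₂_cons, ← map_inv, ← map_mul, inv_inv, a1, a2, a3, a4, pj,
          conj_of_comm (c.zc k)]
        simp [pr]
      · show List.Forall₂ (fun x n => c.j r * x * (c.j r)⁻¹ = pr l n) l [1, 2, 7, 8, 16]
        nth_rw 2 [hl]
        simp only [List.map_cons, List.map_nil, List.forall₂_cons, ← map_inv, ← map_mul, r1, r2, r4, r5, c.zc r, pj,
          mul_inv_cancel_right]
        simp [pr, c.zc, c.tt_ss])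
  obtain ⟨w, w0, w1, w2, w3⟩ : ∃ w : List ℕ, (∀ i ∈ w, i < 3) ∧
      w.foldr (fun i x => lin (nth [] [[8, 2, 16, 1, b], [1, 4, 6, 14, 16 + n], [1, 2, 7, 8, 16]] i) x) 2 = 2 ∧
      w.foldr (fun i x => lin (nth [] [[8, 2, 16, 1, b], [1, 4, 6, 14, 16 + n], [1, 2, 7, 8, 16]] i) x) 4 = 4 ∧
      w.foldr (fun i x => lin (nth [] [[8, 2, 16, 1, b], [1, 4, 6, 14, 16 + n], [1, 2, 7, 8, 16]] i) x) 1 ∈
        [17, 22, 30] := by
    simp only [List.mem_cons, List.not_mem_nil, or_false] at hn hb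
    rcases hb with rfl | rfl | rfl | rfl <;> rcases hn with rfl | rfl
    exacts [⟨[1, 0, 1, 0, 1, 0], by decide⟩, ⟨[0, 1, 1, 0, 1, 2, 1, 1, 0, 1, 0], by decide⟩,
      ⟨[2, 1, 1, 2, 0, 1, 0, 1, 2], by decide⟩, ⟨[2, 1, 2, 0, 1, 0, 1, 1, 2], by decide⟩,
      ⟨[2, 1, 1, 0, 1, 0, 1, 2], by decide⟩, ⟨[2, 1, 0, 1, 0, 1, 1, 2], by decide⟩,
      ⟨[1, 0, 1, 0, 0, 0, 1, 0], by decide⟩, ⟨[2, 1, 0, 1, 1, 0, 1, 2, 1, 1], by decide⟩]
  have b1 := act w0 1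
  have b2 := act w0 2
  have b4 := act w0 4
  rw [w1] at b2
  rw [w2] at b4
  generalize w.foldr _ 1 = x at w3 b1
  rw [pj, pj] at b1
  rw [pj] at b2 b4
  refine ⟨_, ⟨mem_centralizer_singleton_iff.2 (mul_inv_eq_iff_eq_mul.1 (by simpa [pr] using b2)),
    mem_centralizer_singleton_iff.2 (mul_inv_eq_iff_eq_mul.1 (by simpa [pr] using b4))⟩, _,
    b1.symm.trans (by simp [pr]), fun e => ?_⟩
  have := c.ρ_Q ((closure_le c.Q).2 (by simp [Set.insert_subset_iff, c.zQ, c.tt_mem, c.ss_mem]) e)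
  have k : c.ρ (pr [c.z, c.tt, c.ss, u, v] x) = mat A0 := by
    simp only [List.mem_cons, List.not_mem_nil, or_false] at w3
    rcases w3 with rfl | rfl | rfl <;>
      simp [pr, hρ, c.ρ_Q c.zQ, c.ρ_Q c.tt_mem, c.ρ_Q c.ss_mem, c.ρ_Q h.uQ]
  rw [k, ← mat_one, ← eqM_iff] at this
  exact absurd this (by decide +kernel)

end H9.L
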