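import Mathlib
import Cfsg.Agent.H9.LD

/-! # The group `C(z, t, s)` -/

set_option autoImplicit false
set_option maxRecDepth 100000
set_option linter.all false
set_option Elab.async false

namespace H9.L

open H29 H9.GF2 Matrix Subgroup
open H9.R hiding cls CL qb Bb ew Std TL pcs wsT cls_va0 cls_vecMul cls_eq_zero cls_zero cls_lt ncard_cls cls_ind R0 c_pcs c_TL c_key nodup_TL ncard_mat mat_inj_TL

variable {G Γ : Type*} [Group G] [Group Γ]

theorem ncard_orb {X : Type*} [Group X] [Finite X] (M : Subgroup X) (z : X) :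
    {x | ∃ g ∈ M, g * z * g⁻¹ = x}.ncard * Nat.card ↥(M ⊓ centralizer {z}) = Nat.card M := by
  letI : MulAction M X := MulAction.compHom X (MulAut.conj.comp M.subtype)
  have h := (MulAction.stabilizer M z).index_mul_card
  rw [MulAction.index_stabilizer] at h
  convert h using 2
  · congr 1
    ext x
    exact ⟨fun ⟨g, hg, h⟩ => ⟨⟨g, hg⟩, h⟩, fun ⟨g, h⟩ => ⟨g, g.2, h⟩⟩
  · rw [← Nat.card_congr (subgroupOfEquivOfLe (inf_le_left (a := M) (b := centralizer {z}))).toEquiv]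
    congr 2
    ext g
    rw [mem_subgroupOf, mem_inf, mem_centralizer_singleton_iff, and_iff_right g.2, ← mul_inv_eq_iff_eq_mul]
    rfl

/-- The stabiliser of a vector. -/
def st (c : Co Γ) (x : V) : Subgroup Γ where
  carrier := {g | x ᵥ* c.ρ g = x}
  one_mem' := by simp
  mul_mem' := fun {a b} ha hb => by
    rw [Set.mem_setOf_eq] at *; rw [map_mul, ← vecMul_vecMul, ha, hb]
  inv_mem' := fun {a} ha => by
    rw [Set.mem_setOf_eq] at *; nth_rw 1 [← ha]; rw [vecMul_vecMul, Co.ρ_mul_inv, vecMul_one]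

theorem card_st [Finite Γ] (c : Co Γ) (K : Subgroup Γ) (x : V) :
    {y | ∃ k ∈ K, x ᵥ* c.ρ k = y}.ncard * Nat.card ↥(K ⊓ st c x) = Nat.card K := by
  letI : MulAction K V :=
    { smul := fun k y => y ᵥ* c.ρ (k : Γ)⁻¹
      one_smul := fun y => show y ᵥ* c.ρ (1 : Γ)⁻¹ = y by simp
      mul_smul := fun a b y => show y ᵥ* c.ρ ((a : Γ) * b)⁻¹ = (y ᵥ* c.ρ (b : Γ)⁻¹) ᵥ* c.ρ (a : Γ)⁻¹ by
        rw [_root_.mul_inv_rev, map_mul, vecMul_vecMul] }
  have h := (MulAction.stabilizer K x).index_mul_card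
  rw [MulAction.index_stabilizer] at h
  convert h using 2
  · congr 1
    ext y
    exact ⟨fun ⟨g, hg, h⟩ => ⟨⟨g⁻¹, inv_mem hg⟩, show x ᵥ* c.ρ g⁻¹⁻¹ = y by rwa [inv_inv]⟩,
      fun ⟨g, h⟩ => ⟨_, inv_mem g.2, h⟩⟩
  · rw [← Nat.card_congr (subgroupOfEquivOfLe (inf_le_left (a := K) (b := st c x))).toEquiv]
    congr 2
    ext g
    rw [mem_subgroupOf, mem_inf, and_iff_right g.2, ← inv_mem_iff]
    rfl

/-- A lower bound for the order. -/
theorem card_chain [Finite Γ] (c : Co Γ) {K : Subgroup Γ} {l : List ℕ} (h : ∀ A ∈ l, ∃ k ∈ K, c.ρ k = mat A)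
    {x n : ℕ} (h1 : (seqN (orbSet (fun g y => va y g) (fun y => y) l 4096 x) fun S =>
      Nat.ble n (treeCnt (fun y => S.testBit y) 12)) = true) :
    n * Nat.card ↥(K ⊓ st c (vec x)) ≤ Nat.card K := by
  rw [← card_st c K (vec x)]
  refine Nat.mul_le_mul_right _ ?_
  rw [seqN_eq, ble_iff, ← ncard_cd] at h1
  refine h1.trans (Set.ncard_le_ncard (fun y hy => ?_) (Set.toFinite _))
  obtain ⟨z, h2, h3⟩ := orbSet_sound _ _ _ _ _ (fun y => ∃ k ∈ K, vec x ᵥ* c.ρ k = vec y) ⟨1, one_mem _, by simp⟩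
    (fun A hA y ⟨k, hk, e⟩ => by
      obtain ⟨k', hk', e'⟩ := h A hA
      exact ⟨k * k', mul_mem hk hk', by rw [map_mul, ← vecMul_vecMul, e, e', vec_va]⟩) _ hy
  rw [← vec_cd y, ← h3]; exact h2

theorem ncard_pre (c : Co Γ) (X : Set V) : {a | a ∈ c.Q ∧ c.π a ∈ X}.ncard = 2 * X.ncard := by
  have : Function.Bijective fun p : ZMod 2 × X => (⟨c.s p.2 * c.zp p.1, mul_mem (c.s_mem _) (c.zp_mem _), by
      rw [c.π_mul_zp (c.s_mem _), c.π_s]; exact p.2.2⟩ : {a | a ∈ c.Q ∧ c.π a ∈ X}) := by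
    refine ⟨fun p q e => ?_, fun a => ?_⟩
    · have e1 := congrArg Subtype.val e
      have e2 := congrArg c.π e1
      simp only [c.π_mul_zp (c.s_mem _), c.π_s] at e1 e2
      rw [e2] at e1
      exact Prod.ext (c.zp_inj (mul_left_cancel e1)) (Subtype.ext e2)
    · obtain ⟨t, e⟩ := c.eq_zp a.2.1 (c.s_mem (c.π a)) (c.π_s _).symm
      exact ⟨⟨t, _, a.2.2⟩, Subtype.ext e.symm⟩
  rw [← Nat.card_coe_set_eq, ← Nat.card_eq_of_bijective _ this, Nat.card_prod, Nat.card_coe_set_eq, Nat.card_zmod]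

theorem StM.mem_cl {a : Γ} (c : StM Γ) : a ∈ closure ({c.z, c.tt, c.ss} : Set Γ) ↔
    a ∈ c.Q ∧ cd (c.π a) ∈ [0, 5, 10, 15] := by
  constructor
  · intro h
    induction h using closure_induction with
    | mem x hx =>
      rcases hx with rfl | rfl | rfl
      · exact ⟨c.zQ, by rw [c.π_z, cd_zero]; simp⟩
      · exact ⟨c.tt_mem, by rw [c.π_tt, cd_vec (by decide)]; simp⟩
      · exact ⟨c.ss_mem, by rw [c.π_ss, cd_vec (by decide)]; simp⟩
    | one => exact ⟨one_mem _, by rw [c.π_one, cd_zero]; simp⟩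
    | mul x y _ _ hx hy =>
      refine ⟨mul_mem hx.1 hy.1, ?_⟩
      rw [c.π_mul _ hx.1 _ hy.1, cd_add]
      exact (by decide : ∀ a ∈ [0, 5, 10, 15], ∀ b ∈ [0, 5, 10, 15], a ^^^ b ∈ [0, 5, 10, 15]) _ hx.2 _ hy.2
    | inv x _ hx => exact ⟨inv_mem hx.1, by rw [c.π_inv hx.1]; exact hx.2⟩
  · rintro ⟨h1, h2⟩
    have z : c.z ∈ closure ({c.z, c.tt, c.ss} : Set Γ) := subset_closure (by simp)
    have t : c.tt ∈ closure ({c.z, c.tt, c.ss} : Set Γ) := subset_closure (by simp)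
    have s : c.ss ∈ closure ({c.z, c.tt, c.ss} : Set Γ) := subset_closure (by simp)
    have k : ∀ b ∈ closure ({c.z, c.tt, c.ss} : Set Γ), b ∈ c.Q → c.π b = c.π a →
        a ∈ closure ({c.z, c.tt, c.ss} : Set Γ) := fun b hb h3 h4 => by
      rcases c.eq_of_π h1 h3 h4.symm with rfl | rfl
      exacts [hb, mul_mem hb z]
    simp only [List.mem_cons, List.not_mem_nil, or_false] at h2
    rcases h2 with e | e | e | e <;> replace e := (congrArg R.vec e).symm.trans (vec_cd _)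
    exacts [k 1 (one_mem _) (one_mem _) (by rw [c.π_one, ← e, R.vec_zero]), k _ t c.tt_mem (c.π_tt.trans e),
      k _ s c.ss_mem (c.π_ss.trans e), k _ (mul_mem s t) (mul_mem c.ss_mem c.tt_mem) (c.π_st.trans e)]

theorem StM.mem_W (c : StM Γ) {k : Γ} : k ∈ c.W ↔ k * c.tt = c.tt * k ∧ k * c.ss = c.ss * k := by
  simp only [StM.W, mem_inf, mem_centralizer_singleton_iff]

theorem StM.fix_W (c : StM Γ) {k : Γ} (h : k ∈ c.W) : vec 5 ᵥ* c.ρ k = vec 5 ∧ vec 10 ᵥ* c.ρ k = vec 10 := by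
  rw [← c.π_tt, ← c.π_ss, ← c.π_conj _ _ c.tt_mem, ← c.π_conj _ _ c.ss_mem, conj_of_comm (c.mem_W.1 h).1,
    conj_of_comm (c.mem_W.1 h).2]
  exact ⟨rfl, rfl⟩

theorem StM.lift_W (c : StM Γ) {g : Γ} {A : ℕ} (h : c.ρ g = mat A)
    (h1 : eqM (mu TH A) (mu A TH) = true ∧ va 5 A = 5 ∧ va 10 A = 10) : ∃ k ∈ c.W, c.ρ k = mat A := by
  obtain ⟨k, h2, h3⟩ := c.lift_lin h h1.1
  exact ⟨k, c.mem_W.2 ⟨comm_of_conj (c.lf_va h2 h3 h1.2.1), comm_of_conj (c.lf_va h2 h3 h1.2.2)⟩, h2⟩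

theorem k_fix : (H29.allL TL fun A => imp (eqM (mu A A) one) (or2 (eqM A one)
    ([[1444, 3782, 3292, 3240], [2179, 1448, 1424, 2711], [3244, 2464, 78, 3286]].any fun b =>
      allN 16 fun m => or2 (Nat.beq m 0) (no (Nat.beq (va (lin b m) A) (lin b m)))))) = true := by decide +kernel

theorem ncard_fix {A : ℕ} (hA : A ∈ TL) (h : mat A * mat A = 1) (h1 : mat A ≠ 1) :
    {x : V | x ᵥ* mat A = x}.ncard ≤ 256 := by
  have k := imp_true.1 (allL_true.1 k_fix A hA) (eqM_iff.2 (by rw [mat_mu, h, mat_one]))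
  rw [or2_true, eqM_iff, mat_one, List.any_eq_true] at k
  obtain ⟨b, hb, k⟩ := k.resolve_left h1
  have hb' : ∀ x ∈ b, x < 4096 := by clear k; revert b; decide
  have := Nat.card_le_card_of_injective (fun p : Fin 16 × {x : V | x ᵥ* mat A = x} => vec (lin b p.1) + p.2)
    fun p q e => by
      have e1 : R.vec (lin b (p.1 ^^^ q.1)) = p.2 + q.2 := by
        have e : R.vec (lin b p.1) + p.2 = R.vec (lin b q.1) + q.2 := e
        rw [lin_xor, vec_xor', ← R.add_eq_zero', add_add_add_comm, e, add_self]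
      have e2 := allN_true.1 k (p.1 ^^^ q.1) (Nat.xor_lt_two_pow (n := 4) p.1.2 q.1.2)
      rw [or2_true, no_true, H29.beq_true, H29.beq_true, va_eq_iff (lin_lt hb' _), e1, add_vecMul, p.2.2, q.2.2] at e2
      have e3 : p.1 = q.1 := Fin.ext (Nat.eq_of_xor_eq_zero (e2.resolve_right (not_not.2 rfl)))
      have e : R.vec (lin b p.1) + p.2 = R.vec (lin b q.1) + q.2 := e
      rw [e3] at e
      exact Prod.ext e3 (Subtype.ext (add_left_cancel e))
  rw [Nat.card_prod, card_V, Nat.card_coe_set_eq, Nat.card_eq_fintype_card, Fintype.card_fin] at this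
  omega

section
variable [Finite Γ] (c : Std Γ)

theorem Std.pg_of_sq {a : Γ} (h : a * a ∈ c.Q) : IsPGroup 2 (zpowers a) :=
  pg_zpowers' (k := 3) (by rw [show 2 ^ 3 = 2 * 4 from rfl, pow_mul, sq, c.pow_four h])

theorem Std.fix_big {k : Γ} (h : IsPGroup 2 (zpowers k)) (h1 : 512 ≤ {x : V | x ᵥ* c.ρ k = x}.ncard) :
    k ∈ c.Q := by
  obtain ⟨n, hn⟩ := h ⟨k, mem_zpowers k⟩
  have h2 : k ^ 2 ^ n ∈ c.Q := by rw [show k ^ 2 ^ n = 1 from congrArg Subtype.val hn]; exact one_mem _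
  clear hn h
  induction n generalizing k with
  | zero => simpa using h2
  | succ n ih =>
    have h3 : k * k ∈ c.Q := ih (h1.trans (Set.ncard_le_ncard (fun x hx => by
      rw [Set.mem_setOf_eq] at *; rw [map_mul, ← vecMul_vecMul, hx, hx]) (Set.toFinite _)))
      (by rwa [← sq, ← pow_mul, ← pow_succ'])
    obtain ⟨g, hg⟩ := c.conj_T (c.pg_of_sq h3)
    obtain ⟨A, hA, e⟩ := c.mem_T.1 (hg k (mem_zpowers k))
    by_contra h4
    have := ncard_fix hA (by rw [← e, ← map_mul]; exact c.ρ_Q (by simpa [mul_assoc] using c.conj_mem g h3))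
      fun e1 => h4 (by simpa [mul_assoc] using c.nQ.conj_mem _ (c.ker _ (e.trans e1)) g)
    have h5 := Set.ncard_le_ncard_of_injOn (s := {x : V | x ᵥ* c.ρ k = x}) (t := {x : V | x ᵥ* mat A = x})
      (· ᵥ* c.ρ g) (fun x hx => by
        rw [Set.mem_setOf_eq] at *
        rw [← e, vecMul_vecMul, ← map_mul, mul_assoc, mul_inv_cancel_left, map_mul, ← vecMul_vecMul, hx])
      fun a _ b _ e => by
        have := congrArg (· ᵥ* c.ρ g⁻¹) e
        simpa only [vecMul_vecMul, Co.ρ_mul_inv, vecMul_one] using this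
    omega

theorem Std.card_Ct : Nat.card (centralizer ({c.tt} : Set Γ)) = 2 ^ 19 * 405 := by
  have h := ncard_orb ⊤ c.tt
  have h1 : {x | ∃ g ∈ (⊤ : Subgroup Γ), g * c.tt * g⁻¹ = x} = {a | a ∈ c.Q ∧ c.π a ∈ {x | cls (cd x) = 1}} := by
    ext a
    constructor
    · rintro ⟨g, -, rfl⟩
      refine ⟨c.nQ.conj_mem _ c.tt_mem g, ?_⟩
      rw [Set.mem_setOf_eq, c.π_conj' _ c.tt_mem, c.cls_ρ, c.π_tt, cd_vec (by decide)]; decide +kernel
    · rintro ⟨h1, h2⟩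
      obtain ⟨g, e⟩ := isConj_iff.1 (c.cls_t h1 (vec_cd _).symm ⟨cd_lt _, h2⟩)
      exact ⟨g, mem_top _, e⟩
  rw [h1, ncard_pre, ncard_cls 1 (by decide), top_inf_eq, card_top, c.card] at h
  change 2 * 378 * _ = _ at h
  omega

theorem StM.ne_z (c : StM Γ) {a : Γ} : a ≠ a * c.z := fun e => c.z1 (left_eq_mul.1 e)

theorem Std.card_W : Nat.card c.W = 2 ^ 17 * 405 := by
  have h := ncard_orb (centralizer {c.tt}) c.ss
  obtain ⟨-, -, ⟨r, r1, r2⟩, ⟨x, -, -, -, x1, x2⟩, h3⟩ := c.f3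
  have h1 : {x | ∃ g ∈ centralizer {c.tt}, g * c.ss * g⁻¹ = x} = {a | a ∈ c.Q ∧ c.π a ∈ ({vec 10, vec 15} : Set V)} := by
    ext a
    simp only [mem_centralizer_singleton_iff, Set.mem_setOf_eq]
    constructor
    · rintro ⟨g, hg, rfl⟩
      refine ⟨c.nQ.conj_mem _ c.ss_mem g, ?_⟩
      rcases h3 g hg with e | e | e | e <;>
        simp [e, c.π_mul _ c.ss_mem _ c.zQ, c.π_mul _ (mul_mem c.ss_mem c.tt_mem) _ c.zQ, c.π_z, c.π_ss, c.π_st]
    · rintro ⟨h1, e | e⟩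
      · rcases c.eq_of_π h1 c.ss_mem (e.trans c.π_ss.symm) with rfl | rfl
        exacts [⟨1, by simp, by simp⟩, ⟨x, x1, x2⟩]
      · rcases c.eq_of_π h1 (mul_mem c.ss_mem c.tt_mem) (e.trans c.π_st.symm) with rfl | rfl
        · exact ⟨r, r1, r2⟩
        · refine ⟨r * x, Commute.mul_left r1 x1, ?_⟩
          rw [show r * x * c.ss * (r * x)⁻¹ = r * (x * c.ss * x⁻¹) * r⁻¹ by group, x2, ← r2, ← mul_assoc,
            mul_assoc _ c.z, ← c.zc, mul_assoc _ r⁻¹]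
  rw [h1, ncard_pre, Set.ncard_pair fun e => absurd (vec_inj (by decide) (by decide) e) (by decide), c.card_Ct] at h
  change 2 * 2 * Nat.card c.W = _ at h
  omega

theorem Std.mem_QW {a : Γ} (ha : a ∈ c.Q) : a ∈ c.W ↔ c.B (c.π a) (vec 5) = 0 ∧ c.B (c.π a) (vec 10) = 0 := by
  rw [c.mem_W, ← c.π_tt, ← c.π_ss]
  exact and_congr ⟨c.B_of_comm ha c.tt_mem, c.comm_of_B ha c.tt_mem⟩ ⟨c.B_of_comm ha c.ss_mem, c.comm_of_B ha c.ss_mem⟩

theorem Std.mem_QW' {a : Γ} (ha : a ∈ c.Q) :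
    a ∈ c.W ↔ and2 (no (Bb (cd (c.π a)) 5)) (no (Bb (cd (c.π a)) 10)) = true := by
  rw [c.mem_QW ha, c.B_eq, c.B_eq, cd_vec (by decide), cd_vec (by decide)]
  cases Bb (cd (c.π a)) 5 <;> cases Bb (cd (c.π a)) 10 <;> simp [bz]

theorem Std.card_QW : Nat.card ↥(c.Q ⊓ c.W) = 2 ^ 11 := by
  have h1 : ((c.Q ⊓ c.W : Subgroup Γ) : Set Γ) =
      {a | a ∈ c.Q ∧ c.π a ∈ {x | and2 (no (Bb (cd x) 5)) (no (Bb (cd x) 10)) = true}} :=
    Set.ext fun a => and_congr_right fun ha => c.mem_QW' ha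
  rw [← SetLike.coe_sort_coe, h1, Nat.card_coe_set_eq, ncard_pre,
    ncard_cd fun x => and2 (no (Bb x 5)) (no (Bb x 10))]
  decide +kernel

theorem Std.W_le : c.W ≤ c.M := fun k hk => c.mem_M_iff.2 ((c.nD k).resolve_right fun e => by
  have h := c.fix_W hk
  have h1 := h.2
  rw [show vec 10 = vec 5 ᵥ* mat TH by rw [← vec_va]; congr 1, vecMul_vecMul, e, ← vecMul_vecMul, h.1, ← mat_mu,
    ← vec_va, ← vec_va] at h1
  exact absurd (vec_inj (va_lt _ _) (va_lt _ _) h1) (by decide +kernel))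

theorem k_rk : (seqL (SL.filter fun A => eqM (mu A A) one) fun L => treeAll (fun x => imp (Nat.beq (cls x) 1)
    (Nat.ble (L.filter fun A => Nat.beq (va x A) x).length 31)) 12 0) = true := by decide +kernel

theorem Std.mem_SL {a : Γ} (h : a ∈ c.T) (h1 : a ∈ c.M) : ∃ A ∈ SL, c.ρ a = mat A := by
  obtain ⟨A, hA, e⟩ := c.mem_T.1 h
  have k : (H29.allL TL fun A => imp (eqM (mu TH A) (mu A TH)) (memL A SL)) = true := by decide +kernel
  exact ⟨A, memL_true.1 (imp_true.1 (allL_true.1 k A hA) (eqM_iff.2 (by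
    rw [mat_mu, mat_mu, ← e]; exact c.mem_M_iff.1 h1))), e⟩

theorem Std.W_rk {A : Subgroup Γ} (h1 : A ≤ c.W) (h2 : IsPGroup 2 A) (h3 : ∀ a ∈ A, a * a ∈ c.Q) :
    (c.ρ '' A).ncard < 32 := by
  obtain ⟨g, hg⟩ := c.conj_T h2
  have k := all12 (seqL_eq _ _ ▸ k_rk) (vec 5 ᵥ* c.ρ g)
  rw [imp_true, H29.beq_true, ble_iff, c.cls_ρ, cd_vec (by decide)] at k
  refine lt_of_le_of_lt (le_trans ?_ ((ncard_mat_le _).trans (k (by decide +kernel)))) (by norm_num)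
  refine Set.ncard_le_ncard_of_injOn (fun X => c.ρ g⁻¹ * X * c.ρ g) ?_ (fun X _ Y _ e => ?_)
    ((List.finite_toSet _).image _)
  · rintro _ ⟨a, ha, rfl⟩
    obtain ⟨X, hX, e⟩ := c.mem_SL (hg a ha) (c.nM.conj_mem' _ (c.W_le (h1 ha)) g)
    refine ⟨X, ?_, by rw [← e, map_mul, map_mul]⟩
    simp only [Set.mem_setOf_eq, List.mem_filter, H29.beq_true, eqM_iff, ← fix_iff, mat_mu, mat_one, ← e]
    refine ⟨⟨hX, ?_⟩, ?_⟩
    · rw [← map_mul]; exact c.ρ_Q (by simpa [mul_assoc] using c.conj_mem g (h3 a ha))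
    · rw [vecMul_vecMul, ← map_mul, mul_assoc, mul_inv_cancel_left, map_mul, ← vecMul_vecMul, (c.fix_W (h1 ha)).1]
  · have := congrArg (fun X => c.ρ g * X * c.ρ g⁻¹) e
    simpa only [← mul_assoc, Co.ρ_mul_inv, one_mul, mul_assoc _ (c.ρ g), mul_one] using this

theorem Std.Q_cent {k : Γ} (h1 : k ∈ c.Q) (h2 : ∀ a ∈ c.Q ⊓ c.W, k * a = a * k) :
    k ∈ closure ({c.z, c.tt, c.ss} : Set Γ) := by
  have k1 := all12 (f := fun x => imp (H29.allL [5, 10, 16, 32, 64, 128, 256, 512, 1024, 2048] fun b => no (Bb x b))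
    (decide (x ∈ [0, 5, 10, 15])))
    (by decide +kernel) (c.π k)
  simp only [imp_true, allL_true, no_true, decide_eq_true_eq] at k1
  refine c.mem_cl.2 ⟨h1, k1 fun b hb e => ?_⟩
  have h3 : b < 4096 ∧ and2 (no (Bb b 5)) (no (Bb b 10)) = true := by clear e; revert b; decide +kernel
  have := c.B_of_comm h1 (c.s_mem (vec b)) (h2 _ ⟨c.s_mem _, (c.mem_QW' (c.s_mem _)).2 (by
    rw [c.π_s, cd_vec h3.1]; exact h3.2)⟩)
  rw [c.B_eq, c.π_s, cd_vec h3.1, e] at this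
  exact absurd this (by decide)

theorem Std.W_perf : c.tt ∈ ⁅c.W, c.W⁆ ∧ c.ss ∈ ⁅c.W, c.W⁆ := by
  have sW : ∀ {x}, x < 4096 ∧ and2 (no (Bb x 5)) (no (Bb x 10)) = true → c.s (vec x) ∈ c.W := fun h =>
    (c.mem_QW' (c.s_mem _)).2 (by rw [c.π_s, cd_vec h.1]; exact h.2)
  have hz : c.z ∈ ⁅c.W, c.W⁆ := by
    have := commutator_mem_commutator (sW (x := 16) (by decide +kernel)) (sW (x := 32) (by decide +kernel))
    rwa [commutatorElement_def, c.comm_Bb (c.s_mem _) (c.s_mem _) (c.π_s _) (c.π_s _) (by decide) (by decide),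
      show Bb 16 32 = true by decide +kernel, Co.zp_mul, Co.zp_mul, mul_inv_cancel_right, mul_inv_cancel, one_mul,
      show c.zp (bz true) = c.z from c.zp_one] at this
  obtain ⟨k, hk, e⟩ := c.lift_W (c.ρ_ev (w := [0, 0, 1, 1, 3, 2, 1, 2, 4]) (by decide)) (by decide +kernel)
  have key : ∀ {x y : ℕ} {a : Γ}, (x < 4096 ∧ and2 (no (Bb x 5)) (no (Bb x 10)) = true) ∧
      va x (ew [0, 0, 1, 1, 3, 2, 1, 2, 4]) ^^^ x = y → a ∈ c.Q → c.π a = vec y → a ∈ ⁅c.W, c.W⁆ :=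
    fun {x y a} h ha e1 => by
      have h1 := commutator_mem_commutator (inv_mem hk) (sW h.1)
      rw [commutatorElement_def, inv_inv] at h1
      have h2 := c.conj_mem k (c.s_mem (vec x))
      rcases c.eq_of_π ha (mul_mem h2 (inv_mem (c.s_mem (vec x)))) (by
        rw [c.π_mul _ h2 _ (inv_mem (c.s_mem _)), c.π_conj _ _ (c.s_mem _), c.π_inv (c.s_mem _), c.π_s, e, e1,
          ← h.2, vec_xor', vec_va]) with rfl | rfl
      exacts [h1, mul_mem h1 hz]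
  exact ⟨key (x := 3280) (by decide +kernel) c.tt_mem c.π_tt, key (x := 1120) (by decide +kernel) c.ss_mem c.π_ss⟩

/-- The stabiliser in `TL` of `2816` and `3328`. -/
noncomputable def S64 : List ℕ := TL.filter fun A => and2 (Nat.beq (va 2816 A) 2816) (Nat.beq (va 3328 A) 3328)
def C0 : ℕ := 23785485766270459848570310395373653189790600020
def C1 : ℕ := 7605018626398384117579486547674779343379514705
def Mm : ℕ := 1427334810309128162806504139869876975514419968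
def Mi : ℕ := 44617824449179585479773247564103401758523408
def Bs : List ℕ := [10649441752947167875132304159824311608882548173, 25625174728541807828636626627786213948865686815]
noncomputable def cmm (A B : ℕ) : ℕ := mu A (mu (mu (mu B (mu B B)) A) B)
def Gs : List ℕ := [10515620946209016685675818519989847745945554417, 22837356901139213535380181828300425468198322180,
  713885268286566854884806119578216049145872388, 7370917965763083612542434218552961388995431057,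
  7839205038191426490933402302251823157826310097]
def Gw : List (List ℕ) := [[1, 2, 1, 1, 1, 1, 2, 3, 4], [0, 1, 2, 3, 1, 2, 2, 0, 1, 3, 1, 0, 0, 1],
  [0, 1, 3, 2, 1, 1, 3, 2, 1, 0, 0, 1], [3, 2, 2, 3, 2, 3, 1, 2, 4, 0], [2, 0, 1, 0, 1, 2, 3, 1, 4]]

theorem k_S64 : (H29.allL S64 fun A => and2 (seqN (mu (mu Mm A) Mi) fun X => and2 (eqM (mu TH X) (mu X TH))
    (and2 (Nat.beq (va 5 X) 5) (Nat.beq (va 10 X) 10))) (imp (eqM (mu A A) one) (or2 (eqM A one) (or2 (eqM A C0)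
      (anyL Bs fun B => or2 (eqM (cmm A B) C0) (anyL Bs fun B' => eqM (cmm (cmm A B) B') C0)))))) = true := by
  decide +kernel
theorem k_G : (allN 5 fun i => seqN (ew (nth [] Gw i)) fun X => and2 (eqM (mu TH X) (mu X TH))
    (and2 (and2 (Nat.beq (va 5 X) 5) (Nat.beq (va 10 X) 10)) (eqM (mu C1 X) (mu X (nth one Gs i))))) = true := by
  decide +kernel

theorem Std.W_nc {N : Subgroup Γ} (h1 : N ≤ c.W) (h2 : ∀ k ∈ c.W, ∀ n ∈ N, k * n * k⁻¹ ∈ N)
    (h3 : c.Q ⊓ c.W ≤ N) {a : Γ} (ha : a ∈ N) (h4 : a ∉ c.Q) (h5 : a * a ∈ c.Q) : N = c.W := by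
  obtain ⟨m, hm⟩ := c.exists_ρ [2, 2, 0, 1, 1, 1] (A := Mm) (by decide +kernel)
  have hm' : c.ρ m⁻¹ = mat Mi := by
    rw [← mul_one (c.ρ m⁻¹), ← mat_one, ← eqM_iff.1 (by decide +kernel : eqM (mu Mm Mi) one = true), mat_mu, ← hm,
      ← mul_assoc, Co.ρ_inv_mul, one_mul]
  have h2' : ∀ k ∈ c.W, ∀ n ∈ N, k⁻¹ * n * k ∈ N := fun k hk n hn => by simpa using h2 _ (inv_mem hk) n hn
  have lw : ∀ B ∈ S64, ∃ k ∈ c.W, c.ρ (m⁻¹ * k * m) = mat B := fun B hB => by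
    obtain ⟨g, hg⟩ := c.exists_TL (List.mem_of_mem_filter hB)
    have k := (and2_true.1 (allL_true.1 k_S64 B hB)).1
    simp only [seqN_eq, and2_true, H29.beq_true] at k
    obtain ⟨k, hk, e⟩ := c.lift_W (g := m * g * m⁻¹) (by rw [map_mul, map_mul, hm, hg, hm', ← mat_mu, ← mat_mu]) k
    refine ⟨k, hk, ?_⟩
    rw [map_mul, map_mul, e, mat_mu, mat_mu, ← hm, ← hm', ← hg]
    simp only [← map_mul]; congr 1; group
  have cS : 2 ^ 17 ≤ Nat.card ↥(c.W ⊓ cj c.T m⁻¹) := by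
    rw [← card_cj _ m, c.card_eq, show 2 ^ 17 = 2 ^ 11 * 64 from rfl]
    refine Nat.mul_le_mul ?_ ?_
    · rw [← c.card_QW, ← card_cj _ m]
      refine card_le_of_le fun x hx => ?_
      rw [mem_cj] at hx
      have hq : x ∈ c.Q := by simpa [mul_assoc] using c.conj_mem m hx.1
      exact ⟨mem_cj.2 ⟨hx.2, mem_cj.2 (by
        have : x ∈ c.T := mem_sup_left hq
        simpa [mul_assoc] using this)⟩, hq⟩
    · rw [show 64 = S64.length by decide +kernel, ← ncard_mat (L := S64) (fun A => List.mem_of_mem_filter) (nodup_TL.filter _)]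
      refine Set.ncard_le_ncard ?_ (Set.toFinite _)
      rintro _ ⟨B, hB, rfl⟩
      obtain ⟨k, hk, e⟩ := lw B hB
      exact ⟨_, conj_mem_cj m ⟨hk, mem_cj.2 (by
        rw [inv_inv]; exact c.mem_T.2 ⟨B, List.mem_of_mem_filter hB, e⟩)⟩, e⟩
  have pS : IsPGroup 2 ↥((c.W ⊓ cj c.T m⁻¹).subgroupOf c.W) :=
    (((IsPGroup.of_card c.card_T).map _).to_le inf_le_right).comap_of_injective _ (subtype_injective _)
  obtain ⟨g, hg⟩ := exists_conj_sylow pS (by
    obtain ⟨n, hn⟩ := IsPGroup.iff_card.1 pS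
    rw [Nat.card_congr (subgroupOfEquivOfLe inf_le_left).toEquiv] at hn ⊢
    rw [hn] at cS ⊢
    intro e
    have := ((Nat.mul_dvd_mul_left 2 (pow_dvd_pow 2 ((Nat.pow_le_pow_iff_right (by norm_num)).1 cS))).trans e)
    rw [c.card_W] at this
    exact absurd this (by norm_num)) (A := zpowers ⟨a, h1 ha⟩) (pg_zpowers' (k := 3) (Subtype.ext (by
      show a ^ 2 ^ 3 = 1
      rw [show 2 ^ 3 = 2 * 4 from rfl, pow_mul, sq, c.pow_four h5])))
  have h6 := hg _ (mem_zpowers _)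
  rw [mem_subgroupOf] at h6
  have h7 := h2' _ g.2 a ha
  have h8 : (g : Γ)⁻¹ * a * g ∉ c.Q := fun e => h4 (by simpa [mul_assoc] using c.nQ.conj_mem _ e g)
  have h9 : (g : Γ)⁻¹ * a * g * ((g : Γ)⁻¹ * a * g) ∈ c.Q := by simpa [mul_assoc] using c.conj_mem g h5
  change (g : Γ)⁻¹ * a * g ∈ _ at h6
  generalize (g : Γ)⁻¹ * a * g = b at h6 h7 h8 h9
  obtain ⟨A, hA, e⟩ := c.mem_T.1 (mem_cj.1 h6.2)
  rw [inv_inv] at e
  have fx : ∀ {x y : ℕ}, vec x ᵥ* c.ρ b = vec x → va x Mm = y ∧ y < 4096 → va y A = y := fun {x y} e1 e2 => by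
    rw [va_eq_iff e2.2, ← e, ← e2.1, vec_va, ← hm, vecMul_vecMul, ← map_mul, mul_assoc, mul_inv_cancel_left, map_mul,
      ← vecMul_vecMul, e1]
  have hA' : A ∈ S64 := List.mem_filter.2 ⟨hA, by
    rw [and2_true, H29.beq_true, H29.beq_true]
    exact ⟨fx (c.fix_W h6.1).1 (by decide +kernel), fx (c.fix_W h6.1).2 (by decide +kernel)⟩⟩
  have step : ∀ {A B}, (∃ n ∈ N, c.ρ (m⁻¹ * n * m) = mat A) → B ∈ Bs → ∃ n ∈ N, c.ρ (m⁻¹ * n * m) = mat (cmm A B) :=
    fun {A B} ⟨n, hn, e⟩ hB => by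
      have k : ∀ B ∈ Bs, memL B S64 = true ∧ eqM (mu B (mu B (mu B B))) one = true := by decide +kernel
      obtain ⟨k1, k2, k3⟩ := lw B (memL_true.1 (k B hB).1)
      refine ⟨n * (k1⁻¹ * n * k1), mul_mem hn (h2' _ k2 n hn), ?_⟩
      rw [show m⁻¹ * (n * (k1⁻¹ * n * k1)) * m = m⁻¹ * n * m * ((m⁻¹ * k1 * m)⁻¹ * (m⁻¹ * n * m) * (m⁻¹ * k1 * m)) by
        group, map_mul, c.ρ_conj e k3 (X := mu (mu (mu B (mu B B)) A) B), e, cmm, mat_mu A]
      have := eqM_iff.1 (k B hB).2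
      simp only [eqM_iff, mat_mu, mat_one, ← mul_assoc] at this ⊢
      rw [this, one_mul]
  have k0 : ∃ n ∈ N, c.ρ (m⁻¹ * n * m) = mat C0 := by
    have k := imp_true.1 (and2_true.1 (allL_true.1 k_S64 A hA')).2 (eqM_iff.2 (by
      rw [mat_mu, ← e, ← map_mul, mat_one]; exact c.ρ_Q (by simpa [mul_assoc] using c.conj_mem m h9)))
    simp only [or2_true, eqM_iff, anyL_iff, mat_one] at k
    rcases k with k | k | ⟨B, hB, k | ⟨B', hB', k⟩⟩
    · exact absurd (by simpa [mul_assoc] using c.nQ.conj_mem _ (c.ker _ (e.trans k)) m) h8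
    exacts [⟨b, h7, e.trans k⟩, k ▸ step ⟨b, h7, e⟩ hB, k ▸ step (step ⟨b, h7, e⟩ hB) hB']
  obtain ⟨n, hn, e1⟩ := k0
  have e2 : c.ρ n = mat C1 := by
    rw [← c.ρ_conj e1 hm' (by decide +kernel)]; congr 1; group
  have gs : ∀ i < 5, ∃ n ∈ N, c.ρ n = mat (nth one Gs i) := fun i hi => by
    have k := allN_true.1 k_G i hi
    simp only [seqN_eq, and2_true, H29.beq_true] at k
    obtain ⟨k1, k2, k3⟩ := c.lift_W (c.ρ_ev (w := nth [] Gw i) (by clear k; revert i; decide +kernel)) ⟨k.1, k.2.1⟩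
    exact ⟨_, h2' _ k2 n hn, c.ρ_conj e2 k3 k.2.2⟩
  have gw : ∀ w : List ℕ, (∀ i ∈ w, i < 5) → ∃ n ∈ N, c.ρ n = mat (P12.evW (P12.lets Gs) w) := fun w hw => by
    induction w with
    | nil => exact ⟨1, one_mem _, by simp [mat, Par.mat_evW ok12]⟩
    | cons i w ih =>
      obtain ⟨x, hx, e1⟩ := gs i (hw i (by simp))
      obtain ⟨y, hy, e2⟩ := ih fun k hk => hw k (by simp [hk])
      refine ⟨x * y, mul_mem hx hy, ?_⟩
      rw [map_mul, e1, e2]
      simp only [mat, Par.mat_evW ok12, List.map_cons, List.prod_cons]; rfl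
  have fw : ∀ {x A : ℕ} {n : Γ}, c.ρ n = mat A → va x A = x ∧ x < 4096 → n ∈ st c.toCo (vec x) :=
    fun e h => show _ = _ by rw [e]; exact (va_eq_iff h.2).1 h.1
  have c1 := card_chain c.toCo (K := N) (l := [[0], [1], [2], [3], [4]].map (P12.evW (P12.lets Gs))) (x := 85)
    (n := 135) (by
      simp only [List.forall_mem_map]
      exact fun w hw => gw w (by revert w; decide)) (by decide +kernel)
  have c2 := card_chain c.toCo (K := N ⊓ st c.toCo (vec 85))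
    (l := [[1, 2, 1], [0, 3, 2, 4, 3]].map (P12.evW (P12.lets Gs))) (x := 20) (n := 16) (by
      simp only [List.forall_mem_map]
      intro w hw
      obtain ⟨n, hn, e⟩ := gw w (by revert w; decide)
      exact ⟨n, ⟨hn, fw e (by clear e; revert w; decide +kernel)⟩, e⟩) (by decide +kernel)
  have c3 := card_chain c.toCo (K := N ⊓ st c.toCo (vec 85) ⊓ st c.toCo (vec 20))
    (l := [[2, 1, 3, 2], [3, 2, 4, 3]].map (P12.evW (P12.lets Gs))) (x := 256) (n := 12) (by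
      simp only [List.forall_mem_map]
      intro w hw
      obtain ⟨n, hn, e⟩ := gw w (by revert w; decide)
      exact ⟨n, ⟨⟨hn, fw e (by clear e; revert w; decide +kernel)⟩, fw e (by clear e; revert w; decide +kernel)⟩,
        e⟩) (by decide +kernel)
  have c4 : Nat.card ↥(c.Q ⊓ c.W) ≤ Nat.card ↥(N ⊓ st c.toCo (vec 85) ⊓ st c.toCo (vec 20) ⊓ st c.toCo (vec 256)) :=
    card_le_of_le fun x hx => have k : ∀ y, x ∈ st c.toCo y := fun y => show _ = _ by rw [c.ρ_Q hx.1, vecMul_one]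
      ⟨⟨⟨h3 hx, k _⟩, k _⟩, k _⟩
  rw [c.card_QW] at c4
  exact eq_of_le_of_card_ge h1 (by rw [c.card_W]; omega)

theorem Std.W_cent {k : Γ} (h1 : k ∈ c.W)
    (h2 : ∀ a ∈ c.Q ⊓ c.W, k * a * k⁻¹ * a⁻¹ ∈ closure ({c.z, c.tt, c.ss} : Set Γ)) : k ∈ c.Q := by
  have cen : ∀ e ∈ closure ({c.z, c.tt, c.ss} : Set Γ), ∀ k ∈ c.W, k * e = e * k := fun e he k hk =>
    mem_centralizer_singleton_iff.1 ((closure_le (centralizer {k})).2 (by
      rintro _ (rfl | rfl | rfl) <;> exact mem_centralizer_singleton_iff.2 (by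
        first | exact (c.zc k).symm | exact (c.mem_W.1 hk).1.symm | exact (c.mem_W.1 hk).2.symm)) he) |>.symm
  have sq2 : ∀ e ∈ closure ({c.z, c.tt, c.ss} : Set Γ), e * e = 1 := fun e he =>
    c.sq_of_qb (c.mem_cl.1 he).1 (vec_cd _).symm
      ((by decide +kernel : ∀ x ∈ [0, 5, 10, 15], x < 4096 ∧ qb x = false) _ (c.mem_cl.1 he).2)
  have two : ∀ k ∈ c.W, ∀ a, k * a * k⁻¹ * a⁻¹ ∈ closure ({c.z, c.tt, c.ss} : Set Γ) → k * k * a = a * (k * k) :=
    fun k hk a h => by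
      obtain ⟨e, he⟩ : ∃ e, e = k * a * k⁻¹ * a⁻¹ := ⟨_, rfl⟩
      rw [← he] at h
      have e1 : k * a = e * a * k := by rw [he]; group
      rw [mul_assoc, e1, ← mul_assoc, ← mul_assoc, cen e h k hk, mul_assoc e, e1, ← mul_assoc, ← mul_assoc, sq2 e h,
        one_mul, mul_assoc]
  have nW : ∀ k ∈ c.W, ∀ a ∈ c.Q ⊓ c.W, k⁻¹ * a * k ∈ c.Q ⊓ c.W := fun k hk a ha =>
    ⟨c.conj_mem k ha.1, c.W.mul_mem (c.W.mul_mem (c.W.inv_mem hk) ha.2) hk⟩
  have h3 : k * k ∈ c.Q := by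
    have h4 := fun a ha => two k h1 a (h2 a ha)
    have h5 := mul_mem h1 h1
    generalize k * k = m at h4 h5
    refine c.fix_big (c.pg_of_sq (c.ker _ (ext_vecMul fun x => ?_))) ?_
    · obtain ⟨b, hb, rfl⟩ := c.π_surj x
      have h6 := c.nQ.conj_mem b hb m
      rw [vecMul_one, ← c.π_conj _ _ hb, conj_of_comm (two m h5 b (c.Q_cent (mul_mem h6 (inv_mem hb)) fun a ha => ?_))]
      refine c.comm_of_B (mul_mem h6 (inv_mem hb)) ha.1 ?_
      rw [c.π_mul _ h6 _ (inv_mem hb), c.π_inv hb, c.B_add_left, c.π_conj' _ hb, ← c.B_ρ m, vecMul_vecMul,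
        Co.ρ_inv_mul, vecMul_one, ← c.π_conj _ _ ha.1, conj_of_comm (h4 a ha), CharTwo.add_self_eq_zero]
    · refine le_trans ?_ (Set.ncard_le_ncard (s := {x | and2 (no (Bb (cd x) 5)) (no (Bb (cd x) 10)) = true})
        (fun x hx => ?_) (Set.toFinite _))
      · rw [ncard_cd fun x => and2 (no (Bb x 5)) (no (Bb x 10))]; decide +kernel
      · obtain ⟨a, ha, rfl⟩ := c.π_surj x
        rw [Set.mem_setOf_eq, ← c.π_conj _ _ ha, conj_of_comm (h4 a ⟨ha, (c.mem_QW' ha).2 hx⟩)]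
  by_contra h4
  let N : Subgroup Γ :=
    { carrier := {k | k ∈ c.W ∧ ∀ a ∈ c.Q ⊓ c.W, k * a * k⁻¹ * a⁻¹ ∈ closure ({c.z, c.tt, c.ss} : Set Γ)}
      one_mem' := ⟨one_mem _, fun a _ => by simp⟩
      mul_mem' := fun {x y} hx hy => ⟨mul_mem hx.1 hy.1, fun a ha => by
        rw [show x * y * a * (x * y)⁻¹ * a⁻¹ = x * (y * a * y⁻¹ * a⁻¹) * x⁻¹ * (x * a * x⁻¹ * a⁻¹) by group,
          cen _ (hy.2 a ha) x hx.1, mul_inv_cancel_right]
        exact mul_mem (hy.2 a ha) (hx.2 a ha)⟩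
      inv_mem' := fun {x} hx => ⟨inv_mem hx.1, fun a ha => by
        have := inv_mem (hx.2 _ (nW x hx.1 a ha))
        rwa [show (x * (x⁻¹ * a * x) * x⁻¹ * (x⁻¹ * a * x)⁻¹)⁻¹ = x⁻¹ * a * x⁻¹⁻¹ * a⁻¹ by group] at this⟩ }
  have h5 := c.W_nc (N := N) (fun x hx => hx.1) (fun x hx n hn => ⟨mul_mem (mul_mem hx hn.1) (inv_mem hx),
    fun a ha => by
      have := hn.2 _ (nW x hx a ha)
      rwa [show x * n * x⁻¹ * a * (x * n * x⁻¹)⁻¹ * a⁻¹ =
        x * (n * (x⁻¹ * a * x) * n⁻¹ * (x⁻¹ * a * x)⁻¹) * x⁻¹ by group, cen _ this x hx, mul_inv_cancel_right]⟩)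
    (fun x hx => ⟨hx.2, fun a ha => by
      rcases c.comm hx.1 ha.1 with e | e <;> rw [e]
      · simp
      · rw [mul_assoc _ c.z, ← c.zc, mul_assoc _ _ a⁻¹, mul_assoc _ c.z, ← c.zc]
        simpa using Subgroup.subset_closure (by simp)⟩) (a := k) ⟨h1, h2⟩ h4 h3
  obtain ⟨g, hg, e⟩ := c.lift_W (c.ρ_ev (w := [0, 0, 1, 1, 3, 2, 1, 2, 4]) (by decide)) (by decide +kernel)
  have hs := c.s_mem (vec 16)
  have := (c.mem_cl.1 ((h5.ge (inv_mem hg)).2 _ ⟨hs, (c.mem_QW' hs).2 (by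
    rw [c.π_s, cd_vec (by decide)]; decide +kernel)⟩)).2
  rw [inv_inv, c.π_mul _ (c.conj_mem g hs) _ (inv_mem hs), c.π_conj _ _ hs, c.π_inv hs, c.π_s, e, cd_add, cd_vecMul,
    cd_vec (by decide)] at this
  exact absurd this (by decide +kernel)

end

end H9.L
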