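import Mathlib
import Cfsg.Agent.H9.LW

/-! # Stabilisers of singular vectors -/

set_option autoImplicit false
set_option maxRecDepth 100000
set_option linter.all false
set_option Elab.async false

namespace H9.L

open H29 H9.GF2 Matrix Subgroup
open H9.R hiding cls CL qb Bb ew Std TL pcs wsT cls_va0 cls_vecMul cls_eq_zero cls_zero cls_lt ncard_cls cls_ind R0 c_pcs c_TL c_key nodup_TL ncard_mat mat_inj_TL

variable {G Γ : Type*} [Group G] [Group Γ]

theorem StM.cover (c : StM Γ) {X : Set V} (h1 : ∀ x ∈ X, ∀ y ∈ X, c.B x y = 0) (h2 : ∀ x ∈ X, c.q x = 0)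
    {ws : List (List ℕ)} {L : List ℕ} (h3 : ∀ w ∈ ws, ∀ x ∈ X, x ᵥ* mat (ew w) ∈ X)
    (h4 : (seqL (ws.map ew) fun l => treeAll (fun x => or2 (qb x) (or2 (memL x L)
      (anyL l fun A => Bb x (va x A)))) 12 0) = true) : ∀ x ∈ X, cd x ∈ L := fun x hx => by
  have k := all12 (seqL_eq _ _ ▸ h4) x
  simp only [or2_true, memL_true, anyL_iff, List.mem_map] at k
  rcases k with k | k | ⟨_, ⟨w, hw, rfl⟩, k⟩
  · have := h2 x hx
    rw [c.q_eq, k] at this; exact absurd this (by decide)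
  · exact k
  · have := h1 x hx _ (h3 w hw x hx)
    rw [c.B_eq, cd_vecMul, k] at this; exact absurd this (by decide)

theorem StM.ts1 (c : StM Γ) {X : Set V} (h1 : ∀ x ∈ X, ∀ y ∈ X, c.B x y = 0) (h2 : ∀ x ∈ X, c.q x = 0)
    (h3 : ∀ k ∈ c.M, vec 5 ᵥ* c.ρ k = vec 5 → ∀ x ∈ X, x ᵥ* c.ρ k ∈ X) :
    ∀ x ∈ X, cd x ∈ [0, 5, 10, 15] := by
  refine c.cover h1 h2 (ws := [[0, 0, 2, 0, 2, 2, 4], [1, 0, 3, 1, 0, 3, 1, 2, 2, 0, 2, 4, 4],
    [0, 0, 1, 1, 3, 1, 3, 2, 1, 2, 0, 4], [3, 2, 1, 2, 0, 3, 4, 0, 0, 2, 0, 1, 0, 2, 4]]) (fun w hw => ?_)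
    (by decide +kernel)
  have k : (∀ i ∈ w, i < 5) ∧ va 5 (ew w) = 5 := by revert w; decide +kernel
  rw [← c.ρ_ev k.1]
  exact h3 _ (c.ev_mem k.1) (by rw [c.ρ_ev k.1, ← vec_va, k.2])

theorem StM.B_of_q (c : StM Γ) {X : AddSubgroup V} (h2 : ∀ x ∈ X, c.q x = 0) : ∀ x ∈ X, ∀ y ∈ X, c.B x y = 0 :=
  fun x hx y hy => by rw [Co.B, h2 x hx, h2 y hy, h2 _ (add_mem hx hy)]; rfl

theorem StM.ts64 (c : StM Γ) {X : AddSubgroup V} (h2 : ∀ x ∈ X, c.q x = 0) : Nat.card X ≤ 64 := by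
  have sm : ∀ (t : ZMod 2) (x y : V), c.B (t • x) y = t • c.B x y := fun t x y => by
    rcases z2_cases t with rfl | rfl
    · rw [zero_smul, zero_smul, c.B_comm, c.B_zero]
    · rw [one_smul, one_smul]
  let b : LinearMap.BilinForm (ZMod 2) V := LinearMap.mk₂ (ZMod 2) c.B c.B_add_left sm c.B_add_right
    fun t x y => by rw [c.B_comm, sm, c.B_comm]
  have nd : ∀ x, (∀ y, c.B x y = 0) → x = 0 := fun x hx => by
    rw [← c.π_s x]; exact c.nd _ (c.s_mem x) fun a ha => c.comm_of_B (c.s_mem x) ha (by rw [c.π_s, hx])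
  have hb : b.Nondegenerate := ⟨nd, fun x hx => nd x fun y => (c.B_comm x y).trans (hx y)⟩
  have h := LinearMap.BilinForm.finrank_orthogonal hb (AddSubgroup.toZModSubmodule 2 X)
  have h1 := Submodule.finrank_mono (show AddSubgroup.toZModSubmodule 2 X ≤
    b.orthogonal (AddSubgroup.toZModSubmodule 2 X) from fun x hx y hy => c.B_of_q h2 y hy x hx)
  rw [h, show Module.finrank (ZMod 2) V = 12 by simp [V, show P12.n = 12 from rfl]] at h1
  have h3 := Module.natCard_eq_pow_finrank (K := ZMod 2) (V := AddSubgroup.toZModSubmodule 2 X)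
  rw [Nat.card_zmod] at h3
  exact (show Nat.card X = _ from h3) ▸ Nat.pow_le_pow_right two_pos (show _ ≤ 6 by omega)

theorem StM.o2 [Finite Γ] (c : StM Γ) {N : Subgroup Γ} (h1 : N ≤ c.M) (h2 : IsPGroup 2 N)
    (h3 : ∀ k ∈ c.M, vec 85 ᵥ* c.ρ k = vec 85 → ∀ n ∈ N, ∃ m ∈ N, c.ρ (k⁻¹ * n * k) = c.ρ m) :
    ∀ n ∈ N, ∃ A ∈ BL, c.ρ n = mat A := by
  haveI := c.nQ
  have pQ : IsPGroup 2 c.Q := IsPGroup.of_card (n := 13) c.card_Q
  have pS : IsPGroup 2 c.S := IsPGroup.of_card c.card_S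
  have k : (H29.allL SL fun A => and2 (Nat.beq (va 85 A) 85) (imp (memL (key (mu (mu (ew [1, 1, 1, 2, 2, 3, 2, 2]) A)
    (ew [2, 3, 2, 1, 1]))) SL) (memL A BL))) = true := by decide +kernel
  have SM : c.S ≤ c.M := fun g hg => by
    obtain ⟨A, hA, e⟩ := c.mem_S.1 hg
    obtain ⟨k, hk, e'⟩ := c.exists_SL hA
    exact c.mem_M_of_ρ (e'.trans e.symm) hk
  have mem : ∀ {g}, g ∈ c.Q ⊔ N ↔ ∃ m ∈ N, c.ρ g = c.ρ m := fun {g} => ⟨fun h => by
      obtain ⟨a, ha, b, hb, rfl⟩ := mem_sup_of_normal_left.1 h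
      exact ⟨b, hb, by rw [map_mul, c.ρ_Q ha, one_mul]⟩, fun ⟨m, hm, e⟩ =>
    (mul_mem_cancel_left (mem_sup_right (inv_mem hm))).1 (mem_sup_left (c.mem_of_ρ e.symm))⟩
  have nm : ∀ g ∈ c.S, ∀ a ∈ c.Q ⊔ N, g⁻¹ * a * g ∈ c.Q ⊔ N := fun g hg a ha => by
    obtain ⟨m, hm, e⟩ := mem.1 ha
    obtain ⟨A, hA, e1⟩ := c.mem_S.1 hg
    obtain ⟨m', hm', e2⟩ := h3 g (SM hg) (by
      rw [e1, ← vec_va, H29.beq_true.1 (and2_true.1 (allL_true.1 k A hA)).1]) m hm
    exact mem.2 ⟨m', hm', by rw [← e2, map_mul, map_mul, e, map_mul, map_mul]⟩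
  have p1 := IsPGroup.to_sup_of_normal_left' (IsPGroup.to_sup_of_normal_left pQ h2) pS fun g hg =>
    mem_normalizer_iff.2 fun a => ⟨fun ha => by simpa using nm _ (inv_mem hg) a ha,
      fun ha => by simpa [mul_assoc] using nm _ hg _ ha⟩
  have e : c.S = c.Q ⊔ N ⊔ c.S := eq_of_le_of_card_ge le_sup_right (by
    obtain ⟨n, hn⟩ := IsPGroup.iff_card.1 p1
    have h4 := card_dvd_of_le (show c.Q ⊔ N ⊔ c.S ≤ c.M from sup_le (sup_le c.Q_le h1) SM)
    have h5 := c.M.index_mul_card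
    rw [c.idx, c.card] at h5
    rw [hn, show Nat.card c.M = 80263249920 by omega] at h4
    rw [hn, c.card_S]
    refine Nat.pow_le_pow_right two_pos (not_lt.1 fun h6 => ?_)
    exact absurd ((pow_dvd_pow 2 h6).trans h4) (by norm_num))
  have NS : ∀ g, (∃ m ∈ N, c.ρ g = c.ρ m) → ∃ A ∈ SL, c.ρ g = mat A := fun g hg =>
    c.mem_S.1 (e ▸ mem_sup_left (mem.2 hg))
  intro n hn
  obtain ⟨A, hA, e1⟩ := NS n ⟨n, hn, rfl⟩
  have hw := c.ρ_ev (w := [2, 3, 2, 1, 1]) (by decide)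
  obtain ⟨X, hX, e2⟩ := NS _ (h3 _ (c.ev_mem (w := [2, 3, 2, 1, 1]) (by decide)) (by rw [hw, ← vec_va]; congr 1) n hn)
  refine ⟨A, memL_true.1 (imp_true.1 (and2_true.1 (allL_true.1 k A hA)).2 (memL_true.2 ?_)), e1⟩
  rw [c.ρ_conj e1 hw (X := mu (mu (ew [1, 1, 1, 2, 2, 3, 2, 2]) A) (ew [2, 3, 2, 1, 1])) (by
    have := eqM_iff.1 (by decide +kernel : eqM (mu (ew [2, 3, 2, 1, 1]) (ew [1, 1, 1, 2, 2, 3, 2, 2])) one = true)
    simp only [eqM_iff, mat_mu, mat_one, ← mul_assoc] at this ⊢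
    rw [this, one_mul])] at e2
  rwa [key_eq e2, H29.beq_true.1 (allL_true.1 c_key X (SL_sub.1 X hX))]

def G5 : ℕ := 33743359378863415638830786385729335297509395816
def B1 : ℕ := 24733036031073732043939156954518706233090065685
def PI : ℕ := 8409663748217706941409971809006611910138806273
noncomputable def wm (w : List ℕ) : ℕ := P12.evW (P12.lets [TH, G5, B1]) w
def wsC : List (List ℕ) :=
  [[], [0], [1], [2], [0, 1], [0, 2], [1, 1], [1, 2], [2, 1], [0, 1, 1], [0, 1, 2], [0, 2, 1]]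
noncomputable def RM : ℕ := Nat.xor (wm [1, 1, 1]) (Nat.xor (wm []) (Nat.xor (wm [1, 1]) (Nat.xor (wm [2, 1])
  (Nat.xor (wm [0, 1, 2]) (wm [0, 2, 1])))))
noncomputable def KK5 (y : ℕ) : ℕ := mu PI (pk (wsC.map fun w => va y (wm w)))

theorem commutant {K : Mx} (h : ∀ A ∈ [TH, G5, B1], K * mat A = mat A * K) :
    ∃ y < 4096, va y RM = 0 ∧ K = mat (KK5 y) := by
  have k : ∀ w : List ℕ, Commute K (mat (wm w)) := fun w => by
    induction w with
    | nil => simp [wm, mat, Par.mat_evW ok12]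
    | cons i w ih =>
      have : mat (wm (i :: w)) = mat (nth one [TH, G5, B1] i) * mat (wm w) := by
        simp only [wm, mat, Par.mat_evW ok12, List.map_cons, List.prod_cons]; rfl
      rw [this]
      exact Commute.mul_right (nth_forall (p := fun A => Commute K (mat A)) (by simp) h i) ih
  have k1 : ∀ {A}, Commute K (mat A) → vec (va 1 A) ᵥ* K = vec (va (cd (vec 1 ᵥ* K)) A) := fun e => by
    rw [vec_va, vec_va, vec_cd, vecMul_vecMul, vecMul_vecMul, e.eq]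
  refine ⟨cd (vec 1 ᵥ* K), cd_lt _, ?_, Maps.eq (bs := wsC.map fun w => va 1 (wm w)) ?_ (by decide +kernel)⟩
  · have := k1 (A := RM) (by
      simp only [RM, mat_xor]
      exact (k _).add_right ((k _).add_right ((k _).add_right ((k _).add_right ((k _).add_right (k _))))))
    rw [show va 1 RM = 0 by decide +kernel, R.vec_zero, zero_vecMul, ← R.vec_zero] at this
    exact (vec_inj (by decide) (va_lt _ _) this).symm
  · rw [Maps, List.forall₂_map_left_iff, List.forall₂_map_right_iff, List.forall₂_same]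
    exact fun w _ => k1 (k w)

theorem k_out : (seqN RM fun R => treeAll (fun y => imp (Nat.beq (va y R) 0) (seqN (KK5 y) fun K =>
    and2 (imp (and2 (eqM (mu K K) one) (and2 (Nat.beq (va 85 K) 85) (Nat.beq (cls (va 6 K)) (cls 6)))) (eqM K one))
      (seqN (mu K (nth one pcs 7)) fun r => imp (and2 (eqM (mu r r) one) (and2 (Nat.beq (va 85 r) 85)
        (Nat.beq (cls (va 6 r)) (cls 6)))) (eqM r (nth one pcs 7))))) 12 0) = true := by decide +kernel

/-- `g5` is an element of order five fixing `85`. -/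
theorem StM.outer [Finite Γ] (c : StM Γ) : ∃ g5 ∈ c.M, vec 85 ᵥ* c.ρ g5 = vec 85 ∧ c.ρ g5 ^ 5 = 1 ∧
    ∀ r, r ∉ c.M → c.ρ r * c.ρ r = 1 → vec 85 ᵥ* c.ρ r = vec 85 →
      c.ρ r * c.ρ g5 = c.ρ g5 * c.ρ r → (∀ A ∈ BL, c.ρ r * mat A = mat A * c.ρ r) →
      c.ρ r = mat (nth one pcs 7) := by
  have hw := (c.ρ_ev (w := [0, 2, 1, 0, 1, 3, 2, 1, 4, 1, 2, 2, 1, 3, 2, 2]) (by decide)).trans
    (eqM_iff.1 (by decide +kernel : eqM _ G5 = true))
  refine ⟨_, c.ev_mem (w := [0, 2, 1, 0, 1, 3, 2, 1, 4, 1, 2, 2, 1, 3, 2, 2]) (by decide), by rw [hw, ← vec_va]; congr 1, ?_, fun r h1 h2 h3 h4 h5 => ?_⟩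
  · rw [hw, ← mat_one, ← eqM_iff.1 (by decide +kernel : eqM (mu G5 (mu G5 (mu G5 (mu G5 G5)))) one = true)]
    simp [pow_succ, mul_assoc]
  rw [hw] at h4
  have h6 := h5 B1 (by decide +kernel)
  have tst : ∀ {X : ℕ}, c.ρ r = mat X → and2 (eqM (mu X X) one) (and2 (Nat.beq (va 85 X) 85)
      (Nat.beq (cls (va 6 X)) (cls 6))) = true := fun {X} e => by
    have := c.cls_ρ r (vec 6)
    rw [e, cd_vecMul, cd_vec (by decide)] at this
    simp only [and2_true, eqM_iff, H29.beq_true, mat_mu, mat_one, ← e, h2, this, true_and, and_true]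
    exact (va_eq_iff (by decide)).2 (e ▸ h3)
  have use : ∀ {y}, y < 4096 → va y RM = 0 → _ := fun {y} hy e =>
    seqN_eq _ _ ▸ imp_true.1 ((treeAll_iff _ _).1 (seqN_eq _ _ ▸ k_out) y hy) (H29.beq_true.2 e)
  rcases c.nD r with e | e
  · obtain ⟨y, hy, e1, e2⟩ := commutant (K := c.ρ r) (by simp [e, h4, h6])
    have := imp_true.1 (and2_true.1 (use hy e1)).1 (tst e2)
    rw [eqM_iff, mat_one, ← e2] at this
    exact absurd (c.Q_le (c.ker _ this)) h1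
  · have p : ∀ {A B}, eqM (mu (nth one pcs 7) A) (mu B (nth one pcs 7)) = true → c.ρ r * mat B = mat A * c.ρ r →
        c.ρ r * mat (nth one pcs 7) * mat A = mat A * (c.ρ r * mat (nth one pcs 7)) := fun e1 e2 => by
      rw [mul_assoc, ← mat_mu, eqM_iff.1 e1, mat_mu, ← mul_assoc, e2, mul_assoc]
    obtain ⟨y, hy, e1, e2⟩ := commutant (K := c.ρ r * mat (nth one pcs 7)) (by
      simp only [List.forall_mem_cons]
      exact ⟨p (B := mu TH TH) (by decide +kernel) (by rw [mat_mu, e]), p (by decide +kernel) h4,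
        p (by decide +kernel) h6, by simp⟩)
    have e3 : c.ρ r = mat (mu (KK5 y) (nth one pcs 7)) := by
      rw [mat_mu, ← e2, mul_assoc, ← mat_mu,
        eqM_iff.1 (by decide +kernel : eqM (mu (nth one pcs 7) (nth one pcs 7)) one = true), mat_one, mul_one]
    have e4 := (and2_true.1 (use hy e1)).2
    rw [seqN_eq] at e4
    exact e3.trans (eqM_iff.1 (imp_true.1 e4 (tst e3)))

theorem StM.std_of [Finite Γ] (c : StM Γ) {r : Γ} (h : c.ρ r = mat (nth one pcs 7)) :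
    ∃ c' : Std Γ, c'.toCo = c.toCo ∧ c'.M = c.M := by
  have hw := c.ρ_ev (w := [1, 1, 0, 0, 3, 2, 3, 2, 0, 1, 1, 1]) (by decide)
  have h5 : c.ρ (r * ev c.e [1, 1, 0, 0, 3, 2, 3, 2, 0, 1, 1, 1]) = mat R0 := by
    rw [map_mul, h, hw, ← mat_mu]; exact eqM_iff.1 (by decide +kernel)
  generalize r * ev c.e [1, 1, 0, 0, 3, 2, 3, 2, 0, 1, 1, 1] = x at h5
  have he : ∀ i < 5, Function.update c.e 5 x i = c.e i := fun i hi => Function.update_of_ne hi.ne _ _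
  refine ⟨{ c with
    e := Function.update c.e 5 x
    hm := fun i hi => by rw [he i hi, c.hm i hi]
    top := by
      rw [← c.top]; congr 1
      refine le_antisymm (gen_le.2 fun i hi => ?_) (gen_le.2 fun i hi => ?_)
      · rw [he i (by revert i; decide)]; exact mem_gen hi
      · rw [← he i (by revert i; decide)]; exact mem_gen hi
    h5 := by simpa using h5
    out := fun hx => ?_ }, rfl, rfl⟩
  rw [Function.update_self] at hx
  obtain ⟨w, h1, h2⟩ := c.exists_word hx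
  have k : ∀ w : List ℕ, (∀ i ∈ w, i < 5) → mat TH * mat (ew w) = mat (ew w) * mat TH := fun w h1 => by
    induction w with
    | nil => simp [mat_ew_nil]
    | cons i w ih =>
      have h3 : ∀ i < 5, eqM (mu TH (nth one L6 i)) (mu (nth one L6 i) TH) = true := by decide +kernel
      have h4 := eqM_iff.1 (h3 i (h1 i (by simp)))
      rw [mat_mu, mat_mu] at h4
      rw [mat_ew_cons, ← mul_assoc, h4, mul_assoc, ih fun k hk => h1 k (by simp [hk]), mul_assoc]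
  have := k w h1
  rw [← h2, h5, ← mat_mu, ← mat_mu, ← eqM_iff] at this
  exact absurd this (by decide +kernel)

theorem Std.ts2 (c : Std Γ) {X : AddSubgroup V} (h2 : ∀ x ∈ X, c.q x = 0) (h : 64 ≤ Nat.card X)
    (h3 : ∀ k, vec 85 ᵥ* c.ρ k = vec 85 → ∀ x ∈ X, x ᵥ* c.ρ k ∈ X) : ∀ x, x ∈ X ↔ cd x ∈ E0 := by
  have h4 := c.cover (X := X) (L := E0) (c.B_of_q h2) h2 (ws := [[0, 5], [0, 0, 2, 3, 2, 1, 1, 0, 2, 3, 2, 5, 1, 1],
    [1, 1, 5, 1, 1, 1, 1, 2, 2, 1, 2, 1, 2, 3, 2], [1, 2, 2, 1, 2, 1, 2, 3, 2, 0, 2, 3, 2, 1, 1],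
    [1, 2, 2, 1, 2, 1, 2, 3, 2], [0, 5, 2, 3, 2, 1, 1], [5]]) (fun w hw => by
      have k : (∀ i ∈ w, i < 6) ∧ va 85 (ew w) = 85 := by revert w; decide +kernel
      rw [← c.ρ_ev' k.1]
      exact h3 _ (by rw [c.ρ_ev' k.1, ← vec_va, k.2])) (by decide +kernel)
  have h5 : (X : Set V) = {x | memL (cd x) E0 = true} :=
    Set.eq_of_subset_of_ncard_le (fun x hx => memL_true.2 (h4 x hx)) (by
      rw [ncard_cd fun x => memL x E0, show treeCnt (fun x => memL x E0) 12 = 64 by decide +kernel]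
      exact h)
  exact fun x => (Set.ext_iff.1 h5 x).trans memL_true

theorem StM.tr30 (c : StM Γ) {x : V} (h1 : cd x ∈ E0) (h2 : cls (cd x) = 1) :
    ∃ k ∈ c.M, vec 85 ᵥ* c.ρ k = vec 85 ∧ x ᵥ* c.ρ k = vec 5 := by
  have k : (seqN (orbSet (fun g y => va y g) (fun y => y) ([[0], [1, 2, 2, 1, 2, 1, 2, 3, 2]].map ew) 64 5) fun S =>
    H29.allL E0 fun x => imp (Nat.beq (cls x) 1) (S.testBit x)) = true := by decide +kernel
  rw [seqN_eq] at k
  have k' := imp_true.1 (allL_true.1 k _ h1) (H29.beq_true.2 h2)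
  obtain ⟨y, ⟨g, hg, e1, e2⟩, e⟩ := orbSet_sound (fun g y => va y g) _ ([[0], [1, 2, 2, 1, 2, 1, 2, 3, 2]].map ew) _ 5
    (fun y => ∃ k ∈ c.M, vec 85 ᵥ* c.ρ k = vec 85 ∧ vec 5 ᵥ* c.ρ k = vec y) ⟨1, one_mem _, by simp⟩
    (fun A hA y ⟨g, hg, e1, e2⟩ => by
      obtain ⟨w, hw, rfl⟩ := List.mem_map.1 hA
      have k : (∀ i ∈ w, i < 5) ∧ va 85 (ew w) = 85 := by clear hA; revert w; decide +kernel
      exact ⟨g * ev c.e w, mul_mem hg (c.ev_mem k.1), by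
        rw [map_mul, ← vecMul_vecMul, e1, c.ρ_ev k.1, ← vec_va, k.2], by
        rw [map_mul, ← vecMul_vecMul, e2, c.ρ_ev k.1, vec_va]⟩) _ k'
  refine ⟨g⁻¹, inv_mem hg, (st c.toCo _).inv_mem e1, ?_⟩
  rw [← vec_cd x, ← show y = cd x from e, ← e2, vecMul_vecMul, Co.ρ_mul_inv, vecMul_one]

end H9.L
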