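import Mathlib
import Cfsg.Prelude.Def_Local
import Cfsg.Agent.H9.LC1
import Cfsg.Agent.H6.XB

/-! The outer generator and the fusion of `z`. -/

set_option autoImplicit false
set_option linter.unusedSectionVars false

open H29 H9.GF2 Matrix Subgroup H9.L
open H9.R hiding cls CL qb Bb ew Std TL pcs wsT cls_va0 cls_vecMul cls_eq_zero cls_zero cls_lt ncard_cls cls_ind R0 c_pcs c_TL c_key nodup_TL ncard_mat mat_inj_TL

namespace H4.FC

section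
variable {Γ : Type*} [Group Γ] (c : StM Γ)

/-- the image of `A ∩ Q` in the module -/
def pim (A : Subgroup Γ) : AddSubgroup V where
  carrier := {x | ∃ a ∈ A, a ∈ c.Q ∧ c.π a = x}
  zero_mem' := ⟨1, one_mem _, one_mem _, c.π_one⟩
  add_mem' := by
    rintro _ _ ⟨a, h1, h2, rfl⟩ ⟨b, h3, h4, rfl⟩
    exact ⟨a * b, mul_mem h1 h3, mul_mem h2 h4, c.π_mul _ h2 _ h4⟩
  neg_mem' := by
    rintro _ ⟨a, h1, h2, rfl⟩
    exact ⟨a, h1, h2, eq_neg_of_add_eq_zero_left (add_self _)⟩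

theorem card_pim (A : Subgroup Γ) : Nat.card ↥(A ⊓ c.Q) ≤ 2 * Nat.card (pim c A) := by
  have : ((A ⊓ c.Q : Subgroup Γ) : Set Γ) ⊆ c.s '' pim c A ∪ (fun x => c.s x * c.z) '' pim c A :=
    fun a ha => (c.eq_of_π ha.2 (c.s_mem _) (c.π_s _).symm).imp
      (fun e => ⟨_, ⟨a, ha.1, ha.2, rfl⟩, e.symm⟩) fun e => ⟨_, ⟨a, ha.1, ha.2, rfl⟩, e.symm⟩
  have h1 := (Set.ncard_le_ncard this ((Set.toFinite _).image _ |>.union ((Set.toFinite _).image _))).trans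
    (Set.ncard_union_le _ _)
  have h2 := Set.ncard_image_le (f := c.s) (s := (pim c A : Set V))
  have h3 := Set.ncard_image_le (f := fun x => c.s x * c.z) (s := (pim c A : Set V))
  have h4 : (pim c A : Set V).ncard = Nat.card (pim c A) := rfl
  have h5 : ((A ⊓ c.Q : Subgroup Γ) : Set Γ).ncard = Nat.card ↥(A ⊓ c.Q) := rfl
  omega

theorem adj {u : Γ} (hu : u ∈ c.Q) (h0 : c.π u ≠ 0) {k : Γ} (h : c.π u ᵥ* c.ρ k = c.π u) :
    ∃ k', c.ρ k' = c.ρ k ∧ k' * u = u * k' := by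
  rcases c.eq_of_π (c.conj_mem k hu) hu (by rw [c.π_conj _ _ hu, h]) with e | e
  · exact ⟨k, rfl, comm_of_conj e⟩
  obtain ⟨x, hx, n⟩ : ∃ x ∈ c.Q, u * x ≠ x * u := by
    by_contra hn
    push Not at hn
    exact h0 (c.nd u hu hn)
  refine ⟨k * x, by rw [map_mul, c.ρ_Q hx, mul_one], comm_of_conj ?_⟩
  rw [show (k * x)⁻¹ * u * (k * x) = x⁻¹ * (k⁻¹ * u * k) * x by group, e, mul_assoc, mul_assoc, ← c.zc,
    ← mul_assoc u, (c.comm hu hx).resolve_left n, mul_assoc, c.z2]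
  group

theorem vec_ne {x : ℕ} (h : x < 4096 ∧ x ≠ 0) : vec x ≠ 0 := fun e =>
  h.2 (vec_inj h.1 (by decide) (e.trans vec_zero.symm))

theorem cls_or {a : Γ} (ha : a ∈ c.Q) (h1 : a ≠ 1) (h2 : a ≠ c.z) (h3 : a * a = 1) :
    cls (cd (c.π a)) = 1 ∨ cls (cd (c.π a)) = 2 := by
  have h0 : cls (cd (c.π a)) ≠ 0 := fun e => (c.π_ker a ha (cls_eq_zero e)).elim h1 h2
  have h3 : cls (cd (c.π a)) ≠ 3 := fun e => by
    rw [c.sq_q ha, c.q_eq, qb, e] at h3; exact c.z1 (c.zp_one.symm.trans h3)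
  have := cls_lt (cd (c.π a))
  omega

end

variable {G : Type*} [Group G] [Finite G] {D : Set G} {QQ : G → Subgroup G} {z : G}

/-- the coordinates belong to the large extraspecial subgroup -/
structure Hy (D : Set G) (QQ : G → Subgroup G) (z : G) (c : StM (centralizer ({z} : Set G))) : Prop where
  s : H6.XS.Sit D QQ 6
  zD : z ∈ D
  hz : (c.z : G) = z
  q : ∀ a, a ∈ c.Q ↔ (a : G) ∈ QQ z

/-- `Q_u ∩ C(z)` -/
def RR (QQ : G → Subgroup G) (z : G) (u : centralizer ({z} : Set G)) :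
    Subgroup (centralizer ({z} : Set G)) := (QQ u).subgroupOf _

variable {c : StM (centralizer ({z} : Set G))} (h : Hy D QQ z c) {u a b k : centralizer ({z} : Set G)}
include h

theorem Hy.cjD (hu : (u : G) ∈ D) (k : centralizer ({z} : Set G)) : ((k⁻¹ * u * k :) : G) ∈ D := by
  simpa using h.s.conj _ hu (k : G)⁻¹

variable (hu : (u : G) ∈ D) (uQ : u ∈ c.Q) (uz : u ≠ c.z)
include hu uQ uz

theorem Hy.ne : (u : G) ≠ z := fun e => uz (Subtype.ext (e.trans h.hz.symm))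

theorem Hy.zR : c.z ∈ RR QQ z u := by
  rw [RR, mem_subgroupOf, h.hz]; exact h.s.symm h.zD hu ((h.q u).1 uQ)

theorem Hy.π0 : c.π u ≠ 0 := fun e =>
  (c.π_ker u uQ e).elim (fun e => h.s.ne_one hu (congrArg Subtype.val e)) uz

theorem Hy.cardR : 4096 ≤ Nat.card (RR QQ z u) := by
  have zu := h.s.symm h.zD hu ((h.q u).1 uQ)
  have h1 := H24.card_inf_mul_relIndex (centralizer {z}) (QQ u)
  have h2 : (centralizer {z}).relIndex (QQ u) ≤ 2 := by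
    rw [H3.B71.relIndex_C1]
    refine (Set.ncard_le_ncard (t := {z, u * z}) ?_).trans
      ((Set.ncard_insert_le _ _).trans (by simp))
    rintro _ ⟨y, hy, rfl⟩
    exact h.s.cj_or hu hy zu
  rw [h.s.card _ hu, inf_comm] at h1
  rw [RR, H24.card_subgroupOf]
  have := Nat.mul_le_mul_left (Nat.card ↥(QQ u ⊓ centralizer {z})) h2
  omega

omit uQ uz in
theorem Hy.cjR (hk : k * u = u * k) (ha : a ∈ RR QQ z u) : k⁻¹ * a * k ∈ RR QQ z u :=
  mem_subgroupOf.2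
    (H24.conj_mem' (h.s.norm hu (H24.mem_C1.2 (congrArg Subtype.val hk))) (mem_subgroupOf.1 ha))

omit uQ uz in
theorem Hy.twoR : IsPGroup 2 (RR QQ z u) := (h.s.two hu).comap_subtype

omit uz in
theorem Hy.sqR (ha : a ∈ RR QQ z u) : a * a ∈ c.Q := by
  rcases h.s.sq_or hu (mem_subgroupOf.1 ha) with e | e
  · exact (Subtype.ext e : a * a = 1) ▸ one_mem _
  · exact (Subtype.ext e : a * a = u) ▸ uQ

omit uz in
theorem Hy.cmR (ha : a ∈ RR QQ z u) (hb : b ∈ RR QQ z u) : c.ρ a * c.ρ b = c.ρ b * c.ρ a := by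
  rw [← map_mul, ← map_mul]
  rcases h.s.cj_or hu (mem_subgroupOf.1 ha) (mem_subgroupOf.1 hb) with e | e
  · rw [mul_inv_eq_iff_eq_mul.1 (Subtype.ext e : a * b * a⁻¹ = b)]
  · rw [mul_inv_eq_iff_eq_mul.1 (Subtype.ext e : a * b * a⁻¹ = u * b), mul_assoc, map_mul, c.ρ_Q uQ,
      one_mul]

omit uQ uz in
theorem Hy.uR (ha : a ∈ RR QQ z u) : a * u = u * a :=
  Subtype.ext (H24.mem_C1.1 (h.s.le hu (mem_subgroupOf.1 ha)))

omit uz in
theorem Hy.fixR (ha : a ∈ RR QQ z u) : c.π u ᵥ* c.ρ a = c.π u := by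
  rw [← c.π_conj _ _ uQ, conj_of_comm (h.uR hu ha)]

theorem Hy.ts : ∀ x ∈ pim c (RR QQ z u), c.q x = 0 := by
  rintro _ ⟨a, h1, h2, rfl⟩
  refine c.zp_eq_one ((c.sq_q h2).symm.trans ((c.sq h2).resolve_right fun e => ?_))
  rcases h.s.sq_or hu (mem_subgroupOf.1 h1) with k | k
  · exact c.z1 (e.symm.trans (Subtype.ext k))
  · exact uz ((Subtype.ext k : a * a = u).symm.trans e)

theorem Hy.inv (hk : c.π u ᵥ* c.ρ k = c.π u) : ∀ x ∈ pim c (RR QQ z u), x ᵥ* c.ρ k ∈ pim c (RR QQ z u) := by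
  rintro _ ⟨a, h1, h2, rfl⟩
  obtain ⟨k', e1, e2⟩ := adj c uQ (h.π0 hu uQ uz) hk
  exact ⟨_, h.cjR hu e2 h1, c.conj_mem _ h2, by rw [c.π_conj _ _ h2, e1]⟩

theorem Hy.cardI : 16 ≤ Nat.card ↥(RR QQ z u ⊓ c.Q) := by
  have := c.nQ
  have h1 := H24.card_sup (A := c.Q) (B := RR QQ z u) le_normalizer_of_normal
  obtain ⟨n, hn⟩ := IsPGroup.iff_card.1 ((h.twoR hu).to_sup_of_normal_right
    (IsPGroup.of_card (n := 13) c.card_Q))
  have h2 := card_subgroup_dvd_card (RR QQ z u ⊔ c.Q)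
  rw [hn, c.card, show 160526499840 = 2 ^ 21 * 76545 from rfl] at h2
  have h3 := Nat.le_of_dvd (by norm_num) ((Nat.Coprime.pow_left n (by norm_num)).dvd_of_dvd_mul_right h2)
  have h4 := h.cardR hu uQ uz
  rw [sup_comm, inf_comm, hn, c.card_Q] at h1
  have := Nat.mul_le_mul_right (Nat.card ↥(RR QQ z u ⊓ c.Q)) h3
  omega

omit hu uQ uz in
theorem Hy.c1 (ha : a ∈ c.Q) (h1 : cls (cd (c.π a)) = 1) : (a : G) ∉ D := fun aD => by
  have t5 : c.π c.tt ≠ 0 := c.π_tt ▸ vec_ne (by decide)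
  obtain ⟨m, -, e⟩ := c.conj_Q ha c.tt_mem (by
    rw [h1, c.π_tt, cd_vec (by decide)]; decide +kernel) t5
  have hu := e ▸ h.cjD aD m
  have uz : c.tt ≠ c.z := fun e => t5 (e ▸ c.π_z)
  have ts := h.ts hu c.tt_mem uz
  have k := c.ts1 (X := pim c (RR QQ z c.tt)) (fun x hx y hy => by
    rw [Co.B, ts _ hx, ts _ hy, ts _ (add_mem hx hy)]; rfl) ts
    fun k _ hk => h.inv hu c.tt_mem uz (by rwa [c.π_tt])
  have h2 := card_pim c (RR QQ z c.tt)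
  have h3 := h.cardI hu c.tt_mem uz
  have h4 : (pim c (RR QQ z c.tt) : Set V).ncard ≤ 4 :=
    (Set.ncard_le_ncard (t := {vec 0, vec 5, vec 10, vec 15}) fun x hx => by
      have := k x hx
      rw [← vec_cd x]
      simp only [List.mem_cons, List.not_mem_nil, or_false] at this
      rcases this with e | e | e | e <;> simp [e]).trans (by
      iterate 3 refine (Set.ncard_insert_le _ _).trans (Nat.succ_le_succ ?_)
      simp)
  have h5 : (pim c (RR QQ z c.tt) : Set V).ncard = Nat.card (pim c (RR QQ z c.tt)) := rfl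
  omega

variable (π85 : c.π u = vec 85)
include π85

theorem Hy.main : 64 ≤ Nat.card (pim c (RR QQ z u)) ∧
    c.ρ '' ↑(RR QQ z u ⊓ c.M) = mat '' {A | A ∈ BL} ∧
    ∃ r ∈ RR QQ z u, r ∉ c.M ∧ c.ρ r = mat (nth one pcs 7) := by
  have nM := c.nM
  have s1 : c.ρ '' ↑(RR QQ z u ⊓ c.M) ⊆ mat '' {A | A ∈ BL} := by
    rintro _ ⟨n, hn, rfl⟩
    obtain ⟨A, h1, h2⟩ := c.o2 inf_le_right (h.twoR hu).to_inf_left (fun k _ hk n hn => by
      obtain ⟨k', e1, e2⟩ := adj c uQ (h.π0 hu uQ uz) (by rwa [π85])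
      refine ⟨_, ⟨h.cjR hu e2 hn.1, nM.conj_mem' _ hn.2 _⟩, ?_⟩
      have : c.ρ k'⁻¹ = c.ρ k⁻¹ := by
        rw [← mul_one (c.ρ k'⁻¹), ← c.ρ_mul_inv k, ← e1, ← mul_assoc, Co.ρ_inv_mul, one_mul]
      simp only [map_mul, e1, this]) n hn
    exact ⟨A, h1, h2.symm⟩
  have c16 : (mat '' {A | A ∈ BL}).ncard = 16 := (ncard_mat BL_sub.1 BL_sub.2.1).trans BL_sub.2.2
  have fin : (mat '' {A | A ∈ BL}).Finite := Set.finite_of_ncard_ne_zero (by omega)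
  have h1 := Set.ncard_le_ncard s1 fin
  have h2 := c.card_eq (RR QQ z u ⊓ c.M)
  rw [inf_assoc, inf_eq_right.2 c.Q_le] at h2
  have h3 := card_pim c (RR QQ z u)
  have h4 := c.ts64 (h.ts hu uQ uz)
  have h5 := h.cardR hu uQ uz
  have h6 := H24.card_inf_mul_relIndex c.M (RR QQ z u)
  have h7 := Nat.mul_le_mul_left (Nat.card ↥(c.M ⊓ RR QQ z u))
    (Nat.le_of_dvd two_pos (c.idx ▸ relIndex_dvd_index_of_normal c.M (RR QQ z u)))
  rw [inf_comm] at h6 h7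
  have h8 := Nat.mul_le_mul_left (Nat.card ↥(RR QQ z u ⊓ c.Q)) (c16 ▸ h1)
  have h9 := Nat.mul_le_mul_right (c.ρ '' ↑(RR QQ z u ⊓ c.M)).ncard
    (show Nat.card ↥(RR QQ z u ⊓ c.Q) ≤ 128 by omega)
  have s2 := Set.eq_of_subset_of_ncard_le s1 (by omega) fin
  refine ⟨by omega, s2, ?_⟩
  obtain ⟨g, gM, g1, g2, g3⟩ := c.outer
  obtain ⟨k, e1, e2⟩ := adj c uQ (h.π0 hu uQ uz) (k := g) (by rwa [π85])
  have k5 : k ^ 5 ∈ c.Q := c.ker _ (by rw [map_pow, e1, g2])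
  have n1 : k ^ 16 ∈ normalizer (RR QQ z u : Set _) := pow_mem (H24.mem_N_of_finite fun x hx => by
    simpa using h.cjR hu (k := k⁻¹) (show Commute k u from e2).inv_left.eq hx) _
  obtain ⟨r, r1, r2, r3⟩ := H15.XP.exists_fix_out (p := 5) (by norm_num) (j := k ^ 16) (by
      rw [← pow_mul, show 16 * 5 = 5 * 4 * 4 from rfl, pow_mul, pow_mul, c.pow_four k5, one_pow])
    (inf_le_left : RR QQ z u ⊓ c.M ≤ _) n1 (inf_normalizer_le_normalizer_inf ⟨n1, le_normalizer_of_normal (mem_top _)⟩) (by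
      rw [show Nat.card (RR QQ z u) = 4096 by omega, show Nat.card ↥(RR QQ z u ⊓ c.M) = 2048 by omega]
      decide)
  have rM : r ∉ c.M := fun m => r2 ⟨r1, m⟩
  refine ⟨r, r1, rM, g3 r rM (by rw [← map_mul, c.ρ_Q (h.sqR hu uQ r1)])
    (π85 ▸ h.fixR hu uQ r1) ?_ fun A hA => ?_⟩
  · have e : c.ρ (k ^ 16) = c.ρ g := by
      rw [map_pow, e1, show 16 = 5 * 3 + 1 from rfl, pow_succ, pow_mul, g2, one_pow, one_mul]
    rw [← e, ← map_mul, H24.mem_C1.1 r3, map_mul]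
  · obtain ⟨n, hn, e⟩ := s2.ge ⟨A, hA, rfl⟩
    exact e ▸ h.cmR hu uQ r1 hn.1

end H4.FC

namespace H9.L

open H4.FC

variable {G : Type*} [Group G]

theorem exists_fu [Finite G] {z : G} (hz : orderOf z = 2) (c : StM (centralizer ({z} : Set G)))
    (h1 : (c.z : G) = z) (hF : Cfsg.generalizedFittingSubgroup (centralizer ({z} : Set G)) = c.Q)
    (hQ : Cfsg.IsExtraspecial 2 c.Q)
    (hn : ∃ g : G, ∃ a ∈ c.Q, (a : G) = g * z * g⁻¹ ∧ a ≠ c.z) :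
    ∃ (c' : Am G (centralizer ({z} : Set G))) (g : G) (u : centralizer ({z} : Set G)), Fu c' g u := by
  have S := H6.XS.sit_of (w := 6) hz (hF ▸ hQ) (by omega) (hF ▸ c.card_Q)
  generalize hD : conjugatesOf z = D at S
  have mD : ∀ x, x ∈ D ↔ IsConj z x := fun x => hD ▸ Iff.rfl
  obtain ⟨QQ, hQQ⟩ : ∃ QQ : G → Subgroup G, QQ = fun d => H25.Bd.fs (centralizer {d}) := ⟨_, rfl⟩
  rw [← hQQ] at S
  have h0 : Hy D QQ z c := ⟨S, (mD z).2 (IsConj.refl z), h1, fun a => by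
    rw [hQQ, ← hF]; exact (mem_map_iff_mem (subtype_injective _)).symm⟩
  obtain ⟨g, a, aQ, e, az⟩ := hn
  have aD : (a : G) ∈ D := (mD _).2 (isConj_iff.2 ⟨g, e.symm⟩)
  have n85 : vec 85 ≠ 0 := vec_ne (by decide)
  obtain ⟨m, -, e⟩ := c.conj_Q aQ (c.s_mem (vec 85)) (by
    rw [(cls_or c aQ (fun e => S.ne_one aD (congrArg Subtype.val e)) az (Subtype.ext (S.sq aD))).resolve_left
      fun e => h0.c1 aQ e aD, Co.π_s, cd_vec (by decide)]; decide +kernel) (by rwa [Co.π_s])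
  have hu := e ▸ h0.cjD aD m
  have uQ := c.s_mem (vec 85)
  have π85 := c.π_s (vec 85)
  generalize c.s (vec 85) = u at hu uQ π85
  have uz : u ≠ c.z := fun e => n85 (by rw [← π85, e, c.π_z])
  obtain ⟨-, -, r, -, -, hr⟩ := h0.main hu uQ uz π85
  obtain ⟨d, hd, -⟩ := c.std_of hr
  have h : Hy D QQ z d.toStM := ⟨S, h0.zD, by rw [hd]; exact h1, by rw [hd]; exact h0.q⟩
  rw [← hd] at uQ π85 uz
  clear hr r n85 aD az aQ h0 hQ hF h1 hd e m c
  obtain ⟨c64, s2, r, r1, r2, r3⟩ := h.main hu uQ uz π85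
  have u0 := h.π0 hu uQ uz
  have hE := d.ts2 (h.ts hu uQ uz) c64 fun k hk => h.inv hu uQ uz (by rwa [π85])
  have mI : ∀ a ∈ d.Q, a ∈ RR QQ z u ↔ cd (d.π a) ∈ E0 := fun a ha => by
    rw [← hE]
    refine ⟨fun k => ⟨a, k, ha, rfl⟩, fun ⟨b, k1, k2, k3⟩ => ?_⟩
    rcases d.eq_of_π ha k2 k3.symm with rfl | rfl
    exacts [k1, mul_mem k1 (h.zR hu uQ uz)]
  have sw : ∀ g : G, g * z * g⁻¹ = u → g * u * g⁻¹ = z → ∀ x, (g * x * g⁻¹ ∈ QQ u ↔ x ∈ QQ z) ∧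
      (g * x * g⁻¹ ∈ QQ z ↔ x ∈ QQ u) := fun g e1 e2 x => by
    constructor
    · rw [← e1, S.eqv z h.zD, H24.mem_cj]; simp [mul_assoc]
    · conv_lhs => rw [← e2, S.eqv _ hu, H24.mem_cj]
      simp [mul_assoc]
  obtain ⟨g0, -, g1, g2⟩ := S.swap h.zD hu ((h.q u).1 uQ) (h.ne hu uQ uz)
  have tI := (mI _ d.tt_mem).2 (by rw [d.π_tt, cd_vec (by decide)]; decide)
  have tD := h.c1 d.tt_mem (by rw [d.π_tt, cd_vec (by decide)]; decide +kernel)
  have e0 : g0 * (g0⁻¹ * d.tt * g0) * g0⁻¹ = d.tt := by group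
  have x1 := (sw g0 g1 g2 _).1.1 (e0.symm ▸ mem_subgroupOf.1 tI)
  obtain ⟨x, hx⟩ : ∃ x : centralizer ({z} : Set G), (x : G) = g0⁻¹ * d.tt * g0 := ⟨⟨_, S.le h.zD x1⟩, rfl⟩
  have xQ : x ∈ d.Q := (h.q x).2 (hx ▸ x1)
  have xR : x ∈ RR QQ z u :=
    mem_subgroupOf.2 (hx ▸ (sw g0 g1 g2 _).2.1 (e0.symm ▸ (h.q _).1 d.tt_mem))
  have xD : (x : G) ∉ D := fun k => tD (e0 ▸ hx ▸ S.conj _ k g0)
  have xc : cls (cd (d.π x)) = 1 := by
    refine (cls_or d.toStM xQ (fun e => ?_) (fun e => xD (by rw [e, h.hz]; exact h.zD))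
      (by rw [d.sq_q xQ, h.ts hu uQ uz _ ⟨x, xR, xQ, rfl⟩, d.zp_zero])).resolve_right fun e => ?_
    · rw [e, OneMemClass.coe_one] at hx
      rw [← hx, mul_one, mul_inv_cancel] at e0
      exact vec_ne (x := 5) (by decide) (by rw [← d.π_tt, ← (Subtype.ext e0 : 1 = d.tt), d.π_one])
    · obtain ⟨m, -, k⟩ := d.conj_Q uQ xQ (by rw [e, π85, cd_vec (by decide)]; decide +kernel)
        fun k => by rw [k, cls_zero] at e; omega
      exact xD (k ▸ h.cjD hu m)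
  obtain ⟨k, ku, kx⟩ : ∃ k, k * u = u * k ∧ k⁻¹ * x * k = d.tt := by
    obtain ⟨k, -, k1, k2⟩ := d.tr30 ((mI x xQ).1 xR) xc
    obtain ⟨k', e1, e2⟩ := adj d.toStM uQ u0 (k := k) (by rwa [π85])
    rcases d.eq_of_π (d.conj_mem k' xQ) d.tt_mem (by rw [d.π_conj _ _ xQ, e1, k2, d.π_tt]) with e | e
    · exact ⟨k', e2, e⟩
    have y1 := d.comm_Bb (d.s_mem _) uQ (d.π_s (vec 34)) π85 (by decide) (by decide)
    have y2 := d.comm_Bb d.tt_mem (d.s_mem _) d.π_tt (d.π_s (vec 34)) (by decide) (by decide)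
    rw [show Bb 34 85 = false by decide +kernel, show d.zp (bz false) = 1 from d.zp_zero, mul_one] at y1
    rw [show Bb 5 34 = true by decide +kernel, show d.zp (bz true) = d.z from d.zp_one] at y2
    refine ⟨k' * d.s (vec 34), by rw [mul_assoc, y1, ← mul_assoc, e2, mul_assoc], ?_⟩
    rw [show ∀ y, (k' * y)⁻¹ * x * (k' * y) = y⁻¹ * (k'⁻¹ * x * k') * y from fun y => by group, e,
      mul_assoc, mul_assoc, ← d.zc, ← mul_assoc d.tt, y2, mul_assoc, d.z2]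
    group
  have f1 : g0 * k * z * (g0 * k)⁻¹ = u := by
    refine .trans ?_ g1
    rw [mul_assoc g0, H24.mem_C1.1 k.2]; group
  have f2 : g0 * k * u * (g0 * k)⁻¹ = z := by
    refine .trans ?_ g2
    rw [mul_assoc g0, show (k : G) * u = u * k from congrArg Subtype.val ku]; group
  have f3 : g0 * k * d.tt * (g0 * k)⁻¹ = d.tt := by
    conv_lhs => rw [← kx]
    simp only [coe_mul, coe_inv, hx]; group
  generalize g0 * k = g at f1 f2 f3
  have sw := sw g f1 f2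
  have bk : ∀ r ∈ RR QQ z u, ∃ a ∈ d.Q, (r : G) = g * a * g⁻¹ := fun r hr => by
    have e : g * (g⁻¹ * r * g) * g⁻¹ = r := by group
    have m := (sw _).1.1 (e.symm ▸ mem_subgroupOf.1 hr)
    exact ⟨⟨_, S.le h.zD m⟩, (h.q _).2 m, e.symm⟩
  refine ⟨{ d with j := Subgroup.subtype _, inj := subtype_injective _, cen := fun x hx =>
      ⟨⟨x, H24.mem_C1.2 (by rwa [coe_subtype, h.hz] at hx)⟩, rfl⟩ }, g, u,
    fun a ha k1 k2 => h.c1 ha k1 ((mD _).2 ((congrArg (IsConj · (a : G)) h.hz).mp k2)),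
    uQ, π85, (congrArg (g * · * g⁻¹) h.hz).trans f1, f2.trans h.hz.symm, f3, fun a ha au => ?_, fun A hA => ?_,
    fun r hr => ⟨fun ⟨a, ha, e⟩ => (mI r hr).1 ?_, fun k => bk r ((mI r hr).2 k)⟩⟩
  · have m : g * a * g⁻¹ ∈ centralizer ({z} : Set G) := H24.mem_C1.2 (by
      have : g * a * g⁻¹ * (g * u * g⁻¹) = g * u * g⁻¹ * (g * a * g⁻¹) := by
        rw [show ∀ x y : G, g * x * g⁻¹ * (g * y * g⁻¹) = g * (x * y) * g⁻¹ from fun x y => by group,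
          show (a : G) * u = u * a from congrArg Subtype.val au]; group
      rwa [f2] at this)
    have rR : (⟨_, m⟩ : centralizer ({z} : Set G)) ∈ RR QQ z u := (sw a).1.2 ((h.q a).1 ha)
    refine ⟨⟨_, m⟩, rfl, ?_, (h.q _).trans ((sw a).2.trans (mI a ha))⟩
    generalize (⟨_, m⟩ : centralizer ({z} : Set G)) = y at rR
    by_cases yM : y ∈ d.M
    · obtain ⟨A, hA, e⟩ := s2.le ⟨y, ⟨rR, yM⟩, rfl⟩
      exact ⟨A, (by decide +kernel : ∀ A ∈ BL, A ∈ AL) A hA, e.symm⟩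
    · obtain ⟨A, hA, e⟩ := s2.le ⟨y * r⁻¹, mem_inf.2 ⟨mul_mem rR (inv_mem r1),
        (mul_mem_iff_of_index_two d.idx).2 (by simp [yM, r2])⟩, rfl⟩
      refine ⟨_, (by decide +kernel : ∀ A ∈ BL, key (mu A (nth one pcs 7)) ∈ AL) A hA, ?_⟩
      rw [mat_key, mat_mu, e, ← r3, ← map_mul, inv_mul_cancel_right]
  · obtain ⟨y, yR, e⟩ : ∃ y ∈ RR QQ z u, d.ρ y = mat A := by
      rcases (by decide +kernel : ∀ A ∈ AL, A ∈ BL ∨ ∃ B ∈ BL, eqM (mu B (nth one pcs 7)) A = true) A hA with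
        k | ⟨B, hB, k⟩
      · obtain ⟨y, hy, e⟩ := s2.ge ⟨A, k, rfl⟩
        exact ⟨y, hy.1, e⟩
      · obtain ⟨y, hy, e⟩ := s2.ge ⟨B, hB, rfl⟩
        exact ⟨y * r, mul_mem hy.1 r1, by rw [map_mul, e, r3, ← mat_mu, eqM_iff.1 k]⟩
    obtain ⟨a, ha, k⟩ := bk y yR
    exact ⟨a, ha, y, k, e⟩
  · exact mem_subgroupOf.2 ((show (r : G) = _ from e) ▸ (sw a).1.2 ((h.q a).1 ha))

end H9.L
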