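import Mathlib
import Cfsg.Prelude.Def_Local
import Cfsg.Prelude.Def_Classical
import Cfsg.Agent.H9.LD
import Cfsg.Agent.H9.LW
import Cfsg.Agent.H4.FE1

/-! `C(t, s) = 2 ^ 2 · U₆(2)`. -/

set_option autoImplicit false
set_option linter.unusedSectionVars false

open H29 H9.GF2 Matrix Subgroup H9.L
open H9.R hiding cls CL qb Bb ew Std TL pcs wsT cls_va0 cls_vecMul cls_eq_zero cls_zero cls_lt ncard_cls cls_ind R0 c_pcs c_TL c_key nodup_TL ncard_mat mat_inj_TL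

namespace H4.FE

variable {G Γ : Type*} [Group G] [Group Γ]

/-- the four-group generated by two commuting involutions -/
def four {t s : G} (ht : t * t = 1) (hs : s * s = 1) (ts : t * s = s * t) : Subgroup G where
  carrier := {x | x = 1 ∨ x = t ∨ x = s ∨ x = s * t}
  one_mem' := .inl rfl
  mul_mem' := by
    have h1 : ∀ x, t * (t * x) = x := fun x => by rw [← mul_assoc, ht, one_mul]
    have h2 : ∀ x, s * (s * x) = x := fun x => by rw [← mul_assoc, hs, one_mul]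
    have h3 : ∀ x, t * (s * x) = s * (t * x) := fun x => by rw [← mul_assoc, ts, mul_assoc]
    rintro _ _ (rfl | rfl | rfl | rfl) (rfl | rfl | rfl | rfl) <;>
      simp [mul_assoc, ht, hs, ts, h1, h2, h3]
  inv_mem' := by
    have : s * t * (s * t) = 1 := by rw [mul_assoc, ← mul_assoc t, ts, mul_assoc, ht, mul_one, hs]
    rintro _ (rfl | rfl | rfl | rfl) <;>
      simp only [inv_one, inv_eq_of_mul_eq_one_left ht, inv_eq_of_mul_eq_one_left hs,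
        inv_eq_of_mul_eq_one_left this, Set.mem_ofPred_eq, true_or, or_true]

variable (c : Am G Γ)

/-- `⟨t, s⟩` in `Γ` -/
noncomputable def E4 : Subgroup Γ := four c.tt_sq c.ss_sq c.tt_ss

/-- `⟨t, s⟩` in `L` -/
noncomputable def EL : Subgroup c.L := ((E4 c).map c.j).subgroupOf c.L

variable {c} {a b : Γ}

theorem mem_E4 : a ∈ E4 c ↔ a = 1 ∨ a = c.tt ∨ a = c.ss ∨ a = c.ss * c.tt := Iff.rfl

theorem mem_W : a ∈ c.W ↔ a * c.tt = c.tt * a ∧ a * c.ss = c.ss * a := by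
  simp only [StM.W, mem_inf, mem_centralizer_singleton_iff]

theorem mem_L {x : G} : x ∈ c.L ↔ x * c.j c.tt = c.j c.tt * x ∧ x * c.j c.ss = c.j c.ss * x := by
  simp only [Am.L, mem_inf, mem_centralizer_singleton_iff]

theorem jmem : c.j a ∈ c.L ↔ a ∈ c.W := by
  simp only [mem_W, mem_L, ← map_mul, c.inj.eq_iff]

theorem L_comm {x : G} (hx : x ∈ c.L) (ha : a ∈ E4 c) : x * c.j a = c.j a * x := by
  obtain ⟨h1, h2⟩ := mem_L.1 hx
  rcases ha with rfl | rfl | rfl | rfl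
  · simp
  · exact h1
  · exact h2
  · rw [map_mul, ← mul_assoc, h2, mul_assoc, h1, mul_assoc]

theorem W_comm (hb : b ∈ c.W) (ha : a ∈ E4 c) : b * a = a * b :=
  c.inj (by simpa using L_comm (jmem.2 hb) ha)

theorem zW : c.z ∈ c.W := mem_W.2 ⟨(c.zc _).symm, (c.zc _).symm⟩

theorem E4_le : E4 c ≤ c.Q ⊓ c.W := by
  have h1 : c.tt ∈ c.Q ⊓ c.W := ⟨c.tt_mem, mem_W.2 ⟨rfl, c.tt_ss⟩⟩
  have h2 : c.ss ∈ c.Q ⊓ c.W := ⟨c.ss_mem, mem_W.2 ⟨c.tt_ss.symm, rfl⟩⟩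
  rintro _ (rfl | rfl | rfl | rfl)
  exacts [one_mem _, h1, h2, mul_mem h2 h1]

theorem π_st : c.π (c.ss * c.tt) = vec 15 := by
  rw [c.π_mul _ c.ss_mem _ c.tt_mem, c.π_ss, c.π_tt, ← vec_xor']; rfl

theorem π_E4 (ha : a ∈ E4 c) : a = 1 ∨ cls (cd (c.π a)) = 1 := by
  rcases ha with rfl | rfl | rfl | rfl
  · exact .inl rfl
  all_goals right
  · rw [c.π_tt, cd_vec (by decide)]; decide +kernel
  · rw [c.π_ss, cd_vec (by decide)]; decide +kernel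
  · rw [π_st, cd_vec (by decide)]; decide +kernel

theorem E4_z (ha : a ∈ E4 c) (h : c.π a = 0) : a = 1 := (π_E4 ha).resolve_right (by
  rw [h, cls_zero]; decide)

theorem card_E4 : Nat.card (E4 c) = 4 := by
  have k : ∀ {a b : Γ} {x y : ℕ}, c.π a = vec x → c.π b = vec y → x < 4096 ∧ y < 4096 ∧ x ≠ y → a ≠ b :=
    fun h1 h2 h3 e => h3.2.2 (vec_inj h3.1 h3.2.1 (by rw [← h1, ← h2, e]))
  have h0 : c.π 1 = vec 0 := c.π_one.trans vec_zero.symm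
  exact (Nat.card_coe_set_eq _).trans (Set.ncard_eq_four.2 ⟨1, c.tt, c.ss, c.ss * c.tt,
    k h0 c.π_tt (by decide), k h0 c.π_ss (by decide), k h0 π_st (by decide),
    k c.π_tt c.π_ss (by decide), k c.π_tt π_st (by decide), k c.π_ss π_st (by decide), rfl⟩)

theorem E4_cl : E4 c ≤ closure {c.z, c.tt, c.ss} := by
  have h1 : c.tt ∈ closure ({c.z, c.tt, c.ss} : Set Γ) := subset_closure (by simp)
  have h2 : c.ss ∈ closure ({c.z, c.tt, c.ss} : Set Γ) := subset_closure (by simp)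
  rintro _ (rfl | rfl | rfl | rfl)
  exacts [one_mem _, h1, h2, mul_mem h2 h1]

instance nEL : (EL c).Normal := ⟨fun n hn g => by
  obtain ⟨a, ha, e⟩ := mem_subgroupOf.1 hn
  refine mem_subgroupOf.2 ⟨a, ha, ?_⟩
  rw [coe_mul, coe_mul, ← e, L_comm g.2 ha, coe_inv, mul_inv_cancel_right]⟩

variable (c) in
/-- the map from `W` to `L / ⟨t, s⟩` -/
noncomputable def φW : c.W →* c.L ⧸ EL c :=
  (QuotientGroup.mk' _).comp ((c.j.comp c.W.subtype).codRestrict c.L fun a => jmem.2 a.2)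

open Classical in
variable (c) in
/-- its extension to `Γ` -/
noncomputable def ψ (a : Γ) : c.L ⧸ EL c := if h : a ∈ c.W then φW c ⟨a, h⟩ else 1

theorem ψ_eq (h : a ∈ c.W) : ψ c a = φW c ⟨a, h⟩ := dif_pos h
theorem ψ_mk (h : a ∈ c.W) : ψ c a = ((⟨c.j a, jmem.2 h⟩ : c.L) : c.L ⧸ EL c) := ψ_eq h
theorem ψ_mul (ha : a ∈ c.W) (hb : b ∈ c.W) : ψ c (a * b) = ψ c a * ψ c b := by
  rw [ψ_eq ha, ψ_eq hb, ψ_eq (mul_mem ha hb), ← map_mul]; rfl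
theorem ψ_inv (ha : a ∈ c.W) : ψ c a⁻¹ = (ψ c a)⁻¹ := by
  rw [ψ_eq ha, ψ_eq (inv_mem ha), ← map_inv]; rfl
theorem ψ_one (ha : a ∈ c.W) : ψ c a = 1 ↔ a ∈ E4 c := by
  rw [ψ_mk ha, QuotientGroup.eq_one_iff, EL, mem_subgroupOf, mem_map_iff_mem c.inj]
theorem ψ_cj (ha : a ∈ c.W) (hb : b ∈ c.W) : ψ c (a * b * a⁻¹) = ψ c a * ψ c b * (ψ c a)⁻¹ := by
  rw [ψ_mul (mul_mem ha hb) (inv_mem ha), ψ_mul ha hb, ψ_inv ha]
theorem ψ_cm (ha : a ∈ c.W) (hb : b ∈ c.W) :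
    ψ c (a * b * a⁻¹ * b⁻¹) = ψ c a * ψ c b * (ψ c a)⁻¹ * (ψ c b)⁻¹ := by
  rw [ψ_mul (mul_mem (mul_mem ha hb) (inv_mem ha)) (inv_mem hb), ψ_cj ha hb, ψ_inv hb]

variable (c) in
/-- image -/
noncomputable def im (A : Subgroup Γ) : Subgroup (c.L ⧸ EL c) := (A.subgroupOf c.W).map (φW c)
variable (c) in
/-- preimage -/
noncomputable def pre (B : Subgroup (c.L ⧸ EL c)) : Subgroup Γ := (B.comap (φW c)).map c.W.subtype

theorem mem_im {A : Subgroup Γ} {x : c.L ⧸ EL c} : x ∈ im c A ↔ ∃ a ∈ A, a ∈ c.W ∧ ψ c a = x :=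
  ⟨fun ⟨a, h, e⟩ => ⟨a, h, a.2, (ψ_eq a.2).trans e⟩,
    fun ⟨a, h, k, e⟩ => ⟨⟨a, k⟩, h, (ψ_eq k).symm.trans e⟩⟩

theorem mem_pre {B : Subgroup (c.L ⧸ EL c)} : a ∈ pre c B ↔ a ∈ c.W ∧ ψ c a ∈ B :=
  ⟨by rintro ⟨a, h, rfl⟩; exact ⟨a.2, ψ_eq a.2 ▸ h⟩, fun ⟨k, h⟩ => ⟨⟨a, k⟩, (ψ_eq k ▸ h :), rfl⟩⟩

theorem card_im {A : Subgroup Γ} (h1 : E4 c ≤ A) (h2 : A ≤ c.W) :
    Nat.card A = 4 * Nat.card (im c A) := by
  have e : (φW c).ker = (E4 c).subgroupOf c.W := by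
    ext a; rw [MonoidHom.mem_ker, ← ψ_eq a.2, ψ_one a.2, mem_subgroupOf]
  rw [im, ← relIndex_ker, e, ← card_E4 (c := c), ← H24.card_subgroupOf_of_le (h1.trans h2),
    H24.card_mul_relIndex (show (E4 c).subgroupOf c.W ≤ A.subgroupOf c.W from comap_mono h1), H24.card_subgroupOf_of_le h2]

theorem exists_eq {k : c.L} (ha : a ∈ c.W) (h : (k : c.L ⧸ EL c) = ψ c a) :
    ∃ e ∈ E4 c, (k : G) = c.j (a * e) := by
  rw [ψ_mk ha, eq_comm, QuotientGroup.eq] at h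
  obtain ⟨e, he, k⟩ := mem_subgroupOf.1 h
  exact ⟨e, he, by rw [map_mul, k]; simp⟩

theorem E4_two (ha : a ∈ E4 c) : a * a = 1 := by
  rcases ha with rfl | rfl | rfl | rfl
  exacts [mul_one _, c.tt_sq, c.ss_sq, by
    rw [mul_assoc, ← mul_assoc c.tt, c.tt_ss, mul_assoc, c.tt_sq, mul_one, c.ss_sq]]

theorem pre_two {B : Subgroup (c.L ⧸ EL c)} (h : IsPGroup 2 B) : IsPGroup 2 (pre c B) := fun a => by
  obtain ⟨h1, h2⟩ := mem_pre.1 a.2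
  obtain ⟨k, hk⟩ := h ⟨_, h2⟩
  refine ⟨k + 1, Subtype.ext ?_⟩
  have : ψ c (a ^ 2 ^ k) = 1 := by
    have e : ψ c a ^ 2 ^ k = 1 := congrArg Subtype.val hk
    rw [ψ_eq (pow_mem h1 _), ← e, ψ_eq h1, ← map_pow]; rfl
  rw [coe_pow, pow_succ, pow_mul, pow_two]
  exact E4_two ((ψ_one (pow_mem h1 _)).1 this)

variable [Finite G] {g : G} {u : Γ} (h : Fu c g u)
include h

theorem cz {x : c.L ⧸ EL c} : x ∈ centralizer {ψ c c.z} ↔ ∃ a ∈ c.W, ψ c a = x := by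
  rw [mem_centralizer_singleton_iff]
  refine ⟨fun k => ?_, by rintro ⟨a, ha, rfl⟩; rw [← ψ_mul ha zW, c.zc, ψ_mul zW ha]⟩
  obtain ⟨l, rfl⟩ := QuotientGroup.mk_surjective x
  obtain ⟨e, he, k⟩ := exists_eq (k := l * ⟨c.j c.z, jmem.2 zW⟩ * l⁻¹) zW (by
    rw [QuotientGroup.mk_mul, QuotientGroup.mk_mul, ← ψ_mk zW, k, QuotientGroup.mk_inv,
      mul_inv_cancel_right])
  rcases π_E4 he with rfl | e1
  · obtain ⟨a, ha⟩ := c.cen l (mul_inv_eq_iff_eq_mul.1 (by simpa using k))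
    have aW : a ∈ c.W := jmem.1 (ha ▸ l.2)
    exact ⟨a, aW, by rw [ψ_mk aW]; exact congrArg _ (Subtype.ext ha)⟩
  · exact absurd (isConj_iff.2 ⟨(l : G), k⟩) (h.c1 _ (mul_mem c.zQ (E4_le he).1) (by
      rwa [c.π_mul _ c.zQ _ (E4_le he).1, c.π_z, zero_add]))

theorem cz_eq : centralizer {ψ c c.z} = im c c.W := by
  ext x; rw [cz h, mem_im]; simp

omit h in
theorem cl_zp (ha : a ∈ closure ({c.z, c.tt, c.ss} : Set Γ)) : ψ c a ∈ zpowers (ψ c c.z) := by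
  refine (mem_pre.1 ((closure_le (pre c _)).2 ?_ ha)).2
  have k : ∀ a ∈ E4 c, a ∈ pre c (zpowers (ψ c c.z)) := fun a ha =>
    mem_pre.2 ⟨(E4_le ha).2, (ψ_one (E4_le ha).2).2 ha ▸ one_mem _⟩
  rintro _ (rfl | rfl | rfl)
  exacts [mem_pre.2 ⟨zW, mem_zpowers _⟩, k _ (.inr (.inl rfl)), k _ (.inr (.inr (.inl rfl)))]

omit h in
theorem mem_P {x : c.L ⧸ EL c} : x ∈ im c (c.Q ⊓ c.W) ↔ ∃ a ∈ c.Q ⊓ c.W, ψ c a = x :=
  mem_im.trans ⟨fun ⟨a, h, _, e⟩ => ⟨a, h, e⟩, fun ⟨a, h, e⟩ => ⟨a, h, h.2, e⟩⟩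

omit h in
theorem ψ_P (ha : a ∈ c.W) : ψ c a ∈ im c (c.Q ⊓ c.W) ↔ a ∈ c.Q := by
  refine ⟨fun k => ?_, fun k => mem_P.2 ⟨a, ⟨k, ha⟩, rfl⟩⟩
  obtain ⟨b, hb, e⟩ := mem_P.1 k
  have := (E4_le ((ψ_one (mul_mem (inv_mem hb.2) ha)).1 (by
    rw [ψ_mul (inv_mem hb.2) ha, ψ_inv hb.2, e, inv_mul_cancel]))).1
  simpa using mul_mem hb.1 this

theorem lx : H15.XP.LX (ψ c c.z) (im c (c.Q ⊓ c.W)) ∧ Nat.card (im c (c.Q ⊓ c.W)) = 2 ^ 9 := by
  have : Finite Γ := Finite.of_injective _ c.inj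
  have hc : Nat.card (im c (c.Q ⊓ c.W)) = 2 ^ 9 := by
    have := card_im (E4_le (c := c)) inf_le_right
    rw [c.card_QW] at this
    omega
  have zc : c.z ∈ closure ({c.z, c.tt, c.ss} : Set Γ) := subset_closure (by simp)
  have o : orderOf (ψ c c.z) = 2 := orderOf_eq_prime (by
    rw [pow_two, ← ψ_mul zW zW, c.z2]; exact (ψ_one (one_mem _)).2 (one_mem _))
    fun e => c.z1 (E4_z ((ψ_one zW).1 e) c.π_z)
  have cl : ∀ x ∈ im c (c.Q ⊓ c.W), (∀ y ∈ im c (c.Q ⊓ c.W), Commute x y) → x ∈ zpowers (ψ c c.z) :=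
    fun x hx k => by
      obtain ⟨a, ha, rfl⟩ := mem_P.1 hx
      refine cl_zp (c.Q_cent ha.1 fun b hb => ?_)
      have e := (ψ_one (mul_mem (mul_mem (mul_mem ha.2 hb.2) (inv_mem ha.2)) (inv_mem hb.2))).1 (by
        rw [ψ_cm ha.2 hb.2, (k _ (mem_P.2 ⟨b, hb, rfl⟩)).eq]; group)
      have := E4_z e (by
        rw [c.π_mul _ (mul_mem (mul_mem ha.1 hb.1) (inv_mem ha.1)) _ (inv_mem hb.1),
          c.π_mul _ (mul_mem ha.1 hb.1) _ (inv_mem ha.1), c.π_mul _ ha.1 _ hb.1, c.π_inv ha.1,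
          c.π_inv hb.1, add_right_comm (c.π a), add_self, zero_add, add_self])
      rw [mul_inv_eq_one, mul_inv_eq_iff_eq_mul] at this
      exact this
  have zP : ψ c c.z ∈ im c (c.Q ⊓ c.W) := mem_P.2 ⟨_, ⟨c.zQ, zW⟩, rfl⟩
  refine ⟨⟨⟨o, zP, fun x hx => ?_, fun x hx y hy => ?_, fun x hx => ?_, cl⟩, fun e => ?_,
    fun x hx => H24.mem_N_of_finite fun y hy => ?_, fun x hx => ?_⟩, hc⟩
  · obtain ⟨a, ha, rfl⟩ := mem_P.1 hx
    exact (mem_centralizer_singleton_iff.1 ((cz h).2 ⟨a, ha.2, rfl⟩)).symm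
  · obtain ⟨a, ha, rfl⟩ := mem_P.1 hx
    obtain ⟨b, hb, rfl⟩ := mem_P.1 hy
    rw [commutatorElement_def, ← ψ_cm ha.2 hb.2]
    exact cl_zp (zpowers_le.2 zc (c.xs.comm a ha.1 b hb.1))
  · obtain ⟨a, ha, rfl⟩ := mem_P.1 hx
    rw [pow_two, ← ψ_mul ha.2 ha.2, ← pow_two]
    exact cl_zp (zpowers_le.2 zc (c.xs.pow a ha.1))
  · rw [← e, Nat.card_zpowers, o] at hc; omega
  · obtain ⟨k, hk, rfl⟩ := (cz h).1 hx
    obtain ⟨a, ha, rfl⟩ := mem_P.1 hy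
    exact mem_P.2 ⟨_, mem_inf.2 ⟨c.nQ.conj_mem a ha.1 k, mul_mem (mul_mem hk ha.2) (inv_mem hk)⟩, ψ_cj hk ha.2⟩
  · obtain ⟨k, hk, rfl⟩ := (cz h).1 (mem_centralizer_singleton_iff.2 (H24.mem_C'.1 hx _ zP))
    refine cl _ ((ψ_P hk).2 (c.W_cent hk fun a ha => E4_cl ?_)) fun y hy => H24.mem_C'.1 hx y hy
    refine (ψ_one (mul_mem (mul_mem (mul_mem hk ha.2) (inv_mem hk)) (inv_mem ha.2))).1 ?_
    rw [ψ_cm hk ha.2, H24.mem_C'.1 hx _ (mem_P.2 ⟨a, ha, rfl⟩)]; group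

theorem nc {N : Subgroup (c.L ⧸ EL c)} (h1 : centralizer {ψ c c.z} ≤ normalizer (N : Set _))
    (h2 : im c (c.Q ⊓ c.W) ≤ N) (ha : a ∈ c.W) (h3 : ψ c a ∈ N) (h4 : a ∉ c.Q) (h5 : a * a ∈ c.Q) :
    pre c N = c.W := by
  have : Finite Γ := Finite.of_injective _ c.inj
  refine c.W_nc (fun x hx => (mem_pre.1 hx).1) (fun k hk n hn => ?_)
    (fun x hx => mem_pre.2 ⟨hx.2, h2 (mem_P.2 ⟨x, hx, rfl⟩)⟩) (mem_pre.2 ⟨ha, h3⟩) h4 h5
  obtain ⟨n1, n2⟩ := mem_pre.1 hn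
  exact mem_pre.2 ⟨mul_mem (mul_mem hk n1) (inv_mem hk),
    ψ_cj hk n1 ▸ H24.conj_mem (h1 ((cz h).2 ⟨k, hk, rfl⟩)) n2⟩

theorem o2 (N : Subgroup (c.L ⧸ EL c)) (h0 : N ≤ centralizer {ψ c c.z})
    (h1 : centralizer {ψ c c.z} ≤ normalizer (N : Set _)) (h2 : IsPGroup 2 N) :
    N ≤ im c (c.Q ⊓ c.W) := fun x hx => by
  have : Finite Γ := Finite.of_injective _ c.inj
  have l := (lx h).1
  obtain ⟨a, ha, rfl⟩ := (cz h).1 (h0 hx)
  rw [ψ_P ha]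
  by_contra n
  have p := pre_two (H23.isPGroup_sup h2 l.xs.isPGroup (h0.trans l.norm))
  have m : a ∈ pre c (N ⊔ im c (c.Q ⊓ c.W)) := mem_pre.2 ⟨ha, mem_sup_left hx⟩
  obtain ⟨k, hk⟩ := p ⟨a, m⟩
  have ex : ∃ k, a ^ 2 ^ k ∈ c.Q := ⟨k, by
    rw [show a ^ 2 ^ k = 1 from congrArg Subtype.val hk]; exact one_mem _⟩
  classical
  obtain ⟨i, hi⟩ := Nat.exists_eq_succ_of_ne_zero (n := Nat.find ex) fun e => n (by
    simpa [e] using Nat.find_spec ex)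
  have := nc h (H24.norm_sup h1 l.norm) le_sup_right (pow_mem ha (2 ^ i))
    (mem_pre.1 (pow_mem m _)).2 (Nat.find_min ex (by omega)) (by
      rw [← pow_two, ← pow_mul, ← pow_succ, ← Nat.succ_eq_add_one, ← hi]; exact Nat.find_spec ex)
  obtain ⟨j, hj⟩ := IsPGroup.iff_card.1 (this ▸ p)
  rw [c.card_W] at hj
  exact absurd ((Nat.prime_three.dvd_of_dvd_pow (hj ▸ by norm_num : 3 ∣ 2 ^ j))) (by norm_num)

theorem wc (x : c.L ⧸ EL c) (m : x * ψ c c.z * x⁻¹ ∈ im c (c.Q ⊓ c.W)) :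
    x * ψ c c.z * x⁻¹ = ψ c c.z := by
  have : Finite Γ := Finite.of_injective _ c.inj
  obtain ⟨l, rfl⟩ := QuotientGroup.mk_surjective x
  obtain ⟨a, ha, e⟩ := mem_P.1 m
  have e0 : ((l * ⟨c.j c.z, jmem.2 zW⟩ * l⁻¹ : c.L) : c.L ⧸ EL c) = l * ψ c c.z * (l : c.L ⧸ EL c)⁻¹ := by
    rw [QuotientGroup.mk_mul, QuotientGroup.mk_mul, ← ψ_mk zW, QuotientGroup.mk_inv]
  obtain ⟨ε, he, k⟩ := exists_eq ha.2 (e0.trans e.symm)
  have yQ := mul_mem ha.1 (E4_le he).1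
  generalize a * ε = y at k yQ
  replace k : l * c.j c.z * (l : G)⁻¹ = c.j y := k
  by_cases yz : y = c.z
  · rw [← e0, ψ_mk zW]; exact congrArg _ (Subtype.ext (yz ▸ k))
  exfalso
  have y2 : y * y = 1 := c.inj (by
    rw [map_mul, ← k, map_one, show ∀ a b : G, a * b * a⁻¹ * (a * b * a⁻¹) = a * (b * b) * a⁻¹ from
      fun a b => by group, ← map_mul, c.z2]; simp)
  have c2 : cls (cd (c.π y)) = 2 := by
    have h0 : cls (cd (c.π y)) ≠ 0 := fun e => (c.π_ker y yQ (cls_eq_zero e)).elim (fun e => by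
      rw [e, map_one, conj_eq_one_iff, map_eq_one_iff _ c.inj] at k; exact c.z1 k) yz
    have h1 : cls (cd (c.π y)) ≠ 1 := fun e => h.c1 y yQ e (isConj_iff.2 ⟨_, k⟩)
    have h3 : cls (cd (c.π y)) ≠ 3 := fun e => by
      rw [c.sq_q yQ, c.q_eq, qb, e] at y2; exact c.z1 (c.zp_one.symm.trans y2)
    have := cls_lt (cd (c.π y))
    omega
  obtain ⟨m, hm, e⟩ := c.conj_Q yQ h.uQ (by rw [c2, h.πu, cd_vec (by decide)]; decide +kernel) (by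
    rw [h.πu, ← vec_zero]; exact fun e => absurd (vec_inj (by decide) (by decide) e) (by decide))
  obtain ⟨n, hn⟩ := c.cen (g⁻¹ * (c.j m)⁻¹ * l) (by
    rw [← mul_inv_eq_iff_eq_mul, show g⁻¹ * (c.j m)⁻¹ * l * c.j c.z * (g⁻¹ * (c.j m)⁻¹ * l)⁻¹ =
      g⁻¹ * ((c.j m)⁻¹ * (l * c.j c.z * (l : G)⁻¹) * c.j m) * g by group, k, ← map_inv, ← map_mul,
      ← map_mul, e, ← h.gz]; group)
  have key : ∀ a ∈ E4 c, cd (c.π a ᵥ* c.ρ m) ∈ E0 := fun a ha => by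
    have aQ := (E4_le ha).1
    rw [← c.π_conj m a aQ]
    refine (h.mem _ (c.conj_mem m aQ)).1 ⟨_, c.nQ.conj_mem a aQ n, ?_⟩
    simp only [map_mul, map_inv, hn]
    rw [show g * (g⁻¹ * (c.j m)⁻¹ * l * c.j a * (g⁻¹ * (c.j m)⁻¹ * l)⁻¹) * g⁻¹ =
      (c.j m)⁻¹ * (l * c.j a * (l : G)⁻¹) * c.j m by group, L_comm l.2 ha, mul_inv_cancel_right]
  have k1 := key _ (.inr (.inl rfl))
  have k2 := key _ (.inr (.inr (.inl rfl)))
  have k3 := c.cls_ρ m (vec 5)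
  rw [c.π_ss, show vec 10 = vec 5 ᵥ* mat TH by rw [← vec_va]; congr 1, vecMul_vecMul,
    c.mem_M_iff.1 hm, ← vecMul_vecMul, cd_vecMul] at k2
  rw [c.π_tt] at k1
  rw [cd_vec (by decide)] at k3
  exact (by decide +kernel : ∀ x ∈ E0, cls x = cls 5 → va x TH ∉ E0) _ k1 k3 k2

theorem rk (B : Subgroup (c.L ⧸ EL c)) (h1 : B ≤ centralizer {ψ c c.z}) (h2 : H6.XS.EA B)
    (h3 : B ⊓ im c (c.Q ⊓ c.W) = ⊥) : Nat.card B ≠ 32 := fun e => by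
  have : Finite Γ := Finite.of_injective _ c.inj
  have le : pre c B ≤ c.W := fun x hx => (mem_pre.1 hx).1
  have E : E4 c ≤ pre c B := fun a ha =>
    mem_pre.2 ⟨(E4_le ha).2, (ψ_one (E4_le ha).2).2 ha ▸ one_mem _⟩
  have k := c.W_rk le (pre_two h2.two) fun a ha => (E4_le ((ψ_one (mul_mem (le ha) (le ha))).1 (by
    rw [ψ_mul (le ha) (le ha)]; exact h2 _ (mem_pre.1 ha).2))).1
  have k1 := card_im E le
  have k2 := c.card_eq (pre c B)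
  rw [show pre c B ⊓ c.Q = E4 c from le_antisymm (fun a ha => (ψ_one (le ha.1)).1 (mem_bot.1
    (h3 ▸ mem_inf.2 ⟨(mem_pre.1 ha.1).2, (ψ_P (le ha.1)).2 ha.2⟩))) (le_inf E (E4_le.trans inf_le_left)),
    card_E4] at k2
  have k3 : B ≤ im c (pre c B) := fun x hx => by
    obtain ⟨a, ha, rfl⟩ := (cz h).1 (h1 hx)
    exact mem_im.2 ⟨a, mem_pre.2 ⟨ha, hx⟩, ha, rfl⟩
  have := card_le_of_le k3
  omega

end H4.FE

namespace H9.L

open H4.FE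

variable {G Γ : Type*} [Group G] [Group Γ]

theorem Fu.theta [Finite G] {c : Am G Γ} {g : G} {u : Γ} (h : Fu c g u) :
    ∃ θ : c.L →* Cfsg.PSU 6 H0.F4 2, Function.Surjective θ ∧
      (∀ k : c.L, θ k = 1 ↔ (k : G) = 1 ∨ (k : G) = c.j c.tt ∨ (k : G) = c.j c.ss ∨
        (k : G) = c.j c.ss * c.j c.tt) ∧ commutator c.L = ⊤ := by
  have : Finite Γ := Finite.of_injective _ c.inj
  obtain ⟨⟨e⟩, hp⟩ := u6 (lx h).1 (lx h).2 (o2 h) (wc h) (by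
      obtain ⟨k, hk, y, e, hy⟩ := h.f1
      have yW : y ∈ c.W := jmem.1 (e ▸ mul_mem (mul_mem hk (jmem.2 zW)) (inv_mem hk))
      have e1 : ((⟨k, hk⟩ : c.L) : c.L ⧸ EL c) * ψ c c.z * ((⟨k, hk⟩ : c.L) : c.L ⧸ EL c)⁻¹ = ψ c y := by
        rw [ψ_mk zW, ψ_mk yW]; exact congrArg _ (Subtype.ext e.symm)
      refine ⟨_, fun k => hy ?_, e1 ▸ (cz h).2 ⟨y, yW, rfl⟩⟩
      have := E4_cl ((ψ_one (mul_mem (inv_mem zW) yW)).1 (by
        rw [ψ_mul (inv_mem zW) yW, ψ_inv zW, ← e1, k, inv_mul_cancel]))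
      simpa using mul_mem (subset_closure (by simp) : c.z ∈ _) this) (rk h)
    (fun N hN h1 b hb h2 h3 h4 x hx => by
      obtain ⟨a, ha, rfl⟩ := (cz h).1 h2
      obtain ⟨k, hk, rfl⟩ := (cz h).1 hx
      exact (mem_pre.1 (nc h le_normalizer_of_normal h1 ha hb (fun m => h3 ((ψ_P ha).2 m))
        (E4_le ((ψ_one (mul_mem ha ha)).1 (by rwa [ψ_mul ha ha]))).1 ▸ hk)).2) (by
      have := card_im (E4_le.trans inf_le_right) (le_refl c.W)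
      rw [c.card_W, ← cz_eq h] at this
      omega)
  refine ⟨e.toMonoidHom.comp (QuotientGroup.mk' _), e.surjective.comp (QuotientGroup.mk'_surjective _),
    fun k => (e.map_eq_one_iff.trans (QuotientGroup.eq_one_iff k)).trans ⟨?_, fun a => ?_⟩, ?_⟩
  · rintro ⟨a, rfl | rfl | rfl | rfl, e⟩ <;> simp [← show _ = (k : G) from e]
  · rcases a with a | a | a | a
    exacts [⟨1, .inl rfl, (map_one _).trans a.symm⟩, ⟨_, .inr (.inl rfl), a.symm⟩,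
      ⟨_, .inr (.inr (.inl rfl)), a.symm⟩, ⟨_, .inr (.inr (.inr rfl)), (map_mul _ _ _).trans a.symm⟩]
  · have le : ⁅c.W, c.W⁆.map c.j ≤ (commutator c.L).map c.L.subtype := by
      rw [map_subtype_commutator, map_commutator]
      exact commutator_mono (map_le_iff_le_comap.2 fun _ => jmem.2) (map_le_iff_le_comap.2 fun _ => jmem.2)
    have E : EL c ≤ commutator c.L := fun x ⟨a, ha, e⟩ => by
      have : a ∈ ⁅c.W, c.W⁆ := by
        rcases ha with rfl | rfl | rfl | rfl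
        exacts [one_mem _, c.W_perf.1, c.W_perf.2, mul_mem c.W_perf.2 c.W_perf.1]
      exact (mem_map_iff_mem (subtype_injective _)).1 (le ⟨a, this, e⟩)
    have := congrArg (comap (QuotientGroup.mk' (EL c))) hp
    rwa [commutator_def, ← map_top_of_surjective _ (QuotientGroup.mk'_surjective _), ← map_commutator,
      comap_map_eq, comap_map_eq, QuotientGroup.ker_mk', top_sup_eq, ← commutator_def,
      sup_eq_left.2 E] at this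

end H9.L
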