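import Mathlib
import Cfsg.Prelude.Def_Local
import Cfsg.Prelude.Def_Classical
import Cfsg.Prelude.Def_Spor_Fi24
import Cfsg.Agent.H9.LD
import Cfsg.Agent.H9.LW
import Cfsg.Agent.H6.XT

/-! The subgroup of index two of the centraliser of `t`. -/

set_option autoImplicit false
set_option linter.unusedSectionVars false
set_option linter.unusedVariables false
set_option maxRecDepth 100000

open H29 H9 H9.GF2 Matrix Subgroup H9.L
open H9.R hiding cls CL qb Bb ew Std TL pcs wsT cls_va0 cls_vecMul cls_eq_zero cls_zero cls_lt ncard_cls cls_ind R0 c_pcs c_TL c_key nodup_TL ncard_mat mat_inj_TL cj mem_cj card_cj conj_mem_cj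

namespace H3.LF

open H24

variable {G Γ : Type*} [Group G] [Group Γ]

/-- the test for the perpendicular space of `5` and `v` -/
noncomputable def chkP (v : ℕ) (l : List ℕ) : Bool :=
  and2 (and2 (Nat.blt v 4096) (H29.allL l fun w => and2 (Nat.blt w 4096) (and2 (no (Bb w 5)) (no (Bb w v)))))
    (and2 (Nat.ble 512 (treeCnt (fun a => and2 (no (Bb a 5)) (no (Bb a v))) 12))
      (treeAll (fun a => imp (H29.allL l fun w => no (Bb a w)) (Nat.blt (cls a) 2)) 12 0))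

theorem chk10 : chkP 10 [5, 10, 16, 32, 64, 128, 256, 512, 1024, 2048] = true := by decide +kernel
theorem chk17 : chkP 17 [1, 4, 16, 42, 64, 128, 256, 512, 1024, 2048] = true := by decide +kernel

/-- the stabiliser of the pair `s`, `s e` -/
def M0 (t z s e : G) (e2 : e * e = 1) (he : ∀ k, k * t = t * k → k * z = z * k → k * e = e * k) : Subgroup G where
  carrier := {k | k * t = t * k ∧ k * z = z * k ∧ (k * s * k⁻¹ = s ∨ k * s * k⁻¹ = s * e)}
  one_mem' := by simp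
  mul_mem' := by
    rintro a b ⟨a1, a2, a3⟩ ⟨b1, b2, b3⟩
    refine ⟨Commute.mul_left a1 b1, Commute.mul_left a2 b2, ?_⟩
    rw [show a * b * s * (a * b)⁻¹ = a * (b * s * b⁻¹) * a⁻¹ by group]
    rcases b3 with b3 | b3 <;> rw [b3]
    · exact a3
    · rw [← conj_mul, he a a1 a2, mul_inv_cancel_right]
      rcases a3 with a3 | a3 <;> rw [a3]
      exacts [Or.inr rfl, Or.inl (by rw [mul_assoc, e2, mul_one])]
  inv_mem' := by
    rintro a ⟨a1, a2, a3⟩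
    refine ⟨Commute.inv_left a1, Commute.inv_left a2, a3.imp (fun a3 => ?_) fun a3 => ?_⟩
    · nth_rw 1 [← a3]; group
    · have : s = a * s * a⁻¹ * e := by rw [a3, mul_assoc, e2, mul_one]
      nth_rw 1 [this]
      rw [inv_inv, mul_assoc, mul_assoc _ e, ← he a a1 a2]; group

theorem two {K Y : Subgroup G} (h : K.relIndex Y = 2) {a b : G} (ha : a ∈ Y) (hb : b ∈ Y) :
    a * b ∈ K ↔ (a ∈ K ↔ b ∈ K) :=
  mul_mem_iff_of_index_two (H := K.subgroupOf Y) h (a := ⟨a, ha⟩) (b := ⟨b, hb⟩)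

theorem two_conj {K Y : Subgroup G} (h : K.relIndex Y = 2) {a b : G} (ha : a ∈ Y) (hb : b ∈ Y) :
    a * b * a⁻¹ ∈ K ↔ b ∈ K := by
  rw [two h (mul_mem ha hb) (inv_mem ha), two h ha hb, inv_mem_iff]; tauto

variable [Finite G] {c : Am G Γ} {g : G} {u : Γ} (h : Fu c g u)
include h

theorem zfix {y : G} (hy : IsConj (c.j c.z) y) {x : Γ} (hx : x ∈ c.Q) {v : ℕ} (hv : c.π x = vec v) {l : List ℕ}
    (k : chkP v l = true)
    (hc : ∀ a ∈ c.Q, a * c.tt = c.tt * a → a * x = x * a → y * c.j a = c.j a * y) : y = c.j c.z := by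
  have : Finite Γ := Finite.of_injective _ c.inj
  simp only [chkP, and2_true, allL_true, no_true, Nat.blt_eq, Nat.ble_eq, Bool.not_eq_true] at k
  obtain ⟨⟨k1, k2⟩, k3, k4⟩ := k
  obtain ⟨b, rfl⟩ := c.cen y (hc _ c.zQ (c.zc _).symm (c.zc _).symm)
  have cm : ∀ w : V, Bb (cd w) 5 = false → Bb (cd w) v = false → b * c.s w = c.s w * b := fun w h1 h2 =>
    c.inj (by
      rw [map_mul, map_mul]
      exact hc _ (c.s_mem w) (c.comm_of_B (c.s_mem w) c.tt_mem (by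
        rw [c.B_eq, Co.π_s, c.π_tt, cd_vec (by decide), h1]; rfl)) (c.comm_of_B (c.s_mem w) hx (by
        rw [c.B_eq, Co.π_s, hv, cd_vec k1, h2]; rfl)))
  obtain ⟨m, hm⟩ := isConj_iff.1 hy
  have b2 : b ^ 2 ^ 1 = 1 := c.inj (by rw [map_pow, ← hm, conj_pow, ← map_pow, pow_one, pow_two, c.z2]; simp)
  have bQ := c.fix_big (pg_zpowers' b2) (k3.trans (by
    rw [← ncard_cd]
    refine Set.ncard_le_ncard fun w hw => ?_
    simp only [Set.mem_ofPred_eq, and2_true, no_true, Bool.not_eq_true] at hw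
    have := c.π_conj b _ (c.s_mem w)
    rw [conj_of_comm (cm w hw.1 hw.2), Co.π_s] at this
    exact this.symm))
  have := all12 k4 (c.π b)
  simp only [imp_true, allL_true, no_true, Nat.blt_eq, Bool.not_eq_true] at this
  have := this fun w hw => by
    obtain ⟨a1, a2, a3⟩ := k2 w hw
    have := c.B_of_comm bQ (c.s_mem _) (cm (vec w) (by rwa [cd_vec a1]) (by rwa [cd_vec a1]))
    rw [c.B_eq, Co.π_s, cd_vec a1] at this
    revert this; cases Bb (cd (c.π b)) w <;> decide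
  have h1 := mt (h.c1 b bQ) (not_not.2 hy)
  rcases c.π_ker b bQ (cls_eq_zero (by omega)) with rfl | rfl
  · rw [map_one, conj_eq_one_iff, map_eq_one_iff _ c.inj] at hm
    exact (c.z1 hm).elim
  · rfl

theorem sylZ {Y : Subgroup G} (hY : (c.Q ⊓ c.W).map c.j ≤ Y) : ∃ S, Syl 2 Y S ∧ N[S] ≤ C{c.j c.z} := by
  have : Finite Γ := Finite.of_injective _ c.inj
  obtain ⟨S, hS, h1⟩ := Sylow_superset Nat.prime_two (M := Y ⊓ C{c.j c.z})
    ((isPi_of_card Nat.prime_two c.card_QW).map c.j)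
    (le_inf hY (by rintro _ ⟨a, -, rfl⟩; exact mem_C1.2 (by rw [← map_mul, c.zc, map_mul])))
  have m : ∀ a ∈ c.Q, a * c.tt = c.tt * a → a * c.ss = c.ss * a → c.j a ∈ S := fun a h2 h3 h4 =>
    h1 ⟨a, ⟨h2, mem_C1.2 h3, mem_C1.2 h4⟩, rfl⟩
  have k : N[S] ≤ C{c.j c.z} := fun n hn => mem_C1_iff_conj.2
    (zfix h (isConj_iff.2 ⟨n, rfl⟩) c.ss_mem c.π_ss chk10 fun a h2 h3 h4 => by
      have := mem_C1.1 (hS.le (conj_mem' hn (m a h2 h3 h4))).2
      calc _ = n * (c.j c.z * (n⁻¹ * c.j a * n)) * n⁻¹ := by group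
        _ = _ := by rw [← this]; group)
  exact ⟨S, hS.of_norm_le Nat.prime_two inf_le_left (inf_le_inf_left _ k), k⟩

theorem four {m : G} (h1 : m * c.j c.tt = c.j c.tt * m) (h2 : m * c.j c.z = c.j c.z * m) :
    m * c.j c.ss * m⁻¹ = c.j c.ss ∨ m * c.j c.ss * m⁻¹ = c.j c.ss * c.j c.z ∨
      m * c.j c.ss * m⁻¹ = c.j c.ss * c.j c.tt ∨ m * c.j c.ss * m⁻¹ = c.j c.ss * (c.j c.tt * c.j c.z) := by
  have : Finite Γ := Finite.of_injective _ c.inj
  obtain ⟨k, rfl⟩ := c.cen m h2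
  simp only [← map_mul, ← map_inv, c.inj.eq_iff, ← mul_assoc] at h1 ⊢
  exact c.f3.2.2.2.2 k h1

theorem QW_le : (c.Q ⊓ c.W).map c.j ≤ c.L := by
  rintro _ ⟨a, ha, rfl⟩
  exact ⟨mem_C1.2 (by rw [← map_mul, mem_C1.1 ha.2.1, map_mul]), mem_C1.2 (by rw [← map_mul, mem_C1.1 ha.2.2, map_mul])⟩

theorem idx2 : ∃ K ≤ C{c.j c.tt}, K.relIndex C{c.j c.tt} = 2 := by
  have : Finite Γ := Finite.of_injective _ c.inj
  by_contra! hn
  obtain ⟨S, hS, hN⟩ := sylZ h ((QW_le h).trans inf_le_left)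
  obtain ⟨x, xQ, x1, x2, x3, x4⟩ := c.f3.2.2.2.1
  have jz : ∀ a, c.j a * c.j c.z = c.j c.z * c.j a := fun a => by rw [← map_mul, c.zc, map_mul]
  have xt : c.j x * c.j c.tt = c.j c.tt * c.j x := by rw [← map_mul, x3, map_mul]
  have xs : c.j x * c.j c.ss * (c.j x)⁻¹ = c.j c.ss * c.j c.z := by rw [← map_inv, ← map_mul, ← map_mul, x4, map_mul]
  have z1 : c.j c.z ≠ 1 := by rw [Ne, map_eq_one_iff _ c.inj]; exact c.z1
  have t1 : c.j c.tt ≠ 1 := by
    rw [Ne, map_eq_one_iff _ c.inj]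
    intro e
    have := c.π_tt
    rw [e, c.π_one, ← vec_zero] at this
    exact absurd (vec_inj (by decide) (by decide) this) (by decide)
  have z2 : c.j c.z * c.j c.z = 1 := by rw [← map_mul, c.z2, map_one]
  let M := M0 (c.j c.tt) (c.j c.z) (c.j c.ss) (c.j c.tt * c.j c.z) (by
    rw [(show Commute _ _ from (jz c.tt).symm).mul_mul_mul_comm, z2, ← map_mul, c.tt_sq]; simp)
    fun k h1 h2 => Commute.mul_right h1 h2
  have mM : ∀ k, k ∈ M ↔ k * c.j c.tt = c.j c.tt * k ∧ k * c.j c.z = c.j c.z * k ∧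
    (k * c.j c.ss * k⁻¹ = c.j c.ss ∨ k * c.j c.ss * k⁻¹ = c.j c.ss * (c.j c.tt * c.j c.z)) := fun _ => Iff.rfl
  have ML : M ≤ C{c.j c.tt} ⊓ C{c.j c.z} := fun k hk => ⟨mem_C1.2 hk.1, mem_C1.2 hk.2.1⟩
  have xM : c.j x ∉ M := fun e => by
    rcases e.2.2 with e | e <;> rw [xs] at e
    · exact z1 (mul_eq_left.1 e)
    · exact t1 (mul_eq_right.1 (mul_left_cancel e).symm)
  have i2 : M.relIndex (C{c.j c.tt} ⊓ C{c.j c.z}) = 2 :=
    relIndex_eq_two_iff.2 ⟨_, ⟨mem_C1.2 xt, mem_C1.2 (jz x)⟩, fun b hb => by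
      have b1 := mem_C1.1 hb.1
      have b2 := mem_C1.1 hb.2
      have : b * c.j x * c.j c.ss * (b * c.j x)⁻¹ = b * c.j c.ss * b⁻¹ * c.j c.z := by
        rw [show b * c.j x * c.j c.ss * (b * c.j x)⁻¹ = b * (c.j x * c.j c.ss * (c.j x)⁻¹) * b⁻¹ by group, xs,
          ← conj_mul, b2, mul_inv_cancel_right]
      rw [mM, mM, this]
      simp only [b1, b2, (Commute.mul_left b1 xt).eq, (Commute.mul_left b2 (jz x)).eq, true_and]
      rcases four h b1 b2 with e | e | e | e <;> simp [e, mul_assoc, z1, z2, t1]⟩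
  obtain ⟨n, h1, h2⟩ := H6.XS.transfer_fix (G := C{c.j c.tt})
    (M := (C{c.j c.tt} ⊓ C{c.j c.z}).subgroupOf _) (M0 := M.subgroupOf _)
    (T := ((c.Q ⊓ C{x}).map c.j).subgroupOf _) (x := ⟨c.j x, mem_C1.2 xt⟩)
    (fun K e => hn (K.map (Subgroup.subtype _)) (map_subtype_le _) (by
      rwa [relIndex, subgroupOf, comap_map_eq_self_of_injective (subtype_injective _)]))
    (Nat.not_even_iff_odd.1 fun e => hS.idx_of_ge (le_inf hS.le ((norm_self _).trans hN)) 2 Nat.prime_two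
      e.two_dvd rfl) (comap_mono ML) (by rw [relIndex_subgroupOf inf_le_left, i2]) ⟨mem_C1.2 xt, mem_C1.2 (jz x)⟩ xM
    (Subtype.ext (by rw [coe_pow, ← map_pow, c.pow_four xQ]; simp))
    (fun g _ => by
      rw [show (⟨c.j x, mem_C1.2 xt⟩ * ⟨c.j x, mem_C1.2 xt⟩ : C{c.j c.tt}) = 1 from
        Subtype.ext (by rw [coe_mul, ← map_mul, x2]; simp)]
      simp)
    (((c.xs.isPGroup.to_inf_left).map c.j).comap_subtype)
    (by rintro a ⟨b, hb, e⟩; exact mem_C1.2 (Subtype.ext (by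
      rw [coe_mul, coe_mul, show (a : G) = c.j b from e.symm, ← map_mul, mem_C1.1 hb.2, map_mul])))
  have := zfix h (isConj_iff.2 ⟨(n : G)⁻¹, rfl⟩) xQ x1 chk17 fun a a1 a2 a3 => by
    have := mem_C1.1 (h2 (conj_mem_cj n (x := ⟨c.j a, mem_C1.2 (by rw [← map_mul, a2, map_mul])⟩)
      ⟨a, ⟨a1, mem_C1.2 a3⟩, rfl⟩)).2
    change n * c.j a * (n : G)⁻¹ * _ = _ * (n * c.j a * (n : G)⁻¹) at this
    calc _ = (n : G)⁻¹ * (c.j c.z * (n * c.j a * (n : G)⁻¹)) * n := by group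
      _ = _ := by rw [← this]; group
  exact xM ((two_conj i2 (mem_inf.2 ⟨n.2, inv_mem_iff.1 (mem_C1_iff_conj.2 this)⟩) ⟨mem_C1.2 xt, mem_C1.2 (jz x)⟩).1 h1)

theorem kk (hp : commutator c.L = ⊤) : ∃ K, KK K (c.j c.tt) (c.j c.ss) (c.j c.z) := by
  obtain ⟨K, h1, h2⟩ := idx2 h
  have LY : c.L ≤ C{c.j c.tt} := inf_le_left
  have LK : c.L ≤ K := by
    rw [← range_subtype c.L, MonoidHom.range_eq_map, ← hp, map_subtype_commutator, commutator_le]
    intro a ha b hb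
    rw [commutatorElement_def, two h2 (mul_mem (mul_mem (LY ha) (LY hb)) (inv_mem (LY ha))) (inv_mem (LY hb)),
      two_conj h2 (LY ha) (LY hb), inv_mem_iff]
  obtain ⟨r, r1, r2, r3⟩ := h.f2
  have rt : c.j r ∈ C{c.j c.tt} := mem_C1.2 (by rw [← map_mul, r1, map_mul])
  have rK : c.j r ∈ K := (two_conj h2 (inv_mem (mem_C1_iff_conj.2 h.gt)) rt).1 (by rw [inv_inv]; exact LK r3)
  have rz : c.j r * c.j c.z = c.j c.z * c.j r := by rw [← map_mul, c.zc, map_mul]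
  have rs : c.j r * c.j c.ss * (c.j r)⁻¹ = c.j c.ss * c.j c.tt * c.j c.z := by
    rw [← map_inv, ← map_mul, ← map_mul, r2, map_mul, map_mul]
  refine ⟨K, h1, h2, LK, fun k hk e => ?_, _, rK, rz, rs⟩
  have t2 : c.j c.tt * c.j c.tt = 1 := by rw [← map_mul, c.tt_sq, map_one]
  have same : ∀ k ∈ K, ∀ m ∈ C{c.j c.tt}, m * c.j c.ss * m⁻¹ = k * c.j c.ss * k⁻¹ → m ∈ K := fun k hk m hm e =>
    (mul_mem_cancel_left (inv_mem hk)).1 (LK (mem_inf.2 ⟨mul_mem (inv_mem (h1 hk)) hm, mem_C1_iff_conj.2 (by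
      rw [show k⁻¹ * m * c.j c.ss * (k⁻¹ * m)⁻¹ = k⁻¹ * (m * c.j c.ss * m⁻¹) * k by group, e]; group)⟩))
  have kN : k ∈ N[c.L] := mem_N_of_cj_le (by
    rw [Am.L, cj_inf, cj_C1, cj_C1, e, mem_C1_iff_conj.1 (h1 hk)]
    refine fun a ha => ⟨ha.1, mem_C1.2 ?_⟩
    have := mem_C1.1 ha.2
    rwa [mul_assoc (c.j c.ss), ← mem_C1.1 ha.1, ← mul_assoc, ← mul_assoc, mul_left_inj] at this)
  obtain ⟨S, hS, hN⟩ := sylZ h (QW_le h)
  obtain ⟨l, hl, e1⟩ := Sylow_trans Nat.prime_two hS (hS.cj_mem_N kN)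
  have kz := mem_C1_iff_conj.1 (hN (cj_eq_cj_iff.1 e1))
  have kK := mul_mem (inv_mem (LK hl)) hk
  have kt := mem_C1_iff_conj.1 (h1 kK)
  have ks : l⁻¹ * k * c.j c.ss * (l⁻¹ * k)⁻¹ = c.j c.ss * c.j c.tt := by
    rw [show l⁻¹ * k * c.j c.ss * (l⁻¹ * k)⁻¹ = l⁻¹ * (k * c.j c.ss * k⁻¹) * l⁻¹⁻¹ by group, e, ← conj_mul,
      mem_C1_iff_conj.1 (inv_mem hl).1, mem_C1_iff_conj.1 (inv_mem hl).2]
  generalize l⁻¹ * k = n at kz kK kt ks
  obtain ⟨P, hP, hN⟩ := sylZ h ((QW_le h).trans LY)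
  refine hP.idx_of_ge (L := K) (fun m hm => ?_) 2 Nat.prime_two (h2 ▸ dvd_rfl) rfl
  have m1 := hP.le hm
  rcases four h (mem_C1.1 m1) (mem_C1.1 (hN (norm_self _ hm))) with e | e | e | e
  · exact same 1 (one_mem _) m m1 (by simpa using e)
  · refine same _ (mul_mem kK rK) m m1 ?_
    rw [e, show n * c.j r * c.j c.ss * (n * c.j r)⁻¹ = n * (c.j r * c.j c.ss * (c.j r)⁻¹) * n⁻¹ by group, rs,
      ← conj_mul, ← conj_mul, ks, kt, kz, mul_assoc (c.j c.ss), t2, mul_one]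
  · exact same _ kK m m1 (e.trans ks.symm)
  · exact same _ rK m m1 (by rw [e, rs, mul_assoc])

end H3.LF

namespace H9.L

variable {G Γ U H : Type*} [Group G] [Group Γ] [Group U] [Group H]

theorem Fu.exists_KK [Finite G] {c : Am G Γ} {g : G} {u : Γ} (h : Fu c g u) (hp : commutator c.L = ⊤) :
    ∃ K, KK K (c.j c.tt) (c.j c.ss) (c.j c.z) := H3.LF.kk h hp

end H9.L
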