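import Mathlib
import Cfsg.Prelude.Def_Local
import Cfsg.Prelude.Def_Classical
import Cfsg.Prelude.Def_Spor_Fi24
import Cfsg.Agent.H9.LB1
import Cfsg.Agent.H9.FDefs
import Cfsg.Agent.H9.FA2

/-! The subgroup `2 · Fi₂₂` of the centraliser of `t`. -/

set_option autoImplicit false
set_option linter.unusedVariables false

namespace H3.LF

open H0 hiding CC
open H29 Subgroup H9.FB

variable {G K L X : Type*} [Group G] [Group K] [Group L] [Group X]

theorem mem_zp {t g : G} (h : t * t = 1) : g ∈ zpowers t ↔ g = 1 ∨ g = t := by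
  refine ⟨?_, by rintro (rfl | rfl); exacts [one_mem _, mem_zpowers _]⟩
  rintro ⟨n, rfl⟩
  rcases Int.even_or_odd' n with ⟨m, rfl | rfl⟩
  · left; simp only [zpow_mul, zpow_two, h, one_zpow]
  · right; simp only [zpow_add, zpow_mul, zpow_two, h, one_zpow, one_mul, zpow_one]

theorem perf_of_surj (f : L →* X) (hf : Function.Surjective f) (h : commutator L = ⊤) : commutator X = ⊤ := by
  have := congrArg (Subgroup.map f) h
  rwa [map_commutator_eq, ← MonoidHom.range_eq_map, MonoidHom.range_eq_top.2 hf, ← commutator_def] at this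

/-- the double cover, keeping track of the class of `s` -/
theorem ce22 [Finite K] {t s r : K} (j : L →* K) (hj : Function.Injective j) {t' s' : L} (jt : j t' = t)
    (js : j s' = s) (ht : t * t = 1) (hs : s * s = 1) (cen : ∀ k, Commute t k) (t1 : t ≠ 1) (s1 : s ≠ 1) (st : s ≠ t)
    (rng : ∀ k, Commute k s → k ∈ j.range) (nst : ∀ k, cj k s ≠ t * s) (sc : ∀ l, Commute s' l)
    (r1 : cj r s ≠ s) (r2 : Commute s (cj r s)) (θ : L →* Cfsg.PSU 6 H0.F4 2) (h1 : Function.Surjective θ)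
    (h2 : ∀ k, θ k = 1 ↔ k = 1 ∨ k = t' ∨ k = s' ∨ k = s' * t') (h3 : commutator L = ⊤) :
    ∃ θ : K →* Fi22.P.G, CE θ t ∧ θ s ∈ Cl (Fi22.P.e 0) := by
  have : (zpowers t).Normal := ⟨fun n hn g => by
    rcases (mem_zp ht).1 hn with rfl | rfl
    · simp
    · rw [← (cen g).eq, mul_inv_cancel_right]; exact mem_zpowers _⟩
  let π := QuotientGroup.mk' (zpowers t)
  have πs : Function.Surjective π := QuotientGroup.mk'_surjective _
  have πk : ∀ k, π k = 1 ↔ k = 1 ∨ k = t := fun k => (QuotientGroup.eq_one_iff k).trans (mem_zp ht)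
  have πe : ∀ a b, π a = π b → a = b ∨ a = t * b := fun a b e => by
    rcases (πk (a * b⁻¹)).1 (by rw [map_mul, map_inv, e, mul_inv_cancel]) with e | e
    exacts [Or.inl (mul_inv_eq_one.1 e), Or.inr (mul_inv_eq_iff_eq_mul.1 e)]
  let f : L →* CC (π s) := (π.comp j).codRestrict _ fun l => A2.mem_CC.2 (js ▸ ((sc l).symm.map j).map π)
  have fs : Function.Surjective f := fun ⟨x, hx⟩ => by
    obtain ⟨k, rfl⟩ := πs x
    obtain ⟨l, rfl⟩ := rng k (cj_eq_self.1 ((πe _ _ (by rw [map_cj, cj_of_commute (A2.mem_CC.1 hx)])).resolve_right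
      (nst k)))
    exact ⟨l, rfl⟩
  have fk : ∀ a b, f a = f b ↔ a = b ∨ a = t' * b := fun a b => ⟨fun e => by
    rcases πe _ _ (congrArg Subtype.val e) with e | e
    exacts [Or.inl (hj e), Or.inr (hj (by rw [e, map_mul, jt]))], by
      rintro (rfl | rfl)
      · rfl
      · exact Subtype.ext (show π (j _) = π (j _) by rw [map_mul, map_mul, jt, (πk t).2 (Or.inr rfl), one_mul])⟩
  let θ' := f.liftOfSurjective fs ⟨θ, fun l hl => by
    rcases (fk l 1).1 (hl.trans (map_one f).symm) with e | e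
    exacts [(h2 l).2 (Or.inl e), (h2 l).2 (Or.inr (Or.inl (e.trans (mul_one _))))]⟩
  have θf : ∀ l, θ' (f l) = θ l := fun l => MonoidHom.liftOfRightInverse_comp_apply _ _ _ _ l
  have fδ : f s' = pt (π s) := Subtype.ext (congrArg π js)
  have c : Cen (CC (π s)).subtype (pt (π s)) := ⟨Subtype.val_injective, fun g hg => ⟨⟨g, A2.mem_CC.2 hg⟩, rfl⟩⟩
  have h : CE θ' (pt (π s)) := ⟨fun x => let ⟨l, e⟩ := h1 x; ⟨f l, (θf l).trans e⟩, fun k => by
      obtain ⟨l, rfl⟩ := fs k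
      rw [θf, h2, ← fδ, ← map_one f, fk, fk, mul_one, or_assoc, (sc t').eq],
    fun k => commute_coe.1 (A2.mem_CC.1 k.2).symm, Subtype.ext (show π s * π s = 1 by rw [← map_mul, hs, map_one]),
    fun e => ((πk s).1 (congrArg Subtype.val e)).elim s1 st, perf_of_surj f fs h3⟩
  obtain ⟨Δ, C, k, U, e⟩ := loc22 c F4.card h ⟨π (cj r s), ⟨π r, (map_cj π r s).symm⟩,
    fun e => (πe _ _ e).elim r1 (nst r), r2.map π⟩
  obtain ⟨ψ, g1, g2, g, g3⟩ := (c.f22 k U e).hom (c.ws k) (Cl.self _) (c.hZ k e)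
  have := Fi22.simple
  have := Fi22.bd.1
  obtain ⟨i⟩ := c.final k e ψ g1 g3 (by rw [Cl.cj]; exact fi22_facts.2.1) g2
    (par_of (perf_of_simple fi22_cen) (Or.inl (by rw [Cl.cj, fi22_facts.2.2])))
  let φ := MulEquiv.ofBijective ψ (g1.bijective_of_nat_card_le (Nat.card_congr i.toEquiv).le)
  have sj : Function.Surjective (φ.symm.toMonoidHom.comp π) := φ.symm.surjective.comp πs
  refine ⟨φ.symm.toMonoidHom.comp π, ⟨sj, fun k => φ.symm.map_eq_one_iff.trans (πk k), cen, ht, t1, ?_⟩,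
    g, φ.injective (g3.trans (φ.apply_symm_apply _).symm)⟩
  have tm : t ∈ commutator K := by
    rw [← jt]
    exact (map_commutator_eq L j ▸ commutator_mono le_top le_top : (commutator L).map j ≤ commutator K)
      ⟨t', h3 ▸ mem_top _, rfl⟩
  refine eq_top_iff.2 fun k _ => ?_
  have := perf_of_simple fi22_cen ▸ mem_top (φ.symm.toMonoidHom.comp π k)
  rw [_root_.commutator_def, ← MonoidHom.range_eq_top.2 sj, ← map_commutator_eq] at this
  obtain ⟨m, hm, e⟩ := this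
  rcases πe _ _ (φ.symm.injective e.symm) with rfl | rfl
  exacts [hm, mul_mem tm hm]

theorem lq_rs (ι : CC t23 →* G) (hι : Function.Injective ι) : LQ (Rs ι) ∧ closure (Rs ι) = ι.range := by
  obtain ⟨C, k⟩ := A2.base.2.1
  exact ⟨(k.lq.fiso ι hι.injOn).lq k.lq, by
    rw [MonoidHom.range_eq_map, ← k.gen, MonoidHom.map_closure]; rfl⟩

theorem fb_of [Finite G] {t s z r r0 σ : G} (ι : CC t23 →* G) (hι : Function.Injective ι) (it : ι (pt t23) = t)
    (ht : t * t = 1) (hs : s ∈ Rs ι) (le : ι.range ≤ CC t) (idx : ι.range.relIndex (CC t) = 2)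
    (Lle : CC t ⊓ CC s ≤ ι.range) (ts : Commute t s) (sz : Commute s z) (n2 : ¬ IsConj z t)
    (rt : Commute r t) (rs : cj r s = t * s) (rn : r ∉ ι.range) (r0m : r0 ∈ ι.range) (r0s : cj r0 s = s * t * z)
    (σ1 : cj σ t = s) (σ2 : cj σ s = t) (σ3 : cj σ z = z) : FB t ι := by
  obtain ⟨L, cl⟩ := lq_rs ι hι
  have s2 := L.sq hs
  have he : s * t * z ∈ Dx (Rs ι) s := ⟨r0s ▸ L.conj hs (cl ▸ r0m), fun e => n2 (by
    rw [mul_assoc, mul_eq_left, mul_eq_one_iff_inv_eq, inv_eq_of_sq ht] at e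
    rw [e]), ((Commute.refl s).mul_right ts.symm).mul_right sz⟩
  have two : ∀ a b, Commute a t → Commute b t → (a * b ∈ ι.range ↔ (a ∈ ι.range ↔ b ∈ ι.range)) := fun a b ha hb =>
    mul_mem_iff_of_index_two (H := ι.range.subgroupOf (CC t)) idx (a := ⟨a, A2.mem_CC.2 ha⟩) (b := ⟨b, A2.mem_CC.2 hb⟩)
  have inv : ∀ σ, cj σ t = s → cj σ s = t → cj σ z = z → cj σ '' Dx (Rs ι) s ⊆ Dx (Rs ι) s := by
    rintro σ σ1 σ2 σ3 _ ⟨x, hx, rfl⟩
    obtain ⟨k, hk, k1, rfl⟩ := L.comm_pair_trans hs hs he hx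
    have k2 := cj_of_commute (A2.mem_CC.1 (le (cl ▸ hk)))
    have e1 : cj (cj σ k) t = t := by rw [← σ2, ← cj_cj_conj, k1]
    have e2 : cj (cj σ k) s = s := by rw [← σ1, ← cj_cj_conj, k2]
    have := (L.mem_Dx_cj (cl ▸ Lle ⟨A2.mem_CC.2 (cj_eq_self.1 e1), A2.mem_CC.2 (cj_eq_self.1 e2)⟩)).2 he
    rw [e2] at this
    rwa [cj_cj_conj, cj_mul, cj_mul σ, σ1, σ2, σ3, ts.eq]
  refine ⟨hι, it, ⟨r, rt, fun g hg => ?_, fun d hd => ?_⟩, ⟨s, hs, σ, σ1, σ2, ?_⟩, fun d hd e he' ne c n => ?_⟩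
  · by_contra k
    push Not at k
    exact k.2 ((two g r hg rt).2 (iff_of_false k.1 rn))
  · obtain ⟨k, hk, rfl⟩ := L.trans hs hd
    have kt := A2.mem_CC.1 (le (cl ▸ hk))
    have m : cj r k ∈ ι.range := (two _ _ (rt.mul_left kt) rt.inv_left).2 (iff_of_false
      (fun e => rn (((two r k rt kt).1 e).2 (cl ▸ hk))) fun e => rn (inv_mem_iff.1 e))
    rw [cj_cj_conj, rs, cj_mul, cj_of_commute (A2.mem_CC.1 (le m)), ← mul_assoc, ht, one_mul]
    exact L.conj hs (cl ▸ m)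
  · exact Set.eq_of_subset_of_ncard_le (inv σ σ1 σ2 σ3) (Set.ncard_image_of_injective _ (cj_injective σ)).ge
  · obtain ⟨k, hk, rfl, rfl⟩ := L.comm_pair_trans hs hd he ⟨he', ne.symm, c⟩
    have kt := cj_of_commute (A2.mem_CC.1 (le (cl ▸ hk)))
    refine n2 (n.trans (isConj_iff.2 ⟨k⁻¹, ?_⟩)).symm
    nth_rw 1 [← kt]
    rw [← cj_mul, ← cj_mul, ← cj, cj_inv_cj, ← mul_assoc, ← mul_assoc, mul_assoc t, s2, mul_one, ht, one_mul]

end H3.LF

namespace H9.L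

open H29 H9.GF2 Matrix Subgroup
open H9.R hiding cls CL qb Bb ew Std TL pcs wsT cls_va0 cls_vecMul cls_eq_zero cls_zero cls_lt ncard_cls cls_ind R0 c_pcs c_TL c_key nodup_TL ncard_mat mat_inj_TL

variable {G Γ U H : Type*} [Group G] [Group Γ] [Group U] [Group H]

theorem KK.fb [Finite G] {K : Subgroup G} {t s z : G} (h : KK K t s z) (ht : t * t = 1) (hs : s * s = 1)
    (hz : z * z = 1) (ts : t * s = s * t) (tz : t * z = z * t) (sz : s * z = z * s)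
    (n1 : t ≠ 1 ∧ s ≠ 1 ∧ s ≠ t ∧ z ≠ 1) (n2 : ¬ IsConj z t)
    (θ : ↥(centralizer ({t} : Set G) ⊓ centralizer {s}) →* Cfsg.PSU 6 H0.F4 2) (h1 : Function.Surjective θ)
    (h2 : ∀ k, θ k = 1 ↔ (k : G) = 1 ∨ (k : G) = t ∨ (k : G) = s ∨ (k : G) = s * t)
    (h3 : commutator ↥(centralizer ({t} : Set G) ⊓ centralizer {s}) = ⊤)
    (s1 : ∃ σ, σ * z = z * σ ∧ σ * t * σ⁻¹ = s ∧ σ * s * σ⁻¹ = t)
    (s2 : ∃ σ, σ * z = z * σ ∧ σ * t * σ⁻¹ = s * t ∧ σ * (s * t) * σ⁻¹ = t)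
    (s3 : ∃ r, r * t = t * r ∧ r * s * r⁻¹ = s * t) :
    ∃ ι : FB.CC H0.t23 →* G, FB.FB t ι ∧ ι.range = K := by
  have m := @mem_centralizer_singleton_iff G _
  have tL : t ∈ centralizer ({t} : Set G) ⊓ centralizer {s} := ⟨m.2 rfl, m.2 ts⟩
  have sL : s ∈ centralizer ({t} : Set G) ⊓ centralizer {s} := ⟨m.2 ts.symm, m.2 rfl⟩
  obtain ⟨r0, r0m, -, r0s⟩ := h.r0
  obtain ⟨r, rt, rs⟩ := s3
  have tz1 : s * t * z ≠ s := fun e => n2 (by
    rw [mul_assoc, mul_eq_left, mul_eq_one_iff_inv_eq, inv_eq_of_mul_eq_one_right ht] at e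
    rw [e])
  obtain ⟨φ, c, hφ⟩ := H3.LF.ce22 (K := K) (t := ⟨t, h.L_le tL⟩) (s := ⟨s, h.L_le sL⟩) (r := ⟨r0, r0m⟩) (inclusion h.L_le)
    (inclusion_injective _) (t' := ⟨t, tL⟩) (s' := ⟨s, sL⟩) rfl rfl (Subtype.ext ht) (Subtype.ext hs)
    (fun k => Subtype.ext (m.1 (h.le k.2)).symm) (fun e => n1.1 (congrArg Subtype.val e))
    (fun e => n1.2.1 (congrArg Subtype.val e)) (fun e => n1.2.2.1 (congrArg Subtype.val e))
    (fun k e => ⟨⟨k, h.le k.2, m.2 (congrArg Subtype.val e)⟩, rfl⟩)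
    (fun k e => h.nst k k.2 ((congrArg Subtype.val e).trans ts)) (fun l => Subtype.ext (m.1 l.2.2).symm)
    (fun e => tz1 (r0s.symm.trans (congrArg Subtype.val e)))
    (Subtype.ext (show s * (r0 * s * r0⁻¹) = r0 * s * r0⁻¹ * s from
      r0s ▸ ((Commute.refl s).mul_right ts.symm).mul_right sz)) θ h1
    (fun k => (h2 k).trans (by simp only [Subtype.ext_iff]; rfl)) h3
  obtain ⟨ι0, i1, i2⟩ := FB.exists_iota c
  have rg : (K.subtype.comp ι0.toMonoidHom).range = K := by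
    rw [MonoidHom.range_comp, MonoidHom.range_eq_top.2 ι0.surjective, ← MonoidHom.range_eq_map, range_subtype]
  have inj : Function.Injective (K.subtype.comp ι0.toMonoidHom) := Subtype.val_injective.comp ι0.injective
  have it : K.subtype.comp ι0.toMonoidHom (FB.pt H0.t23) = t := congrArg Subtype.val i1
  have rn : r ∉ K := fun e => h.nst r e rs
  refine ⟨_, ?_, rg⟩
  obtain ⟨y, hy⟩ := ι0.surjective ⟨s, h.L_le sL⟩
  have ys : K.subtype.comp ι0.toMonoidHom y = s := congrArg Subtype.val hy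
  rcases (i2 y).1 (hy ▸ hφ) with e | e
  · obtain ⟨σ, a1, a2, a3⟩ := s1
    exact H3.LF.fb_of (r := r) (r0 := r0) (σ := σ) _ inj it ht ⟨y, e, ys⟩ (rg.symm ▸ h.le) (rg.symm ▸ h.idx)
      (rg.symm ▸ h.L_le) ts sz n2 rt (rs.trans ts.symm) (rg.symm ▸ rn) (rg.symm ▸ r0m) r0s a2 a3
      (H0.cj_eq_self.2 a1)
  · obtain ⟨σ, a1, a2, a3⟩ := s2
    have r0t : r0 * t * r0⁻¹ = t := H0.cj_eq_self.2 (m.1 (h.le r0m))
    have c1 : Commute t (s * t) := Commute.mul_right ts (Commute.refl t)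
    have Ll : centralizer {t} ⊓ centralizer {s * t} ≤ K := fun g hg => h.L_le ⟨hg.1, m.2 (by
      have := m.1 hg.2
      rwa [mul_assoc s, ← m.1 hg.1, ← mul_assoc, ← mul_assoc, mul_left_inj] at this)⟩
    refine H3.LF.fb_of (s := s * t) (r := r) (r0 := r0) (σ := σ) _ inj it ht
      ⟨FB.pt H0.t23 * y, e, by rw [map_mul, it, ys, ts]⟩ (rg.symm ▸ h.le) (rg.symm ▸ h.idx)
      (rg.symm ▸ Ll) c1 (Commute.mul_left sz tz) n2 rt ?_ (rg.symm ▸ rn)
      (rg.symm ▸ r0m) ?_ a2 a3 (H0.cj_eq_self.2 a1)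
    · rw [H0.cj_mul, H0.cj_eq_self.2 rt, H0.cj, rs, ← c1.eq]
    · rw [H0.cj_mul, H0.cj, H0.cj, r0s, r0t, mul_assoc, ← tz, ← mul_assoc]

end H9.L
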