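import Mathlib
import Cfsg.Prelude.Def_Local
import Cfsg.Prelude.Def_Classical
import Cfsg.Prelude.Def_Spor_Fi24
import Cfsg.Agent.H9.LD
import Cfsg.Agent.H11.JE1
import Cfsg.Agent.H24.Base3

/-! The end of the recognition. -/

set_option autoImplicit false
set_option linter.unusedSectionVars false
set_option linter.unusedVariables false
set_option maxRecDepth 100000

open H29 H9 H9.GF2 Matrix Subgroup H9.L
open H9.R hiding cls CL qb Bb ew Std TL pcs wsT cls_va0 cls_vecMul cls_eq_zero cls_zero cls_lt ncard_cls cls_ind R0 c_pcs c_TL c_key nodup_TL ncard_mat mat_inj_TL cj mem_cj card_cj conj_mem_cj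

namespace H3.LG

open H24

variable {G Γ : Type*} [Group G] [Group Γ]

theorem cm_comm {a q b : Γ} (a2 : a * a = 1) (e : a * q * a⁻¹ * q⁻¹ = b) (b2 : b * b = 1) : a * b = b * a := by
  have i := inv_eq_of_mul_eq_one_right a2
  rw [← mul_inv_eq_iff_eq_mul]
  nth_rw 2 [← inv_eq_of_mul_eq_one_right b2]
  rw [← e, ← mul_assoc, ← mul_assoc, ← mul_assoc, a2, one_mul]
  nth_rw 1 [i]
  group

theorem π_cm (c : StM Γ) {a q : Γ} (a2 : a * a = 1) (hq : q ∈ c.Q) :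
    a * q * a⁻¹ * q⁻¹ ∈ c.Q ∧ c.π (a * q * a⁻¹ * q⁻¹) = c.π q ᵥ* c.ρ a + c.π q := by
  have := c.nQ.conj_mem q hq a
  exact ⟨mul_mem this (inv_mem hq), by
    rw [c.π_mul _ this _ (inv_mem hq), c.π_conj' a hq, c.π_inv hq, inv_eq_of_mul_eq_one_right a2]⟩

theorem chkT : (H29.allL TL fun A => imp (eqM (mu A A) one) (or2 (eqM A one)
    (anyL [768, 11, 298, 18] fun x => Nat.beq (cls (Nat.xor (va x A) x)) 1))) = true := by decide +kernel

variable [Finite G] {c : Am G Γ} {K G0 : Subgroup G} (hK : KK K (c.j c.tt) (c.j c.ss) (c.j c.z))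
include hK

theorem W_K {a : Γ} (h1 : a * c.tt = c.tt * a) (h2 : a * c.ss = c.ss * a) : c.j a ∈ K :=
  hK.L_le ⟨mem_C1.2 (by rw [← map_mul, h1, map_mul]), mem_C1.2 (by rw [← map_mul, h2, map_mul])⟩

theorem stz_K {a : Γ} (h1 : a * c.tt = c.tt * a) (h2 : a * c.ss * a⁻¹ = c.ss * c.tt * c.z) : c.j a ∈ K := by
  obtain ⟨r, r1, r2, r3⟩ := hK.r0
  refine (mul_mem_cancel_left (inv_mem r1)).1 (hK.L_le (mem_inf.2 ⟨mul_mem (inv_mem (hK.le r1))
    (mem_C1.2 (by rw [← map_mul, h1, map_mul])), mem_C1_iff_conj.2 ?_⟩))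
  rw [show r⁻¹ * c.j a * c.j c.ss * (r⁻¹ * c.j a)⁻¹ = r⁻¹ * (c.j a * c.j c.ss * (c.j a)⁻¹) * r by group,
    ← map_inv, ← map_mul, ← map_mul, h2, map_mul, map_mul, ← r3]
  group

theorem toK {a q : Γ} (a2 : a * a = 1) (hq : q ∈ c.Q) (e : a * q * a⁻¹ * q⁻¹ = c.tt) :
    ∃ n : Γ, c.j (n * a * n⁻¹) ∈ K := by
  have h1 := cm_comm a2 e c.tt_sq
  have h2 := (π_cm c.toStM a2 hq).2
  rw [e, c.π_tt] at h2
  rcases c.nD a with k | k
  · obtain ⟨h3, h4⟩ := π_cm c.toStM a2 (c.conj_mem c.d hq)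
    rw [c.π_conj _ _ hq, c.ρ_d, vecMul_vecMul, k, ← vecMul_vecMul, ← add_vecMul, ← h2, ← vec_va,
      show va 5 TH = 10 by decide +kernel] at h4
    have h5 := cm_comm a2 rfl (c.sq_of_qb h3 h4 (by decide +kernel))
    refine ⟨1, W_K hK (by simpa using h1) ?_⟩
    rcases c.eq_of_π h3 c.ss_mem (h4.trans c.π_ss.symm) with h6 | h6 <;> rw [h6] at h5
    · simpa using h5
    · rw [mul_assoc, ← c.zc, ← mul_assoc, ← mul_assoc, mul_left_inj] at h5
      simpa using h5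
  · have h3 := c.π_conj' a c.ss_mem
    have h4 := c.π_conj' a c.tt_mem
    rw [h1, mul_inv_cancel_right, c.π_tt] at h4
    rw [inv_eq_of_mul_eq_one_right a2] at h4
    rw [c.π_ss, show vec 10 = vec 5 ᵥ* mat TH by rw [← vec_va]; congr 1, vecMul_vecMul] at h3
    nth_rw 2 [inv_eq_of_mul_eq_one_right a2] at h3
    rw [k, ← vecMul_vecMul, ← h4, ← mat_mu, ← vec_va, show va 5 (mu TH TH) = 15 by decide +kernel] at h3
    rcases c.eq_of_π (c.nQ.conj_mem _ c.ss_mem a) (mul_mem c.ss_mem c.tt_mem) (h3.trans c.π_st.symm) with h5 | h5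
    · have y1 := c.s_mem (vec 2)
      have y2 := c.π_s (vec 2)
      generalize c.s (vec 2) = y at y1 y2
      have k1 : y * c.tt = c.tt * y * c.z := by
        rw [c.comm_Bb y1 c.tt_mem y2 c.π_tt (by decide) (by decide), show Bb 2 5 = true by decide +kernel]
        exact congrArg _ c.zp_one
      obtain ⟨i, k2⟩ : ∃ i, y * c.ss = c.ss * y * c.zp i := ⟨_, c.comm_B y1 c.ss_mem⟩
      have k3 : y * c.tt * y⁻¹ = c.tt * c.z := by rw [k1, mul_assoc _ c.z, ← c.zc, ← mul_assoc, mul_inv_cancel_right]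
      have k4 : y * c.ss * y⁻¹ = c.ss * c.zp i := by rw [k2, Co.zp_mul, mul_inv_cancel_right]
      have k5 : y⁻¹ * c.ss * y = c.ss * c.zp i := by
        rw [mul_assoc, inv_mul_eq_iff_eq_mul, ← mul_assoc, k2, mul_assoc, c.zp_sq, mul_one]
      have cz : ∀ g i, g * c.zp i * g⁻¹ = c.zp i := fun g i => by rw [c.zp_comm, mul_inv_cancel_right]
      refine ⟨y, stz_K hK ?_ ?_⟩
      · have : c.tt = y * c.tt * y⁻¹ * c.z := by rw [k3, mul_assoc, c.z2, mul_one]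
        rw [this]
        exact Commute.mul_right (by
          show _ = _
          rw [conj_mul, h1, conj_mul]) (c.zc _)
      · rw [show y * a * y⁻¹ * c.ss * (y * a * y⁻¹)⁻¹ = y * (a * (y⁻¹ * c.ss * y) * a⁻¹) * y⁻¹ by group, k5,
          ← @conj_mul _ _ c.ss a, h5, cz, ← conj_mul, ← conj_mul, k3, k4, cz, Co.zp_mul, mul_assoc _ (c.zp i), c.zp_sq,
          mul_one, mul_assoc]
    · exact ⟨1, stz_K hK (by simpa using h1) (by simpa using h5)⟩

theorem invK {g : G} {u : Γ} (h : Fu c g u) {a : Γ} (ha : a ∈ c.T) (a2 : a * a = 1) :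
    ∃ n : Γ, c.j (n * a * n⁻¹) ∈ K := by
  have : Finite Γ := Finite.of_injective _ c.inj
  obtain ⟨A, hA, e⟩ := c.mem_T.1 ha
  have nz : ∀ x : ℕ, 0 < x ∧ x < 4096 → R.vec x ≠ 0 := fun x hx e =>
    hx.1.ne' (vec_inj hx.2 (by decide) (e.trans vec_zero.symm))
  rcases or2_true.1 (imp_true.1 (allL_true.1 chkT A hA) (eqM_iff.2 (by
    rw [mat_mu, ← e, ← map_mul, a2, map_one, mat_one]))) with k | k
  · have aQ := c.ker a (by rw [e, eqM_iff.1 k, mat_one])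
    have h3 : cls (cd (c.π a)) ≠ 3 := fun e => by
      rw [c.sq_q aQ, c.q_eq, qb, e] at a2; exact c.z1 (c.zp_one.symm.trans a2)
    have := cls_lt (cd (c.π a))
    rcases (by omega : cls (cd (c.π a)) = 0 ∨ cls (cd (c.π a)) = 1 ∨ cls (cd (c.π a)) = 2) with k | k | k
    · rcases c.π_ker a aQ (cls_eq_zero k) with rfl | rfl
      · exact ⟨1, by simp⟩
      · exact ⟨1, by simpa using W_K hK (c.zc _).symm (c.zc _).symm⟩
    · obtain ⟨m, -, e⟩ := c.conj_Q aQ c.tt_mem (by rw [k, c.π_tt, cd_vec (by decide)]; decide +kernel)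
        (c.π_tt ▸ nz 5 (by decide))
      exact ⟨m⁻¹, by rw [inv_inv, e]; exact W_K hK rfl c.tt_ss⟩
    · obtain ⟨m, -, e⟩ := c.conj_Q aQ h.uQ (by rw [k, h.πu, cd_vec (by decide)]; decide +kernel)
        (h.πu ▸ nz 85 (by decide))
      exact ⟨m⁻¹, by rw [inv_inv, e]; exact W_K hK h.t_u.symm h.s_u.symm⟩
  · obtain ⟨x, hx, k⟩ := (anyL_iff _ _).1 k
    have x1 : x < 4096 := by clear k; revert x; decide
    obtain ⟨h1, h2⟩ := π_cm c.toStM a2 (c.s_mem (vec x))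
    obtain ⟨m, -, e⟩ := c.conj_Q h1 c.tt_mem (by
      rw [h2, Co.π_s, cd_add, e, cd_vecMul, cd_vec x1, c.π_tt, cd_vec (by decide)]
      exact (H29.beq_true.1 k).trans (by decide +kernel)) (c.π_tt ▸ nz 5 (by decide))
    obtain ⟨n, hn⟩ := toK hK (a := m⁻¹ * a * m) (by
      rw [show m⁻¹ * a * m * (m⁻¹ * a * m) = m⁻¹ * (a * a) * m by group, a2]; simp)
      (c.conj_mem m (c.s_mem (vec x))) (by rw [← e]; group)
    exact ⟨n * m⁻¹, by rwa [show n * m⁻¹ * a * (n * m⁻¹)⁻¹ = n * (m⁻¹ * a * m) * n⁻¹ by group]⟩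

theorem all_mem (h : ∀ m : G, m * c.j c.tt * m⁻¹ ∈ K → m ∈ G0) (a : Γ) : c.j a ∈ G0 := by
  have k : ∀ {m : Γ} {X : ℕ}, c.ρ m = mat X → Bb (va 5 X) 5 = false ∧ Bb (va 5 X) 10 = false → c.j m ∈ G0 :=
    fun {m X} e k => by
      have h1 := c.conj_mem m c.tt_mem
      have h2 : c.π (m⁻¹ * c.tt * m) = vec (va 5 X) := by rw [c.π_conj _ _ c.tt_mem, c.π_tt, e, vec_va]
      refine inv_mem_iff.1 (h _ ?_)
      rw [← map_inv, ← map_inv, ← map_mul, ← map_mul, inv_inv]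
      refine W_K hK ?_ ?_
      · rw [c.comm_Bb h1 c.tt_mem h2 c.π_tt (va_lt _ _) (by decide), k.1]
        exact (congrArg _ c.zp_zero).trans (mul_one _)
      · rw [c.comm_Bb h1 c.ss_mem h2 c.π_ss (va_lt _ _) (by decide), k.2]
        exact (congrArg _ c.zp_zero).trans (mul_one _)
  have k1 : ∀ i < 6, c.e i ∈ G0.comap c.j := fun i hi => by
    obtain ⟨w, h1, h2, h3⟩ : ∃ w ∈ [[], [0, 1], [2, 3, 2]], ((∀ k ∈ w, k < 6) ∧ ∀ k ∈ i :: w, k < 6) ∧
        (Bb (va 5 (ew w)) 5 = false ∧ Bb (va 5 (ew w)) 10 = false) ∧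
        Bb (va 5 (ew (i :: w))) 5 = false ∧ Bb (va 5 (ew (i :: w))) 10 = false := by
      revert i; decide +kernel
    have := k (c.ρ_ev' h2.2) h3.2
    rwa [ev_cons, map_mul, mul_mem_cancel_right (k (c.ρ_ev' h2.1) h3.1)] at this
  have k2 : c.M ≤ G0.comap c.j := c.top ▸ sup_le
    (fun a ha => k ((c.ρ_Q ha).trans mat_one.symm) (by decide +kernel))
    (gen_le.2 fun i hi => k1 i (by revert i; decide))
  rcases c.mem_or a with e | e
  · exact k2 e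
  · exact (mul_mem_cancel_right (inv_mem (k1 5 (by decide)))).1 (k2 e)

end H3.LG

namespace H9.L

open H24 H3.LG

variable {G Γ U H : Type*} [Group G] [Group Γ] [Group U] [Group H]

theorem Fu.top [Finite G] {c : Am G Γ} {g : G} {u : Γ} (h : Fu c g u) {K G0 : Subgroup G}
    (hK : KK K (c.j c.tt) (c.j c.ss) (c.j c.z)) (h1 : centralizer {c.j c.tt} ≤ G0)
    (h2 : ¬ 2 ^ 22 ∣ Nat.card G0) {z0 : G} (h3 : ¬ IsConj (c.j c.tt) z0)
    (h4 : ∀ v ∈ K, v * v = 1 →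
      v = 1 ∨ (∃ k ∈ G0, k * v * k⁻¹ = c.j c.tt) ∨ ∃ k ∈ G0, k * v * k⁻¹ = z0) : G0 = ⊤ := by
  have : Finite Γ := Finite.of_injective _ c.inj
  have t2 : c.j c.tt * c.j c.tt = 1 := by rw [← map_mul, c.tt_sq, map_one]
  have z2 : c.j c.z * c.j c.z = 1 := by rw [← map_mul, c.z2, map_one]
  have z1 : c.j c.z ≠ 1 := by rw [Ne, map_eq_one_iff _ c.inj]; exact c.z1
  have t1 : c.j c.tt ≠ 1 := by
    rw [Ne, map_eq_one_iff _ c.inj]
    intro e
    have := c.π_tt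
    rw [e, c.π_one, ← vec_zero] at this
    exact absurd (vec_inj (by decide) (by decide) this) (by decide)
  have fix : ∀ {x k m : G}, centralizer {x} ≤ G0 → k ∈ G0 → k * (m * x * m⁻¹) * k⁻¹ = x → m ∈ G0 :=
    fun {x k m} h1 hk e => (mul_mem_cancel_left hk).1 (h1 (mem_C1_iff_conj.2 (by
      rw [← e]; nth_rw 1 [e]; group)))
  have jG := all_mem hK (G0 := G0) fun m hm => by
    rcases h4 _ hm (by rw [conj_mul, t2]; simp) with e | ⟨k, hk, e⟩ | ⟨k, -, e⟩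
    · exact (t1 (conj_eq_one_iff.1 e)).elim
    · exact fix h1 hk e
    · exact (h3 ((isConj_iff.2 ⟨m, rfl⟩).trans (isConj_iff.2 ⟨k, e⟩))).elim
  have hz : centralizer {c.j c.z} ≤ G0 := fun x hx => let ⟨a, e⟩ := c.cen x (mem_C1.1 hx); e ▸ jG a
  obtain ⟨k0, k1, k2⟩ := ((h4 _ (W_K hK (c.zc _).symm (c.zc _).symm) z2).resolve_left z1).resolve_left
    fun ⟨k, _, e⟩ => h.tz (isConj_iff.2 ⟨k, e⟩)
  have cT : Nat.card (c.T.map c.j) = 2 ^ 21 := (card_map_of_injective c.inj).trans c.card_T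
  have le : c.T.map c.j ≤ G0 := by rintro _ ⟨a, -, rfl⟩; exact jG a
  have hS := Syl.mk' Nat.prime_two le (isPi_of_card Nat.prime_two cT) fun e => h2 (by
    rw [← card_mul_relIndex le, cT, pow_succ]; exact Nat.mul_dvd_mul_left _ e)
  have inv : ∀ v ∈ G0, v ≠ 1 → v * v = 1 →
      ∃ k ∈ G0, k * v * k⁻¹ = c.j c.tt ∨ k * v * k⁻¹ = c.j c.z := fun v hv v1 v2 => by
    obtain ⟨m, hm, e⟩ := Sylow_Jsub Nat.prime_two hS (piElt_of_pow_eq_one (piNat_self Nat.prime_two)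
      (show v ^ 2 = 1 by rwa [pow_two])).isPi (zpowers_le.2 hv)
    obtain ⟨a, ha, e⟩ := e (conj_mem_cj m (mem_zpowers v))
    obtain ⟨n, hn⟩ := invK hK h ha (c.inj (by rw [map_mul, e, conj_mul, v2]; simp))
    rw [map_mul, map_mul, map_inv, e] at hn
    rcases h4 _ hn (by rw [conj_mul, conj_mul, v2]; simp) with e | ⟨k, hk, e⟩ | ⟨k, hk, e⟩
    · exact (v1 (conj_eq_one_iff.1 (conj_eq_one_iff.1 e))).elim
    · exact ⟨k * c.j n * m, mul_mem (mul_mem hk (jG n)) hm, Or.inl (by rw [← e]; group)⟩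
    · refine ⟨k0⁻¹ * k * c.j n * m, mul_mem (mul_mem (mul_mem (inv_mem k1) hk) (jG n)) hm, Or.inr ?_⟩
      calc _ = k0⁻¹ * (k * (c.j n * (m * v * m⁻¹) * (c.j n)⁻¹) * k⁻¹) * k0 := by group
        _ = _ := by rw [e, ← k2]; group
  refine eq_top_iff.2 fun x _ => ?_
  have y2 : x * c.j c.z * x⁻¹ * (x * c.j c.z * x⁻¹) = 1 := by rw [conj_mul, z2]; simp
  have n : ¬ IsConj (c.j c.tt) (x * c.j c.z * x⁻¹) := fun e => h.tz ((isConj_iff.2 ⟨x, rfl⟩).trans e.symm)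
  obtain ⟨v, v1, v2, v3, v4, -⟩ := H11.J4R.dih t2 y2 n
  obtain ⟨k, hk, e⟩ := inv v (h1 (mem_C1.2 v3)) v1 v2
  have : k * (x * c.j c.z * x⁻¹) * k⁻¹ ∈ centralizer {k * v * k⁻¹} := mem_C1.2 (by rw [conj_mul, ← v4, conj_mul])
  have : x * c.j c.z * x⁻¹ ∈ G0 := (conj_mem_iff (norm_self _ hk)).1 (by
    rcases e with e | e <;> rw [e] at this
    exacts [h1 this, hz this])
  obtain ⟨k, hk, e | e⟩ := inv _ this (fun e => z1 (conj_eq_one_iff.1 e)) y2
  · exact (n (isConj_iff.2 ⟨k, e⟩).symm).elim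
  · exact fix hz hk e

end H9.L
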