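import Mathlib
import Cfsg.Agent.H9.MB3
import Cfsg.Agent.H9.MB4

/-!
# Identification of the Monster from the centraliser of an involution of type `2.B`
-/

set_option autoImplicit false
set_option linter.all false
set_option maxRecDepth 100000

namespace H10.Mon.MG

open Cfsg H9 H29 Cfsg.Spor H10.Mon.MS MB

theorem MB.s17 {d w p : ℕ} (hp : p < 98280) (h : Nat.beq (cdv CP p) w = true)
    (e : Nat.beq (d ^^^ apL [17] d) w = true) : IsS (dec d + co (gw [17]) • dec d) := by
  rw [← dec_apL, ← dec_xor, H29.beq_true.1 e, ← H29.beq_true.1 h, dec_cdv]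
  exact cls_S hp

theorem Fr.isoM {G : Type*} [Group G] [Finite G] {t : G} {ι : MM tau → G} {q : ZMod 2 → C → G}
    (hB : IsB BabyMonster) (F : Fr (tM tau) (zM tau) t ι) (Q : Fq (tM tau) (zM tau) qM ι q)
    (down : ∀ k, ∃ g, Rel q g k) : Nonempty (MM tau ≃* G) := by
  obtain ⟨Φ, h⟩ := exists_hom F Q hB down
  obtain ⟨γ, H⟩ := twoM
  obtain ⟨eO, eD, s0, L⟩ := exists_LF
  have hx : Φ (tM tau) = t := (h _ rfl).trans F.hx
  have := simple_MM tri_tau
  have inj : Function.Injective Φ := (MonoidHom.ker_eq_bot_iff Φ).1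
    (Φ.normal_ker.eq_bot_or_eq_top.resolve_right fun e => H.x_ne ((F.toEm.eq_one rfl).1
      ((h _ rfl).symm.trans (show tM tau ∈ Φ.ker from e ▸ Subgroup.mem_top _))))
  refine ⟨MulEquiv.ofBijective Φ ⟨inj, onto H L (rM_rel (gw [17])) (d := dec 2097152) (e := dec 4227072)
    (cj_of (a := (⟨wd w17, wd_mem _⟩ : MM tau)) (Subtype.ext (by
      exact iW_17.trans (wd_gw (by decide +kernel)))))
    (s17 (p := 98027) (w := 1088) (by norm_num) (by decide +kernel) (by decide +kernel))
    (s17 (p := 98055) (w := 4030) (by norm_num) (by decide +kernel) (by decide +kernel)) ?_ inj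
    (fun g hg => ?_) (by rw [hx, h _ H.one.yx]; exact F.nc)⟩⟩
  · rw [add_add_add_comm, ← smul_add, ← dec_xor]
    exact s17 (p := 97758) (w := 3070) (by norm_num) (by decide +kernel) (by decide +kernel)
  · obtain ⟨a, a1, a2⟩ := F.sur g (hx ▸ hg)
    exact ⟨a, (h a a1).trans a2⟩

end H10.Mon.MG
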