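import Mathlib
import Cfsg.Agent.H9.CG
import Cfsg.Agent.H9.O73X
import Cfsg.Agent.H29.FiC2
import Cfsg.Agent.H29.FiD
import Cfsg.Agent.H29.FiE
import Cfsg.Agent.H29.FiF

set_option autoImplicit false
set_option maxRecDepth 100000
set_option Elab.async false
set_option linter.all false

namespace H9.O73

open H29 H9.MX

def R : List (List ℕ) := [[1, 2, 1, 2, 1, 2],
 [1, 3, 1, 3],
 [1, 4, 1, 4],
 [1, 5, 1, 5],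
 [1, 6, 1, 6],
 [1, 7, 1, 7],
 [1, 8, 1, 8],
 [2, 3, 2, 3, 2, 3],
 [2, 4, 2, 4],
 [2, 5, 2, 5],
 [2, 6, 2, 6],
 [2, 7, 2, 7],
 [2, 8, 2, 8],
 [3, 4, 3, 4, 3, 4],
 [3, 5, 3, 5],
 [3, 6, 3, 6],
 [3, 7, 3, 7, 3, 7],
 [3, 8, 3, 8],
 [4, 5, 4, 5, 4, 5],
 [4, 6, 4, 6],
 [4, 7, 4, 7],
 [4, 8, 4, 8],
 [5, 6, 5, 6, 5, 6],
 [5, 7, 5, 7],
 [5, 8, 5, 8],
 [6, 7, 6, 7],
 [6, 8, 6, 8],
 [7, 8, 7, 8, 7, 8],
 [3, 2, 1, 3, 4, 5, 3, 7, 8, 3, 2, 1, 3, 4, 5, 3, 7, 8, 3, 2, 1, 3, 4, 5, 3, 7, 8, 3, 2, 1, 3, 4, 5, 3, 7, 8, 3, 2, 1, 3, 4, 5, 3, 7, 8, 3, 2, 1, 3, 4, 5, 3, 7, 8, 3, 2, 1, 3, 4, 5, 3, 7, 8, 3, 2, 1, 3, 4, 5, 3, 7, 8, 3, 2, 1, 3, 4, 5, 3, 7, 8, 3, 2, 1, 3, 4, 5, 3, 7, 8],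
 [1, 2, 3, 4, 5, 6, 7, 1, 2, 3, 4, 5, 6, 7, 1, 2, 3, 4, 5, 6, 7, 1, 2, 3, 4, 5, 6, 7, 1, 2, 3, 4, 5, 6, 7, 1, 2, 3, 4, 5, 6, 7, 1, 2, 3, 4, 5, 6, 7, 1, 2, 3, 4, 5, 6, 7, 1, 2, 3, 4, 5, 6, 7]]
theorem ubd : UBd (ivOf []) R [1, 2, 3, 4, 5, 6, 7, 8] 4585351680 := fun _ _ _ h1 h2 =>
  (FiB.bd h1 (rels_sub h2 (by decide +kernel))
    (FiC2.bd h1 (rels_sub h2 (by decide +kernel))
    (FiD.bd h1 (rels_sub h2 (by decide +kernel))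
    (FiE.bd h1 (rels_sub h2 (by decide +kernel))
    (FiF.bd h1 (rels_sub h2 (by decide +kernel))
    (bd_nil _))))))
theorem top : gen (pe FiB.nl) [1, 2, 3, 4, 5, 6, 7, 8] = ⊤ := pe_top (by decide +kernel)
theorem hivS : IvOK (pe FiB.nl) (ivOf []) := ivOK_sub _ FiB.hiv
theorem hRS : ∀ r ∈ R, ev (pe FiB.nl) r = 1 := rels_subE _ (rels_sub (rels_append FiB.hR0 (rels_of_chk (k := 12) (ws := [[1, 2, 3, 4, 5, 6, 7, 1, 2, 3, 4, 5, 6, 7, 1, 2, 3, 4, 5, 6, 7, 1, 2, 3, 4, 5, 6, 7, 1, 2, 3, 4, 5, 6, 7, 1, 2, 3, 4, 5, 6, 7, 1, 2, 3, 4, 5, 6, 7, 1, 2, 3, 4, 5, 6, 7, 1, 2, 3, 4, 5, 6, 7]]) FiB.hn (by decide) FiB.hiv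
    (allN_true.1 (by decide +kernel)))) (by decide +kernel))
theorem cardS : Nat.card (PG FiB.nl) = 4585351680 :=
  (card_eq_of_chain O73X.hn ((ubd _ _ hivS hRS).of_top top) (fun c _ => O73X.map (pe_rho _) c) O73X.ch
    (by decide +kernel)).1
theorem simpleS : IsSimpleGroup (PG FiB.nl) :=
  simple_of_cert (q := 13) (m := 352719360) O73X.hn O73X.prim
    (trans_of_reach (by decide) (PG_lt FiB.hn) (fun c _ => O73X.map (pe_rho _) c) O73X.reach)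
    (O73X.map (pe_rho _)) (PG_faithful FiB.hn) cardS O73X.wit (ivOK_extE hivS O73X.hext)
    (rels_extE hRS (by decide +kernel)) ((gen_extE _ _ (by decide)).trans top)
    (l := [(0, 0), (7, 0), (13, 0), (16, 0), (18, 0), (22, 0), (27, 0)]) (by decide +kernel) (by norm_num)
theorem tr {G : Type} [Group G] {e : ℕ → G} (h1 : IvOK e (ivOf [])) (h2 : ∀ r ∈ R, ev e r = 1) :
    Tr (pe FiB.nl) e [1, 2, 3, 4, 5, 6, 7, 8] :=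
  tr_of_bd ubd (by decide) hivS h1 hRS h2 (by rw [top, Subgroup.card_top, cardS])
theorem equiv {G : Type} [Group G] {e : ℕ → G} (h1 : IvOK e (ivOf [])) (h2 : ∀ r ∈ R, ev e r = 1)
    (hne : ∃ w : List ℕ, (∀ c ∈ w, c ∈ [1, 2, 3, 4, 5, 6, 7, 8]) ∧ ev e w ≠ 1) :
    Nonempty (PG FiB.nl ≃* gen e [1, 2, 3, 4, 5, 6, 7, 8]) :=
  haveI := simpleS
  equiv_of_simple (tr h1 h2) hivS h1 (by decide) top hne
theorem equivT {G : Type} [Group G] {e : ℕ → G} (h1 : IvOK e (ivOf [])) (h2 : ∀ r ∈ R, ev e r = 1)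
    (hne : ∃ w : List ℕ, (∀ c ∈ w, c ∈ [1, 2, 3, 4, 5, 6, 7, 8]) ∧ ev e w ≠ 1) (hG : Nat.card G = 4585351680) :
    Nonempty (PG FiB.nl ≃* G) :=
  haveI := simpleS
  equiv_of_simple_card (tr h1 h2) hivS h1 (by decide) top hne (by norm_num) cardS hG

end H9.O73
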