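import Mathlib
import Cfsg.Agent.H9.CG
import Cfsg.Agent.H29.Ext

set_option autoImplicit false
set_option maxRecDepth 100000
set_option Elab.async false
set_option linter.all false

namespace H9.S44B

open H29 H9.MX

noncomputable def n0 : Net := ben 4 [(nat_lit 0xc0c),
 (nat_lit 0x5272),
 (nat_lit 0x1504),
 (nat_lit 0x10)]
noncomputable def t0 : List ℕ := [(nat_lit 0x4140),
 (nat_lit 0x2000),
 (nat_lit 0x4000),
 (nat_lit 0x0),
 (nat_lit 0x0)]
noncomputable def d0 : ℕ := (nat_lit 0x1494)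
noncomputable def n1 : Net := ben 4 [(nat_lit 0x440),
 (nat_lit 0x5552),
 (nat_lit 0x378c),
 (nat_lit 0x38)]
noncomputable def t1 : List ℕ := [(nat_lit 0x2494),
 (nat_lit 0x7100),
 (nat_lit 0x2000),
 (nat_lit 0x0),
 (nat_lit 0x0)]
noncomputable def d1 : ℕ := (nat_lit 0xa08)
noncomputable def n2 : Net := ben 4 [(nat_lit 0x0),
 (nat_lit 0x0),
 (nat_lit 0x0),
 (nat_lit 0x0)]
noncomputable def t2 : List ℕ := [(nat_lit 0x1bc),
 (nat_lit 0x4442),
 (nat_lit 0x1f40),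
 (nat_lit 0x3710),
 (nat_lit 0x40a6)]
noncomputable def d2 : ℕ := (nat_lit 0x0)
noncomputable def n3 : Net := ben 4 [(nat_lit 0x0),
 (nat_lit 0x0),
 (nat_lit 0x0),
 (nat_lit 0x0)]
noncomputable def t3 : List ℕ := [(nat_lit 0xf36),
 (nat_lit 0x4a0e),
 (nat_lit 0x840),
 (nat_lit 0xa4c),
 (nat_lit 0x3580)]
noncomputable def d3 : ℕ := (nat_lit 0x0)
noncomputable def n4 : Net := ben 4 [(nat_lit 0xf01),
 (nat_lit 0xa1a),
 (nat_lit 0x68a),
 (nat_lit 0x8)]
noncomputable def t4 : List ℕ := [(nat_lit 0x204),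
 (nat_lit 0x1000),
 (nat_lit 0x1000),
 (nat_lit 0x0),
 (nat_lit 0x0)]
noncomputable def d4 : ℕ := (nat_lit 0x6162)
def ivl : List ℕ := []
def cols : List ℕ := [0, 1, 2, 3, 4]
def hcols : List ℕ := [0, 1, 2, 3]
def G0 : List (List ℕ) := [[0, 1, 0, 1],
 [0, 4, 0, 4, 0, 4],
 [2, 4, 2, 4, 2, 4, 2, 4],
 [2, 4, 3, 4, 2, 4, 3, 4],
 [0, 1, 4, 1, 2, 1, 4, 1, 0, 3],
 [2, 3, 2, 3],
 [1, 4, 3, 4, 1, 4, 3, 4],
 [1, 4, 1, 4, 1, 4, 1, 4, 1, 4],
 [0, 1, 2, 0, 3, 2, 4, 3, 4, 1, 3],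
 [0, 1, 4, 0, 1, 4, 0, 1, 4, 1, 0, 4, 1, 0, 4],
 [0, 2, 0, 2, 0, 2, 0, 2],
 [0, 2, 0, 3, 0, 2, 0, 3],
 [0, 2, 1, 2, 0, 2, 1, 2],
 [0, 3, 0, 3, 0, 3, 0, 3],
 [0, 3, 1, 3, 0, 3, 1, 3],
 [1, 2, 1, 2, 1, 2, 1, 2],
 [1, 2, 1, 3, 1, 2, 1, 3],
 [1, 3, 1, 3, 1, 3, 1, 3]]
def R0 : List (List ℕ) := G0
def w0 : List ℕ := [2, 3, 0, 2, 1, 3, 1, 2, 4, 3, 4, 1, 3, 0, 1, 3, 1, 4, 1, 0, 2, 4, 3, 4, 1, 3, 0, 1, 3, 1, 0, 3, 1, 4, 3, 4, 2, 1, 3, 0, 4, 1]
def R1 : List (List ℕ) := R0 ++ [w0]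
def w1 : List ℕ := [3, 4, 1, 0, 3, 1, 3, 2, 0, 2, 4]
def R2 : List (List ℕ) := R1 ++ [w1]
theorem hii : ∀ c, ivOf ivl (ivOf ivl c) = c := ivOf_ivOf (by decide +kernel)
noncomputable def pr0 : List (ℕ × ℕ) := [(69, (nat_lit 0x700000400000100000700000200000700002000000100000a00000700000200001900004900000000000800001000000000001800000100000700001100000200002000004900000800002000000700000a00003200000100000000000800002000000800000900000700002500000700000200001a00001100001900002200000800001800000000000700001800000100000700002d000007000075000007000010000007000010000020000018000020000008000018000001000000000008000007000045000007000035))]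
theorem p0 : chkProg 3 (ivOf ivl) R0 pr0 [(0, w0)] = true := by decide +kernel
noncomputable def pr1 : List (ℕ × ℕ) := [(46, (nat_lit 0x700000400000100000700000200000700002000001000000100001200004200003a00004100000800002000000700000000001000000000002a00000100002900000700005d00000700000100001a000011000019000007000000000018000008000018000001000000000007000075000007000005000007000018000007000045000007000018))]
theorem p1 : chkProg 3 (ivOf ivl) R1 pr1 [(0, w1)] = true := by decide +kernel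
theorem der : Derives (ivOf ivl) R0 R2 := ((Derives.refl _ _).prog hii p0).prog hii p1
noncomputable def nl : List Net := [n0, n1, n2, n3, n4]
noncomputable def T : TCData := ⟨15, 15, 4, 5, nth Net.nil nl, ivOf ivl, cols, hcols, R2,
  nth [] [t0, t1, t2, t3, t4], nth 0 [d0, d1, d2, d3, d4]⟩
theorem hn : NetsOK 15 (nth Net.nil nl) := netsOK_of_all (by decide +kernel)
theorem hiv : IvOK (sg (nth Net.nil nl)) (ivOf ivl) :=
  ivOK_of_chk (k := 4) hn (by decide) (n := 5) (by decide) (by decide) (allN_true.1 (by decide +kernel))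
theorem hb : T.Basic := TCData.basic_of_chk hn hiv (by decide +kernel)
theorem hG0 : ∀ r ∈ G0, ev (sg (nth Net.nil nl)) r = 1 :=
  rels_of_chk (k := 4) hn (by decide) hiv (allN_true.1 (by decide +kernel))
noncomputable def s0 : List TCData.Step := [.pts 1 0 0 1 [6],
 .pts 1 0 0 2 [13],
 .pts 9 0 0 5 [14]]
noncomputable def s1 : List TCData.Step := [.pts 0 1 0 1 [2, 7],
 .pts 0 1 0 2 [8],
 .pts 7 0 0 2 [14],
 .pts 7 0 0 7 [13]]
noncomputable def s2 : List TCData.Step := [.all 4 4 0,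
 .pts 8 2 0 14 [10],
 .pts 18 0 0 9 [4]]
noncomputable def s3 : List TCData.Step := [.pts 4 9 0 1 [4],
 .pts 4 9 0 10 [3],
 .pts 4 9 0 15 [11],
 .all 6 2 0,
 .pts 8 7 0 3 [1],
 .pts 14 1 0 11 [2],
 .pts 14 1 0 17 [10],
 .pts 19 0 0 16 [7, 12, 13]]
noncomputable def s4 : List TCData.Step := [.pts 1 1 0 1 [2],
 .pts 1 1 0 6 [12],
 .pts 7 1 0 1 [9]]
theorem hR0 : ∀ r ∈ R0, ev (sg (nth Net.nil nl)) r = 1 := hG0
theorem col0 : T.ColOK 0 := TCData.colOK_of_chk (U := (T.stepsMask 0 s0 (T.mask0 0))) (V := (T.stepsMask 0 s0 (T.mask0 0))) hb (TCData.cov_stepsMask hb (by decide) s0 _ (T.cov_mask0 0)) (TCData.cov_stepsMask hb (by decide) s0 _ (T.cov_mask0 0)) (by decide +kernel)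
theorem col1 : T.ColOK 1 := TCData.colOK_of_chk (U := (T.stepsMask 1 s1 (T.mask0 1))) (V := (T.stepsMask 1 s1 (T.mask0 1))) hb (TCData.cov_stepsMask hb (by decide) s1 _ (T.cov_mask0 1)) (TCData.cov_stepsMask hb (by decide) s1 _ (T.cov_mask0 1)) (by decide +kernel)
theorem col2 : T.ColOK 2 := TCData.colOK_of_chk (U := (T.stepsMask 2 s2 (T.mask0 2))) (V := (T.stepsMask 2 s2 (T.mask0 2))) hb (TCData.cov_stepsMask hb (by decide) s2 _ (T.cov_mask0 2)) (TCData.cov_stepsMask hb (by decide) s2 _ (T.cov_mask0 2)) (by decide +kernel)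
theorem col3 : T.ColOK 3 := TCData.colOK_of_chk (U := (T.stepsMask 3 s3 (T.mask0 3))) (V := (T.stepsMask 3 s3 (T.mask0 3))) hb (TCData.cov_stepsMask hb (by decide) s3 _ (T.cov_mask0 3)) (TCData.cov_stepsMask hb (by decide) s3 _ (T.cov_mask0 3)) (by decide +kernel)
theorem col4 : T.ColOK 4 := TCData.colOK_of_chk (U := (T.stepsMask 4 s4 (T.mask0 4))) (V := (T.stepsMask 4 s4 (T.mask0 4))) hb (TCData.cov_stepsMask hb (by decide) s4 _ (T.cov_mask0 4)) (TCData.cov_stepsMask hb (by decide) s4 _ (T.cov_mask0 4)) (by decide +kernel)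
theorem ok : T.OK := ⟨hb, TCData.treeOK_of_chk hn (by decide +kernel), (List.forall_mem_cons.2 ⟨col0, (List.forall_mem_cons.2 ⟨col1, (List.forall_mem_cons.2 ⟨col2, (List.forall_mem_cons.2 ⟨col3, (List.forall_mem_cons.2 ⟨col4, (fun _ h => absurd h List.not_mem_nil)⟩)⟩)⟩)⟩)⟩), der _ _ hiv hR0⟩
theorem bd {G : Type} [Group G] {e : ℕ → G} (h1 : IvOK e (ivOf ivl)) (h2 : ∀ r ∈ R0, ev e r = 1)
    {m : ℕ} (h : Bd (gen e hcols) m) : Bd (gen e cols) (15 * m) := ok.bd h1 (der G e h1 h2) h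
theorem cm {G : Type} [Group G] {e : ℕ → G} (h1 : IvOK e (ivOf ivl)) (h2 : ∀ r ∈ R0, ev e r = 1)
    (h3 : gen e cols = ⊤) {ρ : G →* Equiv.Perm ℕ} (h4 : ∀ c, ρ (e c) = sg (nth Net.nil nl) c) :
    CosetModel ρ (gen e hcols) 15 := ok.cosetModel h1 (der G e h1 h2) h3 fun c _ => h4 c

end H9.S44B
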