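import Mathlib
import Cfsg.Agent.H9.CG
import Cfsg.Agent.H29.Ext

set_option autoImplicit false
set_option maxRecDepth 100000
set_option Elab.async false
set_option linter.all false

namespace H9.S44C

open H29 H9.MX

noncomputable def n0 : Net := ben 8 [(nat_lit 0x559a54956a5826a5aa54555559a5555a555699a45555565155569a69a69a5555),
 (nat_lit 0x9966ff696b66ff8ff9697a96720330f9666ff69320f0030303f06f06f060000),
 (nat_lit 0xcced00613303869e5677de9b97b309bb2d020016eecc000000cc3348ff330000),
 (nat_lit 0x774ac6c6a68102c5c067393b8b82020947a80d3c1c10001c0c00c0c40800000),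
 (nat_lit 0x5f81779341a74a31a8ea9afb484048c40241d34f0000c00140008000000003f0),
 (nat_lit 0x903122ed5956f22f0041121382f07a470000000020000301000000000000fc00),
 (nat_lit 0x60148038004102037306a81801e652c100000000000000000000000000000000),
 (nat_lit 0xfcf6f3f920c1030f0000000000000000)]
noncomputable def t0 : List ℕ := [(nat_lit 0x26ab15b4f64171088601068300d366c6a080a321043000660000000000000000),
 (nat_lit 0x6016434700820200c01048381137ec6aa80032166fdb0606c60000000000000),
 (nat_lit 0xf8b2798a8715450ca3146834e5ec810944226848000001040000000000000000)]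
noncomputable def d0 : ℕ := (nat_lit 0x104824108a20a4310c29148000000200008040080020880828b6db6db6d000a)
noncomputable def n1 : Net := ben 8 [(nat_lit 0xe0cb9d703111415cf05100fcc733ffdcf15cecd555f57f555056596596595550),
 (nat_lit 0x5a75a50a0aafa5c0f530af00f50fa55ff507a700005a00000009069069060003),
 (nat_lit 0x22ddaa55ce6744334c446600899900232a0066000033000000cc2148ff210000),
 (nat_lit 0x5253caca9b8bd496515195759000c7e7141500c000000404c0c00f0f40800000),
 (nat_lit 0x64e16423ca94cabc60586051e246e3df100014000000000041008100000003f0),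
 (nat_lit 0x940180088401c24a0034288034bdfa6f0000000000000200000000000100fe00),
 (nat_lit 0xc00820000662a000ea46e98db7e6e1000000000000000000200000000000000),
 (nat_lit 0x5210838000e73b040e00010000000000)]
noncomputable def t1 : List ℕ := [(nat_lit 0x18403c40308c2070140240280e900183b36260c000820c0000b6db6db6d000a),
 (nat_lit 0x610005400b00078140241200e940003bf6063fcc0b20ccc6c0000000000000),
 (nat_lit 0x1e433c10723c860980781c0a500000800006040000001000000000000000000)]
noncomputable def d1 : ℕ := (nat_lit 0xfe1a4c3ab054341866304a250000810004010100220080222024924924920004)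
noncomputable def n2 : Net := ben 8 [(nat_lit 0x559555a556aa55155545555565656695a555aa555a5555a676856aaea55469a5),
 (nat_lit 0x339999633f9999ff36030000a335aad56c956aa3ac9970d346a38a349130f060),
 (nat_lit 0x5ade00cc841233cc330000819f189f201322c5ff03d1dc3fbbcd441c044803),
 (nat_lit 0xc0c2010c000201000c00000dbd25e5727012e0a95957078450261930007000c),
 (nat_lit 0x42008100003000300000000492c0b0c04061024086d094d0003094c00000000),
 (nat_lit 0x804304108043042001b0c73c01b0c73c310130803321388500000000cf070000),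
 (nat_lit 0x10001280800000081430928080004300000000000000000042334a039fc0000),
 (nat_lit 0x10001280800000000b0c61400000000)]
noncomputable def t2 : List ℕ := [(nat_lit 0xf9424669019e9f4c6016c31010200021000c072010804002a2a0404c16000000),
 (nat_lit 0xf018206001f81e406016c40000222011110d8501a60698a00000801008000000),
 (nat_lit 0xfc241999c06e10f0600083c0000c18006000000000000000000000000000000)]
noncomputable def d2 : ℕ := (nat_lit 0x211004420100a081082082ad591a4ac8d258540950265c5c5000000000b6d0)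
noncomputable def n3 : Net := ben 8 [(nat_lit 0x559555955874555554555555965e99c6a6a96ab0ac5dd4b3885a94b156106595),
 (nat_lit 0xa0aa500550ac5c000a3333ce5a55299f1a6844e9984ff198c2b54d29a09060),
 (nat_lit 0x6609114402242400886f09421909cc00e88c665af6b945024a88b737005903),
 (nat_lit 0x20281000141010784840087ece5d4443418de1366b907cdb54b007800da001e),
 (nat_lit 0x20402040000080100008403dd2255321cea5ce22a14380f4c3475e000000000),
 (nat_lit 0x200038002000184dd5081a2dd5081a2105068756ca0295c00000000002b0000),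
 (nat_lit 0x400000200000040042000224010005800000000000000000e0ae7b7dfffe0000),
 (nat_lit 0x40000020000004009d50818200000000)]
noncomputable def t3 : List ℕ := [(nat_lit 0xfc30cc03f213000033301860a548080a40435854aa52aaf414101a68b200b6d0),
 (nat_lit 0xfc000c3038c03200303218610008006040030500000000a00000008040000000),
 (nat_lit 0x33fd20fc21300d8c3c84000000183000c180000000000000000000000000000)]
noncomputable def d3 : ℕ := (nat_lit 0xc021800508c1040805041052a664953324a2ab54ad51010100000000004920)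
def ivl : List ℕ := []
def cols : List ℕ := [0, 1, 2, 3]
def hcols : List ℕ := []
def G0 : List (List ℕ) := [[0, 1, 0, 1],
 [2, 3, 2, 3],
 [0, 2, 0, 2, 0, 2, 0, 2],
 [0, 2, 0, 3, 0, 2, 0, 3],
 [0, 2, 1, 2, 0, 2, 1, 2],
 [0, 3, 0, 3, 0, 3, 0, 3],
 [0, 3, 1, 3, 0, 3, 1, 3],
 [1, 2, 1, 2, 1, 2, 1, 2],
 [1, 2, 1, 3, 1, 2, 1, 3],
 [1, 3, 1, 3, 1, 3, 1, 3]]
def R0 : List (List ℕ) := G0
theorem hii : ∀ c, ivOf ivl (ivOf ivl c) = c := ivOf_ivOf (by decide +kernel)
theorem der : Derives (ivOf ivl) R0 R0 := Derives.refl _ _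
noncomputable def nl : List Net := [n0, n1, n2, n3]
noncomputable def T : TCData := ⟨256, 256, 8, 3, nth Net.nil nl, ivOf ivl, cols, hcols, R0,
  nth [] [t0, t1, t2, t3], nth 0 [d0, d1, d2, d3]⟩
theorem hn : NetsOK 256 (nth Net.nil nl) := netsOK_of_all (by decide +kernel)
theorem hiv : IvOK (sg (nth Net.nil nl)) (ivOf ivl) :=
  ivOK_of_chk (k := 8) hn (by decide) (n := 4) (by decide) (by decide) (allN_true.1 (by decide +kernel))
theorem hb : T.Basic := TCData.basic_of_chk hn hiv (by decide +kernel)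
theorem hG0 : ∀ r ∈ G0, ev (sg (nth Net.nil nl)) r = 1 :=
  rels_of_chk (k := 8) hn (by decide) hiv (allN_true.1 (by decide +kernel))
noncomputable def s0 : List TCData.Step := [.all 0 0 0,
 .all 2 0 0,
 .all 3 0 0,
 .all 4 0 0,
 .all 5 0 0,
 .all 6 0 0]
noncomputable def s1 : List TCData.Step := [.all 0 1 0,
 .all 4 2 0,
 .pts 6 2 0 2 [80, 142],
 .pts 6 2 0 3 [105, 151],
 .all 7 0 0,
 .all 8 0 0,
 .all 9 0 0]
noncomputable def s2 : List TCData.Step := [.all 1 0 0,
 .all 2 1 0,
 .all 3 1 0,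
 .all 4 1 0,
 .all 7 1 0,
 .all 8 1 0]
noncomputable def s3 : List TCData.Step := [.all 1 1 0,
 .all 3 3 0,
 .pts 5 1 0 1 [28],
 .all 6 1 0,
 .all 8 3 0,
 .all 9 1 0]
theorem hR0 : ∀ r ∈ R0, ev (sg (nth Net.nil nl)) r = 1 := hG0
theorem col0 : T.ColOK 0 := TCData.colOK_of_chk (U := (T.stepsMask 0 s0 (T.mask0 0))) (V := (T.stepsMask 0 s0 (T.mask0 0))) hb (TCData.cov_stepsMask hb (by decide) s0 _ (T.cov_mask0 0)) (TCData.cov_stepsMask hb (by decide) s0 _ (T.cov_mask0 0)) (by decide +kernel)
theorem col1 : T.ColOK 1 := TCData.colOK_of_chk (U := (T.stepsMask 1 s1 (T.mask0 1))) (V := (T.stepsMask 1 s1 (T.mask0 1))) hb (TCData.cov_stepsMask hb (by decide) s1 _ (T.cov_mask0 1)) (TCData.cov_stepsMask hb (by decide) s1 _ (T.cov_mask0 1)) (by decide +kernel)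
theorem col2 : T.ColOK 2 := TCData.colOK_of_chk (U := (T.stepsMask 2 s2 (T.mask0 2))) (V := (T.stepsMask 2 s2 (T.mask0 2))) hb (TCData.cov_stepsMask hb (by decide) s2 _ (T.cov_mask0 2)) (TCData.cov_stepsMask hb (by decide) s2 _ (T.cov_mask0 2)) (by decide +kernel)
theorem col3 : T.ColOK 3 := TCData.colOK_of_chk (U := (T.stepsMask 3 s3 (T.mask0 3))) (V := (T.stepsMask 3 s3 (T.mask0 3))) hb (TCData.cov_stepsMask hb (by decide) s3 _ (T.cov_mask0 3)) (TCData.cov_stepsMask hb (by decide) s3 _ (T.cov_mask0 3)) (by decide +kernel)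
theorem ok : T.OK := ⟨hb, TCData.treeOK_of_chk hn (by decide +kernel), (List.forall_mem_cons.2 ⟨col0, (List.forall_mem_cons.2 ⟨col1, (List.forall_mem_cons.2 ⟨col2, (List.forall_mem_cons.2 ⟨col3, (fun _ h => absurd h List.not_mem_nil)⟩)⟩)⟩)⟩), der _ _ hiv hR0⟩
theorem bd {G : Type} [Group G] {e : ℕ → G} (h1 : IvOK e (ivOf ivl)) (h2 : ∀ r ∈ R0, ev e r = 1)
    {m : ℕ} (h : Bd (gen e hcols) m) : Bd (gen e cols) (256 * m) := ok.bd h1 (der G e h1 h2) h
theorem cm {G : Type} [Group G] {e : ℕ → G} (h1 : IvOK e (ivOf ivl)) (h2 : ∀ r ∈ R0, ev e r = 1)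
    (h3 : gen e cols = ⊤) {ρ : G →* Equiv.Perm ℕ} (h4 : ∀ c, ρ (e c) = sg (nth Net.nil nl) c) :
    CosetModel ρ (gen e hcols) 256 := ok.cosetModel h1 (der G e h1 h2) h3 fun c _ => h4 c

end H9.S44C
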