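import Mathlib
import Cfsg.Agent.H9.CG
import Cfsg.Agent.H29.Cert

set_option autoImplicit false
set_option maxRecDepth 100000
set_option Elab.async false
set_option linter.all false

namespace H9.S44N

open H29 H9.MX

noncomputable def n0 : Net := ben 7 [(nat_lit 0x30003cf00030c0fcc0000),
 (nat_lit 0x22af00f5f0505a5a5000),
 (nat_lit 0x104e23bb0100cc22881100),
 (nat_lit 0xc48424660c5c025200d0),
 (nat_lit 0x10000f1079783d00002a00),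
 (nat_lit 0xd5719019d571),
 (nat_lit 0xd571)]
noncomputable def n1 : Net := ben 7 [(nat_lit 0xf0fcc000ff0030cff3300),
 (nat_lit 0x510a0af05050aaaaa5000),
 (nat_lit 0x1bbcf448c880023009988),
 (nat_lit 0xc24e8e0e60e28a8a0858),
 (nat_lit 0x1320e0a9700000aa00),
 (nat_lit 0xcf080406ef088),
 (nat_lit 0xcf080)]
noncomputable def n2 : Net := ben 7 [(nat_lit 0xe05cc00d7c0c00300333c),
 (nat_lit 0x9a478dfe80f874ae61152),
 (nat_lit 0x10c70156b76f8bbb2e0304),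
 (nat_lit 0x763458b315c6400b1414),
 (nat_lit 0x1800026fa0a5ea0000c114),
 (nat_lit 0x15df6d3ebfdf6d),
 (nat_lit 0x15df6d)]
noncomputable def n3 : Net := ben 7 [(nat_lit 0xd710e633970180231dc30),
 (nat_lit 0x7c5bc5afb311551145052),
 (nat_lit 0x14d82f401d78e9c438b04),
 (nat_lit 0x55d00058c235e0a70000),
 (nat_lit 0x7001c8d5c225f0000ea00),
 (nat_lit 0xfcbf11fefcbf),
 (nat_lit 0xfcbf)]
noncomputable def n4 : Net := ben 7 [(nat_lit 0xf030c3cc003c3303c0c30),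
 (nat_lit 0xa5bafff5a0050050a0500),
 (nat_lit 0x2aa023311092a2a330e),
 (nat_lit 0x84c4054daaae62630212),
 (nat_lit 0x100011be20bf2000006002),
 (nat_lit 0x16a6a29a36a6a2),
 (nat_lit 0x16a6a2)]
noncomputable def n5 : Net := ben 7 [(nat_lit 0xf03f00c0cf0c030cc3001),
 (nat_lit 0x4ee417b1abeef0a1005a0),
 (nat_lit 0x15778c997b9c1101332a),
 (nat_lit 0x11ed1455c3f220200454),
 (nat_lit 0x1d00180259425d00002b06),
 (nat_lit 0x6571b947fd71b),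
 (nat_lit 0x6571b)]
def ivl : List ℕ := []
def R0 : List (List ℕ) := [[0, 1, 0, 1],
 [0, 4, 0, 4, 0, 4],
 [2, 5, 2, 5, 2, 5],
 [0, 5, 1, 5, 0, 5, 1, 5],
 [0, 5, 2, 5, 0, 5, 2, 5],
 [0, 5, 4, 5, 0, 5, 4, 5],
 [1, 5, 2, 5, 1, 5, 2, 5],
 [1, 5, 4, 5, 1, 5, 4, 5],
 [2, 4, 2, 4, 2, 4, 2, 4],
 [2, 4, 3, 4, 2, 4, 3, 4],
 [2, 4, 5, 4, 2, 4, 5, 4],
 [3, 4, 5, 4, 3, 4, 5, 4],
 [4, 5, 4, 5, 4, 5, 4, 5],
 [0, 1, 4, 1, 2, 1, 4, 1, 0, 3],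
 [2, 3, 2, 3],
 [1, 4, 3, 4, 1, 4, 3, 4],
 [1, 4, 1, 4, 1, 4, 1, 4, 1, 4],
 [0, 1, 2, 0, 3, 2, 4, 3, 4, 1, 3],
 [0, 1, 4, 0, 1, 4, 0, 1, 4, 1, 0, 4, 1, 0, 4],
 [0, 2, 0, 2, 0, 2, 0, 2],
 [0, 2, 0, 3, 0, 2, 0, 3],
 [0, 2, 1, 2, 0, 2, 1, 2],
 [0, 3, 0, 3, 0, 3, 0, 3],
 [0, 3, 1, 3, 0, 3, 1, 3],
 [1, 2, 1, 2, 1, 2, 1, 2],
 [1, 2, 1, 3, 1, 2, 1, 3],
 [1, 3, 1, 3, 1, 3, 1, 3]]
noncomputable def nl : List Net := [n0, n1, n2, n3, n4, n5]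
theorem hn : NetsOK 85 (nth Net.nil nl) := netsOK_of_all (by decide +kernel)
theorem hiv : IvOK (sg (nth Net.nil nl)) (ivOf ivl) :=
  ivOK_of_chk (k := 7) hn (by decide) (n := 6) (by decide) (by decide) (allN_true.1 (by decide +kernel))
theorem hR0 : ∀ r ∈ R0, ev (sg (nth Net.nil nl)) r = 1 :=
  rels_of_chk (k := 7) hn (by decide) hiv (allN_true.1 (by decide +kernel))

end H9.S44N
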