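import Mathlib
import Cfsg.Agent.H9.CG
import Cfsg.Agent.H9.S44N
import Cfsg.Agent.H29.Cert

set_option autoImplicit false
set_option maxRecDepth 100000
set_option Elab.async false
set_option linter.all false

namespace H9.S44X

open H29 H9.MX

noncomputable def x6 : Net := ben 7 [(nat_lit 0xe51b4990d488d02fd6d30),
 (nat_lit 0x75bdea26b8cbb22524a30),
 (nat_lit 0x1552a6e880105ee38404a),
 (nat_lit 0x88e30f948294c5f50048),
 (nat_lit 0xfa3a5a9050800985a),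
 (nat_lit 0x8a7bd02a9bfb5),
 (nat_lit 0xdbfbd)]
noncomputable def x8 : Net := ben 7 [(nat_lit 0xfc3f0100030040c300000),
 (nat_lit 0xf27af0213a50525af0000),
 (nat_lit 0x6611dd886644cc880000),
 (nat_lit 0x10115edcc0c005050426),
 (nat_lit 0xc2a4cae42800bd08),
 (nat_lit 0x18863642988636),
 (nat_lit 0x1dee36)]
noncomputable def x10 : Net := ben 7 [(nat_lit 0x89cf2811862f0f831328b),
 (nat_lit 0x9993fa53fbe8857211030),
 (nat_lit 0x115988658c0a20cb260805),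
 (nat_lit 0x577261b4072b0fa9042d),
 (nat_lit 0xe000003a82f421020e520),
 (nat_lit 0x1287a201199782),
 (nat_lit 0x1fd7a2)]
noncomputable def x12 : Net := ben 7 [(nat_lit 0xf03c0000030fc3fc00c3c),
 (nat_lit 0x15a05015510af7a50010),
 (nat_lit 0x1df45097700196702000a),
 (nat_lit 0x54540101101203430004),
 (nat_lit 0x50005518251e25400d500),
 (nat_lit 0xc4992500c4992),
 (nat_lit 0xf5d92)]
noncomputable def x14 : Net := ben 7 [(nat_lit 0xc3c0000cc00c30c003300),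
 (nat_lit 0xf0f005a700f5a5555a000),
 (nat_lit 0x112211552299aa118800),
 (nat_lit 0x2090908080c4c4002a),
 (nat_lit 0xa001ee882e8d6c000c0d4),
 (nat_lit 0x14479ffb15479f),
 (nat_lit 0x16c79f)]
noncomputable def x16 : Net := ben 7 [(nat_lit 0xefc591f1c883fd82721a4),
 (nat_lit 0x632338978183bbccf5020),
 (nat_lit 0x10d39ba9d89585755f5d08),
 (nat_lit 0xb9c6386b909869dc003e),
 (nat_lit 0x40001bf00c91f6b0063f0),
 (nat_lit 0x141ec39d187cc3),
 (nat_lit 0x147fc3)]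
noncomputable def x18 : Net := ben 7 [(nat_lit 0x3f3c330cc033000303000),
 (nat_lit 0x5dd70d05aa20a0f052500),
 (nat_lit 0x1b67a691c4229188662a),
 (nat_lit 0x46c4812981a10028008d),
 (nat_lit 0x70007be5094741000984a),
 (nat_lit 0x43433d30c1c3),
 (nat_lit 0x4d343)]
noncomputable def x20 : Net := ben 7 [(nat_lit 0xf5578420ac104326a20f9),
 (nat_lit 0x9c3a48872ef9db6191395),
 (nat_lit 0x8586394909e65a54e889),
 (nat_lit 0x1066b7761638a3d4081b),
 (nat_lit 0x6000a3344cf7fdc0087e2),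
 (nat_lit 0x1f2979c42919f),
 (nat_lit 0x15fe97)]
noncomputable def ly : List Net := [x6, x8, x10, x12, x14, x16, x18, x20]
noncomputable def nx : ℕ → Net := nth Net.nil (S44N.nl ++ dbl ly)
def ivx : List ℕ := [0, 1, 2, 3, 4, 5, 7, 6, 9, 8, 11, 10, 13, 12, 15, 14, 17, 16, 19, 18, 21, 20]
def defs : List (List ℕ) := [[2, 3, 2, 0, 3, 1, 0, 3, 0, 3, 4],
 [4, 0, 7, 1, 6, 1, 4, 1, 7, 0],
 [3, 9, 3, 4, 6, 9, 4, 6, 6, 6, 1],
 [10, 2, 0, 2, 3, 10, 7, 2, 1, 8, 2, 11, 3],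
 [6, 13, 10, 13, 11, 7, 9, 11, 6, 6, 6, 10, 13],
 [2, 0, 3, 7, 2, 5, 4, 5, 12, 4, 10, 0, 14, 4, 5, 11, 5, 11],
 [5, 4, 5],
 [5, 2, 4, 0, 1, 3]]
theorem hext : chkExt 6 defs S44N.ivl ivx = true := by decide +kernel
theorem hn : NetsOK 85 nx := netsOK_ext S44N.hn (by decide +kernel)
theorem hiv : IvOK (sg nx) (ivOf ivx) := ivOK_ext S44N.hiv hext rfl rfl
theorem hdef : ∀ r ∈ defRels defs 6, ev (sg nx) r = 1 :=
  rels_of_chk (k := 7) hn (by decide) hiv (allN_true.1 (by decide +kernel))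
theorem ch : chkChain 85 7 nx [(0, 2, 85, [0, 1, 2, 3, 4, 6, 8, 10, 12, 14, 16]),
 (10, 3, 64, [6, 8, 10, 12, 14, 16]),
 (57, 2, 45, [12, 14]),
 (55, 1, 4, [])] [0, 1, 2, 3, 4, 5, 6, 8, 10, 12, 14, 16] = true := by decide +kernel
theorem prim : Prim nx 85 [0, 1, 2, 3, 4] [5, 18] := prim_of_chk (r1 := 3) (r2 := 3) hn (by decide +kernel)
theorem wit : ∀ r ∈ [powW 17 [20], powW 2 [4], powW 5 [20, 4]], ev (sg nx) r = 1 :=
  rels_of_chk (k := 7) hn (by decide) hiv (allN_true.1 (by decide +kernel))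
theorem reach : Reach nx [0, 1, 2, 3, 4, 5] (bit 0) (ones 85) := reach_of_chk (r := 4) hn (by decide +kernel)
theorem map {G : Type} [Group G] {e : ℕ → G} {ρ : G →* Equiv.Perm ℕ}
    (h : ∀ c, ρ (e c) = sg (nth Net.nil S44N.nl) c) : ∀ c, ρ (extE e 6 defs c) = sg nx c :=
  map_ext hext hiv hdef rfl rfl h

end H9.S44X
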