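import Mathlib
import Cfsg.Agent.H9.CG
import Cfsg.Agent.H9.S44X
import Cfsg.Agent.H9.S44A
import Cfsg.Agent.H9.S44B
import Cfsg.Agent.H9.S44C

set_option autoImplicit false
set_option maxRecDepth 100000
set_option Elab.async false
set_option linter.all false

namespace H9.S44

open H29 H9.MX

def R : List (List ℕ) := [[0, 1, 0, 1],
 [0, 4, 0, 4, 0, 4],
 [2, 5, 2, 5, 2, 5],
 [0, 5, 1, 5, 0, 5, 1, 5],
 [0, 5, 2, 5, 0, 5, 2, 5],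
 [0, 5, 4, 5, 0, 5, 4, 5],
 [1, 5, 2, 5, 1, 5, 2, 5],
 [1, 5, 4, 5, 1, 5, 4, 5],
 [2, 4, 2, 4, 2, 4, 2, 4],
 [2, 4, 3, 4, 2, 4, 3, 4],
 [2, 4, 5, 4, 2, 4, 5, 4],
 [3, 4, 5, 4, 3, 4, 5, 4],
 [4, 5, 4, 5, 4, 5, 4, 5],
 [0, 1, 4, 1, 2, 1, 4, 1, 0, 3],
 [2, 3, 2, 3],
 [1, 4, 3, 4, 1, 4, 3, 4],
 [1, 4, 1, 4, 1, 4, 1, 4, 1, 4],
 [0, 1, 2, 0, 3, 2, 4, 3, 4, 1, 3],
 [0, 1, 4, 0, 1, 4, 0, 1, 4, 1, 0, 4, 1, 0, 4],
 [0, 2, 0, 2, 0, 2, 0, 2],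
 [0, 2, 0, 3, 0, 2, 0, 3],
 [0, 2, 1, 2, 0, 2, 1, 2],
 [0, 3, 0, 3, 0, 3, 0, 3],
 [0, 3, 1, 3, 0, 3, 1, 3],
 [1, 2, 1, 2, 1, 2, 1, 2],
 [1, 2, 1, 3, 1, 2, 1, 3],
 [1, 3, 1, 3, 1, 3, 1, 3]]
theorem ubd : UBd (ivOf []) R [0, 1, 2, 3, 4, 5] 979200 := fun _ _ _ h1 h2 =>
  (S44A.bd h1 (rels_sub h2 (by decide +kernel))
    (S44B.bd h1 (rels_sub h2 (by decide +kernel))
    (S44C.bd h1 (rels_sub h2 (by decide +kernel))
    (bd_nil _))))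
theorem top : gen (pe S44N.nl) [0, 1, 2, 3, 4, 5] = ⊤ := pe_top (by decide +kernel)
theorem hivS : IvOK (pe S44N.nl) (ivOf []) := ivOK_sub _ S44N.hiv
theorem hRS : ∀ r ∈ R, ev (pe S44N.nl) r = 1 := rels_subE _ (rels_sub S44N.hR0 (by decide +kernel))
theorem cardS : Nat.card (PG S44N.nl) = 979200 :=
  (card_eq_of_chain S44X.hn ((ubd _ _ hivS hRS).of_top top) (fun c _ => S44X.map (pe_rho _) c) S44X.ch
    (by decide +kernel)).1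
theorem simpleS : IsSimpleGroup (PG S44N.nl) :=
  simple_of_cert (q := 17) (m := 57600) S44X.hn S44X.prim
    (trans_of_reach (by decide) (PG_lt S44N.hn) (fun c _ => S44X.map (pe_rho _) c) S44X.reach)
    (S44X.map (pe_rho _)) (PG_faithful S44N.hn) cardS S44X.wit (ivOK_extE hivS S44X.hext)
    (rels_extE hRS (by decide +kernel)) ((gen_extE _ _ (by decide)).trans top)
    (l := [(1, 0), (16, 0), (17, 3), (13, 0), (2, 0)]) (by decide +kernel) (by norm_num)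
theorem tr {G : Type} [Group G] {e : ℕ → G} (h1 : IvOK e (ivOf [])) (h2 : ∀ r ∈ R, ev e r = 1) :
    Tr (pe S44N.nl) e [0, 1, 2, 3, 4, 5] :=
  tr_of_bd ubd (by decide) hivS h1 hRS h2 (by rw [top, Subgroup.card_top, cardS])
theorem equiv {G : Type} [Group G] {e : ℕ → G} (h1 : IvOK e (ivOf [])) (h2 : ∀ r ∈ R, ev e r = 1)
    (hne : ∃ w : List ℕ, (∀ c ∈ w, c ∈ [0, 1, 2, 3, 4, 5]) ∧ ev e w ≠ 1) :
    Nonempty (PG S44N.nl ≃* gen e [0, 1, 2, 3, 4, 5]) :=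
  haveI := simpleS
  equiv_of_simple (tr h1 h2) hivS h1 (by decide) top hne
theorem equivT {G : Type} [Group G] {e : ℕ → G} (h1 : IvOK e (ivOf [])) (h2 : ∀ r ∈ R, ev e r = 1)
    (hne : ∃ w : List ℕ, (∀ c ∈ w, c ∈ [0, 1, 2, 3, 4, 5]) ∧ ev e w ≠ 1) (hG : Nat.card G = 979200) :
    Nonempty (PG S44N.nl ≃* G) :=
  haveI := simpleS
  equiv_of_simple_card (tr h1 h2) hivS h1 (by decide) top hne (by norm_num) cardS hG

end H9.S44
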