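import Mathlib
import Cfsg.Agent.H9.CG
import Cfsg.Agent.H9.S44
import Cfsg.Agent.H9.CG4
import Cfsg.Agent.H29.He
import Cfsg.Agent.H29.Cover
import Cfsg.Agent.S0245

set_option autoImplicit false
set_option maxRecDepth 100000
set_option Elab.async false
set_option linter.all false

namespace H9.S44M

open H29 H9.MX

def P : Par := ⟨4, 5, 2, 1, 1, 1, 16, 1, 1,
  (nat_lit 0x1f0001f0001f0001f),
  (nat_lit 0xfffff),
  (nat_lit 0x7bdef7bdef7bdef7bdef),
  (nat_lit 0x8421084210842108421),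
  (nat_lit 0x8000004000002000001)⟩
theorem P_ok : P.OK := Par.ok_of (by decide +kernel)
noncomputable def l : List MM := [⟨(nat_lit 0x8000004000802000001), (nat_lit 0x0)⟩,
 ⟨(nat_lit 0x8000004000002000001), (nat_lit 0x800000000)⟩,
 ⟨(nat_lit 0x8400004000002000021), (nat_lit 0x0)⟩,
 ⟨(nat_lit 0x8000004000002000001), (nat_lit 0x400000000000000020)⟩,
 ⟨(nat_lit 0x20004000800000001), (nat_lit 0x0)⟩,
 ⟨(nat_lit 0x400080000000100020), (nat_lit 0x0)⟩]
noncomputable def lt : List MM := [⟨(nat_lit 0x8020004000002000001), (nat_lit 0x0)⟩,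
 ⟨(nat_lit 0x8000004000002000001), (nat_lit 0x20000000000000000)⟩,
 ⟨(nat_lit 0x8000084000002100001), (nat_lit 0x0)⟩,
 ⟨(nat_lit 0x8000004000002000001), (nat_lit 0x80000000100000)⟩,
 ⟨(nat_lit 0x20004000800000001), (nat_lit 0x0)⟩,
 ⟨(nat_lit 0x400080000000100020), (nat_lit 0x0)⟩]
noncomputable def J : MM := ⟨(nat_lit 0x20000010800000400), (nat_lit 0x0)⟩
def I : Interp P F4 (Fin 2 ⊕ Fin 2) := interp4 finSumFinEquiv P_ok ⟨rfl, rfl, rfl⟩
theorem card : Nat.card (Matrix.symplecticGroup (Fin 2) F4) = 979200 := by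
  rw [Cfsg.Agent.S0245.result F4.card]; decide
theorem iso : Nonempty (PG S44N.nl ≃* Matrix.symplecticGroup (Fin 2) F4) := by
  obtain ⟨e, he⟩ := exists_Sp I (l := l) (by decide +kernel) (J := J) (by decide +kernel) (lt := lt)
    (by decide +kernel)
  exact S44.equivT (he.ivOK (by decide +kernel)) (he.rels (by decide +kernel))
    ⟨[0], by decide, he.ne_one (v := [2]) (i := 1) (j := 2) (by decide +kernel)⟩ card
def wl : List (List ℕ) := [[0], [9, 5, 3, 2, 3, 5, 9, 7, 5, 3, 2, 3, 5, 9, 0, 9, 9, 5, 3, 2, 3, 5, 7, 9, 9, 5, 3, 2, 3, 5, 9, 9], [4, 9, 3, 7, 4, 7, 5, 0, 3, 9, 9, 4], [7, 2, 3, 9, 2, 3, 7, 4, 7, 5, 0, 3, 2, 9, 9, 3, 2, 7], [9, 0, 9, 9], [5, 9, 3, 7, 4, 7, 5, 0, 3, 9, 9, 5]]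
theorem hn : NetsOK 2058 (wNets (nth Net.nil He5.nl) wl) := He5.hn.wNets wl
theorem hivN : IvOK (sg (wNets (nth Net.nil He5.nl) wl)) (ivOf []) :=
  ivOK_of_chk' (k := 12) hn (by decide) (n := 6) (by decide) (fun c hc => by
    rw [sg_wNets, wE, nth_default _ hc]; rfl) (allN_true.1 (by decide +kernel))
theorem iso_sub : Nonempty (PG S44N.nl ≃* gen (wE He.e1 wl) [0, 1, 2, 3, 4, 5]) :=
  S44.equiv (ivOK_of_faithful He.card.2 (map_wE He.hρ wl) hivN)
    (rels_of_faithful He.card.2 (map_wE He.hρ wl)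
      (rels_of_chk (k := 12) hn (by decide) hivN (allN_true.1 (by decide +kernel))))
    ⟨[0], by decide, ev_ne_one_of_chk hn (fun c _ => map_wE He.hρ wl c) (b := 30) (by decide +kernel)⟩
theorem main : ∃ N : Subgroup (gen He.e1 He5.hcols), N.index = 2 ∧
    Nonempty (N ≃* Matrix.symplecticGroup (Fin 2) F4) := by
  obtain ⟨f⟩ := iso
  obtain ⟨g⟩ := iso_sub
  exact exists_index_two (gen_wE_le (by decide +kernel)) (g.symm.trans f) (by norm_num) card
    (He.cm.card_sub He.card.1)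

end H9.S44M
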