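import Mathlib
import Cfsg.Prelude.Def_Sporadic
import Cfsg.Agent.H9.PermLemmas
import Cfsg.Agent.H14.PrimeDeg

/-! Jordan's theorem on sharply multiply transitive groups. -/

set_option autoImplicit false
set_option linter.unusedSectionVars false

namespace H9

open Cfsg Finset MulAction SubMulAction

universe u v

/-- sharp `k`-transitivity. -/
structure Sharp (Γ X : Type*) [Group Γ] [MulAction Γ X] (k : ℕ) : Prop where
  trans : IsMultiplyPretransitive Γ X k
  free : ∀ x : Fin k → X, Function.Injective x → ∀ g : Γ, (∀ i, g • x i = x i) → g = 1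

variable {Γ X : Type*} [Group Γ] [MulAction Γ X] {k : ℕ}

theorem sharp_of_stabilizer [h : IsMultiplyPretransitive Γ X k]
    (hs : ∀ x : Fin k ↪ X, stabilizer Γ x = ⊥) : Sharp Γ X k :=
  ⟨h, fun x hx g hg => by
    have : g ∈ stabilizer Γ (⟨x, hx⟩ : Fin k ↪ X) := Function.Embedding.ext hg
    rwa [hs] at this⟩

theorem Sharp.existsUnique (h : Sharp Γ X k) (x y : Fin k → X) (hx : Function.Injective x)
    (hy : Function.Injective y) : ∃! g : Γ, ∀ i, g • x i = y i := by
  obtain ⟨g, hg⟩ := h.trans.exists_smul_eq ⟨x, hx⟩ ⟨y, hy⟩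
  have hg' : ∀ i, g • x i = y i := fun i => congrArg (fun z : Fin k ↪ X => z i) hg
  refine ⟨g, hg', fun g' h' => ?_⟩
  have := h.free x hx (g⁻¹ * g') fun i => by rw [mul_smul, h', ← hg', inv_smul_smul]
  exact (inv_mul_eq_one.1 this).symm

theorem Sharp.card_eq [Finite X] (h : Sharp Γ X k) (hk : k ≤ Nat.card X) :
    Nat.card Γ = (Nat.card X).descFactorial k := by
  classical
  have := Fintype.ofFinite X
  obtain ⟨x⟩ : Nonempty (Fin k ↪ X) :=
    Function.Embedding.nonempty_of_card_le (by simpa using hk)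
  have : Function.Bijective fun g : Γ => g • x := by
    constructor
    · intro g g' e
      exact (h.existsUnique x (g • x) x.injective (g • x).injective).unique (fun _ => rfl)
        fun i => congrArg (fun z : Fin k ↪ X => z i) e.symm
    · exact fun y => h.trans.exists_smul_eq x y
  rw [Nat.card_congr (Equiv.ofBijective _ this), Nat.card_eq_fintype_card,
    Fintype.card_embedding_eq, Fintype.card_fin, Nat.card_eq_fintype_card]

theorem Sharp.faithful [Finite X] (h : Sharp Γ X k) (hk : k ≤ Nat.card X) : FaithfulSMul Γ X := by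
  classical
  have := Fintype.ofFinite X
  obtain ⟨x⟩ : Nonempty (Fin k ↪ X) :=
    Function.Embedding.nonempty_of_card_le (by simpa using hk)
  exact ⟨fun {g g'} e => (h.existsUnique x (g' • x) x.injective (g' • x).injective).unique
    (fun i => e _) fun _ => rfl⟩

theorem Sharp.multi [Finite X] (h : Sharp Γ X k) (hk : k ≤ Nat.card X) {m : ℕ} (hm : m ≤ k) :
    IsMultiplyPretransitive Γ X m :=
  have := h.trans
  isMultiplyPretransitive_of_le hm hk

theorem Sharp.pretransitive [Finite X] (h : Sharp Γ X (k + 1)) (hk : k + 1 ≤ Nat.card X) :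
    IsPretransitive Γ X := is_one_pretransitive_iff.1 (h.multi hk (by omega))

theorem Sharp.stab [Finite X] (h : Sharp Γ X (k + 1)) (hk : k + 1 ≤ Nat.card X) (a : X) :
    Sharp (stabilizer Γ a) (ofStabilizer Γ a) k := by
  have := h.pretransitive hk
  refine ⟨ofStabilizer.isMultiplyPretransitive.1 h.trans, fun x hx g hg => Subtype.ext ?_⟩
  refine h.free (Fin.cons a fun i => x i) ?_ g ?_
  · rw [Fin.cons_injective_iff]
    exact ⟨fun ⟨i, hi⟩ => neq_of_mem_ofStabilizer Γ a hi, Subtype.val_injective.comp hx⟩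
  · exact Fin.cases g.2 fun i => congrArg Subtype.val (hg i)

theorem Sharp.reduce (j : ℕ) : ∀ {Γ : Type u} {X : Type v} [Group Γ] [MulAction Γ X] [Finite X],
    Sharp Γ X (k + j) → k + j ≤ Nat.card X → ∃ (Γ' : Type u) (X' : Type v) (_ : Group Γ')
      (_ : MulAction Γ' X') (_ : Finite X'), Sharp Γ' X' k ∧ Nat.card X' + j = Nat.card X := by
  induction j with
  | zero => exact fun h _ => ⟨_, _, _, _, inferInstance, h, rfl⟩
  | succ j ih =>
    intro Γ X _ _ _ h hk
    obtain ⟨a⟩ : Nonempty X := (Nat.card_pos_iff.1 (by omega)).1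
    have h1 := nat_card_ofStabilizer_add_one_eq Γ a
    obtain ⟨Γ', X', _, _, _, h2, h3⟩ := ih (h.stab hk a) (by omega)
    exact ⟨Γ', X', _, _, inferInstance, h2, by omega⟩

theorem inj4 {a b c d : X} (h1 : a ≠ b) (h2 : a ≠ c) (h3 : a ≠ d) (h4 : b ≠ c) (h5 : b ≠ d)
    (h6 : c ≠ d) : Function.Injective ![a, b, c, d] := by
  intro i j
  fin_cases i <;> fin_cases j <;> simp [*, eq_comm]

theorem Sharp.eu4 (h : Sharp Γ X 4) {a b c d a' b' c' d' : X}
    (hx : Function.Injective ![a, b, c, d]) (hy : Function.Injective ![a', b', c', d']) :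
    ∃! g : Γ, g • a = a' ∧ g • b = b' ∧ g • c = c' ∧ g • d = d' := by
  simpa [Fin.forall_fin_succ] using h.existsUnique _ _ hx hy

theorem Sharp.free4 (h : Sharp Γ X 4) {a b c d : X} (hx : Function.Injective ![a, b, c, d])
    {g : Γ} (hg : g • a = a ∧ g • b = b ∧ g • c = c ∧ g • d = d) : g = 1 :=
  h.free _ hx g (by simpa [Fin.forall_fin_succ] using hg)

theorem Sharp.four [Finite X] (h : Sharp Γ X 4) (h4 : 4 ≤ Nat.card X) :
    Nat.card X = 4 ∨ Nat.card X = 5 ∨ Nat.card X = 6 ∨ Nat.card X = 11 := by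
  classical
  have := Fintype.ofFinite X
  have := h.faithful h4
  have := h.pretransitive h4
  have : Finite Γ := H14.finite_of_faithful (Ω := X) (G := Γ)
  have := Fintype.ofFinite Γ
  obtain ⟨a, b, hab⟩ := (Finite.one_lt_card_iff_nontrivial.1 (show 1 < Nat.card X by omega)).1
  obtain ⟨m, hm⟩ : ∃ m, Nat.card X = m + 3 := ⟨Nat.card X - 3, by omega⟩
  let s : Finset X := {a, b}ᶜ
  have hs : s.card = m + 1 := by
    rw [card_compl, card_pair hab, ← Nat.card_eq_fintype_card]; omega
  have hs2 : s.offDiag.card = (m + 1) * m := by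
    rw [offDiag_card, hs, mul_add, mul_one, Nat.add_sub_cancel]
  let T : Finset Γ := univ.filter fun g => g • a = b ∧ g * g = 1
  have hT : ∀ g ∈ T, g • a = b ∧ g • b = a ∧ ∀ x : X, g • g • x = x := fun g hg => by
    obtain ⟨h1, h2⟩ := (mem_filter.1 hg).2
    have h3 : ∀ x : X, g • g • x = x := fun x => by rw [← mul_smul, h2, one_smul]
    exact ⟨h1, by rw [← h1, h3], h3⟩
  have hcount : ∀ (R : Γ → X × X → Prop) [∀ g, DecidablePred (R g)], (∀ p ∈ s.offDiag, ∃! g, g ∈ T ∧ R g p) →
      ∑ g ∈ T, (s.offDiag.filter (R g)).card = (m + 1) * m := by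
    intro R _ hR
    rw [← hs2, card_eq_sum_ones s.offDiag]
    simp only [card_filter]
    rw [sum_comm]
    refine sum_congr rfl fun p hp => ?_
    rw [← card_filter, card_eq_one]
    obtain ⟨g, hg, hg'⟩ := hR p hp
    exact ⟨g, eq_singleton_iff_unique_mem.2 ⟨mem_filter.2 hg, fun g' h => hg' g' (mem_filter.1 h)⟩⟩
  have hp : ∀ p ∈ s.offDiag, a ≠ p.1 ∧ b ≠ p.1 ∧ a ≠ p.2 ∧ b ≠ p.2 ∧ p.1 ≠ p.2 := fun p hp => by
    simp only [mem_offDiag, s, mem_compl, mem_insert, mem_singleton, not_or] at hp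
    tauto
  have c1 := hcount (fun g p => g • p.1 = p.2) (by
    rintro ⟨c, d⟩ hcd
    obtain ⟨h1, h2, h3, h4, h5⟩ := hp _ hcd
    obtain ⟨g, ⟨e1, e2, e3, e4⟩, hg'⟩ := h.eu4 (inj4 hab h1 h3 h2 h4 h5)
      (inj4 hab.symm h4 h2 h3 h1 h5.symm)
    refine ⟨g, ⟨mem_filter.2 ⟨mem_univ _, e1, h.free4 (inj4 hab h1 h3 h2 h4 h5) ?_⟩, e3⟩,
      fun g' ⟨h6, h7⟩ => hg' g' ⟨(hT g' h6).1, (hT g' h6).2.1, h7, h7 ▸ (hT g' h6).2.2 _⟩⟩
    simp only [mul_smul, e1, e2, e3, e4, and_self])
  have c2 := hcount (fun g p => g • p.1 = p.1 ∧ g • p.2 = p.2) (by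
    rintro ⟨c, d⟩ hcd
    obtain ⟨h1, h2, h3, h4, h5⟩ := hp _ hcd
    obtain ⟨g, ⟨e1, e2, e3, e4⟩, hg'⟩ := h.eu4 (inj4 hab h1 h3 h2 h4 h5)
      (inj4 hab.symm h2 h4 h1 h3 h5)
    refine ⟨g, ⟨mem_filter.2 ⟨mem_univ _, e1, h.free4 (inj4 hab h1 h3 h2 h4 h5) ?_⟩, e3, e4⟩,
      fun g' ⟨h6, h7⟩ => hg' g' ⟨(hT g' h6).1, (hT g' h6).2.1, h7⟩⟩
    simp only [mul_smul, e1, e2, e3, e4, and_self])
  let F : Γ → Finset X := fun g => univ.filter fun x => g • x = x
  have hF : ∀ g ∈ T, F g ⊆ s := fun g hg x hx => by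
    obtain ⟨e1, e2, -⟩ := hT g hg
    have := (mem_filter.1 hx).2
    simp only [s, mem_compl, mem_insert, mem_singleton, not_or]
    constructor <;> rintro rfl
    · exact hab (this.symm.trans e1)
    · exact hab (e2.symm.trans this)
  have d1 : ∀ g ∈ T, (s.offDiag.filter fun p => g • p.1 = p.2).card + (F g).card = m + 1 := by
    intro g hg
    obtain ⟨e1, e2, e3⟩ := hT g hg
    rw [← hs, ← card_sdiff_add_card_eq_card (hF g hg)]
    congr 1
    apply card_nbij' (fun p => p.1) (fun c => (c, g • c))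
    · rintro ⟨c, d⟩ hp
      simp only [coe_filter, mem_offDiag, Set.mem_ofPred_eq] at hp
      simp only [coe_sdiff, Set.mem_sdiff, mem_coe, F, mem_filter, mem_univ, true_and]
      exact ⟨hp.1.1, fun e => hp.1.2.2 (e.symm.trans hp.2)⟩
    · intro c hc
      simp only [coe_sdiff, Set.mem_sdiff, mem_coe, F, mem_filter, mem_univ, true_and] at hc
      simp only [coe_filter, mem_offDiag, Set.mem_ofPred_eq, and_true]
      refine ⟨hc.1, ?_, Ne.symm hc.2⟩
      have := hc.1
      simp only [s, mem_compl, mem_insert, mem_singleton, not_or] at this ⊢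
      exact ⟨fun e => this.2 (by rw [← e3 c, e, e1]), fun e => this.1 (by rw [← e3 c, e, e2])⟩
    · rintro ⟨c, d⟩ hp
      simp only [coe_filter, Set.mem_ofPred_eq] at hp
      simp [hp.2]
    · intro c _; rfl
  have d2 : ∀ g ∈ T, (s.offDiag.filter fun p => g • p.1 = p.1 ∧ g • p.2 = p.2).card =
      (F g).card * (F g).card - (F g).card := by
    intro g hg
    rw [← offDiag_card]
    congr 1
    ext p
    have h1 := @hF g hg p.1
    have h2 := @hF g hg p.2
    simp only [mem_filter, mem_offDiag, F, mem_univ, true_and] at h1 h2 ⊢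
    tauto
  have d3 : ∀ g ∈ T, (F g).card ≤ 3 := by
    intro g hg
    by_contra h5
    obtain ⟨e⟩ : Nonempty (Fin 4 ↪ F g) := Function.Embedding.nonempty_of_card_le (by simp; omega)
    have := h.free (Subtype.val ∘ e) (Subtype.val_injective.comp e.injective) g
      fun i => (mem_filter.1 (e i).2).2
    exact hab (by rw [← (hT g hg).1, this, one_smul])
  have d4 : ∀ g ∈ T, (m + 3) % 2 = (F g).card % 2 := by
    intro g hg
    have := H14.ncard_modEq_fixed_elt (p := 2) (n := 1) (t := g)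
      (by rw [pow_one, sq, (mem_filter.1 hg).2.2]) (Set.finite_univ (α := X)) (by simp)
    rw [Set.ncard_univ, hm] at this
    rw [this, ← Set.ncard_coe_finset]
    congr 2
    ext x; simp [F]
  obtain ⟨r, hr⟩ : ∃ r, (m + 3) % 2 = r := ⟨_, rfl⟩
  let N := (T.filter fun g => 2 ≤ (F g).card).card
  let N' := (T.filter fun g => ¬ 2 ≤ (F g).card).card
  have hsum : ∀ (φ : Γ → ℕ) (u u' : ℕ), (∀ g ∈ T, 2 ≤ (F g).card → φ g = u) →
      (∀ g ∈ T, ¬ 2 ≤ (F g).card → φ g = u') → ∑ g ∈ T, φ g = N * u + N' * u' := by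
    intro φ u u' h1 h2
    rw [← sum_filter_add_sum_filter_not T (fun g => 2 ≤ (F g).card),
      sum_congr rfl fun g hg => h1 g (mem_filter.1 hg).1 (mem_filter.1 hg).2,
      sum_congr rfl fun g hg => h2 g (mem_filter.1 hg).1 (mem_filter.1 hg).2, sum_const, sum_const]
    rfl
  rw [hsum _ (m - 1 - r) (m + 1 - r) (fun g hg h2 => by
      have := d1 g hg; have := d3 g hg; have := d4 g hg; omega)
    (fun g hg h2 => by have := d1 g hg; have := d4 g hg; omega)] at c1
  rw [hsum _ ((r + 2) * (r + 1)) 0 (fun g hg h2 => by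
      have := d3 g hg; have := d4 g hg
      rw [d2 g hg, show (F g).card = r + 2 by omega, mul_add (r + 2) r 2, mul_add]; omega)
    (fun g hg h2 => by
      rw [d2 g hg]
      obtain h | h : (F g).card = 0 ∨ (F g).card = 1 := by omega
      all_goals rw [h])] at c2
  have hm1 : 1 ≤ m := by omega
  have hN : 0 < N := by
    rcases Nat.eq_zero_or_pos N with e | e
    · rw [e] at c2
      have : 0 < (m + 1) * m := by positivity
      omega
    · exact e
  have hle : m - 1 - r ≤ (r + 2) * (r + 1) := Nat.le_of_mul_le_mul_left (by omega) hN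
  obtain rfl | rfl : r = 0 ∨ r = 1 := by omega
  · omega
  · have : m ≤ 8 := by omega
    interval_cases m <;> omega

theorem Sharp.five [Finite X] (h : Sharp Γ X 5) (h5 : 5 ≤ Nat.card X) :
    Nat.card X = 5 ∨ Nat.card X = 6 ∨ Nat.card X = 7 ∨ Nat.card X = 12 := by
  obtain ⟨Γ', X', _, _, _, h1, h2⟩ := Sharp.reduce (k := 4) 1 h h5
  have := h1.four (by omega)
  omega

theorem Sharp.large [Finite X] (h : Sharp Γ X k) (h6 : 6 ≤ k) (hk : k ≤ Nat.card X) :
    Nat.card X = k ∨ Nat.card X = k + 1 ∨ Nat.card X = k + 2 := by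
  obtain ⟨j, rfl⟩ := Nat.exists_eq_add_of_le h6
  obtain ⟨Γ', X', _, _, _, h1, h2⟩ := Sharp.reduce j h hk
  obtain ⟨Γ'', X'', _, _, _, h3, h4⟩ := Sharp.reduce (k := 4) 2 h1 (by omega)
  have h5 := h3.four (by omega)
  have : Nat.card X' ≠ 13 := by
    intro h13
    have := h1.pretransitive (by omega)
    have := h1.faithful (by omega)
    have : Fact (Nat.Prime 13) := ⟨by norm_num⟩
    obtain ⟨P⟩ : Nonempty (Sylow 13 Γ') := inferInstance
    obtain ⟨d, n, e1, e2, -, e3, -⟩ := H14.card_eq_prime_deg h13 P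
    rw [h1.card_eq (by omega), h13, show Nat.descFactorial 13 6 = 1235520 by decide] at e3
    have := Nat.le_of_dvd (by norm_num) e1
    rw [Nat.ModEq] at e2
    interval_cases d <;> omega
  omega

theorem Sharp.isM11 [Finite X] (h : Sharp Γ X 4) (hX : Nat.card X = 11) : IsM11 Γ := by
  have hc := h.card_eq (by omega)
  rw [hX, show Nat.descFactorial 11 4 = 7920 by decide] at hc
  refine ⟨?_, hc⟩
  have := h.pretransitive (by omega)
  have := h.faithful (by omega)
  have : Finite Γ := Nat.finite_of_card_ne_zero (by omega)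
  have : Nontrivial Γ := Finite.one_lt_card_iff_nontrivial.1 (by omega)
  have : Fact (Nat.Prime 11) := ⟨by norm_num⟩
  have := H14.isPreprimitive_prime_deg (G := Γ) hX
  refine ⟨fun N hN => ?_⟩
  by_cases hN1 : N = ⊥
  · exact Or.inl hN1
  right
  have : IsPretransitive N X := IsQuasiPreprimitive.isPretransitive_of_normal (fun e => hN1 (by
    rw [eq_bot_iff]
    intro g hg
    exact eq_of_smul_eq_smul (α := X) fun x => by
      rw [one_smul]; exact (e ▸ Set.mem_univ x : x ∈ fixedPoints N X) ⟨g, hg⟩))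
  obtain ⟨P⟩ : Nonempty (Sylow 11 Γ) := inferInstance
  obtain ⟨Q⟩ : Nonempty (Sylow 11 N) := inferInstance
  obtain ⟨d, n, e1, e2, e3, e4, -⟩ := H14.card_eq_prime_deg hX P
  obtain ⟨d', n', f1, f2, f3, f4, f5⟩ := H14.card_eq_prime_deg hX Q
  have hle : ∀ R : Sylow 11 Γ, (R : Subgroup Γ) ≤ N := fun R g hg =>
    mem_normal_of_pow_prime N (p := 11) (by norm_num) (f4 ▸ ⟨d' * n', mul_assoc _ _ _⟩)
      (by rw [hc]; norm_num) g (by
        have := pow_card_eq_one' (x := (⟨g, hg⟩ : (R : Subgroup Γ)))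
        rw [H14.card_sylow_prime_deg hX R] at this
        exact congrArg Subtype.val this)
  have h1 := Nat.card_le_card_of_injective (fun R : Sylow 11 Γ => R.subtype (hle R))
    fun R R' e => Sylow.subtype_injective e
  have h2 := (Subgroup.normalizer ((P : Subgroup Γ) : Set Γ)).index_mul_card
  have h3 := (Subgroup.normalizer ((Q : Subgroup N) : Set N)).index_mul_card
  erw [← Sylow.card_eq_index_normalizer] at h2 h3
  rw [e3, e4, mul_comm] at h2
  rw [f3, f4, mul_comm] at h3
  have hd := Nat.pos_of_dvd_of_pos e1 (by norm_num)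
  have hd' := Nat.pos_of_dvd_of_pos f1 (by norm_num)
  rw [Nat.eq_of_mul_eq_mul_left (by omega) h2, Nat.eq_of_mul_eq_mul_left (by omega) h3] at h1
  have h4 := N.index_mul_card
  have := Nat.le_of_dvd (by norm_num) e1
  have := Nat.le_of_dvd (by norm_num) f1
  rw [Nat.ModEq] at e2 f2
  rw [hc] at e4 h4
  have hn : 144 ≤ n' := by interval_cases d <;> omega
  rw [← Subgroup.index_eq_one]
  rw [f4] at h4 f5
  generalize N.index = i at h4 ⊢
  have hi : i * d' ≤ 5 := by nlinarith
  have : i ≤ 5 := by nlinarith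
  interval_cases i <;> interval_cases d' <;> omega

theorem Sharp.isM12 [Finite X] (h : Sharp Γ X 5) (hX : Nat.card X = 12) : IsM12 Γ := by
  have hc := h.card_eq (by omega)
  rw [hX, show Nat.descFactorial 12 5 = 95040 by decide] at hc
  refine ⟨?_, hc⟩
  have := h.faithful (by omega)
  have : Finite Γ := Nat.finite_of_card_ne_zero (by omega)
  obtain ⟨a⟩ : Nonempty X := (Nat.card_pos_iff.1 (by omega)).1
  have h1 := ((h.stab (by omega) a).isM11 (by rw [nat_card_ofStabilizer_eq, hX])).1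
  have h2 := h.multi (by omega) (show 2 ≤ 5 by omega)
  rw [is_two_pretransitive_iff] at h2
  have := simple_of_stab (G := (⊤ : Subgroup Γ)) (Ω := (Set.univ : Set X)) (by simp)
    (fun g _ e => eq_of_smul_eq_smul (α := X) fun x => by rw [one_smul, e x trivial])
    (fun x _ y _ x' _ y' _ e e' => by simpa using h2 e e') (Set.mem_univ a) Nat.prime_two
    Nat.prime_three (by decide) (by rw [Set.ncard_univ, hX]; decide)
    (by rw [Set.ncard_univ, hX]; decide) (by rwa [top_inf_eq])
  exact Subgroup.topEquiv.symm.isSimpleGroup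

end H9
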