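import Mathlib
import Cfsg.Agent.H9.CG
import Cfsg.Agent.H29.Ext

set_option autoImplicit false
set_option maxRecDepth 100000
set_option Elab.async false
set_option linter.all false

namespace H9.U62B

open H29 H9.MX

noncomputable def n3 : Net := ben 7 [(nat_lit 0x1007c100134030cccd5031401cf0),
 (nat_lit 0xa015b00a100a0727000a3300210),
 (nat_lit 0x44aa88004602084437007f080408),
 (nat_lit 0x85cd001800260101003800f80000),
 (nat_lit 0x852085200000010000000000),
 (nat_lit 0x85200000000000040000),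
 (nat_lit 0x0)]
noncomputable def t3 : List ℕ := [(nat_lit 0x481add5d4805628e1ad029a10612),
 (nat_lit 0x801ab51706d106801a11624206b4),
 (nat_lit 0xba000010001068e02d57bebb100),
 (nat_lit 0xcbbabdd64edcf901e00280000000),
 (nat_lit 0x102941040d40007f80003c00000),
 (nat_lit 0x3000000000000000000000000000)]
noncomputable def d3 : ℕ := (nat_lit 0x4050000a1000050050004004040)
noncomputable def n4 : Net := ben 7 [(nat_lit 0x3d403007130f1c303f040114),
 (nat_lit 0x22001b10a0a00017050055000000),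
 (nat_lit 0xe00dd000801008815660c000000),
 (nat_lit 0xf2c0c2282861f100020000),
 (nat_lit 0xc000c00001000b0400000000),
 (nat_lit 0xc0000000e1006000),
 (nat_lit 0xc0000000)]
noncomputable def t4 : List ℕ := [(nat_lit 0x109ae241a10c025f087000310c42),
 (nat_lit 0x831f68153c8006873c7840400840),
 (nat_lit 0x82228009408006d80c3840f19480),
 (nat_lit 0x93fdea5cbd2c8800808284002000),
 (nat_lit 0x10814c00c0007b8e284002000),
 (nat_lit 0x0)]
noncomputable def d4 : ℕ := (nat_lit 0x6000150002502120400521080228)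
noncomputable def n5 : Net := ben 7 [(nat_lit 0xc400c0c0c30f001d0c031f00c),
 (nat_lit 0xfa0052d058dd00200070a0d222),
 (nat_lit 0xbb33000455ee6c88440804088600),
 (nat_lit 0x3a700002081a0a10040000000a0),
 (nat_lit 0x53f853f90000000100000000),
 (nat_lit 0xa4010000b70141f9000051f90000),
 (nat_lit 0xa40141f90000)]
noncomputable def t5 : List ℕ := [(nat_lit 0x7082caa0ae74113ca006623841c0),
 (nat_lit 0x8083e6980700a20004b20b5853d8),
 (nat_lit 0xe41a00800200821a04b66be78000),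
 (nat_lit 0xf499ee78ad703124380000000000),
 (nat_lit 0xc41820402022200000000000),
 (nat_lit 0x0)]
noncomputable def d5 : ℕ := (nat_lit 0xb400005508b4000024010002804)
noncomputable def n6 : Net := ben 7 [(nat_lit 0x1e88699345400000ccc4100001),
 (nat_lit 0x26019f2120000750fa5500000),
 (nat_lit 0xffa6b7ec000033008866880000),
 (nat_lit 0xf0f0f0f88014101084cc18180000),
 (nat_lit 0xfff040214268000f800),
 (nat_lit 0xf000c0000000c4028000),
 (nat_lit 0xc0000000)]
noncomputable def t6 : List ℕ := [(nat_lit 0x9e85b555cb54933cad54027b3564),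
 (nat_lit 0xe300800040002666ad7c53727178),
 (nat_lit 0x280000000000067fe53c537ff680),
 (nat_lit 0xffc0800540003980020180701000),
 (nat_lit 0x800540000003e8658f026000),
 (nat_lit 0x0)]
noncomputable def d6 : ℕ := (nat_lit 0x2a4aaa00000000100200800002)
noncomputable def n7 : Net := ben 7 [(nat_lit 0xc70034c700d00000fcfcf3c14040),
 (nat_lit 0x20f0002000aa022aafaa002f0000),
 (nat_lit 0x224c022300ce0000fe1045cc0000),
 (nat_lit 0x4242020c0c00000b4a5777700c0),
 (nat_lit 0x400060008877887f00005380),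
 (nat_lit 0x80000000840040000000c8772400),
 (nat_lit 0x800040000000)]
noncomputable def t7 : List ℕ := [(nat_lit 0x1e286d0c8183911f5c461b692a9a),
 (nat_lit 0xf0417e0d39cba44308124280001c),
 (nat_lit 0xef8480000083845b0c0212800820),
 (nat_lit 0xffc7ededfb483104430000000000),
 (nat_lit 0x82048c0d2148000218020a000000),
 (nat_lit 0x0)]
noncomputable def d7 : ℕ := (nat_lit 0x10001000240880a0a800168000)
noncomputable def n8 : Net := ben 7 [(nat_lit 0x4c440140c003030c73330140cc00),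
 (nat_lit 0x2005a007baa0b0f51b150007000),
 (nat_lit 0x8a00cc00884422083300bf00),
 (nat_lit 0x1800864bcb0020000300b0),
 (nat_lit 0x8000801004b0000000000),
 (nat_lit 0x8000000080100),
 (nat_lit 0x80000)]
noncomputable def t8 : List ℕ := [(nat_lit 0x2720042592b5e83006602c0a022a),
 (nat_lit 0x290d53116081c8620f819410000c),
 (nat_lit 0x3e3000010081c8720fe19c3c6040),
 (nat_lit 0x3f3357f6f2763180c00600000000),
 (nat_lit 0x3830401070040002c80600c00000),
 (nat_lit 0x0)]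
noncomputable def d8 : ℕ := (nat_lit 0x8080a0000c00040d001042001500)
noncomputable def n9 : Net := ben 7 [(nat_lit 0xc030cd040cc4f033fc103f30040),
 (nat_lit 0xf50b52a00072050020202b2a00f0),
 (nat_lit 0x98804021104571144002288000c),
 (nat_lit 0x80c000000010061e00f090900000),
 (nat_lit 0x80008000000017100000b000),
 (nat_lit 0x80000000000040000000),
 (nat_lit 0x0)]
noncomputable def t9 : List ℕ := [(nat_lit 0xa4a0388d17e62d398534060a0d2a),
 (nat_lit 0x48807e882f9f0861155817000900),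
 (nat_lit 0x833f808002070071050c178e4600),
 (nat_lit 0x83bfff3dfdf80084400300000000),
 (nat_lit 0x8387f809f9980005514306000000),
 (nat_lit 0x6c00000000000000000000000000)]
noncomputable def d9 : ℕ := (nat_lit 0x1000004000009202080088610090)
def ivl : List ℕ := []
def cols : List ℕ := [3, 4, 5, 6, 7, 8, 9]
def hcols : List ℕ := [3, 4, 5, 7, 8, 9]
def G0 : List (List ℕ) := [[3, 5, 3, 5],
 [3, 6, 3, 6],
 [3, 8, 3, 8],
 [3, 9, 3, 9],
 [4, 6, 4, 6],
 [4, 7, 4, 7],
 [4, 8, 4, 8],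
 [4, 9, 4, 9],
 [5, 7, 5, 7],
 [5, 8, 5, 8],
 [6, 7, 6, 7],
 [6, 8, 6, 8],
 [6, 9, 6, 9],
 [7, 9, 7, 9],
 [3, 4, 3, 4, 3, 4],
 [3, 7, 3, 7, 3, 7],
 [4, 5, 4, 5, 4, 5],
 [5, 6, 5, 6, 5, 6],
 [5, 9, 5, 9, 5, 9],
 [7, 8, 7, 8, 7, 8],
 [8, 9, 8, 9, 8, 9],
 [3, 4, 5, 9, 7, 8, 3, 4, 5, 9, 7, 8, 3, 4, 5, 9, 7, 8, 3, 4, 5, 9, 7, 8],
 [4, 5, 6, 9, 8, 7, 4, 5, 6, 9, 8, 7, 4, 5, 6, 9, 8, 7, 4, 5, 6, 9, 8, 7, 4, 5, 6, 9, 8, 7]]
def R0 : List (List ℕ) := G0
theorem hii : ∀ c, ivOf ivl (ivOf ivl c) = c := ivOf_ivOf (by decide +kernel)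
theorem der : Derives (ivOf ivl) R0 R0 := Derives.refl _ _
noncomputable def nl : List Net := [Net.nil, Net.nil, Net.nil, n3, n4, n5, n6, n7, n8, n9]
noncomputable def T : TCData := ⟨112, 112, 7, 6, nth Net.nil nl, ivOf ivl, cols, hcols, R0,
  nth [] [[], [], [], t3, t4, t5, t6, t7, t8, t9], nth 0 [0, 0, 0, d3, d4, d5, d6, d7, d8, d9]⟩
theorem hn : NetsOK 112 (nth Net.nil nl) := netsOK_of_all (by decide +kernel)
theorem hiv : IvOK (sg (nth Net.nil nl)) (ivOf ivl) :=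
  ivOK_of_chk (k := 7) hn (by decide) (n := 10) (by decide) (by decide) (allN_true.1 (by decide +kernel))
theorem hb : T.Basic := TCData.basic_of_chk hn hiv (by decide +kernel)
theorem hG0 : ∀ r ∈ G0, ev (sg (nth Net.nil nl)) r = 1 :=
  rels_of_chk (k := 7) hn (by decide) hiv (allN_true.1 (by decide +kernel))
noncomputable def s3 : List TCData.Step := [.all 0 0 0,
 .all 1 0 0,
 .all 2 0 0,
 .all 3 0 0,
 .all 14 0 0,
 .all 15 0 0,
 .pts 21 0 0 21 [23, 50],
 .pts 21 0 0 32 [108]]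
noncomputable def s4 : List TCData.Step := [.all 4 0 0,
 .all 5 0 0,
 .all 6 0 0,
 .all 7 0 0,
 .all 14 1 0,
 .all 16 0 0]
noncomputable def s5 : List TCData.Step := [.all 0 1 0,
 .all 8 0 0,
 .all 9 0 0,
 .all 16 1 0,
 .all 17 0 0,
 .all 18 0 0]
noncomputable def s6 : List TCData.Step := [.all 1 1 0,
 .all 4 1 0,
 .all 10 0 0,
 .all 11 0 0,
 .all 12 0 0,
 .all 17 1 0,
 .pts 22 2 0 15 [12, 20]]
noncomputable def s7 : List TCData.Step := [.all 5 1 0,
 .all 8 1 0,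
 .all 10 1 0,
 .all 13 0 0,
 .all 15 1 0,
 .all 19 0 0]
noncomputable def s8 : List TCData.Step := [.all 2 1 0,
 .all 6 1 0,
 .all 9 1 0,
 .all 11 1 0,
 .all 19 1 0,
 .all 20 0 0]
noncomputable def s9 : List TCData.Step := [.all 3 1 0,
 .all 7 1 0,
 .all 12 1 0,
 .all 13 1 0,
 .all 18 1 0,
 .pts 20 1 0 1 [51],
 .pts 20 1 0 3 [8],
 .pts 20 1 0 23 [40]]
theorem hR0 : ∀ r ∈ R0, ev (sg (nth Net.nil nl)) r = 1 := hG0
theorem col3 : T.ColOK 3 := TCData.colOK_of_chk (U := (T.stepsMask 3 s3 (T.mask0 3))) (V := (T.stepsMask 3 s3 (T.mask0 3))) hb (TCData.cov_stepsMask hb (by decide) s3 _ (T.cov_mask0 3)) (TCData.cov_stepsMask hb (by decide) s3 _ (T.cov_mask0 3)) (by decide +kernel)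
theorem col4 : T.ColOK 4 := TCData.colOK_of_chk (U := (T.stepsMask 4 s4 (T.mask0 4))) (V := (T.stepsMask 4 s4 (T.mask0 4))) hb (TCData.cov_stepsMask hb (by decide) s4 _ (T.cov_mask0 4)) (TCData.cov_stepsMask hb (by decide) s4 _ (T.cov_mask0 4)) (by decide +kernel)
theorem col5 : T.ColOK 5 := TCData.colOK_of_chk (U := (T.stepsMask 5 s5 (T.mask0 5))) (V := (T.stepsMask 5 s5 (T.mask0 5))) hb (TCData.cov_stepsMask hb (by decide) s5 _ (T.cov_mask0 5)) (TCData.cov_stepsMask hb (by decide) s5 _ (T.cov_mask0 5)) (by decide +kernel)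
theorem col6 : T.ColOK 6 := TCData.colOK_of_chk (U := (T.stepsMask 6 s6 (T.mask0 6))) (V := (T.stepsMask 6 s6 (T.mask0 6))) hb (TCData.cov_stepsMask hb (by decide) s6 _ (T.cov_mask0 6)) (TCData.cov_stepsMask hb (by decide) s6 _ (T.cov_mask0 6)) (by decide +kernel)
theorem col7 : T.ColOK 7 := TCData.colOK_of_chk (U := (T.stepsMask 7 s7 (T.mask0 7))) (V := (T.stepsMask 7 s7 (T.mask0 7))) hb (TCData.cov_stepsMask hb (by decide) s7 _ (T.cov_mask0 7)) (TCData.cov_stepsMask hb (by decide) s7 _ (T.cov_mask0 7)) (by decide +kernel)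
theorem col8 : T.ColOK 8 := TCData.colOK_of_chk (U := (T.stepsMask 8 s8 (T.mask0 8))) (V := (T.stepsMask 8 s8 (T.mask0 8))) hb (TCData.cov_stepsMask hb (by decide) s8 _ (T.cov_mask0 8)) (TCData.cov_stepsMask hb (by decide) s8 _ (T.cov_mask0 8)) (by decide +kernel)
theorem col9 : T.ColOK 9 := TCData.colOK_of_chk (U := (T.stepsMask 9 s9 (T.mask0 9))) (V := (T.stepsMask 9 s9 (T.mask0 9))) hb (TCData.cov_stepsMask hb (by decide) s9 _ (T.cov_mask0 9)) (TCData.cov_stepsMask hb (by decide) s9 _ (T.cov_mask0 9)) (by decide +kernel)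
theorem ok : T.OK := ⟨hb, TCData.treeOK_of_chk hn (by decide +kernel), (List.forall_mem_cons.2 ⟨col3, (List.forall_mem_cons.2 ⟨col4, (List.forall_mem_cons.2 ⟨col5, (List.forall_mem_cons.2 ⟨col6, (List.forall_mem_cons.2 ⟨col7, (List.forall_mem_cons.2 ⟨col8, (List.forall_mem_cons.2 ⟨col9, (fun _ h => absurd h List.not_mem_nil)⟩)⟩)⟩)⟩)⟩)⟩)⟩), der _ _ hiv hR0⟩
theorem bd {G : Type} [Group G] {e : ℕ → G} (h1 : IvOK e (ivOf ivl)) (h2 : ∀ r ∈ R0, ev e r = 1)
    {m : ℕ} (h : Bd (gen e hcols) m) : Bd (gen e cols) (112 * m) := ok.bd h1 (der G e h1 h2) h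
theorem cm {G : Type} [Group G] {e : ℕ → G} (h1 : IvOK e (ivOf ivl)) (h2 : ∀ r ∈ R0, ev e r = 1)
    (h3 : gen e cols = ⊤) {ρ : G →* Equiv.Perm ℕ} (h4 : ∀ c, ρ (e c) = sg (nth Net.nil nl) c) :
    CosetModel ρ (gen e hcols) 112 := ok.cosetModel h1 (der G e h1 h2) h3 fun c _ => h4 c

end H9.U62B
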