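import Mathlib
import Cfsg.Agent.H9.CG
import Cfsg.Agent.H29.Ext

set_option autoImplicit false
set_option maxRecDepth 100000
set_option Elab.async false
set_option linter.all false

namespace H9.U62C

open H29 H9.MX

noncomputable def n3 : Net := ben 7 [(nat_lit 0x5400100d1c554cff00),
 (nat_lit 0xba005002a5aaa000),
 (nat_lit 0x110c8a008c046f898900),
 (nat_lit 0x101008000801f7f0060),
 (nat_lit 0x10000000000001f80),
 (nat_lit 0x0),
 (nat_lit 0x0)]
noncomputable def t3 : List ℕ := [(nat_lit 0x6b0104435c8000249152),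
 (nat_lit 0x4a4ba8036000c180001c),
 (nat_lit 0x4b49240f7cc9d9800400),
 (nat_lit 0xa24a0140800000000000),
 (nat_lit 0x4000280000000000000)]
noncomputable def d3 : ℕ := (nat_lit 0x100a040200224221b4000)
noncomputable def n4 : Net := ben 7 [(nat_lit 0xd414341040cd05015f0),
 (nat_lit 0x72f000a5f0fa000f070),
 (nat_lit 0x23cc22cc7f8833000c04),
 (nat_lit 0x2cc1e1043700300000),
 (nat_lit 0x30fc30fc00000000),
 (nat_lit 0xc0f13e00c0),
 (nat_lit 0xc0)]
noncomputable def t4 : List ℕ := [(nat_lit 0x7daa55352526a6214382),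
 (nat_lit 0x65ae7932a3645a0043d8),
 (nat_lit 0x798e7d379363fe059800),
 (nat_lit 0x1a00243278200b0000000),
 (nat_lit 0x100000000000000000)]
noncomputable def d4 : ℕ := (nat_lit 0x2010088489000802020)
noncomputable def n5 : Net := ben 7 [(nat_lit 0xf3fcc0c14330c00c030c),
 (nat_lit 0xf050ff0f01b0ffa20a52),
 (nat_lit 0x770088ee220815228804),
 (nat_lit 0x1839c8e8002000830080),
 (nat_lit 0x24ece4ec00003000),
 (nat_lit 0x3eec00003eec),
 (nat_lit 0x3eec)]
noncomputable def t5 : List ℕ := [(nat_lit 0x52229432607a42106840),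
 (nat_lit 0x10808834107c28a04c60),
 (nat_lit 0x10808c3657874ad8a200),
 (nat_lit 0x10602004247f800000000),
 (nat_lit 0x80080000000000000)]
noncomputable def d5 : ℕ := (nat_lit 0xa9540001000094040114)
noncomputable def n7 : Net := ben 7 [(nat_lit 0x14cc000030001730),
 (nat_lit 0xaf00052f0a5ff5000500),
 (nat_lit 0xef00442206ab23016608),
 (nat_lit 0x2c2c6cc6c680800060),
 (nat_lit 0x42b14ab100000000),
 (nat_lit 0x66b18400),
 (nat_lit 0x0)]
noncomputable def t7 : List ℕ := [(nat_lit 0x121c970011040094b0132),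
 (nat_lit 0x20c9f260458408520024),
 (nat_lit 0x29e9c26811f0a88d3000),
 (nat_lit 0xa21a00100030a0000000),
 (nat_lit 0x100000180000000000000)]
noncomputable def d7 : ℕ := (nat_lit 0x50000806a00b40000a80)
noncomputable def n8 : Net := ben 7 [(nat_lit 0x4c33f001400014f040c0),
 (nat_lit 0x2b5afa00b300f500072),
 (nat_lit 0x6e4c005500cc880004),
 (nat_lit 0x20200727005818d80000),
 (nat_lit 0x40004700001800),
 (nat_lit 0x204000002040),
 (nat_lit 0x2040)]
noncomputable def t8 : List ℕ := [(nat_lit 0xf19c2820d20ab29a3114),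
 (nat_lit 0x18fc003708a070022580),
 (nat_lit 0xd99d203ffaa8c0951200),
 (nat_lit 0x120180100c00000000000),
 (nat_lit 0x4080000000000000)]
noncomputable def d8 : ℕ := (nat_lit 0x4029400050009408048)
noncomputable def n9 : Net := ben 7 [(nat_lit 0xc1455730c4c4001703c1),
 (nat_lit 0x2000f0a020f00000f700),
 (nat_lit 0x2eaa000200221500),
 (nat_lit 0x5a7a001020200090),
 (nat_lit 0x430000002000),
 (nat_lit 0x18000000),
 (nat_lit 0x0)]
noncomputable def t9 : List ℕ := [(nat_lit 0x90e0c0a1623c968e604c),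
 (nat_lit 0xfb23d8856e3c610e69e0),
 (nat_lit 0xfbe300ad0231f7c18000),
 (nat_lit 0x1e7d30080020000000000),
 (nat_lit 0x0)]
noncomputable def d9 : ℕ := (nat_lit 0x82350104000201402)
def ivl : List ℕ := []
def cols : List ℕ := [3, 4, 5, 7, 8, 9]
def hcols : List ℕ := [3, 4, 5, 7, 8]
def G0 : List (List ℕ) := [[3, 5, 3, 5],
 [3, 8, 3, 8],
 [3, 9, 3, 9],
 [4, 7, 4, 7],
 [4, 8, 4, 8],
 [4, 9, 4, 9],
 [5, 7, 5, 7],
 [5, 8, 5, 8],
 [7, 9, 7, 9],
 [3, 4, 3, 4, 3, 4],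
 [3, 7, 3, 7, 3, 7],
 [4, 5, 4, 5, 4, 5],
 [5, 9, 5, 9, 5, 9],
 [7, 8, 7, 8, 7, 8],
 [8, 9, 8, 9, 8, 9],
 [3, 4, 5, 9, 7, 8, 3, 4, 5, 9, 7, 8, 3, 4, 5, 9, 7, 8, 3, 4, 5, 9, 7, 8]]
def R0 : List (List ℕ) := G0
theorem hii : ∀ c, ivOf ivl (ivOf ivl c) = c := ivOf_ivOf (by decide +kernel)
theorem der : Derives (ivOf ivl) R0 R0 := Derives.refl _ _
noncomputable def nl : List Net := [Net.nil, Net.nil, Net.nil, n3, n4, n5, Net.nil, n7, n8, n9]
noncomputable def T : TCData := ⟨81, 81, 7, 5, nth Net.nil nl, ivOf ivl, cols, hcols, R0,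
  nth [] [[], [], [], t3, t4, t5, [], t7, t8, t9], nth 0 [0, 0, 0, d3, d4, d5, 0, d7, d8, d9]⟩
theorem hn : NetsOK 81 (nth Net.nil nl) := netsOK_of_all (by decide +kernel)
theorem hiv : IvOK (sg (nth Net.nil nl)) (ivOf ivl) :=
  ivOK_of_chk (k := 7) hn (by decide) (n := 10) (by decide) (by decide) (allN_true.1 (by decide +kernel))
theorem hb : T.Basic := TCData.basic_of_chk hn hiv (by decide +kernel)
theorem hG0 : ∀ r ∈ G0, ev (sg (nth Net.nil nl)) r = 1 :=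
  rels_of_chk (k := 7) hn (by decide) hiv (allN_true.1 (by decide +kernel))
noncomputable def s3 : List TCData.Step := [.all 0 0 0,
 .all 1 0 0,
 .all 2 0 0,
 .pts 9 0 0 4 [51],
 .pts 9 0 0 5 [39, 43],
 .pts 9 0 0 6 [45],
 .pts 10 0 0 4 [32, 50],
 .pts 10 0 0 7 [46, 48, 49],
 .pts 10 0 0 8 [47]]
noncomputable def s4 : List TCData.Step := [.all 3 0 0,
 .all 4 0 0,
 .all 5 0 0,
 .pts 9 1 0 3 [14],
 .pts 9 1 0 4 [15],
 .pts 9 1 0 5 [16],
 .pts 9 1 0 8 [80],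
 .all 11 0 0]
noncomputable def s5 : List TCData.Step := [.all 0 1 0,
 .all 6 0 0,
 .all 7 0 0,
 .pts 11 1 0 2 [5],
 .pts 11 1 0 7 [76],
 .pts 11 1 0 8 [74],
 .all 12 0 0,
 .pts 15 2 0 11 [36, 37]]
noncomputable def s7 : List TCData.Step := [.all 3 1 0,
 .all 6 1 0,
 .all 8 0 0,
 .pts 10 1 0 2 [20],
 .pts 10 1 0 3 [17],
 .pts 10 1 0 17 [80],
 .pts 13 0 0 3 [22],
 .pts 13 0 0 6 [40, 57, 63],
 .pts 13 0 0 7 [64],
 .pts 13 0 0 8 [65]]
noncomputable def s8 : List TCData.Step := [.all 1 1 0,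
 .all 4 1 0,
 .all 7 1 0,
 .pts 13 1 0 1 [33],
 .pts 13 1 0 2 [7],
 .pts 13 1 0 6 [48, 50],
 .pts 13 1 0 13 [46],
 .all 14 0 0]
noncomputable def s9 : List TCData.Step := [.all 2 1 0,
 .all 5 1 0,
 .all 8 1 0,
 .all 12 1 0,
 .all 14 1 0]
theorem hR0 : ∀ r ∈ R0, ev (sg (nth Net.nil nl)) r = 1 := hG0
theorem col3 : T.ColOK 3 := TCData.colOK_of_chk (U := (T.stepsMask 3 s3 (T.mask0 3))) (V := (T.stepsMask 3 s3 (T.mask0 3))) hb (TCData.cov_stepsMask hb (by decide) s3 _ (T.cov_mask0 3)) (TCData.cov_stepsMask hb (by decide) s3 _ (T.cov_mask0 3)) (by decide +kernel)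
theorem col4 : T.ColOK 4 := TCData.colOK_of_chk (U := (T.stepsMask 4 s4 (T.mask0 4))) (V := (T.stepsMask 4 s4 (T.mask0 4))) hb (TCData.cov_stepsMask hb (by decide) s4 _ (T.cov_mask0 4)) (TCData.cov_stepsMask hb (by decide) s4 _ (T.cov_mask0 4)) (by decide +kernel)
theorem col5 : T.ColOK 5 := TCData.colOK_of_chk (U := (T.stepsMask 5 s5 (T.mask0 5))) (V := (T.stepsMask 5 s5 (T.mask0 5))) hb (TCData.cov_stepsMask hb (by decide) s5 _ (T.cov_mask0 5)) (TCData.cov_stepsMask hb (by decide) s5 _ (T.cov_mask0 5)) (by decide +kernel)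
theorem col7 : T.ColOK 7 := TCData.colOK_of_chk (U := (T.stepsMask 7 s7 (T.mask0 7))) (V := (T.stepsMask 7 s7 (T.mask0 7))) hb (TCData.cov_stepsMask hb (by decide) s7 _ (T.cov_mask0 7)) (TCData.cov_stepsMask hb (by decide) s7 _ (T.cov_mask0 7)) (by decide +kernel)
theorem col8 : T.ColOK 8 := TCData.colOK_of_chk (U := (T.stepsMask 8 s8 (T.mask0 8))) (V := (T.stepsMask 8 s8 (T.mask0 8))) hb (TCData.cov_stepsMask hb (by decide) s8 _ (T.cov_mask0 8)) (TCData.cov_stepsMask hb (by decide) s8 _ (T.cov_mask0 8)) (by decide +kernel)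
theorem col9 : T.ColOK 9 := TCData.colOK_of_chk (U := (T.stepsMask 9 s9 (T.mask0 9))) (V := (T.stepsMask 9 s9 (T.mask0 9))) hb (TCData.cov_stepsMask hb (by decide) s9 _ (T.cov_mask0 9)) (TCData.cov_stepsMask hb (by decide) s9 _ (T.cov_mask0 9)) (by decide +kernel)
theorem ok : T.OK := ⟨hb, TCData.treeOK_of_chk hn (by decide +kernel), (List.forall_mem_cons.2 ⟨col3, (List.forall_mem_cons.2 ⟨col4, (List.forall_mem_cons.2 ⟨col5, (List.forall_mem_cons.2 ⟨col7, (List.forall_mem_cons.2 ⟨col8, (List.forall_mem_cons.2 ⟨col9, (fun _ h => absurd h List.not_mem_nil)⟩)⟩)⟩)⟩)⟩)⟩), der _ _ hiv hR0⟩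
theorem bd {G : Type} [Group G] {e : ℕ → G} (h1 : IvOK e (ivOf ivl)) (h2 : ∀ r ∈ R0, ev e r = 1)
    {m : ℕ} (h : Bd (gen e hcols) m) : Bd (gen e cols) (81 * m) := ok.bd h1 (der G e h1 h2) h
theorem cm {G : Type} [Group G] {e : ℕ → G} (h1 : IvOK e (ivOf ivl)) (h2 : ∀ r ∈ R0, ev e r = 1)
    (h3 : gen e cols = ⊤) {ρ : G →* Equiv.Perm ℕ} (h4 : ∀ c, ρ (e c) = sg (nth Net.nil nl) c) :
    CosetModel ρ (gen e hcols) 81 := ok.cosetModel h1 (der G e h1 h2) h3 fun c _ => h4 c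

end H9.U62C
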