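import Mathlib
import Cfsg.Agent.H9.CG
import Cfsg.Agent.H9.U62X
import Cfsg.Agent.H9.U62B
import Cfsg.Agent.H9.U62C
import Cfsg.Agent.H9.U62D

set_option autoImplicit false
set_option maxRecDepth 100000
set_option Elab.async false
set_option linter.all false

namespace H9.U62

open H29 H9.MX

def R : List (List ℕ) := [[2, 4, 2, 4],
 [2, 5, 2, 5],
 [2, 6, 2, 6],
 [2, 7, 2, 7],
 [2, 8, 2, 8],
 [2, 9, 2, 9],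
 [3, 5, 3, 5],
 [3, 6, 3, 6],
 [3, 8, 3, 8],
 [3, 9, 3, 9],
 [4, 6, 4, 6],
 [4, 7, 4, 7],
 [4, 8, 4, 8],
 [4, 9, 4, 9],
 [5, 7, 5, 7],
 [5, 8, 5, 8],
 [6, 7, 6, 7],
 [6, 8, 6, 8],
 [6, 9, 6, 9],
 [7, 9, 7, 9],
 [2, 3, 2, 3, 2, 3],
 [3, 4, 3, 4, 3, 4],
 [3, 7, 3, 7, 3, 7],
 [4, 5, 4, 5, 4, 5],
 [5, 6, 5, 6, 5, 6],
 [5, 9, 5, 9, 5, 9],
 [7, 8, 7, 8, 7, 8],
 [8, 9, 8, 9, 8, 9],
 [3, 4, 5, 9, 7, 8, 3, 4, 5, 9, 7, 8, 3, 4, 5, 9, 7, 8, 3, 4, 5, 9, 7, 8],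
 [4, 5, 6, 9, 8, 7, 4, 5, 6, 9, 8, 7, 4, 5, 6, 9, 8, 7, 4, 5, 6, 9, 8, 7, 4, 5, 6, 9, 8, 7],
 [2, 3, 4, 7, 8, 9, 2, 3, 4, 7, 8, 9, 2, 3, 4, 7, 8, 9, 2, 3, 4, 7, 8, 9, 2, 3, 4, 7, 8, 9],
 [2, 3, 4, 5, 6, 7, 8, 2, 3, 4, 5, 6, 7, 8, 2, 3, 4, 5, 6, 7, 8, 2, 3, 4, 5, 6, 7, 8, 2, 3, 4, 5, 6, 7, 8, 2, 3, 4, 5, 6, 7, 8, 2, 3, 4, 5, 6, 7, 8, 2, 3, 4, 5, 6, 7, 8, 2, 3, 4, 5, 6, 7, 8]]
theorem ubd : UBd (ivOf []) R [2, 3, 4, 5, 6, 7, 8, 9] 9196830720 := fun _ _ _ h1 h2 =>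
  (U62A.bd h1 (rels_sub h2 (by decide +kernel))
    (U62B.bd h1 (rels_sub h2 (by decide +kernel))
    (U62C.bd h1 (rels_sub h2 (by decide +kernel))
    (U62D.bd h1 (rels_sub h2 (by decide +kernel))
    (bd_nil _)))))
theorem top : gen (pe U62A.nl) [2, 3, 4, 5, 6, 7, 8, 9] = ⊤ := pe_top (by decide +kernel)
theorem hivS : IvOK (pe U62A.nl) (ivOf []) := ivOK_sub _ U62A.hiv
theorem hRS : ∀ r ∈ R, ev (pe U62A.nl) r = 1 := rels_subE _ (rels_sub U62A.hR0 (by decide +kernel))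
theorem cardS : Nat.card (PG U62A.nl) = 9196830720 :=
  (card_eq_of_chain U62X.hn ((ubd _ _ hivS hRS).of_top top) (fun c _ => U62X.map (pe_rho _) c) U62X.ch
    (by decide +kernel)).1
theorem simpleS : IsSimpleGroup (PG U62A.nl) :=
  simple_of_cert (q := 11) (m := 836075520) U62X.hn U62X.prim
    (trans_of_reach (by decide) (PG_lt U62A.hn) (fun c _ => U62X.map (pe_rho _) c) U62X.reach)
    (U62X.map (pe_rho _)) (PG_faithful U62A.hn) cardS U62X.wit (ivOK_extE hivS U62X.hext)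
    (rels_extE hRS (by decide +kernel)) ((gen_extE _ _ (by decide)).trans top)
    (l := [(20, 0), (21, 0), (22, 0), (23, 0), (24, 0), (25, 0), (26, 0)]) (by decide +kernel) (by norm_num)
theorem tr {G : Type} [Group G] {e : ℕ → G} (h1 : IvOK e (ivOf [])) (h2 : ∀ r ∈ R, ev e r = 1) :
    Tr (pe U62A.nl) e [2, 3, 4, 5, 6, 7, 8, 9] :=
  tr_of_bd ubd (by decide) hivS h1 hRS h2 (by rw [top, Subgroup.card_top, cardS])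
theorem equiv {G : Type} [Group G] {e : ℕ → G} (h1 : IvOK e (ivOf [])) (h2 : ∀ r ∈ R, ev e r = 1)
    (hne : ∃ w : List ℕ, (∀ c ∈ w, c ∈ [2, 3, 4, 5, 6, 7, 8, 9]) ∧ ev e w ≠ 1) :
    Nonempty (PG U62A.nl ≃* gen e [2, 3, 4, 5, 6, 7, 8, 9]) :=
  haveI := simpleS
  equiv_of_simple (tr h1 h2) hivS h1 (by decide) top hne
theorem equivT {G : Type} [Group G] {e : ℕ → G} (h1 : IvOK e (ivOf [])) (h2 : ∀ r ∈ R, ev e r = 1)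
    (hne : ∃ w : List ℕ, (∀ c ∈ w, c ∈ [2, 3, 4, 5, 6, 7, 8, 9]) ∧ ev e w ≠ 1) (hG : Nat.card G = 9196830720) :
    Nonempty (PG U62A.nl ≃* G) :=
  haveI := simpleS
  equiv_of_simple_card (tr h1 h2) hivS h1 (by decide) top hne (by norm_num) cardS hG

end H9.U62
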